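import Mathlib

/-!
# S5982, piece NORMFIB (insurance copy by helper82): the fibres of the norm map
`x ↦ x ^ (q₀ + 1)` of a field with `q₀ ^ 2` elements over the nonzero elements of the subfield
have `q₀ + 1` elements.
-/

set_option autoImplicit false

namespace Cfsg.Agent.Lib.helper24

/-- at most `n` solutions of `x ^ n = a` in a field -/
theorem h82_card_pow_eq_le {F : Type*} [Field F] [Fintype F] [DecidableEq F] (n : ℕ) (hn : 0 < n)
    (a : F) : (Finset.univ.filter (fun x : F => x ^ n = a)).card ≤ n := by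
  have h1 : Finset.univ.filter (fun x : F => x ^ n = a) ⊆ (Polynomial.nthRoots n a).toFinset := by
    intro x hx
    rw [Finset.mem_filter] at hx
    rw [Multiset.mem_toFinset, Polynomial.mem_nthRoots hn]
    exact hx.2
  calc (Finset.univ.filter (fun x : F => x ^ n = a)).card
      ≤ (Polynomial.nthRoots n a).toFinset.card := Finset.card_le_card h1
    _ ≤ Multiset.card (Polynomial.nthRoots n a) := Multiset.toFinset_card_le _
    _ ≤ n := Polynomial.card_nthRoots n a

/-- NORMFIB -/
theorem h82_sfu_norm_fiber {F : Type*} [Field F] [Fintype F] [DecidableEq F] (q₀ : ℕ)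
    (hcard : Fintype.card F = q₀ ^ 2) (c : F) (hc : c ≠ 0) (hc₀ : c ^ q₀ = c) :
    (Finset.univ.filter (fun x : F => x ^ (q₀ + 1) = c)).card = q₀ + 1 := by
  classical
  have hq2 : 2 ≤ q₀ := by
    have h1 : 1 < Fintype.card F := Fintype.one_lt_card
    rw [hcard] at h1
    by_contra hcon
    have h2 : q₀ ≤ 1 := by omega
    have h3 : q₀ ^ 2 ≤ 1 ^ 2 := Nat.pow_le_pow_left h2 2
    omega
  -- the nonzero elements
  have hS : (Finset.univ.filter (fun x : F => x ≠ 0)).card = q₀ ^ 2 - 1 := by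
    rw [Finset.filter_ne' Finset.univ (0 : F), Finset.card_erase_of_mem (Finset.mem_univ _),
      Finset.card_univ, hcard]
  -- the target set
  have hT : (Finset.univ.filter (fun y : F => y ^ (q₀ - 1) = 1)).card ≤ q₀ - 1 :=
    h82_card_pow_eq_le (q₀ - 1) (by omega) 1
  have hmaps : ∀ x ∈ Finset.univ.filter (fun x : F => x ≠ 0),
      x ^ (q₀ + 1) ∈ Finset.univ.filter (fun y : F => y ^ (q₀ - 1) = 1) := by
    intro x hx
    rw [Finset.mem_filter] at hx ⊢
    refine ⟨Finset.mem_univ _, ?_⟩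
    rw [← pow_mul]
    have h1 : (q₀ + 1) * (q₀ - 1) = Fintype.card F - 1 := by
      rw [hcard]
      obtain ⟨k, rfl⟩ : ∃ k, q₀ = k + 1 := ⟨q₀ - 1, by omega⟩
      simp only [Nat.add_sub_cancel]
      have h2 : (k + 1) ^ 2 = (k + 1 + 1) * k + 1 := by ring
      rw [h2, Nat.add_sub_cancel]
    rw [h1]
    exact FiniteField.pow_card_sub_one_eq_one x hx.2
  have hsum := Finset.card_eq_sum_card_fiberwise hmaps
  rw [hS] at hsum
  -- our `c` lies in the target set
  have hcT : c ∈ Finset.univ.filter (fun y : F => y ^ (q₀ - 1) = 1) := by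
    rw [Finset.mem_filter]
    refine ⟨Finset.mem_univ _, ?_⟩
    have h1 : c * c ^ (q₀ - 1) = c * 1 := by
      rw [← pow_succ', mul_one]
      have h2 : q₀ - 1 + 1 = q₀ := by omega
      rw [h2]; exact hc₀
    exact mul_left_cancel₀ hc h1
  -- the fibre over `c`
  have hfib : (Finset.univ.filter (fun x : F => x ≠ 0)).filter (fun x => x ^ (q₀ + 1) = c)
      = Finset.univ.filter (fun x : F => x ^ (q₀ + 1) = c) := by
    ext x
    simp only [Finset.mem_filter, Finset.mem_univ, true_and]
    constructor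
    · intro h; exact h.2
    · intro h
      refine ⟨?_, h⟩
      intro h0
      rw [h0, zero_pow (by omega)] at h
      exact hc h.symm
  have hle : ∀ y ∈ Finset.univ.filter (fun y : F => y ^ (q₀ - 1) = 1),
      ((Finset.univ.filter (fun x : F => x ≠ 0)).filter (fun x => x ^ (q₀ + 1) = y)).card
        ≤ q₀ + 1 := by
    intro y _
    refine le_trans (Finset.card_le_card ?_) (h82_card_pow_eq_le (q₀ + 1) (by omega) y)
    intro x hx
    rw [Finset.mem_filter] at hx ⊢
    exact ⟨Finset.mem_univ _, hx.2⟩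
  have hupper := h82_card_pow_eq_le (F := F) (q₀ + 1) (by omega) c
  by_contra hne
  have hlt : ((Finset.univ.filter (fun x : F => x ≠ 0)).filter (fun x => x ^ (q₀ + 1) = c)).card
      < q₀ + 1 := by
    rw [hfib]
    omega
  have h3 := Finset.sum_lt_sum hle ⟨c, hcT, hlt⟩
  rw [← hsum, Finset.sum_const, smul_eq_mul] at h3
  have h4 : (Finset.univ.filter (fun y : F => y ^ (q₀ - 1) = 1)).card * (q₀ + 1)
      ≤ (q₀ - 1) * (q₀ + 1) := Nat.mul_le_mul_right _ hT
  have h5 : (q₀ - 1) * (q₀ + 1) = q₀ ^ 2 - 1 := by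
    obtain ⟨k, rfl⟩ : ∃ k, q₀ = k + 1 := ⟨q₀ - 1, by omega⟩
    simp only [Nat.add_sub_cancel]
    have h2 : (k + 1) ^ 2 = k * (k + 1 + 1) + 1 := by ring
    rw [h2, Nat.add_sub_cancel]
  omega

end Cfsg.Agent.Lib.helper24
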