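import Mathlib
import Cfsg.Agent.Lib.helper2.BFDefs
import Cfsg.Agent.Lib.helper83.D1ER0

set_option autoImplicit false

open Cfsg Cfsg.Agent.Lib.helper20.D1E
open scoped ComplexConjugate

namespace Cfsg.Agent.Lib.helper2.BF

variable {G : Type*} [Group G] [Fintype G]

/-- Sums over `Finset.range p` and over `ZMod p`. -/
theorem helper82_sum_range_zmod (p : ℕ) [Fact p.Prime] (F : ℕ → ℂ) :
    ∑ i ∈ Finset.range p, F i = ∑ k : ZMod p, F k.val := by
  symm
  refine Finset.sum_bij (fun k _ => k.val) ?_ ?_ ?_ ?_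
  · intro k _
    exact Finset.mem_range.2 (ZMod.val_lt k)
  · intro a _ b _ h
    exact ZMod.val_injective p h
  · intro i hi
    exact ⟨(i : ZMod p), Finset.mem_univ _, ZMod.val_natCast_of_lt (Finset.mem_range.1 hi)⟩
  · intro k _
    rfl

/-- A1a. -/
theorem mu_nat (p : ℕ) [Fact p.Prime] (x : G) (hxp : x ^ p = 1) (χ : G → ℂ)
    (hχ : IsCharacter G χ) (b : ZMod p) : ∃ d : ℕ, mu p x χ b = (d : ℂ) := by
  obtain ⟨m, hm⟩ := Cfsg.Agent.Lib.helper83.D1E.mult_nat p x hxp χ hχ b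
  refine ⟨m, ?_⟩
  rw [← hm]
  unfold mu
  congr 1
  rw [helper82_sum_range_zmod p (fun i => χ (x ^ i) * (zeta p ^ (b.val * i))⁻¹)]
  refine Finset.sum_congr rfl fun k _ => ?_
  rw [Cfsg.Agent.Lib.helper83.D1E.eZ_mul, Cfsg.Agent.Lib.helper83.D1E.eZ, ← pow_mul, mul_comm]

/-- A1b (finite Fourier inversion; any function). -/
theorem mu_expand (p : ℕ) [Fact p.Prime] (x : G) (hxp : x ^ p = 1) (f : G → ℂ) (i : ℕ) :
    f (x ^ i) = ∑ b : ZMod p, mu p x f b * zeta p ^ (b.val * i) := by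
  have hp : p.Prime := Fact.out
  have hpc : (p : ℂ) ≠ 0 := by exact_mod_cast hp.ne_zero
  have hz := Cfsg.Agent.Lib.helper83.D1E.zeta_prim p
  have hz0 : zeta p ≠ 0 := Cfsg.Agent.Lib.helper83.D1E.zeta_ne_zero p
  have hzp : zeta p ^ p = 1 := Cfsg.Agent.Lib.helper83.D1E.zeta_pow_p p
  have hinner : ∀ j ∈ Finset.range p,
      ∑ b : ZMod p, (zeta p ^ (b.val * j))⁻¹ * zeta p ^ (b.val * i)
        = if j = i % p then (p : ℂ) else 0 := by
    intro j hj
    set w : ℂ := zeta p ^ i * (zeta p ^ j)⁻¹ with hw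
    have h1 : ∀ b : ZMod p, (zeta p ^ (b.val * j))⁻¹ * zeta p ^ (b.val * i) = w ^ b.val := by
      intro b
      rw [hw, mul_pow, inv_pow, ← pow_mul, ← pow_mul, mul_comm i, mul_comm j, mul_comm]
    rw [Finset.sum_congr rfl (fun b _ => h1 b), ← helper82_sum_range_zmod p (fun k => w ^ k)]
    split_ifs with hji
    · have hw1 : w = 1 := by
        rw [hw, hji, ← pow_eq_pow_mod i hzp]
        exact mul_inv_cancel₀ (pow_ne_zero _ hz0)
      rw [hw1]
      simp
    · have hw1 : w ≠ 1 := by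
        intro h
        apply hji
        have h2 : zeta p ^ i = zeta p ^ j := by
          have h3 : w * zeta p ^ j = zeta p ^ j := by rw [h, one_mul]
          rw [hw, mul_assoc, inv_mul_cancel₀ (pow_ne_zero _ hz0), mul_one] at h3
          exact h3
        have h3 : zeta p ^ j = zeta p ^ (i % p) := by
          rw [← pow_eq_pow_mod i hzp]
          exact h2.symm
        exact hz.pow_inj (Finset.mem_range.1 hj) (Nat.mod_lt _ hp.pos) h3
      have hwp : w ^ p = 1 := by
        rw [hw, mul_pow, inv_pow, ← pow_mul, ← pow_mul, mul_comm i, mul_comm j, pow_mul, pow_mul,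
          hzp, one_pow, one_pow, inv_one, mul_one]
      rw [geom_sum_eq hw1, hwp, sub_self, zero_div]
  unfold mu
  calc f (x ^ i)
      = (p : ℂ)⁻¹ * ∑ j ∈ Finset.range p, f (x ^ j) * (if j = i % p then (p : ℂ) else 0) := by
        rw [Finset.sum_eq_single_of_mem (i % p) (Finset.mem_range.2 (Nat.mod_lt _ hp.pos))
          (fun j _ hne => by rw [if_neg hne, mul_zero])]
        rw [if_pos rfl, ← pow_eq_pow_mod i hxp]
        field_simp
    _ = (p : ℂ)⁻¹ * ∑ j ∈ Finset.range p, f (x ^ j) *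
          ∑ b : ZMod p, (zeta p ^ (b.val * j))⁻¹ * zeta p ^ (b.val * i) := by
        congr 1
        exact Finset.sum_congr rfl (fun j hj => by rw [hinner j hj])
    _ = ∑ b : ZMod p, (p : ℂ)⁻¹ * (∑ j ∈ Finset.range p, f (x ^ j) * (zeta p ^ (b.val * j))⁻¹) *
          zeta p ^ (b.val * i) := by
        simp only [Finset.mul_sum, Finset.sum_mul]
        rw [Finset.sum_comm]
        refine Finset.sum_congr rfl fun b _ => Finset.sum_congr rfl fun j _ => by ring

/-- A1c. -/
theorem mu_twist (p : ℕ) [Fact p.Prime] (x : G) (hxp : x ^ p = 1) (χ : G → ℂ)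
    (hχ : IsCharacter G χ) (g : G) (hg : Commute x g) :
    ∃ τ : ZMod p → ℂ, (∀ b, mu p x χ b = 0 → τ b = 0) ∧
      ∀ i : ℕ, χ (x ^ i * g) = ∑ b : ZMod p, τ b * zeta p ^ (b.val * i) := by
  have hp : p.Prime := Fact.out
  have hpc : (p : ℂ) ≠ 0 := by exact_mod_cast hp.ne_zero
  have hzp : zeta p ^ p = 1 := Cfsg.Agent.Lib.helper83.D1E.zeta_pow_p p
  refine ⟨fun b => mu p x (fun y => χ (y * g)) b, ?_,
    fun i => mu_expand p x hxp (fun y => χ (y * g)) i⟩
  intro b hb
  obtain ⟨n, ρ, hρ⟩ := hχ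
  set M : Module.End ℂ (Fin n → ℂ) := ρ x with hM
  have hMp : M ^ p = 1 := by rw [hM, ← map_pow, hxp, map_one]
  set c : Module.End ℂ (Fin n → ℂ) := (zeta p ^ b.val)⁻¹ • M with hc
  have hcj : ∀ j : ℕ, c ^ j = (zeta p ^ (b.val * j))⁻¹ • M ^ j := by
    intro j
    rw [hc, smul_pow, inv_pow, ← pow_mul]
  have hcp : c ^ p = 1 := by
    rw [hcj, hMp, mul_comm, pow_mul, hzp, one_pow, inv_one, one_smul]
  set S : Module.End ℂ (Fin n → ℂ) := ∑ j ∈ Finset.range p, c ^ j with hS
  have hcS : c * S = S := by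
    rw [hS, Finset.mul_sum]
    have e0 : ∑ j ∈ Finset.range p, c * c ^ j = ∑ j ∈ Finset.range p, c ^ (j + 1) :=
      Finset.sum_congr rfl (fun j _ => (pow_succ' c j).symm)
    have e1 := Finset.sum_range_succ' (fun j => c ^ j) p
    have e2 := Finset.sum_range_succ (fun j => c ^ j) p
    rw [e0]
    have e3 := e1.symm.trans e2
    rw [pow_zero, hcp] at e3
    exact add_right_cancel e3
  have hckS : ∀ k : ℕ, c ^ k * S = S := by
    intro k
    induction k with
    | zero => rw [pow_zero, one_mul]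
    | succ k ih => rw [pow_succ, mul_assoc, hcS, ih]
  have hSS : S * S = (p : ℂ) • S := by
    have h1 : S * S = ∑ j ∈ Finset.range p, c ^ j * S := by
      conv_lhs => rw [hS]
      rw [Finset.sum_mul]
    rw [h1, Finset.sum_congr rfl (fun j _ => hckS j), Finset.sum_const, Finset.card_range,
      Nat.cast_smul_eq_nsmul]
  set E : Module.End ℂ (Fin n → ℂ) := (p : ℂ)⁻¹ • S with hE
  have hEid : IsIdempotentElem E := by
    show E * E = E
    rw [hE, smul_mul_smul_comm, hSS, smul_smul]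
    congr 1
    field_simp
  -- traces
  have hkey : ∀ R : Module.End ℂ (Fin n → ℂ),
      LinearMap.trace ℂ (Fin n → ℂ) (E * R)
        = (p : ℂ)⁻¹ * ∑ j ∈ Finset.range p,
            LinearMap.trace ℂ (Fin n → ℂ) (M ^ j * R) * (zeta p ^ (b.val * j))⁻¹ := by
    intro R
    rw [hE, smul_mul_assoc, map_smul, smul_eq_mul, hS, Finset.sum_mul, map_sum]
    congr 1
    refine Finset.sum_congr rfl fun j _ => ?_
    rw [hcj, smul_mul_assoc, map_smul, smul_eq_mul, mul_comm]
  have htr : LinearMap.trace ℂ (Fin n → ℂ) E = mu p x χ b := by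
    have h1 := hkey 1
    rw [mul_one] at h1
    rw [h1]
    unfold mu
    congr 1
    refine Finset.sum_congr rfl fun j _ => ?_
    rw [mul_one, hM, ← map_pow, ← hρ]
    rfl
  have hE0 : E = 0 := (LinearMap.IsIdempotentElem.trace_eq_zero_iff hEid).1 (by rw [htr, hb])
  show mu p x (fun y => χ (y * g)) b = 0
  have h2 := hkey (ρ g)
  rw [hE0, zero_mul, map_zero] at h2
  rw [h2]
  unfold mu
  congr 1
  refine Finset.sum_congr rfl fun j _ => ?_
  rw [hM, ← map_pow, ← map_mul, ← hρ]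
  rfl

end Cfsg.Agent.Lib.helper2.BF
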