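import Mathlib
import Cfsg.Prelude.Def_LocalStructure
import Cfsg.Prelude.Def_Blocks
import Cfsg.Agent.Lib.helper81.CharOrtho

/-!
# S3875 piece E2 (helper82): an irreducible character with value `±1` at `x` has degree dividing
the class size of `x`
-/

set_option autoImplicit false

namespace Cfsg.Agent.Lib.helper82.S3875

open Cfsg

/-- PIECE E2. An irreducible character with value `±1` at `x` has degree dividing the class size
of `x`. -/
theorem degree_dvd_index {H : Type*} [Group H] [Finite H] (χ : IrrCharacter H) (x : H) (ε : ℤ)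
    (hε : ε = 1 ∨ ε = -1) (hχ : (χ : H → ℂ) x = (ε : ℂ)) :
    charDegree (χ : H → ℂ) ∣ (Subgroup.centralizer ({x} : Set H)).index := by
  classical
  haveI := Fintype.ofFinite H
  have h := Cfsg.Agent.Lib.helper81.irr_centralChar_isIntegral χ x
  unfold centralChar at h
  rw [hχ, Cfsg.Agent.Lib.helper81.irr_one_eq_charDegree] at h
  apply Cfsg.Agent.Lib.helper81.dvd_of_isIntegral_div
    (Cfsg.Agent.Lib.helper81.irr_charDegree_pos χ).ne'
  rcases hε with rfl | rfl
  · simpa using h
  · have h2 := h.neg
    convert h2 using 1
    push_cast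
    ring

end Cfsg.Agent.Lib.helper82.S3875
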