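import Mathlib
import Cfsg.Prelude.Def_Characters
import Cfsg.Prelude.Def_Blocks
import Cfsg.Agent.Lib.helper82.Ito
import Cfsg.Agent.Lib.helper19.Gallagher
import Cfsg.Agent.Lib.helper4.RepEquiv

/-!
# The ramification index divides the index (helper82)

For `N ⊴ G`, `χ ∈ Irr(G)` lying over `ϑ ∈ Irr(N)`: `χ(1)/ϑ(1)` divides `|G : N|`.

The proof avoids projective representations: for a `G`-invariant `ϑ` afforded by `σ` on `W`,
the group `extGroup N σ` of pairs `(g, T)`, `T` an invertible intertwiner from `σ` to its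
`g`-conjugate with `det T ^ |N| = 1`, is a finite central extension of `G` in which `σ` extends
to the representation `(g, T) ↦ T`.  Gallagher's theorem then writes the inflation of `χ` as a
product, and the second factor has degree `e = χ(1)/ϑ(1)` and the preimage of `N` acts on it by
scalars, so that `e ∣ |G : N|` by `finrank_dvd_index_of_scalar`.
-/

set_option autoImplicit false
set_option linter.style.haveILetI false
set_option linter.unusedSectionVars false

namespace Cfsg.Agent.Lib.helper82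

open Module Cfsg
open Cfsg.Agent.Lib
open scoped ComplexConjugate

universe u

section Ext

variable {G : Type u} [Group G] (N : Subgroup G) [hN : N.Normal] {d : ℕ}
  (σ : Representation ℂ N (Fin d → ℂ))

/-- The group of pairs `(g, T)` with `T` an invertible intertwiner from `σ` to its conjugate by
`g`, normalised by `det T ^ |N| = 1`. -/
def extGroup : Subgroup (G × (Module.End ℂ (Fin d → ℂ))ˣ) where
  carrier := {p | (∀ n : N, (p.2 : Module.End ℂ (Fin d → ℂ)) * σ n =
      σ (MulAut.conjNormal p.1 n) * (p.2 : Module.End ℂ (Fin d → ℂ))) ∧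
    LinearMap.det (p.2 : Module.End ℂ (Fin d → ℂ)) ^ Nat.card N = 1}
  one_mem' := by
    refine ⟨fun n => ?_, ?_⟩
    · simp
    · simp
  mul_mem' := by
    rintro ⟨g, T⟩ ⟨g', T'⟩ ⟨h1, h2⟩ ⟨h1', h2'⟩
    refine ⟨fun n => ?_, ?_⟩
    · show ((T * T' : (Module.End ℂ (Fin d → ℂ))ˣ) : Module.End ℂ (Fin d → ℂ)) * σ n =
        σ (MulAut.conjNormal (g * g') n) * ((T * T' : (Module.End ℂ (Fin d → ℂ))ˣ) :
          Module.End ℂ (Fin d → ℂ))
      rw [Units.val_mul, mul_assoc, h1' n, ← mul_assoc, h1, mul_assoc, map_mul]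
      rfl
    · show LinearMap.det ((T * T' : (Module.End ℂ (Fin d → ℂ))ˣ) :
        Module.End ℂ (Fin d → ℂ)) ^ Nat.card N = 1
      rw [Units.val_mul, map_mul, mul_pow]
      simp only at h2 h2'
      rw [h2, h2', one_mul]
  inv_mem' := by
    rintro ⟨g, T⟩ ⟨h1, h2⟩
    refine ⟨fun n => ?_, ?_⟩
    · show ((T⁻¹ : (Module.End ℂ (Fin d → ℂ))ˣ) : Module.End ℂ (Fin d → ℂ)) * σ n =
        σ (MulAut.conjNormal g⁻¹ n) * ((T⁻¹ : (Module.End ℂ (Fin d → ℂ))ˣ) :
          Module.End ℂ (Fin d → ℂ))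
      have h := h1 (MulAut.conjNormal g⁻¹ n)
      simp only at h
      have h3 : MulAut.conjNormal g (MulAut.conjNormal g⁻¹ n) = n := by
        rw [← MulAut.mul_apply, ← map_mul, mul_inv_cancel, map_one]; rfl
      rw [h3] at h
      calc ((T⁻¹ : (Module.End ℂ (Fin d → ℂ))ˣ) : Module.End ℂ (Fin d → ℂ)) * σ n
          = ((T⁻¹ : (Module.End ℂ (Fin d → ℂ))ˣ) : Module.End ℂ (Fin d → ℂ)) *
              (σ n * (T : Module.End ℂ (Fin d → ℂ))) *
              ((T⁻¹ : (Module.End ℂ (Fin d → ℂ))ˣ) : Module.End ℂ (Fin d → ℂ)) := by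
            rw [mul_assoc, mul_assoc, Units.mul_inv, mul_one]
        _ = σ (MulAut.conjNormal g⁻¹ n) *
              ((T⁻¹ : (Module.End ℂ (Fin d → ℂ))ˣ) : Module.End ℂ (Fin d → ℂ)) := by
            rw [← h, ← mul_assoc, Units.inv_mul, one_mul]
    · show LinearMap.det ((T⁻¹ : (Module.End ℂ (Fin d → ℂ))ˣ) :
        Module.End ℂ (Fin d → ℂ)) ^ Nat.card N = 1
      simp only at h2
      have h4 : LinearMap.det ((T⁻¹ : (Module.End ℂ (Fin d → ℂ))ˣ) :
          Module.End ℂ (Fin d → ℂ)) * LinearMap.det (T : Module.End ℂ (Fin d → ℂ)) = 1 := by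
        rw [← map_mul, Units.inv_mul, map_one]
      have h5 := congrArg (fun x => x ^ Nat.card N) h4
      simp only [mul_pow, h2, mul_one, one_pow] at h5
      exact h5

theorem mem_extGroup (p : G × (Module.End ℂ (Fin d → ℂ))ˣ) :
    p ∈ extGroup N σ ↔ (∀ n : N, (p.2 : Module.End ℂ (Fin d → ℂ)) * σ n =
      σ (MulAut.conjNormal p.1 n) * (p.2 : Module.End ℂ (Fin d → ℂ))) ∧
    LinearMap.det (p.2 : Module.End ℂ (Fin d → ℂ)) ^ Nat.card N = 1 := Iff.rfl

/-- The projection of the extension onto `G`. -/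
def extProj : extGroup N σ →* G :=
  (MonoidHom.fst G (Module.End ℂ (Fin d → ℂ))ˣ).comp (extGroup N σ).subtype

/-- The representation of the extension on the space of `σ`. -/
def extRep : Representation ℂ (extGroup N σ) (Fin d → ℂ) :=
  ((Units.coeHom (Module.End ℂ (Fin d → ℂ))).comp
    (MonoidHom.snd G (Module.End ℂ (Fin d → ℂ))ˣ)).comp (extGroup N σ).subtype

theorem extProj_apply (x : extGroup N σ) : extProj N σ x = x.1.1 := rfl

theorem extRep_apply (x : extGroup N σ) :
    extRep N σ x = (x.1.2 : Module.End ℂ (Fin d → ℂ)) := rfl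

end Ext

section Ext2

variable {G : Type u} [Group G] (N : Subgroup G) [hN : N.Normal] [Finite N] {d : ℕ}
  (σ : Representation ℂ N (Fin d → ℂ))

/-- The embedding of `N` into the extension: `n ↦ (n, σ n)`. -/
def extIncl : N →* extGroup N σ where
  toFun n := ⟨((n : G), σ.asGroupHom n), by
    rw [mem_extGroup]
    refine ⟨fun m => ?_, ?_⟩
    · show ((σ.asGroupHom n : (Module.End ℂ (Fin d → ℂ))ˣ) : Module.End ℂ (Fin d → ℂ)) * σ m =
        σ (MulAut.conjNormal (n : G) m) *
          ((σ.asGroupHom n : (Module.End ℂ (Fin d → ℂ))ˣ) : Module.End ℂ (Fin d → ℂ))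
      rw [Representation.asGroupHom_apply, ← map_mul, ← map_mul]
      congr 1
      apply Subtype.ext
      simp [MulAut.conjNormal_apply]
    · show LinearMap.det ((σ.asGroupHom n : (Module.End ℂ (Fin d → ℂ))ˣ) :
        Module.End ℂ (Fin d → ℂ)) ^ Nat.card N = 1
      rw [Representation.asGroupHom_apply, ← map_pow, ← map_pow, pow_card_eq_one', map_one,
        map_one]⟩
  map_one' := by
    apply Subtype.ext
    simp
  map_mul' a b := by
    apply Subtype.ext
    simp

theorem extProj_extIncl (n : N) : extProj N σ (extIncl N σ n) = n := rfl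

theorem extRep_extIncl (n : N) : extRep N σ (extIncl N σ n) = σ n := by
  rw [extRep_apply]
  exact Representation.asGroupHom_apply σ n

theorem extIncl_injective : Function.Injective (extIncl N σ) := by
  intro a b h
  have := congrArg (extProj N σ) h
  exact Subtype.ext this

/-- Conjugating the image of `n` by `γ` gives the image of the conjugate of `n`. -/
theorem ext_conj_extIncl (γ : extGroup N σ) (n : N) :
    γ * extIncl N σ n * γ⁻¹ = extIncl N σ (MulAut.conjNormal γ.1.1 n) := by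
  apply Subtype.ext
  apply Prod.ext
  · show γ.1.1 * (n : G) * γ.1.1⁻¹ = ((MulAut.conjNormal γ.1.1 n : N) : G)
    rw [MulAut.conjNormal_apply]
  · apply Units.ext
    show (γ.1.2 : Module.End ℂ (Fin d → ℂ)) *
        ((σ.asGroupHom n : (Module.End ℂ (Fin d → ℂ))ˣ) : Module.End ℂ (Fin d → ℂ)) *
        ((γ.1.2⁻¹ : (Module.End ℂ (Fin d → ℂ))ˣ) : Module.End ℂ (Fin d → ℂ)) =
      ((σ.asGroupHom (MulAut.conjNormal γ.1.1 n) : (Module.End ℂ (Fin d → ℂ))ˣ) :
        Module.End ℂ (Fin d → ℂ))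
    rw [Representation.asGroupHom_apply, Representation.asGroupHom_apply]
    have h := ((mem_extGroup N σ γ.1).mp γ.2).1 n
    rw [h, mul_assoc, Units.mul_inv, mul_one]

instance extIncl_range_normal : (extIncl N σ).range.Normal := by
  constructor
  rintro x ⟨n, rfl⟩ γ
  exact ⟨MulAut.conjNormal γ.1.1 n, (ext_conj_extIncl N σ γ n).symm⟩

/-- When the character of `σ` is `G`-invariant, the extension maps onto `G`. -/
theorem extProj_surjective (hd : 0 < d) (hinv : ∀ g : G, cconj N g σ.character = σ.character) :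
    Function.Surjective (extProj N σ) := by
  intro g
  let σ' : Representation ℂ N (Fin d → ℂ) :=
    compRep (MulAut.conjNormal g : N ≃* N).toMonoidHom σ
  have hchar : σ.character = σ'.character := by
    funext n
    have := congrFun (hinv g⁻¹) n
    rw [cconj_def, inv_inv] at this
    exact this.symm
  obtain ⟨φ⟩ := helper4.nonempty_equiv_of_character_eq σ σ' hchar
  let T₀ : (Module.End ℂ (Fin d → ℂ))ˣ :=
    ⟨φ.toLinearEquiv.toLinearMap, φ.toLinearEquiv.symm.toLinearMap,
      LinearMap.ext fun _ => φ.toLinearEquiv.apply_symm_apply _,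
      LinearMap.ext fun _ => φ.toLinearEquiv.symm_apply_apply _⟩
  have hT₀ : ∀ n : N, (T₀ : Module.End ℂ (Fin d → ℂ)) * σ n =
      σ (MulAut.conjNormal g n) * (T₀ : Module.End ℂ (Fin d → ℂ)) := by
    intro n
    exact φ.isIntertwining' n
  have hdet0 : LinearMap.det (T₀ : Module.End ℂ (Fin d → ℂ)) ≠ 0 := by
    intro h0
    have h1 : LinearMap.det ((T₀ : Module.End ℂ (Fin d → ℂ)) *
        ((T₀⁻¹ : (Module.End ℂ (Fin d → ℂ))ˣ) : Module.End ℂ (Fin d → ℂ))) = 1 := by
      rw [Units.mul_inv, map_one]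
    rw [map_mul, h0, zero_mul] at h1
    exact zero_ne_one h1
  obtain ⟨c, hc⟩ := IsAlgClosed.exists_pow_nat_eq
    (LinearMap.det (T₀ : Module.End ℂ (Fin d → ℂ)))⁻¹ hd
  have hc0 : c ≠ 0 := by
    rintro rfl
    rw [zero_pow hd.ne'] at hc
    exact inv_ne_zero hdet0 hc.symm
  let cu : (Module.End ℂ (Fin d → ℂ))ˣ :=
    Units.map (algebraMap ℂ (Module.End ℂ (Fin d → ℂ))).toMonoidHom (Units.mk0 c hc0)
  have hcu : (cu : Module.End ℂ (Fin d → ℂ)) = c • (1 : Module.End ℂ (Fin d → ℂ)) := by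
    show algebraMap ℂ (Module.End ℂ (Fin d → ℂ)) c = c • (1 : Module.End ℂ (Fin d → ℂ))
    exact Algebra.algebraMap_eq_smul_one c
  refine ⟨⟨(g, cu * T₀), ?_⟩, rfl⟩
  rw [mem_extGroup]
  refine ⟨fun n => ?_, ?_⟩
  · show ((cu * T₀ : (Module.End ℂ (Fin d → ℂ))ˣ) : Module.End ℂ (Fin d → ℂ)) * σ n =
      σ (MulAut.conjNormal g n) *
        ((cu * T₀ : (Module.End ℂ (Fin d → ℂ))ˣ) : Module.End ℂ (Fin d → ℂ))
    rw [Units.val_mul, hcu, smul_mul_assoc, one_mul, smul_mul_assoc, hT₀ n, mul_smul_comm]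
  · show LinearMap.det ((cu * T₀ : (Module.End ℂ (Fin d → ℂ))ˣ) :
      Module.End ℂ (Fin d → ℂ)) ^ Nat.card N = 1
    rw [Units.val_mul, hcu, smul_mul_assoc, one_mul, LinearMap.det_smul, Module.finrank_fin_fun,
      hc, inv_mul_cancel₀ hdet0, one_pow]

/-- An element of the extension lying over `n ∈ N` has second component a scalar multiple of
`σ n`. -/
theorem ext_over_N [σ.IsIrreducible] (x : extGroup N σ) (hx : x.1.1 ∈ N) :
    ∃ c : ℂ, (x.1.2 : Module.End ℂ (Fin d → ℂ)) = c • σ ⟨x.1.1, hx⟩ := by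
  have h := ((mem_extGroup N σ x.1).mp x.2).1
  have hcomm : ∀ m : N, ((x.1.2 : Module.End ℂ (Fin d → ℂ)) * σ (⟨x.1.1, hx⟩ : N)⁻¹) * σ m =
      σ m * ((x.1.2 : Module.End ℂ (Fin d → ℂ)) * σ (⟨x.1.1, hx⟩ : N)⁻¹) := by
    intro m
    have h1 := h ((⟨x.1.1, hx⟩ : N)⁻¹ * m * (⟨x.1.1, hx⟩ : N))
    have h2 : MulAut.conjNormal x.1.1 ((⟨x.1.1, hx⟩ : N)⁻¹ * m * (⟨x.1.1, hx⟩ : N)) = m := by
      apply Subtype.ext
      simp [MulAut.conjNormal_apply, mul_assoc]
    rw [h2] at h1
    rw [mul_assoc, ← map_mul, ← mul_assoc (σ m), ← h1, mul_assoc, ← map_mul]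
    congr 2
    group
  obtain ⟨c, hc⟩ := schur_scalar σ _ hcomm
  refine ⟨c, ?_⟩
  have h3 : (x.1.2 : Module.End ℂ (Fin d → ℂ)) =
      ((x.1.2 : Module.End ℂ (Fin d → ℂ)) * σ (⟨x.1.1, hx⟩ : N)⁻¹) * σ ⟨x.1.1, hx⟩ := by
    rw [mul_assoc, ← map_mul, inv_mul_cancel, map_one, mul_one]
  rw [h3, hc, smul_mul_assoc, one_mul]

/-- Elements of the kernel of the projection are scalars of bounded finite order. -/
theorem ext_ker_scalar [σ.IsIrreducible] (x : extGroup N σ) (hx : x.1.1 = 1) :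
    ∃ c : ℂ, c ^ (d * Nat.card N) = 1 ∧
      (x.1.2 : Module.End ℂ (Fin d → ℂ)) = c • (1 : Module.End ℂ (Fin d → ℂ)) := by
  have hx' : x.1.1 ∈ N := by rw [hx]; exact N.one_mem
  obtain ⟨c, hc⟩ := ext_over_N N σ x hx'
  have h1 : (⟨x.1.1, hx'⟩ : N) = 1 := Subtype.ext hx
  rw [h1, map_one] at hc
  refine ⟨c, ?_, hc⟩
  have h2 := ((mem_extGroup N σ x.1).mp x.2).2
  rw [hc, LinearMap.det_smul, Module.finrank_fin_fun, map_one, mul_one] at h2
  rw [pow_mul]
  exact h2

/-- Elements of the kernel of the projection are central. -/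
theorem ext_ker_central [σ.IsIrreducible] (z : extGroup N σ) (hz : z.1.1 = 1)
    (γ : extGroup N σ) : z * γ = γ * z := by
  obtain ⟨c, -, hc⟩ := ext_ker_scalar N σ z hz
  apply Subtype.ext
  apply Prod.ext
  · show z.1.1 * γ.1.1 = γ.1.1 * z.1.1
    rw [hz, one_mul, mul_one]
  · apply Units.ext
    show (z.1.2 : Module.End ℂ (Fin d → ℂ)) * (γ.1.2 : Module.End ℂ (Fin d → ℂ)) =
      (γ.1.2 : Module.End ℂ (Fin d → ℂ)) * (z.1.2 : Module.End ℂ (Fin d → ℂ))
    rw [hc, smul_mul_assoc, one_mul, mul_smul_comm, mul_one]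

/-- The extension is a finite group. -/
instance ext_finite [Finite G] [σ.IsIrreducible] : Finite (extGroup N σ) := by
  classical
  have hd : 0 < d := by
    have := finrank_pos_of_irreducible σ
    simpa using this
  have hk : 0 < d * Nat.card N := Nat.mul_pos hd Nat.card_pos
  let F : Set (Module.End ℂ (Fin d → ℂ)) :=
    (fun c : ℂ => c • (1 : Module.End ℂ (Fin d → ℂ))) '' {c : ℂ | c ^ (d * Nat.card N) = 1}
  have hF : F.Finite := by
    apply Set.Finite.image
    exact (Polynomial.nthRootsFinset (d * Nat.card N) (1 : ℂ)).finite_toSet.subset (fun c hc => by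
      rw [Finset.mem_coe, Polynomial.mem_nthRootsFinset hk]; exact hc)
  haveI : Finite F := hF.to_subtype
  let f : (extProj N σ).ker → F := fun x => ⟨(x.1.1.2 : Module.End ℂ (Fin d → ℂ)), by
    obtain ⟨c, hc1, hc2⟩ := ext_ker_scalar N σ x.1 (MonoidHom.mem_ker.mp x.2)
    exact ⟨c, hc1, hc2.symm⟩⟩
  have hf : Function.Injective f := by
    intro x y hxy
    have h1 : (x.1.1.2 : Module.End ℂ (Fin d → ℂ)) = y.1.1.2 := congrArg Subtype.val hxy
    apply Subtype.ext
    apply Subtype.ext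
    apply Prod.ext
    · exact (MonoidHom.mem_ker.mp x.2).trans (MonoidHom.mem_ker.mp y.2).symm
    · exact Units.ext h1
  haveI : Finite (extProj N σ).ker := Finite.of_injective f hf
  haveI : Fintype G := Fintype.ofFinite G
  haveI : Fintype (extProj N σ).ker := Fintype.ofFinite _
  exact @Finite.of_fintype _ (Group.fintypeOfKerOfCodom (extProj N σ))

end Ext2

section Main

/-- If the pullback of a representation along a homomorphism is irreducible, so is the
representation. -/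
theorem isIrreducible_of_compRep {G H : Type*} [Group G] [Group H] {V : Type*} [AddCommGroup V]
    [Module ℂ V] (f : G →* H) (ρ : Representation ℂ H V) (h : (compRep f ρ).IsIrreducible) :
    ρ.IsIrreducible := by
  rw [helper4.isIrreducible_iff] at h ⊢
  exact ⟨h.1, fun U hU => h.2 U (fun g v hv => hU (f g) v hv)⟩

/-- The elements acting by scalars in a representation form a subgroup. -/
def scalarSubgroup {G : Type*} [Group G] {V : Type*} [AddCommGroup V] [Module ℂ V]
    (ρ : Representation ℂ G V) : Subgroup G where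
  carrier := {g | ∃ c : ℂ, ρ g = c • (1 : Module.End ℂ V)}
  one_mem' := ⟨1, by simp⟩
  mul_mem' := by
    rintro a b ⟨c, hc⟩ ⟨c', hc'⟩
    exact ⟨c * c', by rw [map_mul, hc, hc', smul_mul_smul_comm, mul_one]⟩
  inv_mem' := by
    rintro a ⟨c, hc⟩
    by_cases hc0 : c = 0
    · refine ⟨0, ?_⟩
      have h1 : (1 : Module.End ℂ V) = 0 := by
        rw [← map_one ρ, ← mul_inv_cancel a, map_mul, hc, hc0, zero_smul, zero_mul]
      rw [zero_smul]
      calc ρ a⁻¹ = ρ a⁻¹ * 1 := (mul_one _).symm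
        _ = 0 := by rw [h1, mul_zero]
    · refine ⟨c⁻¹, ?_⟩
      have h1 : ρ a⁻¹ * ρ a = 1 := by rw [← map_mul, inv_mul_cancel, map_one]
      rw [hc, mul_smul_comm, mul_one] at h1
      rw [← h1, smul_smul, inv_mul_cancel₀ hc0, one_smul]

theorem mem_scalarSubgroup {G : Type*} [Group G] {V : Type*} [AddCommGroup V] [Module ℂ V]
    (ρ : Representation ℂ G V) (g : G) :
    g ∈ scalarSubgroup ρ ↔ ∃ c : ℂ, ρ g = c • (1 : Module.End ℂ V) := Iff.rfl

variable {G : Type u} [Group G] [Finite G] (N : Subgroup G) [hN : N.Normal]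

/-- The Gallagher factor: if `χ ∈ Irr(G)` restricts to `e` times the character of the
irreducible `G`-invariant representation `σ` of `N`, then the extension group has an irreducible
representation of degree `e` which is trivial on the image of `N`. -/
theorem exists_ext_rep {d : ℕ} (σ : Representation ℂ N (Fin d → ℂ)) (hσ : σ.IsIrreducible)
    (hinv : ∀ g : G, cconj N g σ.character = σ.character) {χ : G → ℂ}
    (hχ : IsIrrCharacter G χ) (e : ℕ) (he : ∀ n : N, χ n = e * σ.character n) :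
    Function.Surjective (extProj N σ) ∧
      ∃ ρβ : Representation ℂ (extGroup N σ) (Fin e → ℂ), ρβ.IsIrreducible ∧
        ∀ n : N, ρβ (extIncl N σ n) = 1 := by
  classical
  haveI := hσ
  have hd : 0 < d := by
    have := finrank_pos_of_irreducible σ
    simpa using this
  haveI : Fintype (extGroup N σ) := Fintype.ofFinite _
  haveI : Fintype (extIncl N σ).range := Fintype.ofFinite _
  have hsurj := extProj_surjective N σ hd hinv
  refine ⟨hsurj, ?_⟩
  have hτirr : (extRep N σ).IsIrreducible := by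
    apply isIrreducible_of_compRep (extIncl N σ)
    have : compRep (extIncl N σ) (extRep N σ) = σ := by
      ext n : 1
      exact extRep_extIncl N σ n
    rw [this]; exact hσ
  have hτ : IsIrrCharacter (extGroup N σ) (extRep N σ).character :=
    helper4.isIrrCharacter_of_rep _
  have hτN : IsIrrCharacter (extIncl N σ).range
      (fun x : (extIncl N σ).range => (extRep N σ).character x) := by
    have hirr : (compRep (extIncl N σ).range.subtype (extRep N σ)).IsIrreducible := by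
      apply isIrreducible_of_compRep (extIncl N σ).rangeRestrict
      have : compRep (extIncl N σ).rangeRestrict
          (compRep (extIncl N σ).range.subtype (extRep N σ)) = σ := by
        ext n : 1
        exact extRep_extIncl N σ n
      rw [this]; exact hσ
    haveI := hirr
    exact helper4.isIrrCharacter_of_rep (compRep (extIncl N σ).range.subtype (extRep N σ))
  have hχ' : IsIrrCharacter (extGroup N σ) (fun x => χ (extProj N σ x)) := by
    obtain ⟨m, ρ, hirr, rfl⟩ := hχ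
    exact ⟨m, compRep (extProj N σ) ρ, (isIrreducible_comp_iff _ hsurj ρ).mpr hirr, rfl⟩
  have hχ1 : χ 1 = (e : ℂ) * (d : ℂ) := by
    have h1 := he 1
    have h2 : σ.character 1 = (d : ℂ) := by rw [Representation.char_one]; simp
    rw [h2] at h1
    exact h1
  have hχ1ne : χ 1 ≠ 0 := by
    have h2 : χ 1 = (charDegree χ : ℂ) := irr_one_eq ⟨χ, hχ⟩
    have hpos : 0 < charDegree χ := irr_charDegree_pos ⟨χ, hχ⟩
    rw [h2]
    exact_mod_cast hpos.ne'
  have he0 : (e : ℂ) ≠ 0 := by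
    intro h0
    rw [h0, zero_mul] at hχ1
    exact hχ1ne hχ1
  have hres : (fun x : (extIncl N σ).range => χ (extProj N σ x)) =
      (e : ℂ) • (fun x : (extIncl N σ).range => (extRep N σ).character x) := by
    funext x
    obtain ⟨n, hn⟩ := x.2
    show χ (extProj N σ (x : extGroup N σ)) = (e : ℂ) * (extRep N σ).character (x : extGroup N σ)
    rw [← hn, extProj_extIncl, he n]
    congr 1
  have hne : classInner (fun x : (extIncl N σ).range => χ (extProj N σ x))
      (fun x : (extIncl N σ).range => (extRep N σ).character x) ≠ 0 := by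
    rw [hres, helper4.classInner_smul_left, helper4.classInner_irr_self hτN, mul_one]
    exact he0
  obtain ⟨β, hβ, hβN, hprod⟩ := helper19.gallagher (extIncl N σ).range (extRep N σ).character
    hτ hτN _ hχ' hne
  have hβ1 : β 1 = e := by
    have h1 := congrFun hprod 1
    simp only [Pi.mul_apply, map_one] at h1
    have h2 : (extRep N σ).character 1 = (d : ℂ) := by rw [Representation.char_one]; simp
    rw [h2, hχ1] at h1
    have hd0 : (d : ℂ) ≠ 0 := by exact_mod_cast hd.ne'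
    have h3 : (d : ℂ) * β 1 = (d : ℂ) * e := by rw [← h1]; ring
    exact mul_left_cancel₀ hd0 h3
  obtain ⟨m, ρβ, hirrβ, rfl⟩ := hβ
  haveI := hirrβ
  have hm : m = e := by
    rw [Representation.char_one] at hβ1
    have : ((m : ℕ) : ℂ) = (e : ℂ) := by simpa using hβ1
    exact_mod_cast this
  subst hm
  refine ⟨ρβ, hirrβ, fun n => ?_⟩
  apply rep_eq_one_of_char_eq
  rw [hβN _ ⟨n, rfl⟩, Representation.char_one]

/-- In an irreducible representation of the extension group which is trivial on the image of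
`N`, every element lying over `N` acts as a scalar. -/
theorem ext_rep_scalar {d : ℕ} (σ : Representation ℂ N (Fin d → ℂ)) [σ.IsIrreducible]
    {V : Type*} [AddCommGroup V] [Module ℂ V] [FiniteDimensional ℂ V]
    (ρβ : Representation ℂ (extGroup N σ) V) [ρβ.IsIrreducible]
    (hρβ : ∀ n : N, ρβ (extIncl N σ n) = 1) :
    N.comap (extProj N σ) ≤ scalarSubgroup ρβ := by
  intro a ha
  have haN : a.1.1 ∈ N := ha
  have hz : (a * (extIncl N σ ⟨a.1.1, haN⟩)⁻¹).1.1 = 1 := by
    show a.1.1 * (a.1.1)⁻¹ = 1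
    exact mul_inv_cancel _
  have hcent := ext_ker_central N σ (a * (extIncl N σ ⟨a.1.1, haN⟩)⁻¹) hz
  obtain ⟨c, hc⟩ := schur_scalar ρβ (ρβ (a * (extIncl N σ ⟨a.1.1, haN⟩)⁻¹))
    (fun γ => by rw [← map_mul, ← map_mul, hcent γ])
  refine ⟨c, ?_⟩
  have h2 : a = (a * (extIncl N σ ⟨a.1.1, haN⟩)⁻¹) * extIncl N σ ⟨a.1.1, haN⟩ := by group
  rw [h2, map_mul, hρβ, mul_one, hc]

/-- If `χ ∈ Irr(G)` restricts to `e • ϑ` on the normal subgroup `N`, with `ϑ ∈ Irr(N)`
invariant in `G`, then `e` divides `|G : N|`. -/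
theorem ramification_dvd_index_of_invariant {ϑ : N → ℂ} (hϑ : IsIrrCharacter N ϑ)
    (hinv : ∀ g : G, cconj N g ϑ = ϑ) {χ : G → ℂ} (hχ : IsIrrCharacter G χ) (e : ℕ)
    (he : ∀ n : N, χ n = e * ϑ n) : e ∣ N.index := by
  classical
  obtain ⟨d, σ, hσ, rfl⟩ := hϑ
  haveI := hσ
  obtain ⟨hsurj, ρβ, hirrβ, hρβ⟩ := exists_ext_rep N σ hσ hinv hχ e he
  haveI := hirrβ
  have hdvd := finrank_dvd_index_of_scalar ρβ (N.comap (extProj N σ))
    (fun a ha => ext_rep_scalar N σ ρβ hρβ ha)
  rw [Module.finrank_fin_fun, Subgroup.index_comap_of_surjective _ hsurj] at hdvd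
  exact hdvd

/-- If `G / N` is cyclic and `χ ∈ Irr(G)` restricts to `e • ϑ` with `ϑ ∈ Irr(N)` invariant in
`G`, then `e = 1`. -/
theorem ramification_eq_one_of_cyclic (hcyc : IsCyclic (G ⧸ N)) {ϑ : N → ℂ}
    (hϑ : IsIrrCharacter N ϑ) (hinv : ∀ g : G, cconj N g ϑ = ϑ) {χ : G → ℂ}
    (hχ : IsIrrCharacter G χ) (e : ℕ) (he : ∀ n : N, χ n = e * ϑ n) : e = 1 := by
  classical
  obtain ⟨d, σ, hσ, rfl⟩ := hϑ
  haveI := hσ
  obtain ⟨hsurj, ρβ, hirrβ, hρβ⟩ := exists_ext_rep N σ hσ hinv hχ e he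
  haveI := hirrβ
  have hle := ext_rep_scalar N σ ρβ hρβ
  obtain ⟨q, hq⟩ := hcyc.exists_generator
  obtain ⟨g₀, rfl⟩ := QuotientGroup.mk_surjective q
  obtain ⟨γ₀, hγ₀⟩ := hsurj g₀
  -- every element is a power of `γ₀` times an element over `N`
  have hdecomp : ∀ γ : extGroup N σ, ∃ k : ℤ, (γ₀ ^ k)⁻¹ * γ ∈ N.comap (extProj N σ) := by
    intro γ
    obtain ⟨k, hk⟩ := Subgroup.mem_zpowers_iff.mp (hq ((extProj N σ γ : G) : G ⧸ N))
    refine ⟨k, ?_⟩
    show extProj N σ ((γ₀ ^ k)⁻¹ * γ) ∈ N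
    rw [map_mul, map_inv, map_zpow, hγ₀]
    exact QuotientGroup.eq.mp (by rw [QuotientGroup.mk_zpow]; exact hk)
  -- `γ₀` acts as a scalar
  have hγ₀s : γ₀ ∈ scalarSubgroup ρβ := by
    apply schur_scalar ρβ (ρβ γ₀)
    intro γ
    obtain ⟨k, hk⟩ := hdecomp γ
    obtain ⟨c, hc⟩ := hle hk
    have h1 : γ = γ₀ ^ k * ((γ₀ ^ k)⁻¹ * γ) := by group
    have h2 : ρβ γ = c • ρβ (γ₀ ^ k) := by
      conv_lhs => rw [h1]
      rw [map_mul, hc, mul_smul_comm, mul_one]
    rw [h2, mul_smul_comm, smul_mul_assoc, ← map_mul, ← map_mul]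
    congr 2
    exact (Commute.zpow_right (Commute.refl γ₀) k).eq
  have hall : ∀ γ : extGroup N σ, γ ∈ scalarSubgroup ρβ := by
    intro γ
    obtain ⟨k, hk⟩ := hdecomp γ
    have h1 : γ = γ₀ ^ k * ((γ₀ ^ k)⁻¹ * γ) := by group
    rw [h1]
    exact (scalarSubgroup ρβ).mul_mem ((scalarSubgroup ρβ).zpow_mem hγ₀s k) (hle hk)
  have hdvd := finrank_dvd_index_of_scalar ρβ ⊤ (fun a _ => hall a)
  rw [Module.finrank_fin_fun, Subgroup.index_top] at hdvd
  exact Nat.dvd_one.mp hdvd

/-- For `χ ∈ Irr(G)` lying over `ϑ ∈ Irr(N)`, `N ⊴ G`: `χ(1) = k * ϑ(1)` for a natural number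
`k` dividing `|G : N|`. -/
theorem degree_quot_dvd_index [Fintype G] [Fintype N] {χ : G → ℂ} (hχ : IsIrrCharacter G χ)
    {ϑ : N → ℂ} (hϑ : IsIrrCharacter N ϑ)
    (hcon : classInner (fun n : N => χ n) ϑ ≠ 0) :
    ∃ k : ℕ, k ∣ N.index ∧ χ 1 = k * ϑ 1 := by
  classical
  haveI : Fintype (inertia N ϑ) := Fintype.ofFinite _
  have hNT : N ≤ inertia N ϑ := le_inertia N (helper4.isClassFunction_of_isIrrCharacter hϑ)
  obtain ⟨ψ, hψ, hind, hmult⟩ := clifford_corr_surj N (inertia N ϑ) hNT hϑ rfl hχ hcon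
  obtain ⟨f, hf⟩ := helper4.exists_nat_classInner_irr
    (isCharacter_restrict_le N (inertia N ϑ) hNT (helper83.isCharacter_of_irr hψ)) hϑ
  have hf0 : f ≠ 0 := by
    rintro rfl
    apply hcon
    rw [← hmult, hf]; simp
  have hval := clifford_invariant_rel N (inertia N ϑ) hNT hϑ le_rfl hψ f hf hf0
  have hinv : ∀ t : inertia N ϑ,
      cconj (N.subgroupOf (inertia N ϑ)) t (subRes N (inertia N ϑ) ϑ) =
        subRes N (inertia N ϑ) ϑ := by
    intro t
    rw [cconj_subRes]
    congr 1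
    exact (mem_inertia N ϑ t).mp t.2
  have hdvd : f ∣ (N.subgroupOf (inertia N ϑ)).index :=
    ramification_dvd_index_of_invariant (N.subgroupOf (inertia N ϑ))
      (isIrrCharacter_subRes N (inertia N ϑ) hNT hϑ) hinv hψ f (fun x => by
        rw [subRes_apply]
        exact hval ⟨(x : inertia N ϑ), Subgroup.mem_subgroupOf.mp x.2⟩)
  refine ⟨(inertia N ϑ).index * f, ?_, ?_⟩
  · rw [← Subgroup.relIndex_mul_index hNT, mul_comm]
    exact Nat.mul_dvd_mul_right hdvd _
  · rw [← hind, helper4.indFun_one]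
    have h1 := hval 1
    have h2 : ψ 1 = f * ϑ 1 := h1
    rw [h2]; push_cast; ring

/-- Every irreducible character of a subgroup lies under some irreducible character of the
group. -/
theorem exists_irr_over [Fintype G] (H : Subgroup G) [Fintype H] {ϑ : H → ℂ}
    (hϑ : IsIrrCharacter H ϑ) :
    ∃ χ : G → ℂ, IsIrrCharacter G χ ∧ classInner (fun h : H => χ h) ϑ ≠ 0 := by
  classical
  haveI : Fintype (IrrCharacter G) := Fintype.ofFinite _
  obtain ⟨M, hM1, hM2, -⟩ :=
    exists_nat_decomp (helper4.isCharacter_indFun H (helper83.isCharacter_of_irr hϑ))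
  by_contra hcon
  push Not at hcon
  have h0 : ∀ ψ : IrrCharacter G, M ψ = 0 := by
    intro ψ
    have h1 := hM1 ψ
    rw [helper4.frobenius_reciprocity H ϑ (helper4.isClassFunction_of_isIrrCharacter ψ.2),
      ← helper4.classInner_conj_symm, hcon ψ.1 ψ.2] at h1
    have : ((M ψ : ℕ) : ℂ) = 0 := by rw [← h1]; simp
    exact_mod_cast this
  have h1 := hM2 1
  simp only [h0, Nat.cast_zero, zero_mul, Finset.sum_const_zero] at h1
  rw [helper4.indFun_one] at h1
  have h2 : ϑ 1 = (charDegree ϑ : ℂ) := irr_one_eq ⟨ϑ, hϑ⟩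
  have hpos : 0 < charDegree ϑ := irr_charDegree_pos ⟨ϑ, hϑ⟩
  have hidx : H.index ≠ 0 := Subgroup.index_ne_zero_of_finite
  rw [h2] at h1
  have : H.index * charDegree ϑ = 0 := by exact_mod_cast h1
  rcases Nat.mul_eq_zero.mp this with h | h
  · exact hidx h
  · omega

/-- An invariant irreducible character of a normal subgroup with cyclic quotient extends. -/
theorem exists_extension_of_cyclic (hcyc : IsCyclic (G ⧸ N)) {ϑ : N → ℂ}
    (hϑ : IsIrrCharacter N ϑ) (hinv : ∀ g : G, cconj N g ϑ = ϑ) :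
    ∃ χ : G → ℂ, IsIrrCharacter G χ ∧ ∀ n : N, χ n = ϑ n := by
  classical
  haveI : Fintype G := Fintype.ofFinite G
  haveI : Fintype N := Fintype.ofFinite N
  haveI : Fintype (IrrCharacter N) := Fintype.ofFinite _
  obtain ⟨χ, hχ, hcon⟩ := exists_irr_over N hϑ
  obtain ⟨e, he⟩ := helper4.exists_nat_classInner_irr
    (helper4.isCharacter_restrict N (helper83.isCharacter_of_irr hχ)) hϑ
  have he0 : e ≠ 0 := by
    rintro rfl
    apply hcon
    rw [he]; simp
  have hval := clifford_invariant N hχ hϑ hinv e he he0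
  have h1 := ramification_eq_one_of_cyclic N hcyc hϑ hinv hχ e hval
  refine ⟨χ, hχ, fun n => ?_⟩
  rw [hval n, h1]; simp

end Main

end Cfsg.Agent.Lib.helper82
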