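import Mathlib
import Cfsg.Prelude.Def_Characters
import Cfsg.Prelude.Def_Blocks
import Cfsg.Agent.Lib.helper82.Ramification

/-!
# Extending an invariant character: local-to-global (helper82)

`exists_extension_of_local`: let `ϑ ∈ Irr(N)` be `G`-invariant, `N ⊴ G`.  If for every prime `p`
there is a subgroup `P ≥ N` of index prime to `p` to which `ϑ` extends, then `ϑ` extends to `G`.

Proof: in the finite central extension `extGroup N σ` the representation `σ` extends to `τ`; an
extension of `ϑ` to `P` yields a homomorphism from the preimage of `P` to `ℂˣ` which is trivial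
on the image of `N` and inverse to the scalars in the kernel; its transfer raises this to the
power `|G : P|`; the exponents obtained generate `ℤ`, and a homomorphism `μ` with exponent `-1`
makes `μ • τ` trivial on the kernel, so that it descends to `G`.
-/

set_option autoImplicit false
set_option linter.style.haveILetI false
set_option linter.unusedSectionVars false

namespace Cfsg.Agent.Lib.helper82

open Module Cfsg
open Cfsg.Agent.Lib
open scoped ComplexConjugate

universe u

section Local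

variable {G : Type u} [Group G] [Finite G] (N : Subgroup G) [hN : N.Normal] {d : ℕ}
  (σ : Representation ℂ N (Fin d → ℂ))

/-- An extension `η` of the character of `σ` to a subgroup `P ≥ N` gives a homomorphism from the
preimage of `P` in the extension group to `ℂˣ`, trivial on the image of `N` and inverting the
scalars in the kernel of the projection. -/
theorem exists_local_hom [σ.IsIrreducible] (P : Subgroup G) (hNP : N ≤ P) (η : P → ℂ)
    (hη : IsIrrCharacter P η) (hηN : ∀ n : N, η ⟨(n : G), hNP n.2⟩ = σ.character n) :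
    ∃ μ : ↥(P.comap (extProj N σ)) →* ℂˣ,
      (∀ n : N, μ ⟨extIncl N σ n, hNP n.2⟩ = 1) ∧
      ∀ x : ↥(P.comap (extProj N σ)), x.1.1.1 = 1 →
        ((μ x : ℂˣ) : ℂ) • (x.1.1.2 : Module.End ℂ (Fin d → ℂ)) = 1 := by
  classical
  haveI := nontrivial_of_irreducible σ
  obtain ⟨d', ρη, hirr, rfl⟩ := hη
  let ρN : Representation ℂ N (Fin d' → ℂ) := compRep (Subgroup.inclusion hNP) ρη
  have hchar : ρN.character = σ.character := funext hηN
  obtain ⟨φ⟩ := helper4.nonempty_equiv_of_character_eq ρN σ hchar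
  let ρ' : Representation ℂ P (Fin d → ℂ) := helper4.transportRep ρη φ.toLinearEquiv
  have hρ'N : ∀ n : N, ρ' ⟨(n : G), hNP n.2⟩ = σ n := by
    intro n
    apply LinearMap.ext
    intro w
    rw [helper4.transportRep_apply]
    have h1 := φ.isIntertwining' n
    have h2 := congrArg (fun f => f (φ.toLinearEquiv.symm w)) h1
    simp only [LinearMap.coe_comp, Function.comp_apply] at h2
    have h3 : φ.toLinearMap (φ.toLinearEquiv.symm w) = w := φ.toLinearEquiv.apply_symm_apply w
    rw [h3] at h2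
    exact h2
  -- the key relation
  have key : ∀ x : ↥(P.comap (extProj N σ)), ∃ c : ℂ,
      ρ' ⟨x.1.1.1, x.2⟩ = c • (x.1.1.2 : Module.End ℂ (Fin d → ℂ)) := by
    intro x
    have hT := ((mem_extGroup N σ x.1.1).mp x.1.2).1
    have hA : ∀ n : N, ρ' ⟨x.1.1.1, x.2⟩ * σ n =
        σ (MulAut.conjNormal x.1.1.1 n) * ρ' ⟨x.1.1.1, x.2⟩ := by
      intro n
      rw [← hρ'N n, ← hρ'N (MulAut.conjNormal x.1.1.1 n), ← map_mul, ← map_mul]
      congr 1
      apply Subtype.ext
      simp [MulAut.conjNormal_apply]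
    have hcomm : ∀ n : N,
        (((x.1.1.2⁻¹ : (Module.End ℂ (Fin d → ℂ))ˣ) : Module.End ℂ (Fin d → ℂ)) *
          ρ' ⟨x.1.1.1, x.2⟩) * σ n =
        σ n * (((x.1.1.2⁻¹ : (Module.End ℂ (Fin d → ℂ))ˣ) : Module.End ℂ (Fin d → ℂ)) *
          ρ' ⟨x.1.1.1, x.2⟩) := by
      intro n
      have h1 : ((x.1.1.2⁻¹ : (Module.End ℂ (Fin d → ℂ))ˣ) : Module.End ℂ (Fin d → ℂ)) *
          σ (MulAut.conjNormal x.1.1.1 n) =
          σ n * ((x.1.1.2⁻¹ : (Module.End ℂ (Fin d → ℂ))ˣ) : Module.End ℂ (Fin d → ℂ)) := by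
        rw [Units.inv_mul_eq_iff_eq_mul, ← mul_assoc, hT n, mul_assoc, Units.mul_inv, mul_one]
      rw [mul_assoc, hA n, ← mul_assoc, h1, mul_assoc]
    obtain ⟨c, hc⟩ := schur_scalar σ _ hcomm
    refine ⟨c, ?_⟩
    have h2 : ρ' ⟨x.1.1.1, x.2⟩ = (x.1.1.2 : Module.End ℂ (Fin d → ℂ)) *
        (((x.1.1.2⁻¹ : (Module.End ℂ (Fin d → ℂ))ˣ) : Module.End ℂ (Fin d → ℂ)) *
          ρ' ⟨x.1.1.1, x.2⟩) := by
      rw [← mul_assoc, Units.mul_inv, one_mul]
    rw [h2, hc, mul_smul_comm, mul_one]
  -- uniqueness of the scalar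
  have huniq : ∀ (T : (Module.End ℂ (Fin d → ℂ))ˣ) (a b : ℂ),
      a • (T : Module.End ℂ (Fin d → ℂ)) = b • (T : Module.End ℂ (Fin d → ℂ)) → a = b := by
    intro T a b h
    have h1 := congrArg (fun A => A * ((T⁻¹ : (Module.End ℂ (Fin d → ℂ))ˣ) :
      Module.End ℂ (Fin d → ℂ))) h
    simp only [smul_mul_assoc, Units.mul_inv] at h1
    exact (algebraMap ℂ (Module.End ℂ (Fin d → ℂ))).injective (by
      rw [Algebra.algebraMap_eq_smul_one, Algebra.algebraMap_eq_smul_one]; exact h1)
  choose f hf using key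
  let F : ↥(P.comap (extProj N σ)) →* ℂ :=
    { toFun := f
      map_one' := by
        apply huniq (1 : ↥(P.comap (extProj N σ))).1.1.2
        rw [← hf 1]
        have : (⟨(1 : ↥(P.comap (extProj N σ))).1.1.1, (1 : ↥(P.comap (extProj N σ))).2⟩ : P)
            = 1 := rfl
        rw [this, map_one, one_smul]
        rfl
      map_mul' := by
        intro x y
        apply huniq (x * y).1.1.2
        rw [← hf (x * y)]
        have h1 : (⟨(x * y).1.1.1, (x * y).2⟩ : P) =
            (⟨x.1.1.1, x.2⟩ : P) * ⟨y.1.1.1, y.2⟩ := rfl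
        rw [h1, map_mul, hf x, hf y, smul_mul_smul_comm]
        rfl }
  refine ⟨F.toHomUnits, fun n => ?_, fun x hx => ?_⟩
  · apply Units.ext
    rw [MonoidHom.coe_toHomUnits]
    show f ⟨extIncl N σ n, hNP n.2⟩ = 1
    apply huniq (⟨extIncl N σ n, hNP n.2⟩ : ↥(P.comap (extProj N σ))).1.1.2
    rw [← hf, one_smul]
    have h1 : ρ' ⟨(n : G), hNP n.2⟩ =
        ((σ.asGroupHom n : (Module.End ℂ (Fin d → ℂ))ˣ) : Module.End ℂ (Fin d → ℂ)) :=
      (hρ'N n).trans (Representation.asGroupHom_apply σ n).symm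
    exact h1
  · rw [MonoidHom.coe_toHomUnits]
    show f x • (x.1.1.2 : Module.End ℂ (Fin d → ℂ)) = 1
    rw [← hf x]
    have : (⟨x.1.1.1, x.2⟩ : P) = 1 := Subtype.ext hx
    rw [this, map_one]

/-- The transfer of a local homomorphism: trivial on the image of `N`, and on the scalars in the
kernel it is the inverse of the power by the index. -/
theorem exists_global_hom_pow [σ.IsIrreducible] (P : Subgroup G) (hNP : N ≤ P)
    (μ : ↥(P.comap (extProj N σ)) →* ℂˣ)
    (h1 : ∀ n : N, μ ⟨extIncl N σ n, hNP n.2⟩ = 1)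
    (h2 : ∀ x : ↥(P.comap (extProj N σ)), x.1.1.1 = 1 →
        ((μ x : ℂˣ) : ℂ) • (x.1.1.2 : Module.End ℂ (Fin d → ℂ)) = 1) :
    ∃ M : extGroup N σ →* ℂˣ, (∀ n : N, M (extIncl N σ n) = 1) ∧
      ∀ z : extGroup N σ, z.1.1 = 1 →
        ((M z : ℂˣ) : ℂ) •
          ((z.1.2 : Module.End ℂ (Fin d → ℂ)) ^ (P.comap (extProj N σ)).index) = 1 := by
  classical
  refine ⟨MonoidHom.transfer μ, fun n => ?_, fun z hz => ?_⟩
  · haveI : Fintype (Quotient (MulAction.orbitRel (Subgroup.zpowers (extIncl N σ n))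
        (extGroup N σ ⧸ P.comap (extProj N σ)))) := Fintype.ofFinite _
    rw [MonoidHom.transfer_eq_prod_quotient_orbitRel_zpowers_quot]
    apply Finset.prod_eq_one
    intro q _
    have hconj : ∀ (γ : extGroup N σ) (k : ℕ), γ⁻¹ * (extIncl N σ n) ^ k * γ =
        extIncl N σ (MulAut.conjNormal γ⁻¹.1.1 (n ^ k)) := by
      intro γ k
      have := ext_conj_extIncl N σ γ⁻¹ (n ^ k)
      rw [inv_inv, map_pow] at this
      exact this
    have hx : ∀ (x : ↥(P.comap (extProj N σ))) (m : N), (x : extGroup N σ) = extIncl N σ m →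
        μ x = 1 := by
      intro x m hxm
      have : x = ⟨extIncl N σ m, hNP m.2⟩ := Subtype.ext hxm
      rw [this]
      exact h1 m
    exact hx _ _ (hconj _ _)
  · have key : ∀ (k : ℕ) (g₀ : extGroup N σ), g₀⁻¹ * z ^ k * g₀ ∈ P.comap (extProj N σ) →
        g₀⁻¹ * z ^ k * g₀ = z ^ k := by
      intro k g₀ _
      have hc : Commute z g₀ := ext_ker_central N σ z hz g₀
      have hc' : z ^ k * g₀ = g₀ * z ^ k := (hc.pow_left k).eq
      rw [mul_assoc, hc', ← mul_assoc, inv_mul_cancel, one_mul]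
    rw [MonoidHom.transfer_eq_pow μ z key]
    have h3 := h2 ⟨z ^ (P.comap (extProj N σ)).index, MonoidHom.transfer_eq_pow_aux z key⟩ (by
      show (z ^ (P.comap (extProj N σ)).index).1.1 = 1
      rw [Subgroup.coe_pow, Prod.pow_fst, hz, one_pow])
    rw [← h3]
    congr 1

/-- The exponents `k` for which some homomorphism `extGroup N σ →* ℂˣ`, trivial on the image of
`N`, restricts to the `k`-th power on the scalars in the kernel of the projection. -/
def extExponents : AddSubgroup ℤ where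
  carrier := {k | ∃ h : extGroup N σ →* ℂˣ, (∀ n : N, h (extIncl N σ n) = 1) ∧
      ∀ z : extGroup N σ, z.1.1 = 1 →
        ((h z : ℂˣ) : ℂ) • (1 : Module.End ℂ (Fin d → ℂ)) =
          ((z.1.2 ^ k : (Module.End ℂ (Fin d → ℂ))ˣ) : Module.End ℂ (Fin d → ℂ))}
  zero_mem' := ⟨1, fun n => rfl, fun z hz => by simp⟩
  add_mem' := by
    rintro a b ⟨h, h1, h2⟩ ⟨h', h1', h2'⟩
    refine ⟨h * h', fun n => by rw [MonoidHom.mul_apply, h1, h1', one_mul], fun z hz => ?_⟩
    rw [zpow_add, Units.val_mul, ← h2 z hz, ← h2' z hz, MonoidHom.mul_apply, Units.val_mul,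
      smul_mul_smul_comm, mul_one]
  neg_mem' := by
    rintro a ⟨h, h1, h2⟩
    refine ⟨h⁻¹, fun n => by rw [MonoidHom.inv_apply, h1, inv_one], fun z hz => ?_⟩
    rw [zpow_neg, MonoidHom.inv_apply]
    apply Units.eq_inv_of_mul_eq_one_left
    rw [← h2 z hz, smul_mul_smul_comm, mul_one, ← Units.val_mul, mul_inv_cancel, Units.val_one,
      one_smul]

end Local

section Glob

variable {G : Type u} [Group G] [Finite G] (N : Subgroup G) [hN : N.Normal] {d : ℕ}
  (σ : Representation ℂ N (Fin d → ℂ))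

/-- An extension of the character of `σ` to a subgroup `P ≥ N` puts `-|G : P|` among the
exponents. -/
theorem neg_index_mem_extExponents [σ.IsIrreducible]
    (hsurj : Function.Surjective (extProj N σ)) (P : Subgroup G) (hNP : N ≤ P) (η : P → ℂ)
    (hη : IsIrrCharacter P η) (hηN : ∀ n : N, η ⟨(n : G), hNP n.2⟩ = σ.character n) :
    (-(P.index : ℤ)) ∈ extExponents N σ := by
  obtain ⟨μ, hμ1, hμ2⟩ := exists_local_hom N σ P hNP η hη hηN
  obtain ⟨M, hM1, hM2⟩ := exists_global_hom_pow N σ P hNP μ hμ1 hμ2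
  refine ⟨M, hM1, fun z hz => ?_⟩
  have h3 := hM2 z hz
  rw [Subgroup.index_comap_of_surjective _ hsurj] at h3
  rw [zpow_neg, zpow_natCast]
  apply Units.eq_inv_of_mul_eq_one_left
  rw [Units.val_pow_eq_pow_val, mul_smul_comm, mul_one]
  exact h3

/-- `-|G : N|` is always among the exponents. -/
theorem neg_index_self_mem_extExponents (hσ : σ.IsIrreducible)
    (hsurj : Function.Surjective (extProj N σ)) :
    (-(N.index : ℤ)) ∈ extExponents N σ := by
  haveI := hσ
  exact neg_index_mem_extExponents N σ hsurj N le_rfl σ.character ⟨d, σ, hσ, rfl⟩ (fun _ => rfl)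

/-- The determinant homomorphism of the extension group. -/
noncomputable def extDet : extGroup N σ →* ℂˣ :=
  (Units.map (LinearMap.det : Module.End ℂ (Fin d → ℂ) →* ℂ)).comp
    ((MonoidHom.snd G (Module.End ℂ (Fin d → ℂ))ˣ).comp (extGroup N σ).subtype)

theorem extDet_apply (γ : extGroup N σ) :
    ((extDet N σ γ : ℂˣ) : ℂ) = LinearMap.det (γ.1.2 : Module.End ℂ (Fin d → ℂ)) := rfl

theorem extDet_extIncl (n : N) :
    ((extDet N σ (extIncl N σ n) : ℂˣ) : ℂ) = LinearMap.det (σ n) := by
  rw [extDet_apply]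
  have h1 : ((extIncl N σ n).1.2 : Module.End ℂ (Fin d → ℂ)) = σ n :=
    Representation.asGroupHom_apply σ n
  rw [h1]

/-- If the determinant of `σ` extends to a homomorphism `G →* ℂˣ`, the degree `d` is among the
exponents. -/
theorem degree_mem_extExponents [σ.IsIrreducible] (μ : G →* ℂˣ)
    (hμ : ∀ n : N, ((μ n : ℂˣ) : ℂ) = LinearMap.det (σ n)) :
    (d : ℤ) ∈ extExponents N σ := by
  refine ⟨extDet N σ * (μ.comp (extProj N σ))⁻¹, fun n => ?_, fun z hz => ?_⟩
  · apply Units.ext
    rw [MonoidHom.mul_apply, MonoidHom.inv_apply, Units.val_mul, extDet_extIncl,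
      MonoidHom.comp_apply, extProj_extIncl, Units.val_one, ← hμ n, ← Units.val_mul,
      mul_inv_cancel, Units.val_one]
  · have hz' : extProj N σ z = 1 := hz
    obtain ⟨c, -, hc⟩ := ext_ker_scalar N σ z hz
    rw [MonoidHom.mul_apply, MonoidHom.inv_apply, MonoidHom.comp_apply, hz', map_one, inv_one,
      mul_one, extDet_apply, zpow_natCast, Units.val_pow_eq_pow_val, hc, LinearMap.det_smul,
      Module.finrank_fin_fun, map_one, mul_one, smul_pow, one_pow]

/-- If the determinant of `σ` has order dividing `o`, then `d * o` is among the exponents. -/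
theorem degree_mul_mem_extExponents [σ.IsIrreducible] (o : ℕ)
    (ho : ∀ n : N, LinearMap.det (σ n) ^ o = 1) :
    ((d * o : ℕ) : ℤ) ∈ extExponents N σ := by
  refine ⟨extDet N σ ^ o, fun n => ?_, fun z hz => ?_⟩
  · apply Units.ext
    rw [MonoidHom.pow_apply, Units.val_pow_eq_pow_val, extDet_extIncl, ho, Units.val_one]
  · obtain ⟨c, -, hc⟩ := ext_ker_scalar N σ z hz
    rw [MonoidHom.pow_apply, Units.val_pow_eq_pow_val, extDet_apply, zpow_natCast,
      Units.val_pow_eq_pow_val, hc, LinearMap.det_smul, Module.finrank_fin_fun, map_one, mul_one,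
      smul_pow, one_pow, pow_mul]

/-- Two coprime exponents generate everything. -/
theorem neg_one_mem_of_coprime (S : AddSubgroup ℤ) {a b : ℕ} (ha : (-(a : ℤ)) ∈ S)
    (hb : (b : ℤ) ∈ S) (hab : Nat.Coprime a b) : (-1 : ℤ) ∈ S := by
  have h1 : (1 : ℤ) = a * Nat.gcdA a b + b * Nat.gcdB a b := by
    have := Nat.gcd_eq_gcd_ab a b
    rw [hab.gcd_eq_one] at this
    exact_mod_cast this
  have ha' : (a : ℤ) ∈ S := by simpa using S.neg_mem ha
  have h2 : (1 : ℤ) ∈ S := by
    rw [h1]
    refine S.add_mem ?_ ?_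
    · have := S.zsmul_mem ha' (Nat.gcdA a b)
      rwa [smul_eq_mul, mul_comm] at this
    · have := S.zsmul_mem hb (Nat.gcdB a b)
      rwa [smul_eq_mul, mul_comm] at this
  exact S.neg_mem h2

/-- If `-1` is among the exponents, the character of `σ` extends to `G`. -/
theorem exists_extension_of_neg_one_mem (hσ : σ.IsIrreducible)
    (hsurj : Function.Surjective (extProj N σ)) (hone : (-1 : ℤ) ∈ extExponents N σ) :
    ∃ χ : G → ℂ, IsIrrCharacter G χ ∧ ∀ n : N, χ n = σ.character n := by
  classical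
  haveI := hσ
  obtain ⟨h, hh1, hh2⟩ := hone
  let ρ' : Representation ℂ (extGroup N σ) (Fin d → ℂ) :=
    { toFun := fun γ => ((h γ : ℂˣ) : ℂ) • extRep N σ γ
      map_one' := by simp
      map_mul' := by
        intro a b
        rw [map_mul, map_mul, Units.val_mul, smul_mul_smul_comm] }
  have hρ'def : ∀ γ : extGroup N σ, ρ' γ = ((h γ : ℂˣ) : ℂ) • extRep N σ γ := fun γ => rfl
  have hker : ∀ z : extGroup N σ, z.1.1 = 1 → ρ' z = 1 := by
    intro z hz
    rw [hρ'def, extRep_apply]
    have h3 := hh2 z hz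
    calc ((h z : ℂˣ) : ℂ) • (z.1.2 : Module.End ℂ (Fin d → ℂ))
        = (((h z : ℂˣ) : ℂ) • (1 : Module.End ℂ (Fin d → ℂ))) *
            (z.1.2 : Module.End ℂ (Fin d → ℂ)) := by rw [smul_mul_assoc, one_mul]
      _ = 1 := by rw [h3, zpow_neg_one, Units.inv_mul]
  have hconst : ∀ a b : extGroup N σ, extProj N σ a = extProj N σ b → ρ' a = ρ' b := by
    intro a b hab
    have h4 : a = b * (b⁻¹ * a) := by group
    have h5 : (b⁻¹ * a).1.1 = 1 := by
      show (b.1.1)⁻¹ * a.1.1 = 1
      have : a.1.1 = b.1.1 := hab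
      rw [this, inv_mul_cancel]
    rw [h4, map_mul, hker _ h5, mul_one]
  choose s hs using hsurj
  let ρ : Representation ℂ G (Fin d → ℂ) :=
    { toFun := fun g => ρ' (s g)
      map_one' := by
        rw [hconst (s 1) 1 (by rw [hs, map_one]), map_one]
      map_mul' := by
        intro a b
        rw [hconst (s (a * b)) (s a * s b) (by rw [hs, map_mul, hs, hs]), map_mul] }
  have hρ : ∀ γ : extGroup N σ, ρ (extProj N σ γ) = ρ' γ := fun γ => hconst _ _ (hs _)
  have hρN : ∀ n : N, ρ (n : G) = σ n := by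
    intro n
    have h6 := hρ (extIncl N σ n)
    rw [extProj_extIncl] at h6
    rw [h6, hρ'def, hh1, Units.val_one, one_smul, extRep_extIncl]
  have hirr : ρ.IsIrreducible := by
    apply isIrreducible_of_compRep N.subtype
    have : compRep N.subtype ρ = σ := by
      ext n : 1
      exact hρN n
    rw [this]; exact hσ
  refine ⟨ρ.character, ⟨d, ρ, hirr, rfl⟩, fun n => ?_⟩
  show LinearMap.trace ℂ _ (ρ (n : G)) = σ.character n
  rw [hρN]; rfl

theorem ext_degree_pos (hσ : σ.IsIrreducible) : 0 < d := by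
  haveI := hσ
  have := finrank_pos_of_irreducible σ
  simpa using this

/-- Extension when the determinant extends (Isaacs 6.25/8.16, the nontrivial direction): a
`G`-invariant irreducible `σ` of `N ⊴ G` whose degree is prime to `|G : N|` and whose determinant
extends to a homomorphism `G →* ℂˣ` has character extending to `G`. -/
theorem exists_extension_of_det_hom (hσ : σ.IsIrreducible)
    (hinv : ∀ g : G, cconj N g σ.character = σ.character) (hcop : Nat.Coprime N.index d)
    (μ : G →* ℂˣ) (hμ : ∀ n : N, ((μ n : ℂˣ) : ℂ) = LinearMap.det (σ n)) :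
    ∃ χ : G → ℂ, IsIrrCharacter G χ ∧ ∀ n : N, χ n = σ.character n := by
  haveI := hσ
  have hsurj := extProj_surjective N σ (ext_degree_pos N σ hσ) hinv
  exact exists_extension_of_neg_one_mem N σ hσ hsurj
    (neg_one_mem_of_coprime _ (neg_index_self_mem_extExponents N σ hσ hsurj)
      (degree_mem_extExponents N σ μ hμ) hcop)

/-- Extension for coprime determinantal order and degree (Isaacs 8.16): if `det σ` has order
dividing `o` and `|G : N|` is prime to `d * o`, the character of the invariant `σ` extends. -/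
theorem exists_extension_of_coprime_det (hσ : σ.IsIrreducible)
    (hinv : ∀ g : G, cconj N g σ.character = σ.character) (o : ℕ)
    (ho : ∀ n : N, LinearMap.det (σ n) ^ o = 1) (hcop : Nat.Coprime N.index (d * o)) :
    ∃ χ : G → ℂ, IsIrrCharacter G χ ∧ ∀ n : N, χ n = σ.character n := by
  haveI := hσ
  have hsurj := extProj_surjective N σ (ext_degree_pos N σ hσ) hinv
  exact exists_extension_of_neg_one_mem N σ hσ hsurj
    (neg_one_mem_of_coprime _ (neg_index_self_mem_extExponents N σ hσ hsurj)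
      (degree_mul_mem_extExponents N σ o ho) hcop)

/-- Coprime extension: an invariant irreducible character of a normal subgroup whose order is
prime to its index extends to the group. -/
theorem exists_extension_of_coprime_card {ϑ : N → ℂ} (hϑ : IsIrrCharacter N ϑ)
    (hinv : ∀ g : G, cconj N g ϑ = ϑ) (hcop : Nat.Coprime N.index (Nat.card N)) :
    ∃ χ : G → ℂ, IsIrrCharacter G χ ∧ ∀ n : N, χ n = ϑ n := by
  obtain ⟨d, σ, hσ, rfl⟩ := hϑ
  haveI := hσ
  have hd : d ∣ Nat.card N := by
    have := finrank_dvd_card σ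
    simpa using this
  refine exists_extension_of_coprime_det N σ hσ hinv (Nat.card N) (fun n => ?_)
    (Nat.Coprime.mul_right (Nat.Coprime.coprime_dvd_right hd hcop) hcop)
  rw [← map_pow, ← map_pow, pow_card_eq_one', map_one, map_one]

/-- Local-to-global extension: a `G`-invariant irreducible character of `N ⊴ G` which, for every
prime `p`, extends to some subgroup `P ≥ N` of index prime to `p`, extends to `G`. -/
theorem exists_extension_of_local {ϑ : N → ℂ} (hϑ : IsIrrCharacter N ϑ)
    (hinv : ∀ g : G, cconj N g ϑ = ϑ)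
    (hloc : ∀ p : ℕ, p.Prime → ∃ (P : Subgroup G) (hNP : N ≤ P) (η : P → ℂ),
      Nat.Coprime P.index p ∧ IsIrrCharacter P η ∧ ∀ n : N, η ⟨(n : G), hNP n.2⟩ = ϑ n) :
    ∃ χ : G → ℂ, IsIrrCharacter G χ ∧ ∀ n : N, χ n = ϑ n := by
  classical
  obtain ⟨d, σ, hσ, rfl⟩ := hϑ
  haveI := hσ
  have hsurj := extProj_surjective N σ (ext_degree_pos N σ hσ) hinv
  have hmem : ∀ p : ℕ, p.Prime → ∃ m : ℕ, Nat.Coprime m p ∧ (-(m : ℤ)) ∈ extExponents N σ := by
    intro p hp
    obtain ⟨P, hNP, η, hcop, hη, hηN⟩ := hloc p hp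
    exact ⟨P.index, hcop, neg_index_mem_extExponents N σ hsurj P hNP η hη hηN⟩
  have hone : (-1 : ℤ) ∈ extExponents N σ := by
    obtain ⟨a, ha⟩ := Int.subgroup_cyclic (extExponents N σ)
    have hdiv : ∀ p : ℕ, p.Prime → ∃ m : ℕ, Nat.Coprime m p ∧ a ∣ (m : ℤ) := by
      intro p hp
      obtain ⟨m, hm, hmem'⟩ := hmem p hp
      refine ⟨m, hm, ?_⟩
      rw [ha, AddSubgroup.mem_closure_singleton] at hmem'
      obtain ⟨k, hk⟩ := hmem'
      rw [smul_eq_mul] at hk
      exact ⟨-k, by linarith⟩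
    have hunit : a.natAbs = 1 := by
      by_contra hne
      by_cases h0 : a.natAbs = 0
      · obtain ⟨m, hm, hdvd⟩ := hdiv 2 Nat.prime_two
        have ha0 : a = 0 := Int.natAbs_eq_zero.mp h0
        rw [ha0, zero_dvd_iff] at hdvd
        have hm0 : m = 0 := by exact_mod_cast hdvd
        rw [hm0] at hm
        simp at hm
      · obtain ⟨q, hq, hqa⟩ := Nat.exists_prime_and_dvd hne
        obtain ⟨m, hm, hdvd⟩ := hdiv q hq
        have h1 : (q : ℤ) ∣ (m : ℤ) := dvd_trans (Int.natCast_dvd.mpr hqa) hdvd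
        have h2 : q ∣ m := by exact_mod_cast h1
        have h3 : q = 1 := Nat.Coprime.eq_one_of_dvd hm.symm h2
        exact hq.one_lt.ne' h3
    rw [ha, AddSubgroup.mem_closure_singleton]
    rcases Int.natAbs_eq a with h | h
    · exact ⟨-1, by rw [h, hunit]; simp⟩
    · exact ⟨1, by rw [h, hunit]; simp⟩
  exact exists_extension_of_neg_one_mem N σ hσ hsurj hone

end Glob

end Cfsg.Agent.Lib.helper82
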