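import Mathlib
import Cfsg.Agent.Lib.helper2.BFDefs
import Cfsg.Agent.Lib.helper82.BFA1
import Cfsg.Agent.Lib.helper97.BFA2a
import Cfsg.Agent.Lib.helper18.BFA2b
import Cfsg.Agent.Lib.helper81.CharOrtho
import Cfsg.Agent.Lib.helper46.D1EGH

/-!
# S4503, piece A2c (`class_sum_congr`)

`P` a Sylow `p`-subgroup of order `p`, `1 ≠ x ∈ P`, `χ` irreducible of degree `< p`, `A` the set of
`b` with `ζ^b` an eigenvalue of `x` in `χ`.  For `a, a' ∈ A` the Gaussian periods `γ_a`, `γ_{a'}`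
(with respect to the image `H` of `N_G(P)` in `(ℤ/p)ˣ`) are congruent modulo `(ζ - 1)^{p - |A|}`.
-/

set_option autoImplicit false

open Cfsg Cfsg.Agent.Lib.helper20.D1E
open scoped ComplexConjugate

namespace Cfsg.Agent.Lib.helper2.BF

variable {G : Type*} [Group G] [Fintype G]

/-- `F_Q(g) = Σ_k Q_k χ(x^k g)`. -/
noncomputable def helper82_F (x : G) (χ : G → ℂ) (Q : Polynomial ℂ) (g : G) : ℂ :=
  ∑ k ∈ Finset.range (Q.natDegree + 1), Q.coeff k * χ (x ^ k * g)

theorem helper82_F_pow (p : ℕ) [Fact p.Prime] (x : G) (hxp : x ^ p = 1) (χ : G → ℂ)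
    (Q : Polynomial ℂ) (m : ℕ) :
    helper82_F x χ Q (x ^ m)
      = ∑ b : ZMod p, mu p x χ b * zeta p ^ (b.val * m) * Q.eval (zeta p ^ b.val) := by
  unfold helper82_F
  have h1 : ∀ k ∈ Finset.range (Q.natDegree + 1), Q.coeff k * χ (x ^ k * x ^ m)
      = ∑ b : ZMod p, mu p x χ b * zeta p ^ (b.val * m) * (Q.coeff k * (zeta p ^ b.val) ^ k) := by
    intro k _
    rw [← pow_add, mu_expand p x hxp χ (k + m), Finset.mul_sum]
    refine Finset.sum_congr rfl fun b _ => ?_
    rw [← pow_mul, mul_add, pow_add]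
    ring
  rw [Finset.sum_congr rfl h1, Finset.sum_comm]
  refine Finset.sum_congr rfl fun b _ => ?_
  rw [← Finset.mul_sum, Polynomial.eval_eq_sum_range]

theorem helper82_F_class (x : G) (χ : IrrCharacter G) (Q : Polynomial ℂ) :
    ∑ g : G, Set.indicator {g : G | IsConj x g} (helper82_F x (χ : G → ℂ) Q) g
      = (∑ g : G, Set.indicator {g : G | IsConj x g} (fun _ => (1 : ℂ)) g * (χ : G → ℂ) g)
          / (χ : G → ℂ) 1 * helper82_F x (χ : G → ℂ) Q 1 := by
  classical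
  have hcf : IsClassFunction G (Set.indicator {g : G | IsConj x g} (fun _ => (1 : ℂ))) := by
    intro g h
    have hiff : IsConj x (h * g * h⁻¹) ↔ IsConj x g := by
      constructor
      · intro h1
        exact h1.trans (isConj_iff.2 ⟨h⁻¹, by group⟩)
      · intro h1
        exact h1.trans (isConj_iff.2 ⟨h, rfl⟩)
    simp only [Set.indicator_apply, Set.mem_ofPred_eq, hiff]
  have h1 : ∀ g : G, Set.indicator {g : G | IsConj x g} (helper82_F x (χ : G → ℂ) Q) g
      = ∑ k ∈ Finset.range (Q.natDegree + 1), Q.coeff k *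
          (Set.indicator {g : G | IsConj x g} (fun _ => (1 : ℂ)) g *
            (χ : G → ℂ) (g * x ^ k)) := by
    intro g
    have hsw : ∀ k : ℕ, (χ : G → ℂ) (x ^ k * g) = (χ : G → ℂ) (g * x ^ k) := by
      intro k
      have h2 := Cfsg.Agent.Lib.helper81.irr_classFun χ (g * x ^ k) (x ^ k)
      rw [← h2]
      group
    by_cases hg : IsConj x g
    · rw [Set.indicator_of_mem (by exact hg), Set.indicator_of_mem (by exact hg)]
      unfold helper82_F
      refine Finset.sum_congr rfl fun k _ => ?_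
      rw [hsw k, one_mul]
    · rw [Set.indicator_of_notMem (by exact hg), Set.indicator_of_notMem (by exact hg)]
      simp
  rw [Finset.sum_congr rfl (fun g _ => h1 g), Finset.sum_comm]
  have h2 : ∀ k ∈ Finset.range (Q.natDegree + 1),
      ∑ g : G, Q.coeff k * (Set.indicator {g : G | IsConj x g} (fun _ => (1 : ℂ)) g *
          (χ : G → ℂ) (g * x ^ k))
       = (∑ g : G, Set.indicator {g : G | IsConj x g} (fun _ => (1 : ℂ)) g * (χ : G → ℂ) g)
          / (χ : G → ℂ) 1 * (Q.coeff k * (χ : G → ℂ) (x ^ k * 1)) := by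
    intro k _
    rw [← Finset.mul_sum, Cfsg.Agent.Lib.helper81.irr_sum_shift χ hcf (x ^ k), mul_one]
    ring
  rw [Finset.sum_congr rfl h2, ← Finset.mul_sum]
  rfl

theorem helper82_coeff_int {ι : Type*} (S : Finset ι) (f : ι → ℂ)
    (hf : ∀ i ∈ S, IsIntegral ℤ (f i)) (k : ℕ) :
    IsIntegral ℤ ((∏ i ∈ S, (Polynomial.X - Polynomial.C (f i))).coeff k) := by
  classical
  induction S using Finset.induction_on generalizing k with
  | empty =>
    rw [Finset.prod_empty, Polynomial.coeff_one]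
    split_ifs
    · exact isIntegral_one
    · exact isIntegral_zero
  | insert i S hi ih =>
    rw [Finset.prod_insert hi, sub_mul, Polynomial.coeff_sub, Polynomial.coeff_C_mul]
    have ih' := fun k => ih (fun j hj => hf j (Finset.mem_insert_of_mem hj)) k
    have hfi := hf i (Finset.mem_insert_self i S)
    cases k with
    | zero =>
      rw [Polynomial.coeff_X_mul_zero]
      exact isIntegral_zero.sub (hfi.mul (ih' 0))
    | succ k =>
      rw [Polynomial.coeff_X_mul]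
      exact (ih' k).sub (hfi.mul (ih' (k + 1)))

theorem helper82_prod_unit (p : ℕ) [Fact p.Prime] (a : ZMod p) (L : Finset (ZMod p))
    (haL : a ∉ L) :
    ∃ u v : ℂ, IsIntegral ℤ u ∧ IsIntegral ℤ v ∧ u * v = 1 ∧
      ∏ b ∈ L, (zeta p ^ a.val - zeta p ^ b.val) = (zeta p - 1) ^ L.card * u := by
  classical
  induction L using Finset.induction_on with
  | empty => exact ⟨1, 1, isIntegral_one, isIntegral_one, one_mul 1, by simp⟩
  | insert b L hb ih =>
    have hab : a ≠ b := fun h => haL (h ▸ Finset.mem_insert_self _ _)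
    obtain ⟨u, v, hu, hv, huv, h⟩ := ih (fun h => haL (Finset.mem_insert_of_mem h))
    obtain ⟨u', v', hu', hv', huv', h'⟩ := zeta_sub_unit p a b hab
    refine ⟨u' * u, v' * v, hu'.mul hu, hv'.mul hv, ?_, ?_⟩
    · calc u' * u * (v' * v) = (u' * v') * (u * v) := by ring
        _ = 1 := by rw [huv, huv', one_mul]
    · rw [Finset.prod_insert hb, h, h', Finset.card_insert_of_notMem hb, pow_succ]
      ring

theorem helper82_sum_CP (p : ℕ) [Fact p.Prime] (P : Sylow p G) (hP : Nat.card P = p)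
    (x : G) (hx : x ∈ (P : Subgroup G)) (hx1 : x ≠ 1) (Hf : Finset (ZMod p)ˣ)
    (hH : ∀ r : (ZMod p)ˣ, r ∈ Hf ↔ ∃ n : G, n * x * n⁻¹ = x ^ ((r : ZMod p).val))
    (F : G → ℂ) :
    ∑ g : G, Set.indicator {g : G | IsConj x g ∧ g ∈ (P : Subgroup G)} F g
      = ∑ h ∈ Hf, F (x ^ ((h : ZMod p).val)) := by
  classical
  have hp : p.Prime := Fact.out
  obtain ⟨hPx, hxo⟩ := Cfsg.Agent.Lib.helper46.d1gs_eq_zpowers p (P : Subgroup G) hP x hx hx1
  have h1 : ∑ g : G, Set.indicator {g : G | IsConj x g ∧ g ∈ (P : Subgroup G)} F g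
      = ∑ g ∈ Finset.univ.filter (fun g : G => IsConj x g ∧ g ∈ (P : Subgroup G)), F g := by
    rw [Finset.sum_filter]
    refine Finset.sum_congr rfl fun g _ => ?_
    rw [Set.indicator_apply]
    rfl
  rw [h1]
  symm
  refine Finset.sum_bij (fun h _ => x ^ ((h : ZMod p).val)) ?_ ?_ ?_ ?_
  · intro h hh
    rw [Finset.mem_filter]
    obtain ⟨n, hn⟩ := (hH h).1 hh
    exact ⟨Finset.mem_univ _, isConj_iff.2 ⟨n, hn⟩, Subgroup.pow_mem _ hx _⟩
  · intro h₁ _ h₂ _ he
    exact Cfsg.Agent.Lib.helper46.D1E.d1egh_pow_inj p x hxo h₁ h₂ he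
  · intro g hg
    rw [Finset.mem_filter] at hg
    obtain ⟨-, hc, hgP⟩ := hg
    have hg1 : g ≠ 1 := by
      rintro rfl
      exact hx1 (isConj_one_left.1 hc)
    obtain ⟨u, hu, hgu⟩ := Cfsg.Agent.Lib.helper46.D1E.exists_pow_eq p P hP x hx hx1 g hgP hg1
    have hu0 : (u : ZMod p) ≠ 0 := by
      rw [Ne, ZMod.natCast_eq_zero_iff]
      exact hu
    have hr : x ^ (((Units.mk0 (u : ZMod p) hu0 : (ZMod p)ˣ) : ZMod p).val) = g := by
      rw [hgu]
      change x ^ ((u : ZMod p).val) = x ^ u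
      rw [ZMod.val_natCast, ← hxo, pow_mod_orderOf]
    refine ⟨Units.mk0 (u : ZMod p) hu0, (hH _).2 ?_, hr⟩
    obtain ⟨n, hn⟩ := isConj_iff.1 hc
    exact ⟨n, hn.trans hr.symm⟩
  · intro h _
    rfl

theorem helper82_gper_eq (p : ℕ) [Fact p.Prime] (H : Subgroup (ZMod p)ˣ) (b : ZMod p)
    (Hf : Finset (ZMod p)ˣ) (hHf : ∀ r : (ZMod p)ˣ, r ∈ Hf ↔ r ∈ H) :
    gper p H b = ∑ h ∈ Hf, zeta p ^ (b.val * (h : ZMod p).val) := by
  have hset : (H : Set (ZMod p)ˣ) = ((Hf : Finset (ZMod p)ˣ) : Set (ZMod p)ˣ) := by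
    ext r
    simp [hHf]
  unfold gper
  rw [hset, finsum_mem_coe_finset]
  refine Finset.sum_congr rfl fun h _ => ?_
  rw [ZMod.val_mul]
  exact (pow_eq_pow_mod _ (Cfsg.Agent.Lib.helper18.h18_zeta_pow_p p)).symm

theorem helper82_gper_int (p : ℕ) [Fact p.Prime] (H : Subgroup (ZMod p)ˣ) (b : ZMod p) :
    IsIntegral ℤ (gper p H b) := by
  classical
  rw [helper82_gper_eq p H b (Finset.univ.filter (fun h => h ∈ H)) (fun r => by simp)]
  exact IsIntegral.sum _ (fun h _ => (Cfsg.Agent.Lib.helper18.h18_zeta_int p).pow _)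

/-- The key congruence for one eigenvalue. -/
theorem helper82_key (p : ℕ) [Fact p.Prime] (P : Sylow p G) (hP : Nat.card P = p)
    (x : G) (hx : x ∈ (P : Subgroup G)) (hx1 : x ≠ 1) (H : Subgroup (ZMod p)ˣ)
    (hH : ∀ r : (ZMod p)ˣ, r ∈ H ↔ ∃ n : G, n * x * n⁻¹ = x ^ ((r : ZMod p).val))
    (χ : IrrCharacter G) (a : ZMod p) (ha : mu p x (χ : G → ℂ) a ≠ 0) :
    ∃ W : ℂ, IsIntegral ℤ W ∧
      mu p x (χ : G → ℂ) a *
        ((∑ g : G, Set.indicator {g : G | IsConj x g} (fun _ => (1 : ℂ)) g * (χ : G → ℂ) g)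
          / (χ : G → ℂ) 1 - gper p H a)
      = (zeta p - 1) ^ (p - Nat.card {b : ZMod p // mu p x (χ : G → ℂ) b ≠ 0}) * W := by
  classical
  have hp : p.Prime := Fact.out
  obtain ⟨hPx, hxo⟩ := Cfsg.Agent.Lib.helper46.d1gs_eq_zpowers p (P : Subgroup G) hP x hx hx1
  have hxp : x ^ p = 1 := by rw [← hxo]; exact pow_orderOf_eq_one x
  have hzint : IsIntegral ℤ (zeta p) := Cfsg.Agent.Lib.helper18.h18_zeta_int p
  have hz1 : zeta p - 1 ≠ 0 := sub_ne_zero.2 (Cfsg.Agent.Lib.helper18.h18_zeta_ne_one p)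
  generalize hc₀ : (∑ g : G, Set.indicator {g : G | IsConj x g} (fun _ => (1 : ℂ)) g *
      (χ : G → ℂ) g) / (χ : G → ℂ) 1 = c₀
  set A : Finset (ZMod p) := Finset.univ.filter (fun b => mu p x (χ : G → ℂ) b ≠ 0) with hA
  have hcard : Nat.card {b : ZMod p // mu p x (χ : G → ℂ) b ≠ 0} = A.card := by
    rw [Nat.card_eq_fintype_card, Fintype.card_subtype]
  have haA : a ∈ A := by
    rw [hA, Finset.mem_filter]
    exact ⟨Finset.mem_univ _, ha⟩
  set L : Finset (ZMod p) := A.erase a with hL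
  have hLcard : L.card + 1 = A.card := Finset.card_erase_add_one haA
  have hAle : A.card ≤ p := by
    have h := Finset.card_le_univ A
    rwa [ZMod.card] at h
  set Q : Polynomial ℂ := ∏ b ∈ L, (Polynomial.X - Polynomial.C (zeta p ^ b.val)) with hQ
  have hQcoeff : ∀ k, IsIntegral ℤ (Q.coeff k) := fun k =>
    helper82_coeff_int L (fun b => zeta p ^ b.val) (fun b _ => hzint.pow _) k
  have hQeval : ∀ c : ZMod p,
      Q.eval (zeta p ^ c.val) = ∏ b ∈ L, (zeta p ^ c.val - zeta p ^ b.val) := by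
    intro c
    rw [hQ, Polynomial.eval_prod]
    refine Finset.prod_congr rfl fun b _ => ?_
    rw [Polynomial.eval_sub, Polynomial.eval_X, Polynomial.eval_C]
  obtain ⟨u, v, hu, hv, huv, hq⟩ := helper82_prod_unit p a L (Finset.notMem_erase a A)
  set q : ℂ := ∏ b ∈ L, (zeta p ^ a.val - zeta p ^ b.val) with hqdef
  set F : G → ℂ := helper82_F x (χ : G → ℂ) Q with hF
  have hFint : ∀ g, IsIntegral ℤ (F g) := by
    intro g
    rw [hF]
    unfold helper82_F
    exact IsIntegral.sum _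
      (fun k _ => (hQcoeff k).mul (Cfsg.Agent.Lib.helper81.irr_isIntegral χ _))
  have hFinv : ∀ g, F (x * g * x⁻¹) = F g := by
    intro g
    rw [hF]
    unfold helper82_F
    refine Finset.sum_congr rfl fun k _ => ?_
    congr 1
    have h1 : x ^ k * (x * g * x⁻¹) = x * (x ^ k * g) * x⁻¹ := by
      rw [← mul_assoc, ← mul_assoc, ← pow_succ, pow_succ', mul_assoc x]
    rw [h1]
    exact Cfsg.Agent.Lib.helper81.irr_classFun χ (x ^ k * g) x
  have hFpow : ∀ m : ℕ, F (x ^ m) = mu p x (χ : G → ℂ) a * zeta p ^ (a.val * m) * q := by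
    intro m
    rw [hF, helper82_F_pow p x hxp (χ : G → ℂ) Q m]
    rw [Finset.sum_eq_single a]
    · rw [hQeval a]
    · intro b _ hba
      by_cases hb : mu p x (χ : G → ℂ) b = 0
      · rw [hb, zero_mul, zero_mul]
      · have hbL : b ∈ L := by
          rw [hL, Finset.mem_erase, hA, Finset.mem_filter]
          exact ⟨hba, Finset.mem_univ _, hb⟩
        rw [hQeval b, Finset.prod_eq_zero (f := fun c : ZMod p => zeta p ^ b.val - zeta p ^ c.val) hbL
          (sub_self _), mul_zero]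
    · intro h
      exact absurd (Finset.mem_univ a) h
  obtain ⟨w₁, hw₁, hoff⟩ := sum_class_off_P p P hP x hx hx1 F hFint hFinv
  have hclass := helper82_F_class x χ Q
  rw [hc₀] at hclass
  have hF1 : F 1 = mu p x (χ : G → ℂ) a * q := by
    have h := hFpow 0
    rwa [pow_zero, mul_zero, pow_zero, mul_one] at h
  set Hf : Finset (ZMod p)ˣ := Finset.univ.filter (fun h => h ∈ H) with hHf
  have hHf1 : ∀ r : (ZMod p)ˣ, r ∈ Hf ↔ r ∈ H := by
    intro r
    rw [hHf, Finset.mem_filter]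
    simp
  have hHf' : ∀ r : (ZMod p)ˣ, r ∈ Hf ↔ ∃ n : G, n * x * n⁻¹ = x ^ ((r : ZMod p).val) := by
    intro r
    rw [hHf1 r, hH r]
  have hCP := helper82_sum_CP p P hP x hx hx1 Hf hHf' F
  have hg := helper82_gper_eq p H a Hf hHf1
  have hsplit : ∑ g : G, Set.indicator {g : G | IsConj x g} F g
      = ∑ g : G, Set.indicator {g : G | IsConj x g ∧ g ∉ (P : Subgroup G)} F g
        + ∑ g : G, Set.indicator {g : G | IsConj x g ∧ g ∈ (P : Subgroup G)} F g := by
    rw [← Finset.sum_add_distrib]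
    refine Finset.sum_congr rfl fun g _ => ?_
    by_cases h1 : IsConj x g <;> by_cases h2 : g ∈ (P : Subgroup G) <;>
      simp [Set.indicator_apply, h2]
  have hmain : mu p x (χ : G → ℂ) a * q * (c₀ - gper p H a) = (p : ℂ) * w₁ := by
    have e1 : ∑ g : G, Set.indicator {g : G | IsConj x g ∧ g ∈ (P : Subgroup G)} F g
        = mu p x (χ : G → ℂ) a * q * gper p H a := by
      rw [hCP, hg, Finset.mul_sum]
      refine Finset.sum_congr rfl fun h _ => ?_
      rw [hFpow]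
      ring
    have e2 : ∑ g : G, Set.indicator {g : G | IsConj x g} F g
        = c₀ * (mu p x (χ : G → ℂ) a * q) := by
      rw [← hF1]
      exact hclass
    rw [e1, e2, hoff] at hsplit
    linear_combination hsplit
  obtain ⟨up, vp, hup, hvp, hupvp, hpu⟩ := p_eq_unit p
  refine ⟨v * up * w₁, (hv.mul hup).mul hw₁, ?_⟩
  rw [hcard]
  rw [hq, hpu] at hmain
  have hpow : (zeta p - 1) ^ (p - 1) = (zeta p - 1) ^ L.card * (zeta p - 1) ^ (p - A.card) := by
    rw [← pow_add]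
    congr 1
    omega
  rw [hpow] at hmain
  have hcancel : mu p x (χ : G → ℂ) a * u * (c₀ - gper p H a)
      = (zeta p - 1) ^ (p - A.card) * up * w₁ := by
    apply mul_left_cancel₀ (pow_ne_zero L.card hz1)
    linear_combination hmain
  calc mu p x (χ : G → ℂ) a * (c₀ - gper p H a)
      = (u * v) * (mu p x (χ : G → ℂ) a * (c₀ - gper p H a)) := by rw [huv, one_mul]
    _ = v * (mu p x (χ : G → ℂ) a * u * (c₀ - gper p H a)) := by ring
    _ = (zeta p - 1) ^ (p - A.card) * (v * up * w₁) := by rw [hcancel]; ring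

/-- A2c (the class sum congruence). -/
theorem class_sum_congr (p : ℕ) [Fact p.Prime] (P : Sylow p G) (hP : Nat.card P = p)
    (x : G) (hx : x ∈ (P : Subgroup G)) (hx1 : x ≠ 1) (H : Subgroup (ZMod p)ˣ)
    (hH : ∀ r : (ZMod p)ˣ, r ∈ H ↔ ∃ n : G, n * x * n⁻¹ = x ^ ((r : ZMod p).val))
    (χ : IrrCharacter G) (hdeg : charDegree (χ : G → ℂ) < p) (a a' : ZMod p)
    (ha : mu p x (χ : G → ℂ) a ≠ 0) (ha' : mu p x (χ : G → ℂ) a' ≠ 0) :
    ∃ w : ℂ, IsIntegral ℤ w ∧ gper p H a - gper p H a' =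
      (zeta p - 1) ^ (p - Nat.card {b : ZMod p // mu p x (χ : G → ℂ) b ≠ 0}) * w := by
  classical
  have hp : p.Prime := Fact.out
  obtain ⟨hPx, hxo⟩ := Cfsg.Agent.Lib.helper46.d1gs_eq_zpowers p (P : Subgroup G) hP x hx hx1
  have hxp : x ^ p = 1 := by rw [← hxo]; exact pow_orderOf_eq_one x
  have hχ := Cfsg.Agent.Lib.helper81.irr_isCharacter χ
  choose d hd using fun b : ZMod p => mu_nat p x hxp (χ : G → ℂ) hχ b
  have hsum : (charDegree (χ : G → ℂ) : ℂ) = ∑ b : ZMod p, (d b : ℂ) := by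
    rw [← Cfsg.Agent.Lib.helper81.irr_one_eq_charDegree χ]
    have h := mu_expand p x hxp (χ : G → ℂ) 0
    rw [pow_zero] at h
    rw [h]
    refine Finset.sum_congr rfl fun b _ => ?_
    rw [mul_zero, pow_zero, mul_one, hd b]
  have hsumN : charDegree (χ : G → ℂ) = ∑ b : ZMod p, d b := by
    have h : ((charDegree (χ : G → ℂ) : ℕ) : ℂ) = ((∑ b : ZMod p, d b : ℕ) : ℂ) := by
      rw [hsum, Nat.cast_sum]
    exact_mod_cast h
  have hdlt : ∀ b : ZMod p, d b < p := by
    intro b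
    have h : d b ≤ ∑ b : ZMod p, d b :=
      Finset.single_le_sum (fun _ _ => Nat.zero_le _) (Finset.mem_univ b)
    omega
  have hda : d a ≠ 0 := by
    intro h
    apply ha
    rw [hd a, h, Nat.cast_zero]
  have hda' : d a' ≠ 0 := by
    intro h
    apply ha'
    rw [hd a', h, Nat.cast_zero]
  have hnd : ∀ b : ZMod p, d b ≠ 0 → ¬ p ∣ d b := by
    intro b hb hdvd
    have := Nat.le_of_dvd (Nat.pos_of_ne_zero hb) hdvd
    have := hdlt b
    omega
  have hcop : Nat.Coprime (d a * d a') p := by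
    apply Nat.Coprime.symm
    rw [Nat.Prime.coprime_iff_not_dvd hp]
    intro hdvd
    rcases (Nat.Prime.dvd_mul hp).1 hdvd with h | h
    · exact hnd a hda h
    · exact hnd a' hda' h
  obtain ⟨r, s, hrs⟩ := Nat.isCoprime_iff_coprime.2 hcop
  have hC : (r : ℂ) * ((d a : ℂ) * (d a' : ℂ)) + (s : ℂ) * (p : ℂ) = 1 := by
    exact_mod_cast hrs
  obtain ⟨W, hW, hk⟩ := helper82_key p P hP x hx hx1 H hH χ a ha
  obtain ⟨W', hW', hk'⟩ := helper82_key p P hP x hx hx1 H hH χ a' ha'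
  rw [hd a] at hk
  rw [hd a'] at hk'
  obtain ⟨up, vp, hup, hvp, hupvp, hpu⟩ := p_eq_unit p
  have hpos : 0 < Nat.card {b : ZMod p // mu p x (χ : G → ℂ) b ≠ 0} :=
    Nat.card_pos_iff.2 ⟨⟨⟨a, ha⟩⟩, inferInstance⟩
  generalize Nat.card {b : ZMod p // mu p x (χ : G → ℂ) b ≠ 0} = N at hk hk' hpos ⊢
  generalize (∑ g : G, Set.indicator {g : G | IsConj x g} (fun _ => (1 : ℂ)) g *
      (χ : G → ℂ) g) / (χ : G → ℂ) 1 = c₀ at hk hk'
  have hpow : (zeta p - 1) ^ (p - 1) = (zeta p - 1) ^ (p - N) * (zeta p - 1) ^ (p - 1 - (p - N)) := by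
    rw [← pow_add]
    congr 1
    omega
  have hzint : IsIntegral ℤ (zeta p) := Cfsg.Agent.Lib.helper18.h18_zeta_int p
  have hπ : IsIntegral ℤ (zeta p - 1) := hzint.sub isIntegral_one
  have hr : IsIntegral ℤ (r : ℂ) := by
    have h := isIntegral_algebraMap (R := ℤ) (A := ℂ) (x := r)
    simpa using h
  have hs : IsIntegral ℤ (s : ℂ) := by
    have h := isIntegral_algebraMap (R := ℤ) (A := ℂ) (x := s)
    simpa using h
  have hdi : ∀ b : ZMod p, IsIntegral ℤ ((d b : ℕ) : ℂ) := by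
    intro b
    have h := isIntegral_algebraMap (R := ℤ) (A := ℂ) (x := (d b : ℤ))
    simpa using h
  refine ⟨(r : ℂ) * ((d a : ℂ) * W' - (d a' : ℂ) * W)
      + (s : ℂ) * ((zeta p - 1) ^ (p - 1 - (p - N)) * up * (gper p H a - gper p H a')), ?_, ?_⟩
  · exact (hr.mul (((hdi a).mul hW').sub ((hdi a').mul hW))).add
      (hs.mul (((hπ.pow _).mul hup).mul
        ((helper82_gper_int p H a).sub (helper82_gper_int p H a'))))
  · rw [hpow] at hpu
    linear_combination (r * d a) * hk' - (r * d a') * hk - (gper p H a - gper p H a') * hC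
      + (s * (gper p H a - gper p H a')) * hpu

end Cfsg.Agent.Lib.helper2.BF
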