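import Mathlib
import Cfsg.Agent.Lib.helper16.U34CDefs

/-!
# S1903, piece D5: `SU 3 F 4` has trivial centre, so the centralizer of an involution of
`SU 3 F 4` is (isomorphic to) the centralizer of an involution of `PSU 3 F 4`.
-/

set_option autoImplicit false
set_option linter.unusedSectionVars false
set_option linter.unusedVariables false

namespace Cfsg.Agent.Lib.helper16.U34C

open Cfsg
open scoped commutatorElement
open Cfsg.Agent.Lib.helper58 Cfsg.Agent.Lib.helper7

/-- Transport of the centralizer of an element along a group isomorphism. -/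
theorem helper82_centralizer_equiv {G H : Type*} [Group G] [Group H] (e : G ≃* H) (g : G) :
    Nonempty (↥(Subgroup.centralizer ({e g} : Set H)) ≃* ↥(Subgroup.centralizer ({g} : Set G))) := by
  have hmap : (Subgroup.centralizer ({g} : Set G)).map e.toMonoidHom =
      Subgroup.centralizer ({e g} : Set H) := by
    ext y
    simp only [Subgroup.mem_map, Subgroup.mem_centralizer_iff, Set.mem_singleton_iff, forall_eq,
      MulEquiv.coe_toMonoidHom]
    constructor
    · rintro ⟨x, hx, rfl⟩
      rw [← map_mul, ← map_mul, hx]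
    · intro hy
      refine ⟨e.symm y, ?_, e.apply_symm_apply y⟩
      apply e.injective
      rw [map_mul, map_mul, e.apply_symm_apply]
      exact hy
  exact ⟨((e.subgroupMap (Subgroup.centralizer ({g} : Set G))).trans
    (MulEquiv.subgroupCongr hmap)).symm⟩

/-- PIECE D5 -/
theorem psu_of_su {F : Type*} [Field F] [Fintype F] (hF : Fintype.card F = 16)
    (τ : ↥(SU 3 F 4)) (h2 : orderOf τ = 2) :
    ∃ t : Cfsg.PSU 3 F 4, orderOf t = 2 ∧
      Nonempty (↥(Subgroup.centralizer ({t} : Set (Cfsg.PSU 3 F 4))) ≃*
        ↥(Subgroup.centralizer ({τ} : Set ↥(SU 3 F 4)))) := by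
  have hc : Nat.card (Subgroup.center (SU 3 F 4)) = 1 := by
    rw [card_center_SU (card16 hF) 3 (by norm_num)]
    decide
  have hbot : Subgroup.center (SU 3 F 4) = ⊥ := Subgroup.card_eq_one.mp hc
  let e : ↥(SU 3 F 4) ≃* Cfsg.PSU 3 F 4 :=
    (QuotientGroup.quotientBot (G := ↥(SU 3 F 4))).symm.trans
      (QuotientGroup.quotientMulEquivOfEq hbot.symm)
  refine ⟨e τ, ?_, helper82_centralizer_equiv e τ⟩
  rw [MulEquiv.orderOf_eq, h2]

end Cfsg.Agent.Lib.helper16.U34C
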