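import Mathlib
import Cfsg.Prelude.Def_Characters
import Cfsg.Prelude.Def_Blocks
import Cfsg.Agent.Lib.helper84.BrDefs
import Cfsg.Agent.Lib.helper81.WBO

/-!
# S0997 piece T1 (`two_prime_rel`)

Weak block orthogonality for a `q`-block `B'` at a non-identity element `x` of the Sylow
`p`-subgroup `P` (which is `q`-regular) and a `q`-singular element `y`, rewritten with the
principal `p`-block data `D` (`D.vanish`, `D.val_X`).
-/

set_option autoImplicit false

namespace Cfsg.Agent.Lib.helper82.BU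

open Cfsg Cfsg.Agent.Lib.helper81 Cfsg.Agent.Lib.helper84.Br
open scoped ComplexConjugate

universe u

variable {G : Type u} [Group G] [Fintype G]

variable {p : ℕ} [Fact p.Prime] {P : Sylow p G} {e : ℕ}

/-- T1 : weak block orthogonality for a `q`-block `B'` at (`x ∈ P ∖ 1`, `y` `q`-singular). -/
theorem two_prime_rel (D : Data G p P e) (q : ℕ) (hpq : p ≠ q)
    (M' : Ideal AlgInt) (hM' : IsPModular q M') (B' : Set (IrrCharacter G))
    [DecidablePred (· ∈ B')] (hB' : IsPBlock M' B')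
    (x : G) (hx : x ∈ (P : Subgroup G)) (hx1 : x ≠ 1) (y : G) (hy : q ∣ orderOf y) :
    ∑ χ ∈ D.X.filter (· ∈ B'), (D.δ χ : ℂ) * conj ((χ : G → ℂ) y) +
      ∑ θ ∈ D.Y.filter (· ∈ B'), (θ : G → ℂ) x * conj ((θ : G → ℂ) y) = 0 := by
  classical
  have hMp : M'.IsPrime := Cfsg.Agent.Lib.helper20.isPrime_of_isPModular hM'
  have hq : q.Prime := hM'.1
  have hp : p.Prime := Fact.out
  have hxq : ¬ q ∣ orderOf x := by
    intro hdvd
    obtain ⟨k, hk⟩ := P.2 ⟨x, hx⟩
    have hk' : x ^ p ^ k = 1 := by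
      have := congrArg (Subtype.val) hk
      simpa using this
    have h1 : orderOf x ∣ p ^ k := orderOf_dvd_of_pow_eq_one hk'
    have h2 : q ∣ p ^ k := dvd_trans hdvd h1
    have h3 : q ∣ p := hq.dvd_of_dvd_pow h2
    exact hpq ((Nat.prime_dvd_prime_iff_eq hq hp).mp h3).symm
  have h := wbo hM' (fun g => memLocalRing_blockCoeff hMp hB' g) hxq hy
  rw [← h]
  set f : IrrCharacter G → ℂ :=
    fun χ => if χ ∈ B' then (χ : G → ℂ) x * conj ((χ : G → ℂ) y) else 0 with hf
  have hsub : ∑ χ : IrrCharacter G, f χ = ∑ χ ∈ D.X ∪ D.Y, f χ := by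
    symm
    apply Finset.sum_subset (Finset.subset_univ _)
    intro ψ _ hψ
    rw [Finset.mem_union, not_or] at hψ
    simp only [hf]
    split_ifs
    · rw [D.vanish ψ hψ.1 hψ.2 x hx hx1, zero_mul]
    · rfl
  rw [hsub, Finset.sum_union D.disj]
  congr 1
  · rw [Finset.sum_filter]
    refine Finset.sum_congr rfl (fun χ hχ => ?_)
    simp only [hf]
    split_ifs
    · rw [D.val_X χ hχ x hx hx1]
    · rfl
  · rw [Finset.sum_filter]

end Cfsg.Agent.Lib.helper82.BU
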