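import Mathlib
import Cfsg.Prelude.Def_Characters
import Cfsg.Prelude.Def_Blocks
import Cfsg.Agent.Lib.helper82.ExtSylow
import Cfsg.Agent.Lib.helper84.Brauer

/-!
# Coprime actions of `p`-groups on characters: basic tools (helper82)

`X` is a subgroup of `MulAut G`.
* `fixedPts X` : the subgroup of fixed points; `IsInvFun X χ` : `χ` is `X`-invariant.
* `twisted_fixed`, `twisted_sum` : for an automorphism `α` of order prime to `|G|`, summing a
  function invariant under twisted conjugation `x ↦ g x α(g)⁻¹` over `G` and over the fixed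
  points of `α`.
* `fusion_of_fixed`, `exists_fixed_in_class`, `card_invariant_classes` : for a `p`-group `X`
  with `p ∤ |G|`, the `X`-invariant classes of `G` correspond to the classes of the fixed points.
* `dvd_sum_of_fixed` : orbit sums modulo `p`.
-/

set_option autoImplicit false
set_option linter.style.haveILetI false
set_option linter.unusedSectionVars false

namespace Cfsg.Agent.Lib.helper82

open Module Cfsg
open Cfsg.Agent.Lib
open scoped ComplexConjugate

universe u

section Defs

variable {G : Type u} [Group G]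

/-- The subgroup of fixed points of a group of automorphisms. -/
def fixedPts (X : Subgroup (MulAut G)) : Subgroup G where
  carrier := {g | ∀ σ ∈ X, σ g = g}
  mul_mem' := by
    intro a b ha hb σ hσ
    rw [map_mul, ha σ hσ, hb σ hσ]
  one_mem' := by
    intro σ _
    exact map_one σ
  inv_mem' := by
    intro a ha σ hσ
    rw [map_inv, ha σ hσ]

theorem mem_fixedPts (X : Subgroup (MulAut G)) (g : G) :
    g ∈ fixedPts X ↔ ∀ σ ∈ X, σ g = g := Iff.rfl

/-- `χ` is invariant under the group `X` of automorphisms. -/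
def IsInvFun (X : Subgroup (MulAut G)) (χ : G → ℂ) : Prop := ∀ σ ∈ X, ∀ g, χ (σ g) = χ g

/-- Pullback of an irreducible character along a surjective homomorphism. -/
theorem isIrrCharacter_comp_surj {H : Type u} [Group H] (f : H →* G)
    (hf : Function.Surjective f) {χ : G → ℂ} (hχ : IsIrrCharacter G χ) :
    IsIrrCharacter H (fun h => χ (f h)) := by
  obtain ⟨n, ρ, hρ, rfl⟩ := hχ
  exact ⟨n, compRep f ρ, (isIrreducible_comp_iff f hf ρ).mpr hρ, rfl⟩

/-- Pullback of an irreducible character along an automorphism. -/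
theorem isIrrCharacter_comp_aut (σ : MulAut G) {χ : G → ℂ} (hχ : IsIrrCharacter G χ) :
    IsIrrCharacter G (fun g => χ (σ g)) :=
  isIrrCharacter_comp_surj (σ : G ≃* G).toMonoidHom (σ : G ≃* G).surjective hχ

/-- The inner product is invariant under reindexing by a group isomorphism. -/
theorem classInner_comp_equiv {H : Type u} [Group H] [Fintype G] [Fintype H] (e : H ≃* G)
    (φ ψ : G → ℂ) :
    classInner (fun h => φ (e h)) (fun h => ψ (e h)) = classInner φ ψ := by
  unfold classInner
  rw [Nat.card_congr e.toEquiv]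
  congr 1
  exact Fintype.sum_equiv e.toEquiv _ _ (fun h => rfl)

end Defs

section Twisted

variable {G : Type u} [Group G]

/-- Telescoping identity for twisted conjugation. -/
theorem twisted_pow (α : MulAut G) {h c c' : G} (hc : α c = c) (hc' : α c' = c')
    (hh : h * c * (α h)⁻¹ = c') (m : ℕ) : c' ^ m = h * c ^ m * ((α ^ m) h)⁻¹ := by
  induction m with
  | zero => simp
  | succ m ih =>
    have h1 : (α ^ m) c' = c' := by
      clear ih
      induction m with
      | zero => simp
      | succ m ih => rw [pow_succ, MulAut.mul_apply, hc', ih]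
    have h2 : (α ^ m) c = c := by
      clear ih h1
      induction m with
      | zero => simp
      | succ m ih => rw [pow_succ, MulAut.mul_apply, hc, ih]
    have h3 : c' = (α ^ m) h * c * ((α ^ (m + 1)) h)⁻¹ := by
      conv_lhs => rw [← h1, ← hh]
      rw [map_mul, map_mul, h2, map_inv, pow_succ, MulAut.mul_apply]
    rw [pow_succ, ih]
    conv_lhs => rw [h3]
    rw [pow_succ c]
    group

/-- If `h c α(h)⁻¹ = c'` with `c, c'` fixed by an automorphism `α` of order prime to `|G|`, then
`h` is fixed by `α`. -/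
theorem twisted_fixed [Finite G] (α : MulAut G) (n : ℕ) (hαn : α ^ n = 1)
    (hn : n.Coprime (Nat.card G)) {h c c' : G} (hc : α c = c) (hc' : α c' = c')
    (hh : h * c * (α h)⁻¹ = c') : α h = h := by
  by_cases hn1 : n = 1
  · rw [hn1, pow_one] at hαn
    rw [hαn]; rfl
  by_cases hn0 : n = 0
  · rw [hn0, Nat.coprime_zero_left] at hn
    have : Subsingleton G := (Nat.card_eq_one_iff_unique.mp hn).1
    exact Subsingleton.elim _ _
  have hn2 : 1 < n := by omega
  obtain ⟨u, -, hu⟩ := Nat.exists_mul_mod_eq_one_of_coprime hn.symm hn2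
  have h1 := twisted_pow α hc hc' hh (Nat.card G * u)
  rw [pow_mul, pow_card_eq_one', one_pow, pow_mul c, pow_card_eq_one', one_pow, mul_one,
    pow_eq_pow_mod _ hαn, hu, pow_one] at h1
  have h2 : h * (α h)⁻¹ = 1 := h1.symm
  rw [mul_inv_eq_one] at h2
  exact h2.symm

/-- Summing a function invariant under twisted conjugation `x ↦ g x α(g)⁻¹`. -/
theorem twisted_sum [Fintype G] [DecidableEq G] (α : MulAut G) (n : ℕ) (hαn : α ^ n = 1)
    (hn : n.Coprime (Nat.card G)) (f : G → ℂ) (hf : ∀ g x, f (g * x * (α g)⁻¹) = f x) :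
    (Nat.card G : ℂ) * ∑ y ∈ Finset.univ.filter (fun y : G => α y = y), f y =
      ((Finset.univ.filter (fun y : G => α y = y)).card : ℂ) * ∑ x : G, f x := by
  classical
  set F : Finset G := Finset.univ.filter (fun y : G => α y = y) with hF
  -- the twisting bijections
  let tw : G → G ≃ G := fun g =>
    { toFun := fun x => g * x * (α g)⁻¹
      invFun := fun x => g⁻¹ * x * α g
      left_inv := fun x => by group
      right_inv := fun x => by group }
  -- `r x` = number of `g` with `g x α(g)⁻¹` fixed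
  let r : G → ℕ := fun x => (Finset.univ.filter (fun g : G => tw g x ∈ F)).card
  have hr_le : ∀ x, r x ≤ F.card := by
    intro x
    by_cases hne : (Finset.univ.filter (fun g : G => tw g x ∈ F)).Nonempty
    · obtain ⟨g₀, hg₀⟩ := hne
      rw [Finset.mem_filter] at hg₀
      apply Finset.card_le_card_of_injOn (fun g => g * g₀⁻¹)
      · intro g hg
        rw [Finset.mem_coe, Finset.mem_filter] at hg
        have hc : α (tw g₀ x) = tw g₀ x := by
          have := hg₀.2; rw [hF, Finset.mem_filter] at this; exact this.2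
        have hc' : α (tw g x) = tw g x := by
          have := hg.2; rw [hF, Finset.mem_filter] at this; exact this.2
        have hh : (g * g₀⁻¹) * tw g₀ x * (α (g * g₀⁻¹))⁻¹ = tw g x := by
          show (g * g₀⁻¹) * (g₀ * x * (α g₀)⁻¹) * (α (g * g₀⁻¹))⁻¹ = g * x * (α g)⁻¹
          rw [map_mul, map_inv]
          group
        have := twisted_fixed α n hαn hn hc hc' hh
        rw [Finset.mem_coe, hF, Finset.mem_filter]
        exact ⟨Finset.mem_univ _, this⟩
      · intro a _ b _ hab
        exact mul_right_cancel hab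
    · rw [Finset.not_nonempty_iff_eq_empty] at hne
      show (Finset.univ.filter (fun g : G => tw g x ∈ F)).card ≤ F.card
      rw [hne]; simp
  have hr_sum : ∑ x : G, r x = Fintype.card G * F.card := by
    have h1 : ∀ x : G, r x = ∑ g : G, if tw g x ∈ F then 1 else 0 := by
      intro x
      show (Finset.univ.filter (fun g : G => tw g x ∈ F)).card = _
      rw [Finset.card_filter]
    rw [Finset.sum_congr rfl (fun x _ => h1 x), Finset.sum_comm]
    have h2 : ∀ g : G, (∑ x : G, if tw g x ∈ F then 1 else 0) = F.card := by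
      intro g
      rw [Equiv.sum_comp (tw g) (fun y => if y ∈ F then 1 else 0)]
      rw [← Finset.card_filter]
      congr 1
      ext y; simp
    rw [Finset.sum_congr rfl (fun g _ => h2 g), Finset.sum_const, Finset.card_univ, smul_eq_mul]
  have hr : ∀ x, r x = F.card := by
    by_contra hcon
    push Not at hcon
    obtain ⟨x₀, hx₀⟩ := hcon
    have hlt : ∑ x : G, r x < ∑ _x : G, F.card := by
      apply Finset.sum_lt_sum (fun x _ => hr_le x)
      exact ⟨x₀, Finset.mem_univ _, lt_of_le_of_ne (hr_le x₀) hx₀⟩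
    rw [hr_sum, Finset.sum_const, Finset.card_univ, smul_eq_mul] at hlt
    exact lt_irrefl _ hlt
  -- double counting
  have key : ∑ x : G, (r x : ℂ) * f x = (Fintype.card G : ℂ) * ∑ y ∈ F, f y := by
    have h1 : ∀ x : G, (r x : ℂ) * f x = ∑ g : G, if tw g x ∈ F then f (tw g x) else 0 := by
      intro x
      show ((Finset.univ.filter (fun g : G => tw g x ∈ F)).card : ℂ) * f x = _
      rw [Finset.card_filter]
      push_cast
      rw [Finset.sum_mul]
      apply Finset.sum_congr rfl
      intro g _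
      split_ifs
      · rw [one_mul]; exact (hf g x).symm
      · rw [zero_mul]
    rw [Finset.sum_congr rfl (fun x _ => h1 x), Finset.sum_comm]
    have h2 : ∀ g : G, (∑ x : G, if tw g x ∈ F then f (tw g x) else 0) = ∑ y ∈ F, f y := by
      intro g
      rw [Equiv.sum_comp (tw g) (fun y => if y ∈ F then f y else 0)]
      rw [← Finset.sum_filter]
      congr 1
      ext y; simp
    rw [Finset.sum_congr rfl (fun g _ => h2 g), Finset.sum_const, Finset.card_univ,
      nsmul_eq_mul]
  rw [Finset.sum_congr rfl (fun x _ => by rw [hr x]), ← Finset.mul_sum] at key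
  rw [Nat.card_eq_fintype_card]
  exact key.symm

end Twisted

section PGroup

variable {G : Type u} [Group G] [Finite G] (p : ℕ) [hp : Fact p.Prime]
variable (X : Subgroup (MulAut G)) {C : Type u} [Group C] (j : C →* G)

/-- Control of fusion: fixed points of a `p`-group of automorphisms that are conjugate in `G`
are conjugate in the group of fixed points. -/
theorem fusion_of_fixed (hX : IsPGroup p X) (hpG : ¬ p ∣ Nat.card G)
    (hj : Function.Injective j) (hC : ∀ g, g ∈ j.range ↔ g ∈ fixedPts X) (c₁ c₂ : C)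
    (h : IsConj (j c₁) (j c₂)) : IsConj c₁ c₂ := by
  classical
  obtain ⟨g₀, hg₀⟩ := isConj_iff.mp h
  have hfix₁ : ∀ σ ∈ X, σ (j c₁) = j c₁ := fun σ hσ => (hC _).mp ⟨c₁, rfl⟩ σ hσ
  have hfix₂ : ∀ σ ∈ X, σ (j c₂) = j c₂ := fun σ hσ => (hC _).mp ⟨c₂, rfl⟩ σ hσ
  letI : MulAction X {g : G // g * j c₁ * g⁻¹ = j c₂} :=
    { smul := fun σ g => ⟨σ.1 g.1, by
        have := congrArg σ.1 g.2
        rw [map_mul, map_mul, map_inv, hfix₁ σ.1 σ.2, hfix₂ σ.1 σ.2] at this
        exact this⟩
      one_smul := fun g => Subtype.ext rfl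
      mul_smul := fun σ τ g => Subtype.ext rfl }
  have hcard : ¬ p ∣ Nat.card {g : G // g * j c₁ * g⁻¹ = j c₂} := by
    have e : {g : G // g * j c₁ * g⁻¹ = j c₂} ≃ Subgroup.centralizer ({j c₁} : Set G) :=
      { toFun := fun g => ⟨g₀⁻¹ * g.1, by
          rw [Subgroup.mem_centralizer_iff]
          intro y hy
          rw [Set.mem_singleton_iff] at hy
          subst hy
          have h1 : g.1 * j c₁ = j c₂ * g.1 := by
            have h0 := g.2
            calc g.1 * j c₁ = (g.1 * j c₁ * g.1⁻¹) * g.1 := by group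
              _ = j c₂ * g.1 := by rw [h0]
          have h2 : g₀ * j c₁ = j c₂ * g₀ := by
            calc g₀ * j c₁ = (g₀ * j c₁ * g₀⁻¹) * g₀ := by group
              _ = j c₂ * g₀ := by rw [hg₀]
          calc j c₁ * (g₀⁻¹ * g.1) = g₀⁻¹ * (g₀ * j c₁) * g₀⁻¹ * g.1 := by group
            _ = g₀⁻¹ * (j c₂ * g₀) * g₀⁻¹ * g.1 := by rw [h2]
            _ = g₀⁻¹ * (j c₂ * g.1) := by group
            _ = g₀⁻¹ * (g.1 * j c₁) := by rw [h1]
            _ = g₀⁻¹ * g.1 * j c₁ := by group⟩
        invFun := fun z => ⟨g₀ * z.1, by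
          have hz := z.2
          rw [Subgroup.mem_centralizer_iff] at hz
          have h1 := hz (j c₁) (Set.mem_singleton _)
          calc g₀ * z.1 * j c₁ * (g₀ * z.1)⁻¹ = g₀ * (z.1 * j c₁) * z.1⁻¹ * g₀⁻¹ := by group
            _ = g₀ * (j c₁ * z.1) * z.1⁻¹ * g₀⁻¹ := by rw [h1]
            _ = g₀ * j c₁ * g₀⁻¹ := by group
            _ = j c₂ := hg₀⟩
        left_inv := fun g => Subtype.ext (by simp)
        right_inv := fun z => Subtype.ext (by simp) }
    rw [Nat.card_congr e]
    intro hdvd
    exact hpG (hdvd.trans (Subgroup.card_subgroup_dvd_card _))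
  obtain ⟨⟨g, hg⟩, hgfix⟩ := hX.nonempty_fixed_point_of_prime_not_dvd_card
    {g : G // g * j c₁ * g⁻¹ = j c₂} hcard
  have hgX : g ∈ fixedPts X := fun σ hσ => congrArg Subtype.val (hgfix ⟨σ, hσ⟩)
  obtain ⟨c, rfl⟩ := (hC g).mpr hgX
  rw [isConj_iff]
  refine ⟨c, hj ?_⟩
  rw [map_mul, map_mul, map_inv]
  exact hg

/-- An invariant conjugacy class contains a fixed point. -/
theorem exists_fixed_in_class (hX : IsPGroup p X) (hpG : ¬ p ∣ Nat.card G)
    (hC : ∀ g, g ∈ j.range ↔ g ∈ fixedPts X) (K : ConjClasses G)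
    (hK : ∀ σ ∈ X, ∀ g, ConjClasses.mk g = K → ConjClasses.mk (σ g) = K) :
    ∃ c : C, ConjClasses.mk (j c) = K := by
  classical
  obtain ⟨g₀, rfl⟩ := ConjClasses.mk_surjective K
  letI : MulAction X {g : G // ConjClasses.mk g = ConjClasses.mk g₀} :=
    { smul := fun σ g => ⟨σ.1 g.1, hK σ.1 σ.2 g.1 g.2⟩
      one_smul := fun g => Subtype.ext rfl
      mul_smul := fun σ τ g => Subtype.ext rfl }
  have hcard : ¬ p ∣ Nat.card {g : G // ConjClasses.mk g = ConjClasses.mk g₀} := by
    have e : {g : G // ConjClasses.mk g = ConjClasses.mk g₀} ≃ {x : G // IsConj x g₀} :=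
      Equiv.subtypeEquivRight (fun x => ConjClasses.mk_eq_mk_iff_isConj)
    rw [Nat.card_congr e, helper4.card_isConj_eq_index]
    intro hdvd
    exact hpG (hdvd.trans (Subgroup.index_dvd_card _))
  obtain ⟨⟨g, hg⟩, hgfix⟩ := hX.nonempty_fixed_point_of_prime_not_dvd_card
    {g : G // ConjClasses.mk g = ConjClasses.mk g₀} hcard
  have hgX : g ∈ fixedPts X := fun σ hσ => congrArg Subtype.val (hgfix ⟨σ, hσ⟩)
  obtain ⟨c, rfl⟩ := (hC g).mpr hgX
  exact ⟨c, hg⟩

/-- The class of a fixed point is invariant. -/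
theorem class_of_fixed_invariant (hC : ∀ g, g ∈ j.range ↔ g ∈ fixedPts X) (c : C) :
    ∀ σ ∈ X, ∀ g, ConjClasses.mk g = ConjClasses.mk (j c) →
      ConjClasses.mk (σ g) = ConjClasses.mk (j c) := by
  intro σ hσ g hg
  rw [ConjClasses.mk_eq_mk_iff_isConj] at hg ⊢
  obtain ⟨y, hy⟩ := isConj_iff.mp hg
  rw [isConj_iff]
  refine ⟨σ y, ?_⟩
  have h1 : σ (j c) = j c := (hC _).mp ⟨c, rfl⟩ σ hσ
  rw [← map_inv, ← map_mul, ← map_mul, hy, h1]

/-- The invariant classes of `G` are in bijection with the classes of the fixed points. -/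
theorem card_invariant_classes (hX : IsPGroup p X) (hpG : ¬ p ∣ Nat.card G)
    (hj : Function.Injective j) (hC : ∀ g, g ∈ j.range ↔ g ∈ fixedPts X) :
    Nat.card {K : ConjClasses G // ∀ σ ∈ X, ∀ g, ConjClasses.mk g = K →
      ConjClasses.mk (σ g) = K} = Nat.card (ConjClasses C) := by
  classical
  symm
  apply Nat.card_congr
  refine Equiv.ofBijective (fun K' => ⟨ConjClasses.map j K', ?_⟩) ⟨?_, ?_⟩
  · obtain ⟨c, rfl⟩ := ConjClasses.mk_surjective K'
    exact class_of_fixed_invariant X j hC c
  · intro K₁ K₂ h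
    obtain ⟨c₁, rfl⟩ := ConjClasses.mk_surjective K₁
    obtain ⟨c₂, rfl⟩ := ConjClasses.mk_surjective K₂
    have h1 : ConjClasses.mk (j c₁) = ConjClasses.mk (j c₂) := congrArg Subtype.val h
    rw [ConjClasses.mk_eq_mk_iff_isConj] at h1 ⊢
    exact fusion_of_fixed p X j hX hpG hj hC c₁ c₂ h1
  · rintro ⟨K, hK⟩
    obtain ⟨c, hc⟩ := exists_fixed_in_class p X j hX hpG hC K hK
    exact ⟨ConjClasses.mk c, Subtype.ext hc⟩

/-- Orbit sums modulo `p`: if a `p`-group acts on a finite set and an invariant weight is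
divisible by `p` at every fixed point, then `p` divides the total weight. -/
theorem dvd_sum_of_fixed {P : Type*} [Group P] (hP : IsPGroup p P) {Ω : Type*} [Fintype Ω]
    [MulAction P Ω] (w : Ω → ℕ) (hw : ∀ (a : P) (x : Ω), w (a • x) = w x)
    (hfix : ∀ x : Ω, (∀ a : P, a • x = x) → p ∣ w x) : p ∣ ∑ x : Ω, w x := by
  classical
  rw [Finset.sum_comp (fun k : ℕ => k) w]
  apply Finset.dvd_sum
  intro k _
  by_cases hpk : p ∣ k
  · exact Dvd.dvd.mul_left hpk _
  · apply Dvd.dvd.mul_right
    letI : MulAction P {x : Ω // w x = k} :=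
      { smul := fun a x => ⟨a • x.1, by rw [hw]; exact x.2⟩
        one_smul := fun x => Subtype.ext (one_smul _ _)
        mul_smul := fun a b x => Subtype.ext (mul_smul _ _ _) }
    have h1 := hP.card_modEq_card_fixedPoints {x : Ω // w x = k}
    have h2 : IsEmpty (MulAction.fixedPoints P {x : Ω // w x = k}) := by
      constructor
      rintro ⟨x, hx⟩
      apply hpk
      rw [← x.2]
      exact hfix x.1 (fun a => congrArg Subtype.val (hx a))
    have h3 : Nat.card (MulAction.fixedPoints P {x : Ω // w x = k}) = 0 := Nat.card_of_isEmpty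
    rw [h3, Nat.card_eq_fintype_card, Fintype.card_subtype] at h1
    exact (Nat.modEq_zero_iff_dvd).mp h1

end PGroup

end Cfsg.Agent.Lib.helper82
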