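import Mathlib
import Cfsg.Prelude.Def_Characters
import Cfsg.Prelude.Def_Blocks
import Cfsg.Agent.Lib.helper82.GlaubBasic

/-!
# The Glauberman correspondence for a group of operators of prime order (helper82)

`X ≤ MulAut G` of prime order `p` with `p ∤ |G|`, `C` the fixed points (given by an injective
homomorphism `j : C →* G`).  For an `X`-invariant irreducible character `χ` of `G` there are an
irreducible character `β` of `C` and a sign `ε` with `[χ_C, β'] ≡ ε δ_{β β'} (mod p)` for all
`β' ∈ Irr(C)` (`glauberman_prime_exists`).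

Proof: extend `χ` to `χ̂` on `G ⋊ X` (cyclic quotient); Gallagher's coset norm and the twisted
counting lemma give `∑_{c ∈ C} |χ̂(c a)|² = |C|` for `a ≠ 1`; decomposing `χ̂` on `C × X` with
multiplicities `a(β', λ)` this reads `∑_{β'} (p ∑_λ a² - (∑_λ a)²) = p - 1`, and a combinatorial
lemma finishes.
-/

set_option autoImplicit false
set_option linter.style.haveILetI false
set_option linter.unusedSectionVars false

namespace Cfsg.Agent.Lib.helper82

open Module Cfsg
open Cfsg.Agent.Lib
open scoped ComplexConjugate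

universe u

section Comb

/-- Lagrange's identity. -/
theorem comb_identity {ι : Type*} [Fintype ι] (a : ι → ℤ) :
    ∑ i, ∑ j, (a i - a j) ^ 2 =
      2 * ((Fintype.card ι : ℤ) * ∑ i, a i ^ 2 - (∑ i, a i) ^ 2) := by
  have h1 : ∀ i, ∑ j, (a i - a j) ^ 2 =
      (Fintype.card ι : ℤ) * a i ^ 2 - 2 * a i * (∑ j, a j) + ∑ j, a j ^ 2 := by
    intro i
    simp only [sub_sq]
    rw [Finset.sum_add_distrib, Finset.sum_sub_distrib, Finset.sum_const, Finset.card_univ,
      ← Finset.mul_sum]
    simp
  rw [Finset.sum_congr rfl (fun i _ => h1 i), Finset.sum_add_distrib, Finset.sum_sub_distrib,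
    ← Finset.mul_sum, Finset.sum_const, Finset.card_univ]
  have h2 : ∑ i, 2 * a i * (∑ j, a j) = 2 * (∑ i, a i) ^ 2 := by
    rw [← Finset.sum_mul, ← Finset.mul_sum]; ring
  rw [h2]
  simp
  ring

theorem comb_nonneg {ι : Type*} [Fintype ι] (a : ι → ℤ) :
    0 ≤ (Fintype.card ι : ℤ) * ∑ i, a i ^ 2 - (∑ i, a i) ^ 2 := by
  have h := comb_identity a
  have h2 : 0 ≤ ∑ i, ∑ j, (a i - a j) ^ 2 :=
    Finset.sum_nonneg (fun i _ => Finset.sum_nonneg (fun j _ => sq_nonneg _))
  omega

theorem comb_ge {ι : Type*} [Fintype ι] (a : ι → ℤ)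
    (h : (Fintype.card ι : ℤ) * ∑ i, a i ^ 2 - (∑ i, a i) ^ 2 ≠ 0) :
    (Fintype.card ι : ℤ) - 1 ≤ (Fintype.card ι : ℤ) * ∑ i, a i ^ 2 - (∑ i, a i) ^ 2 := by
  classical
  have hid := comb_identity a
  -- some pair differs
  have hne : ∃ i₀ j₀, a i₀ ≠ a j₀ := by
    by_contra hcon
    push Not at hcon
    apply h
    have : ∑ i, ∑ j, (a i - a j) ^ 2 = 0 := by
      apply Finset.sum_eq_zero; intro i _
      apply Finset.sum_eq_zero; intro j _
      rw [hcon i j]; simp
    omega
  obtain ⟨i₀, j₀, hij⟩ := hne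
  have hij' : i₀ ≠ j₀ := fun h => hij (h ▸ rfl)
  let c : ι → ℤ := fun i => ∑ j, if a i ≠ a j then 1 else 0
  have hc_le : ∀ i, c i ≤ ∑ j, (a i - a j) ^ 2 := by
    intro i
    apply Finset.sum_le_sum
    intro j _
    split_ifs with hh
    · have h1 : a i - a j ≠ 0 := sub_ne_zero.mpr hh
      have h2 : 0 < (a i - a j) ^ 2 := by positivity
      omega
    · exact sq_nonneg _
  have hc_ge : ∀ i, 1 ≤ c i := by
    intro i
    by_cases hi : a i ≠ a i₀
    · calc (1 : ℤ) = if a i ≠ a i₀ then 1 else 0 := by rw [if_pos hi]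
        _ ≤ c i := Finset.single_le_sum (f := fun j => if a i ≠ a j then (1 : ℤ) else 0)
            (fun j _ => by split_ifs <;> norm_num) (Finset.mem_univ i₀)
    · have hi' : a i ≠ a j₀ := by
        push Not at hi
        rw [hi]; exact hij
      calc (1 : ℤ) = if a i ≠ a j₀ then 1 else 0 := by rw [if_pos hi']
        _ ≤ c i := Finset.single_le_sum (f := fun j => if a i ≠ a j then (1 : ℤ) else 0)
            (fun j _ => by split_ifs <;> norm_num) (Finset.mem_univ j₀)
  have hc2 : (Fintype.card ι : ℤ) ≤ c i₀ + c j₀ := by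
    show (Fintype.card ι : ℤ) ≤ (∑ j, if a i₀ ≠ a j then (1 : ℤ) else 0) +
      ∑ j, if a j₀ ≠ a j then (1 : ℤ) else 0
    rw [← Finset.sum_add_distrib]
    calc (Fintype.card ι : ℤ) = ∑ _j : ι, (1 : ℤ) := by simp
      _ ≤ _ := by
        apply Finset.sum_le_sum
        intro j _
        by_cases h1 : a i₀ ≠ a j
        · rw [if_pos h1]; split_ifs <;> norm_num
        · push Not at h1
          have h2 : a j₀ ≠ a j := by rw [← h1]; exact hij.symm
          rw [if_neg (by rw [h1]; simp), if_pos h2]; norm_num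
  have hsum : (c i₀ - 1) + (c j₀ - 1) ≤ ∑ i, (c i - 1) := by
    rw [← Finset.sum_pair hij' (f := fun i => c i - 1)]
    apply Finset.sum_le_sum_of_subset_of_nonneg (Finset.subset_univ _)
    intro i _ _
    have := hc_ge i
    omega
  have hsum2 : ∑ i, (c i - 1) = ∑ i, c i - (Fintype.card ι : ℤ) := by
    rw [Finset.sum_sub_distrib]; simp
  have hsum3 : ∑ i, c i ≤ ∑ i, ∑ j, (a i - a j) ^ 2 := Finset.sum_le_sum (fun i _ => hc_le i)
  omega

/-- The combinatorial lemma behind the Glauberman correspondence for operators of prime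
order. -/
theorem comb_main (p : ℕ) (hp : p.Prime) {ι κ : Type*} [Fintype ι] [Fintype κ] [DecidableEq κ]
    (hι : Fintype.card ι = p) (a : κ → ι → ℤ)
    (hsum : ∑ k, ((p : ℤ) * ∑ i, a k i ^ 2 - (∑ i, a k i) ^ 2) = (p : ℤ) - 1) :
    ∃ k₀ : κ, ∃ ε : ℤ, (ε = 1 ∨ ε = -1) ∧
      ∀ k, ∃ m : ℤ, ∑ i, a k i = (p : ℤ) * m + if k = k₀ then ε else 0 := by
  classical
  set D : κ → ℤ := fun k => (p : ℤ) * ∑ i, a k i ^ 2 - (∑ i, a k i) ^ 2 with hD
  have hD0 : ∀ k, 0 ≤ D k := by
    intro k
    have := comb_nonneg (a k)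
    rw [hι] at this
    exact this
  have hDge : ∀ k, D k ≠ 0 → (p : ℤ) - 1 ≤ D k := by
    intro k hk
    have := comb_ge (a k) (by rw [hι]; exact hk)
    rw [hι] at this
    exact this
  have hp2 : (2 : ℤ) ≤ p := by exact_mod_cast hp.two_le
  have hex : ∃ k₀, D k₀ ≠ 0 := by
    by_contra hcon
    push Not at hcon
    have : ∑ k, D k = 0 := Finset.sum_eq_zero (fun k _ => hcon k)
    rw [this] at hsum
    omega
  obtain ⟨k₀, hk₀⟩ := hex
  have hk₀ge := hDge k₀ hk₀
  have hsplit : D k₀ + ∑ k ∈ Finset.univ.erase k₀, D k = (p : ℤ) - 1 := by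
    rw [Finset.add_sum_erase _ _ (Finset.mem_univ k₀)]
    exact hsum
  have hrest0 : 0 ≤ ∑ k ∈ Finset.univ.erase k₀, D k := Finset.sum_nonneg (fun k _ => hD0 k)
  have hk₀eq : D k₀ = (p : ℤ) - 1 := by omega
  have hrest : ∑ k ∈ Finset.univ.erase k₀, D k = 0 := by omega
  have hothers : ∀ k, k ≠ k₀ → D k = 0 := by
    intro k hk
    exact (Finset.sum_eq_zero_iff_of_nonneg (fun k _ => hD0 k)).mp hrest k
      (Finset.mem_erase.mpr ⟨hk, Finset.mem_univ _⟩)
  have hpp : Prime (p : ℤ) := Nat.prime_iff_prime_int.mp hp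
  -- the sign
  have hk₀' : (p : ℤ) ∣ (∑ i, a k₀ i - 1) * (∑ i, a k₀ i + 1) := by
    refine ⟨∑ i, a k₀ i ^ 2 - 1, ?_⟩
    have : (p : ℤ) * ∑ i, a k₀ i ^ 2 - (∑ i, a k₀ i) ^ 2 = (p : ℤ) - 1 := hk₀eq
    linear_combination (-1 : ℤ) * this
  rcases hpp.dvd_or_dvd hk₀' with h1 | h1
  · obtain ⟨m₀, hm₀⟩ := h1
    refine ⟨k₀, 1, Or.inl rfl, ?_⟩
    intro k
    by_cases hk : k = k₀
    · subst hk
      exact ⟨m₀, by rw [if_pos rfl]; linarith⟩
    · have h0 : (p : ℤ) * ∑ i, a k i ^ 2 - (∑ i, a k i) ^ 2 = 0 := hothers k hk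
      have hdvd : (p : ℤ) ∣ (∑ i, a k i) ^ 2 := ⟨∑ i, a k i ^ 2, by linarith⟩
      obtain ⟨m, hm⟩ := hpp.dvd_of_dvd_pow hdvd
      exact ⟨m, by rw [if_neg hk, add_zero]; exact hm⟩
  · obtain ⟨m₀, hm₀⟩ := h1
    refine ⟨k₀, -1, Or.inr rfl, ?_⟩
    intro k
    by_cases hk : k = k₀
    · subst hk
      exact ⟨m₀, by rw [if_pos rfl]; linarith⟩
    · have h0 : (p : ℤ) * ∑ i, a k i ^ 2 - (∑ i, a k i) ^ 2 = 0 := hothers k hk
      have hdvd : (p : ℤ) ∣ (∑ i, a k i) ^ 2 := ⟨∑ i, a k i ^ 2, by linarith⟩
      obtain ⟨m, hm⟩ := hpp.dvd_of_dvd_pow hdvd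
      exact ⟨m, by rw [if_neg hk, add_zero]; exact hm⟩

end Comb

section Ext

variable {G : Type u} [Group G] [Fintype G] (p : ℕ) [hp : Fact p.Prime]
variable (X : Subgroup (MulAut G)) {C : Type u} [Group C] (j : C →* G)

/-- The values on `G × X` of an extension to `G ⋊ X` of an `X`-invariant irreducible character
of `G`, for `X` of prime order. -/
theorem exists_ext_fun (hX : Nat.card X = p) (χ : G → ℂ) (hχ : IsIrrCharacter G χ)
    (hinv : IsInvFun X χ) (hC : ∀ g, g ∈ j.range ↔ g ∈ fixedPts X) :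
    ∃ F : G → X → ℂ, (∀ x, F x 1 = χ x) ∧
      (∀ a : X, ∑ x : G, F x a * conj (F x a) = (Nat.card G : ℂ)) ∧
      (∀ (g x : G) (a : X), F (g * x * ((a : MulAut G) g)⁻¹) a = F x a) ∧
      IsCharacter (C × X) (fun y : C × X => F (j y.1) y.2) := by
  classical
  haveI : Finite (G ⋊[X.subtype] X) := Finite.of_equiv _ SemidirectProduct.equivProd.symm
  letI : Fintype (G ⋊[X.subtype] X) := Fintype.ofFinite _
  let N : Subgroup (G ⋊[X.subtype] X) :=
    (SemidirectProduct.rightHom : G ⋊[X.subtype] X →* X).ker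
  letI : Fintype N := Fintype.ofFinite _
  have hNr : ∀ n : N, (n : G ⋊[X.subtype] X).right = 1 := fun n => n.2
  let f : N →* G :=
    { toFun := fun n => (n : G ⋊[X.subtype] X).left
      map_one' := rfl
      map_mul' := fun a b => by
        show ((a : G ⋊[X.subtype] X) * b).left = _
        rw [SemidirectProduct.mul_left, hNr a]
        simp }
  have hmemN : ∀ g : G, (SemidirectProduct.inl g : G ⋊[X.subtype] X) ∈ N := by
    intro g
    show SemidirectProduct.rightHom (SemidirectProduct.inl g : G ⋊[X.subtype] X) = 1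
    simp
  have hf : Function.Surjective f := fun g => ⟨⟨SemidirectProduct.inl g, hmemN g⟩, rfl⟩
  have hϑ : IsIrrCharacter N (fun n => χ (f n)) := isIrrCharacter_comp_surj f hf hχ
  have hχcf := helper4.isClassFunction_of_isIrrCharacter hχ
  have hinvN : ∀ x : G ⋊[X.subtype] X, cconj N x (fun n => χ (f n)) = fun n => χ (f n) := by
    intro x
    rw [cconj_eq_iff]
    intro n
    show χ ((x * (n : G ⋊[X.subtype] X) * x⁻¹).left) = χ ((n : G ⋊[X.subtype] X).left)
    have h1 : (x * (n : G ⋊[X.subtype] X) * x⁻¹).left =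
        x.left * (x.right : MulAut G) (n : G ⋊[X.subtype] X).left * x.left⁻¹ := by
      simp [SemidirectProduct.mul_left, SemidirectProduct.mul_right, SemidirectProduct.inv_left,
        hNr n]
    rw [h1, hχcf, hinv _ x.right.2]
  have hcyc : IsCyclic ((G ⋊[X.subtype] X) ⧸ N) := by
    haveI : IsCyclic X := isCyclic_of_prime_card hX
    let e : (G ⋊[X.subtype] X) ⧸ N ≃* X :=
      QuotientGroup.quotientKerEquivOfSurjective _ SemidirectProduct.rightHom_surjective
    exact isCyclic_of_surjective e.symm.toMonoidHom e.symm.surjective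
  obtain ⟨χh, hχh, hext⟩ := exists_extension_of_cyclic N hcyc hϑ hinvN
  have hχhcf := helper4.isClassFunction_of_isIrrCharacter hχh
  refine ⟨fun x a => χh ⟨x, a⟩, ?_, ?_, ?_, ?_⟩
  · intro x
    have := hext ⟨SemidirectProduct.inl x, hmemN x⟩
    exact this
  · intro a
    have hχhN : IsIrrCharacter N (fun n : N => χh n) := by
      have : (fun n : N => χh n) = fun n => χ (f n) := funext hext
      rw [this]; exact hϑ
    have h1 := helper19.sum_coset_norm N χh hχh hχhN (SemidirectProduct.inr a)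
    let eN : G ≃ N :=
      { toFun := fun g => ⟨SemidirectProduct.inl g, hmemN g⟩
        invFun := fun n => f n
        left_inv := fun g => rfl
        right_inv := fun n => by
          apply Subtype.ext
          apply SemidirectProduct.ext
          · rfl
          · exact (hNr n).symm }
    have h2 : Nat.card N = Nat.card G := Nat.card_congr eN.symm
    rw [h2] at h1
    rw [← h1]
    apply Fintype.sum_equiv eN
    intro g
    have h3 : (SemidirectProduct.inl g : G ⋊[X.subtype] X) * SemidirectProduct.inr a =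
        ⟨g, a⟩ := by
      apply SemidirectProduct.ext <;> simp
    show _ = χh (SemidirectProduct.inl g * SemidirectProduct.inr a) *
      conj (χh (SemidirectProduct.inl g * SemidirectProduct.inr a))
    rw [h3]
  · intro g x a
    have h1 : (⟨g * x * ((a : MulAut G) g)⁻¹, a⟩ : G ⋊[X.subtype] X) =
        SemidirectProduct.inl g * ⟨x, a⟩ * (SemidirectProduct.inl g)⁻¹ := by
      apply SemidirectProduct.ext <;> simp
    show χh ⟨g * x * ((a : MulAut G) g)⁻¹, a⟩ = χh ⟨x, a⟩
    rw [h1, hχhcf]
  · let ι : C × X →* G ⋊[X.subtype] X :=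
      { toFun := fun y => ⟨j y.1, y.2⟩
        map_one' := by
          apply SemidirectProduct.ext <;> simp
        map_mul' := fun y z => by
          have hz : (y.2 : MulAut G) (j z.1) = j z.1 := (hC _).mp ⟨z.1, rfl⟩ _ y.2.2
          apply SemidirectProduct.ext
          · simp [hz]
          · simp }
    exact helper4.isCharacter_comp ι (helper4.isCharacter_of_isIrrCharacter hχh)

end Ext

section Main

variable {G : Type u} [Group G] [Fintype G] (p : ℕ) [hp : Fact p.Prime]
variable (X : Subgroup (MulAut G)) {C : Type u} [Group C] [Fintype C] (j : C →* G)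

/-- For `X` of prime order, the fixed points of a nonidentity element are those of `X`. -/
theorem fixed_iff_of_prime (hX : Nat.card X = p) (b : X) (hb : b ≠ 1) (y : G) :
    (b : MulAut G) y = y ↔ y ∈ fixedPts X := by
  constructor
  · intro h σ hσ
    have h1 : (⟨σ, hσ⟩ : X) ∈ Submonoid.powers b := mem_powers_of_prime_card hX hb
    obtain ⟨i, hi⟩ := h1
    have h2 : σ = (b : MulAut G) ^ i := by
      have := congrArg Subtype.val hi
      simpa using this.symm
    rw [h2]
    clear hi h2
    induction i with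
    | zero => simp
    | succ i ih => rw [pow_succ, MulAut.mul_apply, h, ih]
  · intro h
    exact h _ b.2

/-- Sums over the image of an injective map. -/
theorem sum_filter_range {A B : Type*} [Fintype A] [Fintype B] [DecidableEq A] (j : B → A)
    (hj : Function.Injective j) (P : A → Prop) [DecidablePred P]
    (h : ∀ g, P g ↔ g ∈ Set.range j) (f : A → ℂ) :
    ∑ y ∈ Finset.univ.filter P, f y = ∑ c : B, f (j c) := by
  have h1 : Finset.univ.filter P = Finset.univ.image j := by
    ext y
    simp only [Finset.mem_filter, Finset.mem_univ, true_and, Finset.mem_image]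
    rw [h]; rfl
  rw [h1, Finset.sum_image (fun a _ b _ hab => hj hab)]

theorem card_filter_range {A B : Type*} [Fintype A] [Fintype B] [DecidableEq A] (j : B → A)
    (hj : Function.Injective j) (P : A → Prop) [DecidablePred P]
    (h : ∀ g, P g ↔ g ∈ Set.range j) :
    (Finset.univ.filter P).card = Fintype.card B := by
  have h1 : Finset.univ.filter P = Finset.univ.image j := by
    ext y
    simp only [Finset.mem_filter, Finset.mem_univ, true_and, Finset.mem_image]
    rw [h]; rfl
  rw [h1, Finset.card_image_of_injective _ hj, Finset.card_univ]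

/-- Norm of a combination of irreducible characters, pointwise form. -/
theorem sum_irr_comb_norm {H : Type u} [Group H] [Fintype H] [Fintype (IrrCharacter H)]
    (a : IrrCharacter H → ℂ) :
    ∑ b : H, (∑ lam, a lam * (lam : H → ℂ) b) * conj (∑ lam, a lam * (lam : H → ℂ) b) =
      (Nat.card H : ℂ) * ∑ lam, a lam * conj (a lam) := by
  have h1 := helper4.classInner_sum_irr_smul (G := H) a a
  have h2 : ∀ b : H, (∑ lam : IrrCharacter H, a lam • (lam : H → ℂ)) b =
      ∑ lam, a lam * (lam : H → ℂ) b := by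
    intro b
    rw [Finset.sum_apply]
    rfl
  unfold classInner at h1
  simp_rw [h2] at h1
  rw [← h1]
  have hH0 : (Nat.card H : ℂ) ≠ 0 := by exact_mod_cast Nat.card_pos.ne'
  field_simp

/-- **Glauberman correspondence, prime order operators, existence.** -/
theorem glauberman_prime_exists (hX : Nat.card X = p) (hpG : ¬ p ∣ Nat.card G)
    (hj : Function.Injective j) (hC : ∀ g, g ∈ j.range ↔ g ∈ fixedPts X) (χ : G → ℂ)
    (hχ : IsIrrCharacter G χ) (hinv : IsInvFun X χ) :
    ∃ β : IrrCharacter C, ∃ ε : ℤ, (ε = 1 ∨ ε = -1) ∧ ∀ β' : IrrCharacter C, ∃ k : ℤ,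
      classInner (fun c => χ (j c)) (β' : C → ℂ) =
        (((p : ℤ) * k + if β' = β then ε else 0 : ℤ) : ℂ) := by
  classical
  obtain ⟨F, hF1, hF2, hF3, hF4⟩ := exists_ext_fun p X j hX χ hχ hinv hC
  letI : Fintype X := Fintype.ofFinite X
  letI : Fintype (IrrCharacter C) := Fintype.ofFinite _
  letI : Fintype (IrrCharacter X) := Fintype.ofFinite _
  haveI : IsCyclic X := isCyclic_of_prime_card hX
  have hcomm : ∀ a b : X, a * b = b * a := fun a b => by
    letI := IsCyclic.commGroup (α := X)
    exact mul_comm a b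
  have hcardX : (Nat.card X : ℂ) = p := by rw [hX]
  have hC0 : (Nat.card C : ℂ) ≠ 0 := by exact_mod_cast Nat.card_pos.ne'
  have hG0 : (Nat.card G : ℂ) ≠ 0 := by exact_mod_cast Nat.card_pos.ne'
  have hp0 : (p : ℂ) ≠ 0 := by exact_mod_cast hp.out.ne_zero
  -- multiplicities
  have ha : ∀ (β' : IrrCharacter C) (lam : IrrCharacter X), ∃ n : ℕ,
      classInner (fun y : C × X => F (j y.1) y.2)
        (fun y : C × X => (β' : C → ℂ) y.1 * (lam : X → ℂ) y.2) = n := by
    intro β' lam
    exact helper4.exists_nat_classInner hF4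
      (helper4.isCharacter_mul
        (helper4.isCharacter_comp (MonoidHom.fst C X)
          (helper4.isCharacter_of_isIrrCharacter β'.2))
        (helper4.isCharacter_comp (MonoidHom.snd C X)
          (helper4.isCharacter_of_isIrrCharacter lam.2)))
  choose a ha using ha
  -- second orthogonality on `X`
  have hso : ∀ b x : X, ∑ lam : IrrCharacter X, (lam : X → ℂ) b * conj ((lam : X → ℂ) x) =
      if b = x then (p : ℂ) else 0 := by
    intro b x
    rw [helper83.second_orthogonality]
    by_cases hbx : b = x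
    · subst hbx
      rw [if_pos (IsConj.refl b), if_pos rfl]
      have : Subgroup.centralizer ({b} : Set X) = ⊤ := by
        rw [eq_top_iff]
        intro z _
        rw [Subgroup.mem_centralizer_iff]
        intro y _
        exact hcomm y z
      rw [this, Subgroup.card_top, hX]
    · rw [if_neg hbx, if_neg]
      intro hconj
      obtain ⟨c, hc⟩ := isConj_iff.mp hconj
      apply hbx
      rw [← hc, hcomm c b]
      simp
  -- the class functions `c ↦ F (j c) b`
  set z : IrrCharacter C → X → ℂ :=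
    fun β' b => classInner (fun c => F (j c) b) (β' : C → ℂ) with hz
  have hZ1 : ∀ (β' : IrrCharacter C) (b : X),
      ∑ lam : IrrCharacter X, (a β' lam : ℂ) * (lam : X → ℂ) b = z β' b := by
    intro β' b
    have e1 : ∀ lam : IrrCharacter X, (a β' lam : ℂ) * (lam : X → ℂ) b =
        ((Nat.card C : ℂ) * p)⁻¹ * ∑ c : C, ∑ x : X,
          F (j c) x * conj ((β' : C → ℂ) c) * ((lam : X → ℂ) b * conj ((lam : X → ℂ) x)) := by
      intro lam
      rw [← ha]
      unfold classInner
      rw [Nat.card_prod, Fintype.sum_prod_type]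
      push_cast
      rw [hcardX, mul_assoc, Finset.sum_mul]
      congr 1
      apply Finset.sum_congr rfl
      intro c _
      rw [Finset.sum_mul]
      apply Finset.sum_congr rfl
      intro x _
      rw [map_mul]
      ring
    rw [Finset.sum_congr rfl (fun lam _ => e1 lam), ← Finset.mul_sum, Finset.sum_comm]
    have e2 : ∀ c : C, ∑ lam : IrrCharacter X, ∑ x : X,
        F (j c) x * conj ((β' : C → ℂ) c) * ((lam : X → ℂ) b * conj ((lam : X → ℂ) x)) =
        F (j c) b * conj ((β' : C → ℂ) c) * p := by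
      intro c
      rw [Finset.sum_comm]
      simp_rw [← Finset.mul_sum, hso]
      rw [Finset.sum_eq_single b]
      · rw [if_pos rfl]
      · intro x _ hx
        rw [if_neg (Ne.symm hx), mul_zero]
      · intro h; exact absurd (Finset.mem_univ _) h
    rw [Finset.sum_congr rfl (fun c _ => e2 c), ← Finset.sum_mul]
    show _ = (Nat.card C : ℂ)⁻¹ * ∑ c : C, F (j c) b * conj ((β' : C → ℂ) c)
    field_simp
  -- norms
  have hZ2 : ∀ b : X, b ≠ 1 → ∑ β' : IrrCharacter C, z β' b * conj (z β' b) = 1 := by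
    intro b hb
    have hbfix : ∀ h : C, (b : MulAut G) (j h) = j h := fun h => (hC _).mp ⟨h, rfl⟩ _ b.2
    have hcf : IsClassFunction C (fun c => F (j c) b) := by
      intro c h
      show F (j (h * c * h⁻¹)) b = F (j c) b
      rw [map_mul, map_mul, map_inv]
      have := hF3 (j h) (j c) b
      rw [hbfix h] at this
      exact this
    have hP := helper4.classInner_sum_irr_smul (G := C)
      (fun β' => classInner (fun c => F (j c) b) (β' : C → ℂ))
      (fun β' => classInner (fun c => F (j c) b) (β' : C → ℂ))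
    rw [← helper4.classFunction_eq_sum_irr hcf] at hP
    show ∑ β' : IrrCharacter C, classInner (fun c => F (j c) b) (β' : C → ℂ) *
      conj (classInner (fun c => F (j c) b) (β' : C → ℂ)) = 1
    rw [← hP]
    have hbp : (b : MulAut G) ^ p = 1 := by
      have h1 : b ^ Nat.card X = 1 := pow_card_eq_one'
      rw [hX] at h1
      have := congrArg Subtype.val h1
      simpa using this
    have hcop : p.Coprime (Nat.card G) := (Nat.Prime.coprime_iff_not_dvd hp.out).mpr hpG
    have hts := twisted_sum (b : MulAut G) p hbp hcop (fun x => F x b * conj (F x b))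
      (fun g x => by rw [hF3])
    have hP' : ∀ y : G, (b : MulAut G) y = y ↔ y ∈ Set.range j := by
      intro y
      rw [fixed_iff_of_prime p X hX b hb y, ← hC]
      rfl
    rw [sum_filter_range j hj _ hP', card_filter_range j hj _ hP', hF2 b,
      ← Nat.card_eq_fintype_card] at hts
    unfold classInner
    have h3 : ∑ c : C, F (j c) b * conj (F (j c) b) = (Nat.card C : ℂ) := by
      have := mul_left_cancel₀ hG0 (hts.trans (mul_comm _ _))
      exact this
    rw [h3]
    field_simp
  have hZ3 : ∀ β' : IrrCharacter C, ∑ b : X, z β' b * conj (z β' b) =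
      (p : ℂ) * ∑ lam : IrrCharacter X, (a β' lam : ℂ) * (a β' lam : ℂ) := by
    intro β'
    simp_rw [← hZ1]
    rw [sum_irr_comb_norm (H := X) (fun lam => (a β' lam : ℂ)), hcardX]
    congr 1
    apply Finset.sum_congr rfl
    intro lam _
    rw [Complex.conj_natCast]
  have hlin : ∀ lam : IrrCharacter X, (lam : X → ℂ) 1 = 1 :=
    fun lam => irr_one_of_commutative hcomm lam.2
  have hZ4 : ∀ β' : IrrCharacter C, z β' 1 = ∑ lam : IrrCharacter X, (a β' lam : ℂ) := by
    intro β'
    rw [← hZ1]
    apply Finset.sum_congr rfl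
    intro lam _
    rw [hlin, mul_one]
  have hZ4' : ∀ β' : IrrCharacter C, z β' 1 = classInner (fun c => χ (j c)) (β' : C → ℂ) := by
    intro β'
    show classInner (fun c => F (j c) 1) (β' : C → ℂ) = _
    simp_rw [hF1]
  -- the key identity
  have hkey : ∑ β' : IrrCharacter C, ((p : ℂ) * ∑ lam : IrrCharacter X,
      (a β' lam : ℂ) * (a β' lam : ℂ) - (∑ lam : IrrCharacter X, (a β' lam : ℂ)) *
        (∑ lam : IrrCharacter X, (a β' lam : ℂ))) = (p : ℂ) - 1 := by
    have h1 : ∀ β' : IrrCharacter C, (p : ℂ) * ∑ lam : IrrCharacter X,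
        (a β' lam : ℂ) * (a β' lam : ℂ) - (∑ lam : IrrCharacter X, (a β' lam : ℂ)) *
          (∑ lam : IrrCharacter X, (a β' lam : ℂ)) =
        ∑ b ∈ Finset.univ.erase (1 : X), z β' b * conj (z β' b) := by
      intro β'
      rw [← hZ3, ← Finset.add_sum_erase _ _ (Finset.mem_univ (1 : X)), hZ4]
      have : conj (∑ lam : IrrCharacter X, (a β' lam : ℂ)) =
          ∑ lam : IrrCharacter X, (a β' lam : ℂ) := by
        rw [map_sum]
        apply Finset.sum_congr rfl
        intro lam _
        rw [Complex.conj_natCast]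
      rw [this]
      ring
    rw [Finset.sum_congr rfl (fun β' _ => h1 β'), Finset.sum_comm]
    rw [Finset.sum_congr rfl (fun b hb => hZ2 b (Finset.ne_of_mem_erase hb))]
    rw [Finset.sum_const, Finset.card_erase_of_mem (Finset.mem_univ _), Finset.card_univ,
      ← Nat.card_eq_fintype_card, hX, nsmul_eq_mul, mul_one]
    rw [Nat.cast_sub hp.out.one_le]
    simp
  have hkeyZ : ∑ β' : IrrCharacter C, ((p : ℤ) * ∑ lam : IrrCharacter X,
      (a β' lam : ℤ) ^ 2 - (∑ lam : IrrCharacter X, (a β' lam : ℤ)) ^ 2) = (p : ℤ) - 1 := by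
    have : ((∑ β' : IrrCharacter C, ((p : ℤ) * ∑ lam : IrrCharacter X,
        (a β' lam : ℤ) ^ 2 - (∑ lam : IrrCharacter X, (a β' lam : ℤ)) ^ 2) : ℤ) : ℂ) =
        (((p : ℤ) - 1 : ℤ) : ℂ) := by
      push_cast
      rw [← hkey]
      apply Finset.sum_congr rfl
      intro β' _
      ring_nf
    exact_mod_cast this
  have hcardI : Fintype.card (IrrCharacter X) = p := by
    rw [← Nat.card_eq_fintype_card, card_irr_of_commutative hcomm, hX]
  obtain ⟨β, ε, hε, hall⟩ := comb_main p hp.out hcardI (fun β' lam => (a β' lam : ℤ)) hkeyZ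
  refine ⟨β, ε, hε, ?_⟩
  intro β'
  obtain ⟨m, hm⟩ := hall β'
  refine ⟨m, ?_⟩
  rw [← hZ4', hZ4, ← hm]
  push_cast
  rfl

end Main

end Cfsg.Agent.Lib.helper82
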