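import Mathlib
import Cfsg.Prelude.Def_Characters
import Cfsg.Prelude.Def_Blocks
import Cfsg.Agent.Lib.helper82.GlaubPrime

/-!
# The Glauberman correspondence for `p`-groups of operators (helper82)

`X ≤ MulAut G` a `p`-group with `p ∤ |G|`, `C` the fixed points (`j : C →* G` injective with
range `fixedPts X`).

* `GRel p j χ β` : the multiplicity of `β` in `χ ∘ j` is not divisible by `p`.
* `SF p j χ β` : `[χ ∘ j, β'] ≡ ε δ_{β β'} (mod p)` for all `β' ∈ Irr(C)` and a sign `ε`.
* `GCorr p X j` : every `X`-invariant `χ ∈ Irr(G)` has a `β` with `SF`; `GRel` is injective on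
  invariant characters; every `β ∈ Irr(C)` is `GRel`-related to an invariant `χ`.
* `glauberman_pgroup` : `GCorr p X j` holds.
-/

set_option autoImplicit false
set_option linter.style.haveILetI false
set_option linter.unusedSectionVars false

namespace Cfsg.Agent.Lib.helper82

open Module Cfsg
open Cfsg.Agent.Lib
open scoped ComplexConjugate

universe u

section Rel

variable {G : Type u} [Group G] {C : Type u} [Group C] [Fintype C]

/-- The multiplicity of `β` in `χ ∘ j` is not divisible by `p`. -/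
def GRel (p : ℕ) (j : C →* G) (χ : G → ℂ) (β : C → ℂ) : Prop :=
  ∀ k : ℤ, classInner (fun c => χ (j c)) β ≠ (((p : ℤ) * k : ℤ) : ℂ)

/-- `[χ ∘ j, β'] ≡ ε δ_{β β'} (mod p)` for all `β'`. -/
def SF (p : ℕ) (j : C →* G) (χ : G → ℂ) (β : IrrCharacter C) : Prop :=
  ∃ ε : ℤ, (ε = 1 ∨ ε = -1) ∧ ∀ β' : IrrCharacter C, ∃ k : ℤ,
    classInner (fun c => χ (j c)) (β' : C → ℂ) =
      (((p : ℤ) * k + if β' = β then ε else 0 : ℤ) : ℂ)

theorem not_dvd_sign (p : ℕ) [hp : Fact p.Prime] {ε : ℤ} (hε : ε = 1 ∨ ε = -1) :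
    ¬ (p : ℤ) ∣ ε := by
  intro h
  have h2 : (2 : ℤ) ≤ p := by exact_mod_cast hp.out.two_le
  rcases hε with rfl | rfl
  · have := Int.le_of_dvd (by norm_num) h
    omega
  · have h' : (p : ℤ) ∣ 1 := by simpa using (dvd_neg.mpr h)
    have := Int.le_of_dvd (by norm_num) h'
    omega

theorem SF.grel {p : ℕ} [hp : Fact p.Prime] {j : C →* G} {χ : G → ℂ} {β : IrrCharacter C}
    (h : SF p j χ β) : GRel p j χ (β : C → ℂ) := by
  obtain ⟨ε, hε, hall⟩ := h
  obtain ⟨k, hk⟩ := hall β
  intro k' hk'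
  rw [hk, if_pos rfl] at hk'
  have h1 : (p : ℤ) * k + ε = (p : ℤ) * k' := by exact_mod_cast hk'
  exact not_dvd_sign p hε ⟨k' - k, by linarith⟩

theorem SF.unique {p : ℕ} {j : C →* G} {χ : G → ℂ} {β β₂ : IrrCharacter C}
    (h : SF p j χ β) (h2 : GRel p j χ (β₂ : C → ℂ)) : β₂ = β := by
  obtain ⟨ε, hε, hall⟩ := h
  obtain ⟨k, hk⟩ := hall β₂
  by_contra hne
  rw [if_neg hne, add_zero] at hk
  exact h2 k hk

end Rel

section Corr

variable {G : Type u} [Group G] {C : Type u} [Group C] [Fintype C]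

/-- The Glauberman correspondence (for the prime `p`) between `X`-invariant irreducible
characters of `G` and irreducible characters of `C`. -/
def GCorr (p : ℕ) (X : Subgroup (MulAut G)) (j : C →* G) : Prop :=
  (∀ χ : IrrCharacter G, IsInvFun X (χ : G → ℂ) → ∃ β : IrrCharacter C, SF p j (χ : G → ℂ) β) ∧
  (∀ χ₁ χ₂ : IrrCharacter G, IsInvFun X (χ₁ : G → ℂ) → IsInvFun X (χ₂ : G → ℂ) →
    ∀ β : IrrCharacter C, GRel p j (χ₁ : G → ℂ) (β : C → ℂ) → GRel p j (χ₂ : G → ℂ) (β : C → ℂ) →
      χ₁ = χ₂) ∧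
  (∀ β : IrrCharacter C, ∃ χ : IrrCharacter G, IsInvFun X (χ : G → ℂ) ∧
    GRel p j (χ : G → ℂ) (β : C → ℂ))

end Corr

section Trivial

variable {G : Type u} [Group G] [Fintype G] {C : Type u} [Group C] [Fintype C]

/-- The correspondence when the action is trivial. -/
theorem gcorr_of_surjective (p : ℕ) [hp : Fact p.Prime] (X : Subgroup (MulAut G)) (j : C →* G)
    (hj : Function.Injective j) (hsurj : Function.Surjective j)
    (hC : ∀ g, g ∈ j.range ↔ g ∈ fixedPts X) : GCorr p X j := by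
  classical
  have hp2 : (2 : ℤ) ≤ p := by exact_mod_cast hp.out.two_le
  have h1ne : ∀ k : ℤ, (1 : ℂ) ≠ (((p : ℤ) * k : ℤ) : ℂ) := by
    intro k hk
    have h1 : (1 : ℤ) = (p : ℤ) * k := by exact_mod_cast hk
    have h2 : (p : ℤ) ∣ 1 := ⟨k, h1⟩
    have := Int.le_of_dvd (by norm_num) h2
    omega
  have hirr : ∀ χ : IrrCharacter G, IsIrrCharacter C (fun c => (χ : G → ℂ) (j c)) :=
    fun χ => isIrrCharacter_comp_surj j hsurj χ.2
  refine ⟨?_, ?_, ?_⟩
  · intro χ _
    refine ⟨⟨_, hirr χ⟩, 1, Or.inl rfl, ?_⟩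
    intro β'
    refine ⟨0, ?_⟩
    have := helper83.classInner_irr (⟨_, hirr χ⟩ : IrrCharacter C) β'
    rw [this]
    by_cases h : β' = ⟨_, hirr χ⟩
    · rw [if_pos h.symm, if_pos h]; simp
    · rw [if_neg (fun h' => h h'.symm), if_neg h]; simp
  · intro χ₁ χ₂ _ _ β h1 h2
    have e1 : (⟨_, hirr χ₁⟩ : IrrCharacter C) = β := by
      by_contra hne
      have := helper83.classInner_irr (⟨_, hirr χ₁⟩ : IrrCharacter C) β
      rw [if_neg hne] at this
      exact h1 0 (by rw [this]; simp)
    have e2 : (⟨_, hirr χ₂⟩ : IrrCharacter C) = β := by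
      by_contra hne
      have := helper83.classInner_irr (⟨_, hirr χ₂⟩ : IrrCharacter C) β
      rw [if_neg hne] at this
      exact h2 0 (by rw [this]; simp)
    have e3 : (fun c => (χ₁ : G → ℂ) (j c)) = fun c => (χ₂ : G → ℂ) (j c) :=
      congrArg Subtype.val (e1.trans e2.symm)
    apply Subtype.ext
    funext g
    obtain ⟨c, rfl⟩ := hsurj g
    exact congrFun e3 c
  · intro β
    let e : C ≃* G := MulEquiv.ofBijective j ⟨hj, hsurj⟩
    have hχ : IsIrrCharacter G (fun g => (β : C → ℂ) (e.symm g)) :=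
      isIrrCharacter_comp_surj e.symm.toMonoidHom e.symm.surjective β.2
    refine ⟨⟨_, hχ⟩, ?_, ?_⟩
    · intro σ hσ g
      have : σ g = g := by
        have hg : g ∈ j.range := hsurj g
        exact (hC g).mp hg σ hσ
      show (β : C → ℂ) (e.symm (σ g)) = (β : C → ℂ) (e.symm g)
      rw [this]
    · intro k
      have h1 : (fun c => (fun g => (β : C → ℂ) (e.symm g)) (j c)) = (β : C → ℂ) := by
        funext c
        show (β : C → ℂ) (e.symm (e c)) = _
        rw [MulEquiv.symm_apply_apply]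
      show classInner (fun c => (fun g => (β : C → ℂ) (e.symm g)) (j c)) (β : C → ℂ) ≠ _
      rw [h1, helper4.classInner_irr_self β.2]
      exact h1ne k

end Trivial

section Surj

variable {G : Type u} [Group G] [Fintype G] {C : Type u} [Group C] [Fintype C]

/-- The regular character: `∑_χ χ(1) χ(g) = |G| [g = 1]`. -/
theorem sum_irr_one_mul [Fintype (IrrCharacter G)] [DecidableEq G] (g : G) :
    ∑ χ : IrrCharacter G, (χ : G → ℂ) g * (charDegree (χ : G → ℂ) : ℂ) =
      if g = 1 then (Nat.card G : ℂ) else 0 := by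
  classical
  have h := helper83.second_orthogonality (G := G) g 1
  have hc : ∀ χ : IrrCharacter G, conj ((χ : G → ℂ) 1) = (charDegree (χ : G → ℂ) : ℂ) := by
    intro χ
    rw [irr_one_eq, Complex.conj_natCast]
  simp_rw [hc] at h
  rw [h]
  by_cases hg : g = 1
  · subst hg
    rw [if_pos (IsConj.refl 1), if_pos rfl]
    congr 1
    have : Subgroup.centralizer ({1} : Set G) = ⊤ := by
      rw [eq_top_iff]
      intro z _
      rw [Subgroup.mem_centralizer_iff]
      intro y hy
      rw [Set.mem_singleton_iff.mp hy]; simp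
    rw [this, Subgroup.card_top]
  · rw [if_neg hg, if_neg]
    intro hconj
    exact hg (isConj_one_left.mp hconj)

/-- Surjectivity of the Glauberman correspondence: every irreducible character of the fixed
points has multiplicity prime to `p` in some invariant irreducible character. -/
theorem exists_inv_grel (p : ℕ) [hp : Fact p.Prime] (X : Subgroup (MulAut G))
    (hX : IsPGroup p X) (hpG : ¬ p ∣ Nat.card G) (j : C →* G) (hj : Function.Injective j)
    (hC : ∀ g, g ∈ j.range ↔ g ∈ fixedPts X) (β : IrrCharacter C) :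
    ∃ χ : IrrCharacter G, IsInvFun X (χ : G → ℂ) ∧ GRel p j (χ : G → ℂ) (β : C → ℂ) := by
  classical
  letI : Fintype (IrrCharacter G) := Fintype.ofFinite _
  have hm : ∀ χ : IrrCharacter G, ∃ m : ℕ,
      classInner (fun c => (χ : G → ℂ) (j c)) (β : C → ℂ) = m := fun χ =>
    helper4.exists_nat_classInner_irr
      (helper4.isCharacter_comp j (helper4.isCharacter_of_isIrrCharacter χ.2)) β.2
  choose m hm using hm
  letI : MulAction X (IrrCharacter G) :=
    { smul := fun σ χ => ⟨fun g => (χ : G → ℂ) ((σ : MulAut G)⁻¹ g),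
        isIrrCharacter_comp_aut (σ : MulAut G)⁻¹ χ.2⟩
      one_smul := fun χ => Subtype.ext (funext fun g => by
        show (χ : G → ℂ) (((1 : X) : MulAut G)⁻¹ g) = (χ : G → ℂ) g
        simp)
      mul_smul := fun σ τ χ => Subtype.ext (funext fun g => by
        show (χ : G → ℂ) (((σ * τ : X) : MulAut G)⁻¹ g) =
          (χ : G → ℂ) ((τ : MulAut G)⁻¹ ((σ : MulAut G)⁻¹ g))
        simp [mul_inv_rev, MulAut.mul_apply]) }
  have hsmul : ∀ (σ : X) (χ : IrrCharacter G) (g : G),
      ((σ • χ : IrrCharacter G) : G → ℂ) g = (χ : G → ℂ) ((σ : MulAut G)⁻¹ g) := fun _ _ _ => rfl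
  let w : IrrCharacter G → ℕ := fun χ => charDegree (χ : G → ℂ) * m χ
  have hfixj : ∀ (σ : X) (c : C), (σ : MulAut G)⁻¹ (j c) = j c := by
    intro σ c
    exact (hC _).mp ⟨c, rfl⟩ _ (inv_mem σ.2)
  have hw : ∀ (σ : X) (χ : IrrCharacter G), w (σ • χ) = w χ := by
    intro σ χ
    have h1 : charDegree ((σ • χ : IrrCharacter G) : G → ℂ) = charDegree (χ : G → ℂ) := by
      unfold charDegree
      rw [hsmul, map_one]
    have h2 : m (σ • χ) = m χ := by
      have : (m (σ • χ) : ℂ) = (m χ : ℂ) := by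
        rw [← hm, ← hm]
        congr 1
        funext c
        rw [hsmul, hfixj]
      exact_mod_cast this
    show charDegree ((σ • χ : IrrCharacter G) : G → ℂ) * m (σ • χ) = _
    rw [h1, h2]
  have htotal : (∑ χ : IrrCharacter G, w χ) * Nat.card C =
      Nat.card G * charDegree (β : C → ℂ) := by
    have hC0 : (Nat.card C : ℂ) ≠ 0 := by exact_mod_cast Nat.card_pos.ne'
    have h1 : ∀ χ : IrrCharacter G, ((w χ : ℕ) : ℂ) * (Nat.card C : ℂ) =
        ∑ c : C, conj ((β : C → ℂ) c) * ((χ : G → ℂ) (j c) * (charDegree (χ : G → ℂ) : ℂ)) := by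
      intro χ
      show ((charDegree (χ : G → ℂ) * m χ : ℕ) : ℂ) * _ = _
      push_cast
      rw [← hm]
      unfold classInner
      rw [Finset.mul_sum, Finset.mul_sum, Finset.sum_mul]
      apply Finset.sum_congr rfl
      intro c _
      field_simp
    have h2 : ((∑ χ : IrrCharacter G, w χ : ℕ) : ℂ) * (Nat.card C : ℂ) =
        (Nat.card G : ℂ) * (charDegree (β : C → ℂ) : ℂ) := by
      push_cast
      rw [Finset.sum_mul, Finset.sum_congr rfl (fun χ _ => h1 χ), Finset.sum_comm]
      simp_rw [← Finset.mul_sum, sum_irr_one_mul]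
      rw [Finset.sum_eq_single (1 : C)]
      · rw [j.map_one, if_pos rfl, irr_one_eq, Complex.conj_natCast]
        ring
      · intro c _ hc
        have : j c ≠ 1 := fun h => hc (hj (by rw [h, map_one]))
        rw [if_neg this, mul_zero]
      · intro h; exact absurd (Finset.mem_univ _) h
    exact_mod_cast h2
  by_contra hcon
  push Not at hcon
  have hfix : ∀ χ : IrrCharacter G, (∀ σ : X, σ • χ = χ) → p ∣ w χ := by
    intro χ hχ
    have hinv : IsInvFun X (χ : G → ℂ) := by
      intro σ hσ g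
      have h1 := congrArg (fun ψ : IrrCharacter G => (ψ : G → ℂ) (σ g)) (hχ ⟨σ, hσ⟩)
      simp only [hsmul] at h1
      rw [← h1]
      simp
    have h2 := hcon χ hinv
    unfold GRel at h2
    push Not at h2
    obtain ⟨k, hk⟩ := h2
    rw [hm] at hk
    have h3 : (m χ : ℤ) = (p : ℤ) * k := by exact_mod_cast hk
    have h4 : p ∣ m χ := by
      have : (p : ℤ) ∣ (m χ : ℤ) := ⟨k, h3⟩
      exact_mod_cast this
    exact Dvd.dvd.mul_left h4 _
  have hdvd := dvd_sum_of_fixed p hX w hw hfix
  have h5 : p ∣ Nat.card G * charDegree (β : C → ℂ) := by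
    rw [← htotal]
    exact Dvd.dvd.mul_right hdvd _
  rcases (Nat.Prime.dvd_mul hp.out).mp h5 with h | h
  · exact hpG h
  · have h1 : charDegree (β : C → ℂ) ∣ Nat.card C := irr_degree_dvd_card β
    have h2 : Nat.card C ∣ Nat.card G := Subgroup.card_dvd_of_injective j hj
    exact hpG (h.trans (h1.trans h2))

end Surj

section PrimeCorr

variable {G : Type u} [Group G] [Fintype G] {C : Type u} [Group C] [Fintype C]

/-- For operators of prime order: the number of invariant irreducible characters is the number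
of irreducible characters of the fixed points (Brauer's permutation lemma). -/
theorem card_inv_irr_prime (p : ℕ) [hp : Fact p.Prime] (X : Subgroup (MulAut G))
    (hX : Nat.card X = p) (hpG : ¬ p ∣ Nat.card G) (j : C →* G) (hj : Function.Injective j)
    (hC : ∀ g, g ∈ j.range ↔ g ∈ fixedPts X) :
    Nat.card {χ : IrrCharacter G // IsInvFun X (χ : G → ℂ)} = Nat.card (IrrCharacter C) := by
  classical
  have hne : ∃ b : X, b ≠ 1 := by
    have h1 : 1 < Nat.card X := by rw [hX]; exact hp.out.one_lt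
    haveI : Nontrivial X := (Finite.one_lt_card_iff_nontrivial).mp h1
    exact exists_ne 1
  obtain ⟨b, hb⟩ := hne
  have hpow : ∀ σ ∈ X, ∃ i : ℕ, σ = (b : MulAut G) ^ i := by
    intro σ hσ
    obtain ⟨i, hi⟩ := (mem_powers_of_prime_card hX hb : (⟨σ, hσ⟩ : X) ∈ Submonoid.powers b)
    refine ⟨i, ?_⟩
    have := congrArg Subtype.val hi
    simpa using this.symm
  have hPG : IsPGroup p X := IsPGroup.of_card (n := 1) (by rw [hX, pow_one])
  have hB := helper84.card_irr_fixed_eq (G := G) (fun g => (b : MulAut G) g)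
    (fun χ => ⟨fun g => (χ : G → ℂ) ((b : MulAut G) g), isIrrCharacter_comp_aut _ χ.2⟩)
    (fun χ g => rfl)
    (fun K => ∀ σ ∈ X, ∀ g, ConjClasses.mk g = K → ConjClasses.mk (σ g) = K)
    (by
      intro g
      constructor
      · intro h
        have := h (b : MulAut G) b.2 g rfl
        exact (ConjClasses.mk_eq_mk_iff_isConj.mp this).symm
      · intro h σ hσ g' hg'
        obtain ⟨i, rfl⟩ := hpow σ hσ
        have hg'' : IsConj g' g := ConjClasses.mk_eq_mk_iff_isConj.mp hg'
        rw [ConjClasses.mk_eq_mk_iff_isConj]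
        have h1 : ∀ i : ℕ, IsConj (((b : MulAut G) ^ i) g) g := by
          intro i
          induction i with
          | zero =>
            rw [pow_zero, MulAut.one_apply]
          | succ i ih =>
            rw [pow_succ, MulAut.mul_apply]
            exact (((((b : MulAut G) ^ i : MulAut G) : G ≃* G).toMonoidHom.map_isConj
              h.symm)).trans ih
        exact (((((b : MulAut G) ^ i : MulAut G) : G ≃* G).toMonoidHom.map_isConj hg'')).trans
          (h1 i))
  have e1 : Nat.card {χ : IrrCharacter G // IsInvFun X (χ : G → ℂ)} =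
      Nat.card {χ : IrrCharacter G //
        (⟨fun g => (χ : G → ℂ) ((b : MulAut G) g), isIrrCharacter_comp_aut _ χ.2⟩ :
          IrrCharacter G) = χ} := by
    apply Nat.card_congr
    apply Equiv.subtypeEquivRight
    intro χ
    constructor
    · intro h
      exact Subtype.ext (funext fun g => h b b.2 g)
    · intro h σ hσ g
      have h0 : ∀ g, (χ : G → ℂ) ((b : MulAut G) g) = (χ : G → ℂ) g :=
        fun g => congrFun (congrArg Subtype.val h) g
      obtain ⟨i, rfl⟩ := hpow σ hσ
      clear hσ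
      induction i generalizing g with
      | zero => simp
      | succ i ih =>
        rw [pow_succ, MulAut.mul_apply, ih, h0]
  rw [e1, hB, card_invariant_classes p X j hPG hpG hj hC,
    ← helper4.card_irr_eq_card_conjClasses]

/-- **Glauberman correspondence for operators of prime order.** -/
theorem gcorr_prime (p : ℕ) [hp : Fact p.Prime] (X : Subgroup (MulAut G))
    (hX : Nat.card X = p) (hpG : ¬ p ∣ Nat.card G) (j : C →* G) (hj : Function.Injective j)
    (hC : ∀ g, g ∈ j.range ↔ g ∈ fixedPts X) : GCorr p X j := by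
  classical
  have hPG : IsPGroup p X := IsPGroup.of_card (n := 1) (by rw [hX, pow_one])
  have hP1 : ∀ χ : IrrCharacter G, IsInvFun X (χ : G → ℂ) →
      ∃ β : IrrCharacter C, SF p j (χ : G → ℂ) β := by
    intro χ hχ
    obtain ⟨β, ε, hε, hall⟩ := glauberman_prime_exists p X j hX hpG hj hC χ.1 χ.2 hχ
    exact ⟨β, ε, hε, hall⟩
  have hP3 := exists_inv_grel p X hPG hpG j hj hC
  refine ⟨hP1, ?_, hP3⟩
  -- injectivity by counting
  let f : {χ : IrrCharacter G // IsInvFun X (χ : G → ℂ)} → IrrCharacter C :=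
    fun χ => Classical.choose (hP1 χ.1 χ.2)
  have hf : ∀ χ : {χ : IrrCharacter G // IsInvFun X (χ : G → ℂ)},
      SF p j (χ.1 : G → ℂ) (f χ) := fun χ => Classical.choose_spec (hP1 χ.1 χ.2)
  have hsurj : Function.Surjective f := by
    intro β
    obtain ⟨χ, hχ, hrel⟩ := hP3 β
    exact ⟨⟨χ, hχ⟩, ((hf ⟨χ, hχ⟩).unique hrel).symm⟩
  have hcard := card_inv_irr_prime p X hX hpG j hj hC
  obtain ⟨e⟩ := Finite.card_eq.mp hcard
  have hinj : Function.Injective f := (Finite.injective_iff_surjective_of_equiv e).mpr hsurj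
  intro χ₁ χ₂ h₁ h₂ β hr₁ hr₂
  have e1 : f ⟨χ₁, h₁⟩ = β := ((hf ⟨χ₁, h₁⟩).unique hr₁).symm
  have e2 : f ⟨χ₂, h₂⟩ = β := ((hf ⟨χ₂, h₂⟩).unique hr₂).symm
  exact congrArg Subtype.val (hinj (e1.trans e2.symm))

end PrimeCorr

section Res

variable {G : Type u} [Group G]

/-- The action of `A` on the fixed points of a subgroup `T` normalized by `A`. -/
def resAut (A T : Subgroup (MulAut G)) (hnorm : ∀ σ ∈ A, ∀ τ ∈ T, σ⁻¹ * τ * σ ∈ T) :
    A →* MulAut (fixedPts T) where
  toFun σ :=
    { toFun := fun b => ⟨(σ : MulAut G) b.1, fun τ hτ => by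
        have h1 := b.2 ((σ : MulAut G)⁻¹ * τ * σ) (hnorm σ σ.2 τ hτ)
        have h2 : τ ((σ : MulAut G) b.1) =
            (σ : MulAut G) (((σ : MulAut G)⁻¹ * τ * σ) b.1) := by
          simp [MulAut.mul_apply]
        rw [h2, h1]⟩
      invFun := fun b => ⟨(σ : MulAut G)⁻¹ b.1, fun τ hτ => by
        have h0 := hnorm (σ : MulAut G)⁻¹ (inv_mem σ.2) τ hτ
        rw [inv_inv] at h0
        have h1 := b.2 _ h0
        have h2 : τ ((σ : MulAut G)⁻¹ b.1) =
            (σ : MulAut G)⁻¹ (((σ : MulAut G) * τ * (σ : MulAut G)⁻¹) b.1) := by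
          simp [MulAut.mul_apply]
        rw [h2, h1]⟩
      left_inv := fun b => Subtype.ext (by simp)
      right_inv := fun b => Subtype.ext (by simp)
      map_mul' := fun a b => Subtype.ext (map_mul (σ : MulAut G) a.1 b.1) }
  map_one' := by ext b; rfl
  map_mul' := fun σ τ => by ext b; rfl

theorem resAut_apply (A T : Subgroup (MulAut G))
    (hnorm : ∀ σ ∈ A, ∀ τ ∈ T, σ⁻¹ * τ * σ ∈ T) (σ : A) (b : fixedPts T) :
    ((resAut A T hnorm σ) b : G) = (σ : MulAut G) b := rfl

end Res

section Comp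

variable {G B C : Type u} [Group G] [Group B] [Group C] [Fintype B] [Fintype C]

/-- Transitivity of the strong form of the correspondence. -/
theorem SF_comp (p : ℕ) (j₁ : B →* G) (j₂ : C →* B) (χ : G → ℂ) (hχ : IsCharacter G χ)
    (χ' : IrrCharacter B) (β : IrrCharacter C) (h₁ : SF p j₁ χ χ')
    (h₂ : SF p j₂ (χ' : B → ℂ) β) : SF p (j₁.comp j₂) χ β := by
  classical
  letI : Fintype (IrrCharacter B) := Fintype.ofFinite _
  obtain ⟨ε₁, hε₁, hall₁⟩ := h₁
  obtain ⟨ε₂, hε₂, hall₂⟩ := h₂
  choose k₁ hk₁ using hall₁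
  refine ⟨ε₁ * ε₂, ?_, ?_⟩
  · rcases hε₁ with rfl | rfl <;> rcases hε₂ with rfl | rfl <;> simp
  intro β'
  obtain ⟨k₂, hk₂⟩ := hall₂ β'
  have hn : ∀ β'' : IrrCharacter B, ∃ n : ℕ,
      classInner (fun c => (β'' : B → ℂ) (j₂ c)) (β' : C → ℂ) = n := fun β'' =>
    helper4.exists_nat_classInner_irr
      (helper4.isCharacter_comp j₂ (helper4.isCharacter_of_isIrrCharacter β''.2)) β'.2
  choose n hn using hn
  have hcf : IsClassFunction B (fun b => χ (j₁ b)) :=
    helper4.isClassFunction_of_isCharacter (helper4.isCharacter_comp j₁ hχ)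
  have hexp := helper4.classFunction_eq_sum_irr hcf
  have h1 : (fun c => χ ((j₁.comp j₂) c)) = ∑ β'' : IrrCharacter B,
      classInner (fun b => χ (j₁ b)) (β'' : B → ℂ) • (fun c => (β'' : B → ℂ) (j₂ c)) := by
    funext c
    have := congrFun hexp (j₂ c)
    rw [Finset.sum_apply] at this ⊢
    exact this
  rw [h1, helper4.classInner_sum_left]
  simp_rw [helper4.classInner_smul_left, hn, hk₁]
  refine ⟨∑ β'', k₁ β'' * n β'' + ε₁ * k₂, ?_⟩
  have hχ'n : (n χ' : ℤ) = (p : ℤ) * k₂ + if β' = β then ε₂ else 0 := by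
    have : (n χ' : ℂ) = (((p : ℤ) * k₂ + if β' = β then ε₂ else 0 : ℤ) : ℂ) := by
      rw [← hn, hk₂]
    exact_mod_cast this
  have hZ : ∑ β'' : IrrCharacter B, ((p : ℤ) * k₁ β'' + if β'' = χ' then ε₁ else 0) *
      (n β'' : ℤ) =
      (p : ℤ) * (∑ β'', k₁ β'' * n β'' + ε₁ * k₂) + if β' = β then ε₁ * ε₂ else 0 := by
    simp_rw [add_mul, Finset.sum_add_distrib, ite_mul, zero_mul]
    rw [Finset.sum_ite_eq' Finset.univ χ' (fun β'' => ε₁ * (n β'' : ℤ)), if_pos (Finset.mem_univ _),
      hχ'n, mul_add]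
    have : ∑ x : IrrCharacter B, (p : ℤ) * k₁ x * (n x : ℤ) =
        ∑ x : IrrCharacter B, (p : ℤ) * (k₁ x * (n x : ℤ)) :=
      Finset.sum_congr rfl (fun x _ => by ring)
    rw [this, ← Finset.mul_sum]
    split_ifs <;> ring
  have hZ' := congrArg (Int.cast : ℤ → ℂ) hZ
  rw [← hZ']
  push_cast
  rfl

variable [Fintype G]

/-- Invariance of the correspondent. -/
theorem SF_inv (p : ℕ) [hp : Fact p.Prime] (j₁ : B →* G) (σ : MulAut G) (σB : MulAut B)
    (hσ : ∀ b, j₁ (σB b) = σ (j₁ b)) (χ : G → ℂ) (hχσ : ∀ g, χ (σ g) = χ g)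
    (χ' : IrrCharacter B) (h : SF p j₁ χ χ') : ∀ b, (χ' : B → ℂ) (σB b) = (χ' : B → ℂ) b := by
  classical
  obtain ⟨ε, hε, hall⟩ := h
  let ψ : IrrCharacter B := ⟨fun b => (χ' : B → ℂ) (σB b), isIrrCharacter_comp_aut σB χ'.2⟩
  have h1 : classInner (fun b => χ (j₁ b)) (ψ : B → ℂ) =
      classInner (fun b => χ (j₁ b)) (χ' : B → ℂ) := by
    have := classInner_comp_equiv (σB : B ≃* B) (fun b => χ (j₁ b)) (χ' : B → ℂ)
    rw [← this]
    congr 1
    funext b
    show χ (j₁ b) = χ (j₁ (σB b))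
    rw [hσ, hχσ]
  by_contra hne
  push Not at hne
  have hψ : ψ ≠ χ' := fun heq => by
    obtain ⟨b, hb⟩ := hne
    exact hb (congrFun (congrArg Subtype.val heq) b)
  obtain ⟨k, hk⟩ := hall ψ
  obtain ⟨k', hk'⟩ := hall χ'
  rw [if_neg hψ, add_zero] at hk
  rw [if_pos rfl] at hk'
  rw [h1, hk'] at hk
  have h2 : (p : ℤ) * k' + ε = (p : ℤ) * k := by exact_mod_cast hk
  exact not_dvd_sign p hε ⟨k - k', by linarith⟩

/-- Transport of the relation by an automorphism. -/
theorem GRel_transport (p : ℕ) (j₁ : B →* G) (σ : MulAut G) (σB : MulAut B)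
    (hσ : ∀ b, j₁ (σB b) = σ (j₁ b)) (χ : G → ℂ) (χ' : B → ℂ)
    (hχ' : ∀ b, χ' (σB b) = χ' b) (h : GRel p j₁ χ χ') :
    GRel p j₁ (fun g => χ (σ g)) χ' := by
  intro k
  have h1 := classInner_comp_equiv (σB : B ≃* B) (fun b => χ (j₁ b)) χ'
  have h2 : classInner (fun b => (fun g => χ (σ g)) (j₁ b)) χ' =
      classInner (fun b => χ (j₁ b)) χ' := by
    rw [← h1]
    congr 1
    · funext b
      show χ (σ (j₁ b)) = χ (j₁ (σB b))
      rw [hσ]
    · funext b
      exact (hχ' b).symm
  rw [h2]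
  exact h k

end Comp

section Induction

/-- **Glauberman correspondence for `p`-groups of operators**, inductive form. -/
theorem glauberman_pgroup_aux (p : ℕ) [hp : Fact p.Prime] : ∀ (n : ℕ) {G : Type u} [Group G]
    [Fintype G] (X : Subgroup (MulAut G)), Nat.card X ≤ n → IsPGroup p X → ¬ p ∣ Nat.card G →
    ∀ {C : Type u} [Group C] [Fintype C] (j : C →* G), Function.Injective j →
    (∀ g, g ∈ j.range ↔ g ∈ fixedPts X) → GCorr p X j := by
  intro n
  induction n with
  | zero =>
    intro G _ _ X hn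
    exact absurd hn (by have := Nat.card_pos (α := X); omega)
  | succ n ih =>
    intro G _ _ X hn hX hpG C _ _ j hj hC
    classical
    by_cases hbot : X = ⊥
    · apply gcorr_of_surjective p X j hj ?_ hC
      intro g
      have hg : g ∈ fixedPts X := by
        intro σ hσ
        rw [hbot, Subgroup.mem_bot] at hσ
        rw [hσ]; rfl
      exact (hC g).mpr hg
    · haveI : Nontrivial X := (Subgroup.nontrivial_iff_ne_bot X).mpr hbot
      haveI : Nontrivial (Subgroup.center X) := hX.center_nontrivial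
      have hdvd : p ∣ Nat.card (Subgroup.center X) := by
        rcases (hX.to_subgroup (Subgroup.center X)).card_eq_or_dvd with h | h
        · exact absurd h (Finite.one_lt_card (α := Subgroup.center X)).ne'
        · exact h
      obtain ⟨z, hz⟩ := exists_prime_orderOf_dvd_card' p hdvd
      set z' : MulAut G := ((z : X) : MulAut G) with hz'
      have hz'X : z' ∈ X := (z : X).2
      have hz'ord : orderOf z' = p := by
        rw [hz', Subgroup.orderOf_coe, Subgroup.orderOf_coe, hz]
      let T : Subgroup (MulAut G) := Subgroup.zpowers z'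
      have hTX : T ≤ X := Subgroup.zpowers_le.mpr hz'X
      have hTcard : Nat.card T = p := by
        rw [Nat.card_zpowers, hz'ord]
      have hcomm : ∀ σ ∈ X, ∀ τ ∈ T, σ * τ = τ * σ := by
        intro σ hσ τ hτ
        obtain ⟨i, rfl⟩ := Subgroup.mem_zpowers_iff.mp hτ
        have h1 : (⟨σ, hσ⟩ : X) * (z : X) = (z : X) * ⟨σ, hσ⟩ :=
          Subgroup.mem_center_iff.mp z.2 ⟨σ, hσ⟩
        have h2 : σ * z' = z' * σ := congrArg Subtype.val h1
        exact (Commute.zpow_right (show Commute σ z' from h2) i).eq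
      have hnorm : ∀ σ ∈ X, ∀ τ ∈ T, σ⁻¹ * τ * σ ∈ T := by
        intro σ hσ τ hτ
        have h1 : σ⁻¹ * τ * σ = τ := by
          rw [mul_assoc, ← hcomm σ hσ τ hτ, inv_mul_cancel_left]
        rw [h1]; exact hτ
      letI : Fintype (fixedPts T) := Fintype.ofFinite _
      have hpB : ¬ p ∣ Nat.card (fixedPts T) := fun h =>
        hpG (h.trans (Subgroup.card_subgroup_dvd_card _))
      have hT : GCorr p T (fixedPts T).subtype :=
        gcorr_prime p T hTcard hpG (fixedPts T).subtype Subtype.val_injective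
          (fun g => by rw [Subgroup.range_subtype])
      let res := resAut X T hnorm
      have hker : (z : X) ∈ res.ker := by
        rw [MonoidHom.mem_ker]
        ext b
        show z' (b : G) = (b : G)
        exact b.2 z' (Subgroup.mem_zpowers z')
      have hzne : (z : X) ≠ 1 := by
        intro h
        have h1 : orderOf (z : X) = p := by rw [Subgroup.orderOf_coe, hz]
        rw [h, orderOf_one] at h1
        exact hp.out.one_lt.ne h1
      have hX'card : Nat.card res.range ≤ n := by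
        have h1 : Nat.card res.range = res.ker.index := (Subgroup.index_ker res).symm
        have h2 : res.ker.index * Nat.card res.ker = Nat.card X := Subgroup.index_mul_card _
        have h3 : 1 < Nat.card res.ker := by
          haveI : Nontrivial res.ker := ⟨⟨⟨(z : X), hker⟩, 1, fun h => hzne (congrArg Subtype.val h)⟩⟩
          exact Finite.one_lt_card
        have h4 : 0 < res.ker.index := Nat.pos_of_ne_zero (Subgroup.index_ne_zero_of_finite)
        nlinarith
      have hX' : IsPGroup p res.range :=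
        hX.of_surjective res.rangeRestrict res.rangeRestrict_surjective
      let j' : C →* fixedPts T := j.codRestrict (fixedPts T) (fun c => by
        intro τ hτ
        exact (hC _).mp ⟨c, rfl⟩ τ (hTX hτ))
      have hj' : Function.Injective j' := fun a b h => hj (congrArg Subtype.val h)
      have hC' : ∀ b : fixedPts T, b ∈ j'.range ↔ b ∈ fixedPts res.range := by
        intro b
        constructor
        · rintro ⟨c, rfl⟩ τ ⟨σ, rfl⟩
          apply Subtype.ext
          show (σ : MulAut G) (j c) = j c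
          exact (hC _).mp ⟨c, rfl⟩ σ σ.2
        · intro hb
          have hbX : (b : G) ∈ fixedPts X := by
            intro σ hσ
            have := hb (res ⟨σ, hσ⟩) ⟨⟨σ, hσ⟩, rfl⟩
            exact congrArg Subtype.val this
          obtain ⟨c, hc⟩ := (hC _).mpr hbX
          exact ⟨c, Subtype.ext hc⟩
      have hcorr' : GCorr p res.range j' := ih res.range hX'card hX' hpB j' hj' hC'
      have hjj : j = (fixedPts T).subtype.comp j' := by
        ext c; rfl
      have hinv' : ∀ χ : IrrCharacter G, IsInvFun X (χ : G → ℂ) →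
          ∀ χ' : IrrCharacter (fixedPts T), SF p (fixedPts T).subtype (χ : G → ℂ) χ' →
            IsInvFun res.range (χ' : fixedPts T → ℂ) := by
        intro χ hχ χ' hsf τ hτ b
        obtain ⟨σ, rfl⟩ := hτ
        exact SF_inv p (fixedPts T).subtype (σ : MulAut G) (res σ) (fun b => rfl) (χ : G → ℂ)
          (hχ σ σ.2) χ' hsf b
      have hchain : ∀ χ : IrrCharacter G, IsInvFun X (χ : G → ℂ) →
          ∃ χ' : IrrCharacter (fixedPts T), ∃ β : IrrCharacter C,
            SF p (fixedPts T).subtype (χ : G → ℂ) χ' ∧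
            IsInvFun res.range (χ' : fixedPts T → ℂ) ∧
            SF p j' (χ' : fixedPts T → ℂ) β ∧ SF p j (χ : G → ℂ) β := by
        intro χ hχ
        obtain ⟨χ', hχ'⟩ := hT.1 χ (fun σ hσ => hχ σ (hTX hσ))
        have hinvχ' := hinv' χ hχ χ' hχ'
        obtain ⟨β, hβ⟩ := hcorr'.1 χ' hinvχ'
        refine ⟨χ', β, hχ', hinvχ', hβ, ?_⟩
        rw [hjj]
        exact SF_comp p (fixedPts T).subtype j' (χ : G → ℂ)
          (helper4.isCharacter_of_isIrrCharacter χ.2) χ' β hχ' hβ
      refine ⟨?_, ?_, ?_⟩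
      · intro χ hχ
        obtain ⟨χ', β, -, -, -, h⟩ := hchain χ hχ
        exact ⟨β, h⟩
      · intro χ₁ χ₂ h₁ h₂ β hr₁ hr₂
        obtain ⟨χ₁', β₁, ha₁, hb₁, hc₁, hd₁⟩ := hchain χ₁ h₁
        obtain ⟨χ₂', β₂, ha₂, hb₂, hc₂, hd₂⟩ := hchain χ₂ h₂
        have e₁ : β = β₁ := hd₁.unique hr₁
        have e₂ : β = β₂ := hd₂.unique hr₂
        rw [← e₁] at hc₁
        rw [← e₂] at hc₂
        have e₃ : χ₁' = χ₂' := hcorr'.2.1 χ₁' χ₂' hb₁ hb₂ β hc₁.grel hc₂.grel
        rw [← e₃] at ha₂
        exact hT.2.1 χ₁ χ₂ (fun σ hσ => h₁ σ (hTX hσ)) (fun σ hσ => h₂ σ (hTX hσ)) χ₁'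
          ha₁.grel ha₂.grel
      · intro β
        obtain ⟨χ', hχ'inv, hχ'rel⟩ := hcorr'.2.2 β
        obtain ⟨χ, hχT, hχrel⟩ := hT.2.2 χ'
        have hχX : IsInvFun X (χ : G → ℂ) := by
          intro σ hσ g
          let χσ : IrrCharacter G :=
            ⟨fun g => (χ : G → ℂ) (σ g), isIrrCharacter_comp_aut σ χ.2⟩
          have hχσT : IsInvFun T (χσ : G → ℂ) := by
            intro τ hτ g
            show (χ : G → ℂ) (σ (τ g)) = (χ : G → ℂ) (σ g)
            have h1 : σ (τ g) = τ (σ g) := by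
              have h2 := congrArg (fun f : MulAut G => f g) (hcomm σ hσ τ hτ)
              simpa [MulAut.mul_apply] using h2
            rw [h1, hχT τ hτ]
          have hrel : GRel p (fixedPts T).subtype (χσ : G → ℂ) (χ' : fixedPts T → ℂ) :=
            GRel_transport p (fixedPts T).subtype σ (res ⟨σ, hσ⟩) (fun b => rfl) (χ : G → ℂ)
              (χ' : fixedPts T → ℂ) (fun b => hχ'inv (res ⟨σ, hσ⟩) ⟨⟨σ, hσ⟩, rfl⟩ b) hχrel
          have h3 := hT.2.1 χσ χ hχσT hχT χ' hrel hχrel
          exact congrFun (congrArg Subtype.val h3) g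
        refine ⟨χ, hχX, ?_⟩
        obtain ⟨χ'', β'', ha, hb, hc, hd⟩ := hchain χ hχX
        have e1 : χ' = χ'' := ha.unique hχrel
        rw [← e1] at hc
        have e2 : β = β'' := hc.unique hχ'rel
        rw [e2]
        exact hd.grel

/-- **Glauberman correspondence for `p`-groups of operators.** -/
theorem glauberman_pgroup (p : ℕ) [hp : Fact p.Prime] {G : Type u} [Group G] [Fintype G]
    (X : Subgroup (MulAut G)) (hX : IsPGroup p X) (hpG : ¬ p ∣ Nat.card G)
    {C : Type u} [Group C] [Fintype C] (j : C →* G) (hj : Function.Injective j)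
    (hC : ∀ g, g ∈ j.range ↔ g ∈ fixedPts X) : GCorr p X j :=
  glauberman_pgroup_aux p (Nat.card X) X le_rfl hX hpG j hj hC

end Induction

end Cfsg.Agent.Lib.helper82
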