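import Mathlib
import Cfsg.Prelude.Def_Characters
import Cfsg.Prelude.Def_Blocks
import Cfsg.Agent.Lib.helper82.GlaubP

/-!
# Coprime actions inside an ambient group (helper82)

`G, S ≤ Γ` with `S` normalizing `G`: the conjugation homomorphism `conjHom : S →* MulAut G`, and
the translation of invariance / fixed points to the language of `GlaubP.lean`.
-/

set_option autoImplicit false
set_option linter.style.haveILetI false
set_option linter.unusedSectionVars false

namespace Cfsg.Agent.Lib.helper82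

open Module Cfsg
open Cfsg.Agent.Lib
open scoped ComplexConjugate

universe u

section Internal

variable {Γ : Type u} [Group Γ] (G S : Subgroup Γ)
  (hnorm : ∀ s ∈ S, ∀ g ∈ G, s * g * s⁻¹ ∈ G)

/-- Conjugation action of `S` on a subgroup `G` it normalizes. -/
def conjHom : S →* MulAut G where
  toFun s :=
    { toFun := fun g => ⟨(s : Γ) * g * (s : Γ)⁻¹, hnorm s s.2 g g.2⟩
      invFun := fun g => ⟨(s : Γ)⁻¹ * g * (s : Γ), by
        simpa using hnorm (s : Γ)⁻¹ (inv_mem s.2) g g.2⟩
      left_inv := fun g => Subtype.ext (by simp [mul_assoc])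
      right_inv := fun g => Subtype.ext (by simp [mul_assoc])
      map_mul' := fun a b => Subtype.ext (by simp [mul_assoc]) }
  map_one' := by
    ext g
    simp
  map_mul' := fun s t => by
    ext g
    simp [mul_assoc]

theorem conjHom_apply (s : S) (g : G) :
    ((conjHom G S hnorm s) g : Γ) = (s : Γ) * g * (s : Γ)⁻¹ := rfl

theorem isInvFun_conj_iff (χ : G → ℂ) :
    IsInvFun (conjHom G S hnorm).range χ ↔
      ∀ s ∈ S, ∀ g g' : G, (g' : Γ) = s * g * s⁻¹ → χ g' = χ g := by
  constructor
  · intro h s hs g g' hg'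
    have h1 := h (conjHom G S hnorm ⟨s, hs⟩) ⟨⟨s, hs⟩, rfl⟩ g
    have h2 : g' = (conjHom G S hnorm ⟨s, hs⟩) g := Subtype.ext hg'
    rw [h2]
    exact h1
  · rintro h σ ⟨s, rfl⟩ g
    exact h s s.2 g _ rfl

theorem mem_fixedPts_conj_iff (g : G) :
    g ∈ fixedPts (conjHom G S hnorm).range ↔ (g : Γ) ∈ Subgroup.centralizer (S : Set Γ) := by
  rw [Subgroup.mem_centralizer_iff]
  constructor
  · intro h s hs
    have h1 := h (conjHom G S hnorm ⟨s, hs⟩) ⟨⟨s, hs⟩, rfl⟩
    have h2 : s * (g : Γ) * s⁻¹ = g := congrArg Subtype.val h1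
    calc s * (g : Γ) = s * (g : Γ) * s⁻¹ * s := by group
      _ = g * s := by rw [h2]
  · rintro h σ ⟨s, rfl⟩
    apply Subtype.ext
    show (s : Γ) * g * (s : Γ)⁻¹ = g
    rw [h s s.2]
    group

/-- The inclusion of `C = G ⊓ C(S)` has range the fixed points. -/
theorem range_inclusion_fixedPts (C : Subgroup Γ)
    (hC : C = G ⊓ Subgroup.centralizer (S : Set Γ)) (hCG : C ≤ G) (g : G) :
    g ∈ (Subgroup.inclusion hCG).range ↔ g ∈ fixedPts (conjHom G S hnorm).range := by
  rw [mem_fixedPts_conj_iff]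
  constructor
  · rintro ⟨c, rfl⟩
    have h1 : (c : Γ) ∈ G ⊓ Subgroup.centralizer (S : Set Γ) := hC ▸ c.2
    exact h1.2
  · intro h
    have h1 : (g : Γ) ∈ C := by
      rw [hC]
      exact ⟨g.2, h⟩
    exact ⟨⟨g, h1⟩, Subtype.ext rfl⟩

end Internal

section Nat

variable {G : Type u} [Group G] {C : Type u} [Group C] [Fintype C]

/-- `GRel` in terms of a natural multiplicity. -/
theorem grel_iff_nat (p : ℕ) (j : C →* G) (χ : G → ℂ) (β : C → ℂ) (m : ℕ)
    (hm : classInner (fun c => χ (j c)) β = (m : ℂ)) : GRel p j χ β ↔ ¬ p ∣ m := by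
  constructor
  · rintro h ⟨k, rfl⟩
    exact h (k : ℤ) (by rw [hm]; push_cast; ring)
  · intro h k hk
    rw [hm] at hk
    have h1 : (m : ℤ) = (p : ℤ) * k := by exact_mod_cast hk
    have h2 : (p : ℤ) ∣ (m : ℤ) := ⟨k, h1⟩
    exact h (by exact_mod_cast h2)

end Nat

section InternalCorr

variable {Γ : Type u} [Group Γ] [Finite Γ] (G S : Subgroup Γ) [Fintype G]
  (hnorm : ∀ s ∈ S, ∀ g ∈ G, s * g * s⁻¹ ∈ G)

/-- The Glauberman correspondence for a `p`-subgroup `S` normalizing `G`, of coprime order. -/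
theorem gcorr_internal (hcop : (Nat.card G).Coprime (Nat.card S)) (p : ℕ) [hp : Fact p.Prime]
    (hS : IsPGroup p S) (C : Subgroup Γ) [Fintype C]
    (hC : C = G ⊓ Subgroup.centralizer (S : Set Γ)) (hCG : C ≤ G) :
    GCorr p (conjHom G S hnorm).range (Subgroup.inclusion hCG) := by
  have hj := Subgroup.inclusion_injective hCG
  have hC' := range_inclusion_fixedPts G S hnorm C hC hCG
  by_cases hbot : S = ⊥
  · apply gcorr_of_surjective p _ _ hj ?_ hC'
    intro g
    apply (hC' g).mpr
    rintro σ ⟨s, rfl⟩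
    have hs : (s : Γ) = 1 := by
      have h1 : ∀ x : Γ, x ∈ S → x = 1 := by
        intro x hx
        rw [hbot, Subgroup.mem_bot] at hx
        exact hx
      exact h1 _ s.2
    apply Subtype.ext
    show (s : Γ) * g * (s : Γ)⁻¹ = g
    rw [hs]; simp
  · have hX : IsPGroup p (conjHom G S hnorm).range :=
      hS.of_surjective (conjHom G S hnorm).rangeRestrict
        (conjHom G S hnorm).rangeRestrict_surjective
    have hpS : p ∣ Nat.card S := by
      rcases hS.card_eq_or_dvd with h | h
      · exact absurd (Subgroup.card_eq_one.mp h) hbot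
      · exact h
    have hpG : ¬ p ∣ Nat.card G := by
      intro h
      have := Nat.dvd_gcd h hpS
      rw [hcop] at this
      exact hp.out.one_lt.ne' (Nat.dvd_one.mp this)
    exact glauberman_pgroup p _ hX hpG _ hj hC'

end InternalCorr

end Cfsg.Agent.Lib.helper82
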