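import Mathlib
import Cfsg.Prelude.Def_Characters
import Cfsg.Prelude.Def_Blocks
import Cfsg.Prelude.Def_Transfer
import Cfsg.Agent.Lib.helper82.ExtSylow
import Cfsg.Agent.Lib.helper40.PResidual

/-!
# Thompson's theorem on character degrees (helper82)

If `p` divides the degree of every nonlinear irreducible character of `G`, then `O^p(G)` has
order prime to `p`, so `G` has a normal `p`-complement.

Proof: put `N = O^p(G)`.  A `G`-invariant `ψ ∈ Irr(N)` of degree prime to `p` extends to `G`
(coprime determinantal order and degree, `exists_extension_of_coprime_det`), so it is linear.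
Counting fixed points of a Sylow `p`-subgroup on the sets of irreducible characters of `N` of a
given degree gives `|N| ≡ |N : N'|` modulo `p`, and `|N : N'|` is prime to `p`.
-/

set_option autoImplicit false
set_option linter.style.haveILetI false
set_option linter.unusedSectionVars false

namespace Cfsg.Agent.Lib.helper82

open Module Cfsg
open Cfsg.Agent.Lib

universe u

section Thompson

variable {G : Type u} [Group G] [Finite G] (p : ℕ) [hp : Fact p.Prime]

/-- Homomorphisms from `O^p(G)` to commutative groups have exponent prime to `p`. -/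
theorem pResidual_hom_pow {A : Type*} [CommGroup A] (f : ↥(pResidual p G) →* A)
    (n : ↥(pResidual p G)) :
    f n ^ (Nat.card (pResidual p G) / p ^ (Nat.card (pResidual p G)).factorization p) = 1 := by
  set o := Nat.card (pResidual p G) / p ^ (Nat.card (pResidual p G)).factorization p with ho
  let K : Subgroup (pResidual p G) := ((powMonoidHom o : A →* A).comp f).ker
  have hK : pResidual p G ≤ K.map (pResidual p G).subtype := by
    show Subgroup.closure {g : G | Nat.Coprime (orderOf g) p} ≤ _
    rw [Subgroup.closure_le]
    intro g hg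
    have hgN : g ∈ pResidual p G := Subgroup.subset_closure hg
    refine ⟨⟨g, hgN⟩, ?_, rfl⟩
    show (powMonoidHom o) (f ⟨g, hgN⟩) = 1
    rw [powMonoidHom_apply, ← map_pow]
    have h1 : orderOf (⟨g, hgN⟩ : pResidual p G) ∣ o := by
      have h2 : orderOf (⟨g, hgN⟩ : pResidual p G) ∣ Nat.card (pResidual p G) :=
        orderOf_dvd_natCard _
      rw [← Nat.ordProj_mul_ordCompl_eq_self (Nat.card (pResidual p G)) p] at h2
      have h3 : Nat.Coprime (orderOf (⟨g, hgN⟩ : pResidual p G))
          (p ^ (Nat.card (pResidual p G)).factorization p) := by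
        rw [Subgroup.orderOf_mk]
        exact Nat.Coprime.pow_right _ hg
      exact h3.dvd_of_dvd_mul_left h2
    rw [orderOf_dvd_iff_pow_eq_one.mp h1, map_one]
  obtain ⟨x, hx, hxn⟩ := hK n.2
  have hxn' : x = n := Subtype.ext hxn
  rw [hxn'] at hx
  have h4 : (powMonoidHom o) (f n) = 1 := hx
  rwa [powMonoidHom_apply] at h4

/-- Under Thompson's hypothesis, a `G`-invariant irreducible character of `O^p(G)` of degree prime
to `p` is linear. -/
theorem thompson_invariant_linear
    (hdeg : ∀ χ : IrrCharacter G, charDegree (χ : G → ℂ) ≠ 1 → p ∣ charDegree (χ : G → ℂ))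
    (ψ : IrrCharacter (pResidual p G))
    (hinv : ∀ g : G, @cconj G _ (pResidual p G) (helper40.pResidual_normal p G) g ψ.1 = ψ.1)
    (hpd : ¬ p ∣ charDegree ψ.1) : charDegree ψ.1 = 1 := by
  haveI := helper40.pResidual_normal p G
  obtain ⟨ψf, d, σ, hσ, rfl⟩ := ψ
  haveI := hσ
  have hdeg_eq : charDegree σ.character = d := by rw [charDegree_char]; simp
  show charDegree σ.character = 1
  have hpd' : ¬ p ∣ d := by rw [← hdeg_eq]; exact hpd
  rw [hdeg_eq]
  obtain ⟨j, hj⟩ := helper40.pResidual_index (p := p) (N := G)
  have ho : ∀ n : pResidual p G, LinearMap.det (σ n) ^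
      (Nat.card (pResidual p G) / p ^ (Nat.card (pResidual p G)).factorization p) = 1 := by
    intro n
    have h1 := pResidual_hom_pow p
      ((Units.map (LinearMap.det : Module.End ℂ (Fin d → ℂ) →* ℂ)).comp σ.asGroupHom) n
    have h2 := congrArg (fun u : ℂˣ => (u : ℂ)) h1
    simp only [MonoidHom.comp_apply, Units.val_pow_eq_pow_val, Units.coe_map, Units.val_one,
      Representation.asGroupHom_apply] at h2
    exact h2
  have hcop : Nat.Coprime (pResidual p G).index
      (d * (Nat.card (pResidual p G) / p ^ (Nat.card (pResidual p G)).factorization p)) := by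
    rw [hj]
    apply Nat.Coprime.pow_left
    exact Nat.Coprime.mul_right ((Nat.Prime.coprime_iff_not_dvd hp.out).mpr hpd')
      (Nat.coprime_ordCompl hp.out Nat.card_pos.ne')
  obtain ⟨χ, hχ, hχN⟩ := exists_extension_of_coprime_det (pResidual p G) σ hσ hinv _ ho hcop
  by_contra hd1
  have h1 : χ 1 = (charDegree χ : ℂ) := irr_one_eq ⟨χ, hχ⟩
  have h2 : χ 1 = (d : ℂ) := by
    have h3 := hχN 1
    rw [Representation.char_one] at h3
    simpa using h3
  have h3 : charDegree χ = d := by
    rw [h1] at h2
    exact_mod_cast h2
  have h4 := hdeg ⟨χ, hχ⟩ (by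
    show charDegree χ ≠ 1
    rw [h3]; exact hd1)
  have h5 : p ∣ charDegree χ := h4
  rw [h3] at h5
  exact hpd' h5

/-- **Thompson's theorem**, main step: if `p` divides the degree of every nonlinear irreducible
character of `G`, then `O^p(G)` has order prime to `p`. -/
theorem thompson_card_coprime
    (hdeg : ∀ χ : IrrCharacter G, charDegree (χ : G → ℂ) ≠ 1 → p ∣ charDegree (χ : G → ℂ)) :
    Nat.Coprime (Nat.card (pResidual p G)) p := by
  classical
  haveI := helper40.pResidual_normal p G
  haveI : Fintype (IrrCharacter (pResidual p G)) := Fintype.ofFinite _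
  obtain ⟨P⟩ : Nonempty (Sylow p G) := inferInstance
  -- fixed by `P` implies invariant in `G`
  have hfix : ∀ φ : IrrCharacter (pResidual p G),
      (∀ s : G, s ∈ (P : Subgroup G) → cconj (pResidual p G) s φ.1 = φ.1) →
      ∀ g : G, cconj (pResidual p G) g φ.1 = φ.1 := by
    intro φ h g
    obtain ⟨s, hs, u, hu, rfl⟩ :=
      helper40.exists_mul_pResidual (P : Subgroup G) P.not_dvd_index g
    rw [cconj_mul, cconj_of_mem (pResidual p G)
      (helper4.isClassFunction_of_isIrrCharacter φ.2) hu, h s hs]
  -- the level sets of the degree with `k ≠ 1`, `p ∤ k` have size divisible by `p`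
  have hlevel : ∀ k : ℕ, k ≠ 1 → ¬ p ∣ k →
      ((Finset.univ.filter
        (fun φ : IrrCharacter (pResidual p G) => charDegree φ.1 = k)).card : ZMod p) = 0 := by
    intro k hk1 hpk
    letI : MulAction (P : Subgroup G) {φ : IrrCharacter (pResidual p G) // charDegree φ.1 = k} :=
      { smul := fun s φ => ⟨⟨cconj (pResidual p G) (s : G) φ.1.1,
            isIrrCharacter_cconj (pResidual p G) (s : G) φ.1.2⟩, by
            have h := φ.2
            show charDegree (cconj (pResidual p G) (s : G) φ.1.1) = k
            unfold charDegree at h ⊢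
            rw [cconj_apply_one]
            exact h⟩
        one_smul := fun φ => by
          apply Subtype.ext
          apply Subtype.ext
          exact cconj_one (pResidual p G) φ.1.1
        mul_smul := fun s t φ => by
          apply Subtype.ext
          apply Subtype.ext
          exact cconj_mul (pResidual p G) (s : G) (t : G) φ.1.1 }
    have h1 := (P.isPGroup').card_modEq_card_fixedPoints
      {φ : IrrCharacter (pResidual p G) // charDegree φ.1 = k}
    have h2 : IsEmpty (MulAction.fixedPoints (P : Subgroup G)
        {φ : IrrCharacter (pResidual p G) // charDegree φ.1 = k}) := by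
      constructor
      rintro ⟨φ, hφ⟩
      have hinv := hfix φ.1 (fun s hs => by
        have h3 := hφ ⟨s, hs⟩
        exact congrArg (fun x => x.1.1) h3)
      have h4 := thompson_invariant_linear p hdeg φ.1 hinv (by rw [φ.2]; exact hpk)
      rw [φ.2] at h4
      exact hk1 h4
    have h3 : Nat.card (MulAction.fixedPoints (P : Subgroup G)
        {φ : IrrCharacter (pResidual p G) // charDegree φ.1 = k}) = 0 := Nat.card_of_isEmpty
    rw [h3, Nat.card_eq_fintype_card, Fintype.card_subtype] at h1
    exact (ZMod.natCast_eq_zero_iff _ _).mpr ((Nat.modEq_zero_iff_dvd).mp h1)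
  -- the sum of squares modulo `p`
  have hsum : (Nat.card (pResidual p G) : ZMod p) =
      ((Finset.univ.filter
        (fun φ : IrrCharacter (pResidual p G) => charDegree φ.1 = 1)).card : ZMod p) := by
    have h1 := helper83.sum_charDegree_sq (G := pResidual p G)
    rw [finsum_eq_sum_of_fintype] at h1
    rw [← h1]
    push_cast
    rw [Finset.sum_comp (fun k : ℕ => ((k : ZMod p)) ^ 2)
      (fun φ : IrrCharacter (pResidual p G) => charDegree φ.1)]
    by_cases h1in : (1 : ℕ) ∈ Finset.univ.image
        (fun φ : IrrCharacter (pResidual p G) => charDegree φ.1)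
    · rw [Finset.sum_eq_single_of_mem 1 h1in]
      · simp
      · intro k _ hk1
        by_cases hpk : p ∣ k
        · have h5 : (k : ZMod p) = 0 := (ZMod.natCast_eq_zero_iff k p).mpr hpk
          rw [h5]; simp
        · rw [nsmul_eq_mul, hlevel k hk1 hpk, zero_mul]
    · have h6 : (Finset.univ.filter
          (fun φ : IrrCharacter (pResidual p G) => charDegree φ.1 = 1)) = ∅ :=
        Finset.filter_eq_empty_iff.mpr (fun φ _ h =>
          h1in (Finset.mem_image.mpr ⟨φ, Finset.mem_univ _, h⟩))
      rw [h6, Finset.card_empty, Nat.cast_zero]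
      apply Finset.sum_eq_zero
      intro k hk
      by_cases hpk : p ∣ k
      · have h5 : (k : ZMod p) = 0 := (ZMod.natCast_eq_zero_iff k p).mpr hpk
        rw [h5]; simp
      · have hk1 : k ≠ 1 := fun h => h1in (h ▸ hk)
        rw [nsmul_eq_mul, hlevel k hk1 hpk, zero_mul]
  -- the number of linear characters
  have hlin : (Finset.univ.filter
      (fun φ : IrrCharacter (pResidual p G) => charDegree φ.1 = 1)).card =
      (commutator (pResidual p G)).index := by
    rw [← card_linear_irr, Nat.card_eq_fintype_card, Fintype.card_subtype]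
    congr 1
    apply Finset.filter_congr
    intro φ _
    have h7 : φ.1 1 = (charDegree φ.1 : ℂ) := irr_one_eq φ
    constructor
    · intro h; rw [h7, h]; simp
    · intro h
      rw [h7] at h
      exact_mod_cast h
  -- the index of the commutator subgroup is prime to `p`
  have hidx : ¬ p ∣ (commutator (pResidual p G)).index := by
    intro hdvd
    have hcard : p ∣ Nat.card (Abelianization (pResidual p G)) := hdvd
    obtain ⟨x, hx⟩ := exists_prime_orderOf_dvd_card' p hcard
    obtain ⟨n, rfl⟩ := QuotientGroup.mk_surjective x
    have h8 := pResidual_hom_pow p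
      (Abelianization.of : pResidual p G →* Abelianization (pResidual p G)) n
    have h9 := orderOf_dvd_of_pow_eq_one h8
    have hx' : orderOf (Abelianization.of n) = p := hx
    rw [hx'] at h9
    exact (Nat.Prime.coprime_iff_not_dvd hp.out).mp
      (Nat.coprime_ordCompl hp.out Nat.card_pos.ne') h9
  rw [hlin] at hsum
  rw [Nat.coprime_comm, Nat.Prime.coprime_iff_not_dvd hp.out]
  intro hdvd
  apply hidx
  rw [← ZMod.natCast_eq_zero_iff, ← hsum, ZMod.natCast_eq_zero_iff]
  exact hdvd

/-- **Thompson's theorem**: if `p` divides the degree of every nonlinear irreducible character of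
`G`, then `G` has a normal `p`-complement. -/
theorem thompson_normal_p_complement
    (hdeg : ∀ χ : IrrCharacter G, charDegree (χ : G → ℂ) ≠ 1 → p ∣ charDegree (χ : G → ℂ)) :
    ∃ N : Subgroup G, N.Normal ∧ (Nat.card N).Coprime p ∧ ∃ k : ℕ, N.index = p ^ k :=
  ⟨pResidual p G, helper40.pResidual_normal p G, thompson_card_coprime p hdeg,
    helper40.pResidual_index⟩

end Thompson

end Cfsg.Agent.Lib.helper82
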