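import Mathlib
import Cfsg.Prelude.Def_Characters
import Cfsg.Agent.Lib.helper12.MinNormal
import Cfsg.Agent.Lib.helper12.PGroupCentral

/-!
# Group-theoretic configuration for Isaacs 11.32 (helper82)

* `card_comap_mk'` : `|π⁻¹(Y)| = |Y| |X|` for `π : G → G/X`.
* `exists_chief_over` : a chief factor `Y/X` above a normal subgroup `X` with `G/X` solvable.
* `secCent M K` : the centralizer in `G` of the section `M/K`.
* `inf_normal_of_sup_eq_top` : a criterion for `Y ⊓ H` to be normal when `G = M H`.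
* `le_secCent_of_pgroup` : a normal subgroup `N ≥ K` with `N/K` a `p`-group centralizes a chief
  `p`-factor `M/K`.
* `exists_maximal_config` : the configuration `K = core(H) < M`, `N` for a non-normal maximal
  subgroup `H` with `G/L` solvable.
-/

set_option autoImplicit false
set_option linter.style.haveILetI false
set_option linter.unusedSectionVars false

namespace Cfsg.Agent.Lib.helper82

open Cfsg
open Cfsg.Agent.Lib

universe u

section GroupTheory

variable {G : Type u} [Group G] [Finite G]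

/-- The order of a full preimage in `G` of a subgroup of `G/X`. -/
theorem card_comap_mk' (X : Subgroup G) [X.Normal] (Y : Subgroup (G ⧸ X)) :
    Nat.card ↥(Y.comap (QuotientGroup.mk' X)) = Nat.card ↥Y * Nat.card ↥X := by
  have h1 : (Y.comap (QuotientGroup.mk' X)).index = Y.index :=
    Subgroup.index_comap_of_surjective Y (QuotientGroup.mk'_surjective X)
  have h2 := (Y.comap (QuotientGroup.mk' X)).card_mul_index
  have h3 := Y.card_mul_index
  have h4 : Nat.card (G ⧸ X) * Nat.card X = Nat.card G := helper12.card_quotient_mul_card X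
  have h5 : Y.index ≠ 0 := Subgroup.index_ne_zero_of_finite
  have h6 : Nat.card ↥(Y.comap (QuotientGroup.mk' X)) * Y.index =
      Nat.card ↥Y * Nat.card ↥X * Y.index := by
    calc Nat.card ↥(Y.comap (QuotientGroup.mk' X)) * Y.index = Nat.card G := by
          rw [← h1]; exact h2
      _ = Nat.card (G ⧸ X) * Nat.card X := h4.symm
      _ = Nat.card Y * Y.index * Nat.card X := by rw [h3]
      _ = Nat.card ↥Y * Nat.card ↥X * Y.index := by ring
  exact Nat.eq_of_mul_eq_mul_right (Nat.pos_of_ne_zero h5) h6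

/-- A chief factor above a normal subgroup with solvable quotient. -/
theorem exists_chief_over (X : Subgroup G) [hX : X.Normal] (hsolv : Group.IsSolvable (G ⧸ X))
    (hX1 : X ≠ ⊤) :
    ∃ (Y : Subgroup G) (r a : ℕ), Y.Normal ∧ X ≤ Y ∧ X ≠ Y ∧ r.Prime ∧
      Nat.card ↥Y = r ^ a * Nat.card ↥X ∧
      (∀ y₁ ∈ Y, ∀ y₂ ∈ Y, y₁ * y₂ * y₁⁻¹ * y₂⁻¹ ∈ X) ∧
      (∀ Z : Subgroup G, Z.Normal → X ≤ Z → Z ≤ Y → Z = X ∨ Z = Y) := by
  haveI := hsolv
  haveI := helper12.nontrivial_quotient_of_ne_top X hX1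
  obtain ⟨Yb, hYb1, hYbn, hYbmin⟩ := helper12.exists_minimal_normal (G := G ⧸ X)
  haveI := hYbn
  obtain ⟨r, hr, hrY⟩ := helper12.minimal_normal_isPGroup Yb hYb1 hYbmin
  haveI : Fact r.Prime := ⟨hr⟩
  obtain ⟨a, ha⟩ := IsPGroup.iff_card.mp hrY
  have hcomm := helper12.minimal_normal_comm Yb hYb1 hYbmin
  have hfs : Function.Surjective (QuotientGroup.mk' X) := QuotientGroup.mk'_surjective X
  have hker : (QuotientGroup.mk' X).ker = X := QuotientGroup.ker_mk' X
  have hXY : X ≤ Yb.comap (QuotientGroup.mk' X) := by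
    intro x hx
    rw [Subgroup.mem_comap]
    have : QuotientGroup.mk' X x = 1 := by rw [← MonoidHom.mem_ker, hker]; exact hx
    rw [this]; exact Yb.one_mem
  refine ⟨Yb.comap (QuotientGroup.mk' X), r, a, inferInstance, hXY, ?_, hr, ?_, ?_, ?_⟩
  · intro h
    apply hYb1
    rw [← Subgroup.map_comap_eq_self_of_surjective hfs Yb, ← h]
    exact (Subgroup.map_eq_bot_iff _).mpr (le_of_eq hker.symm)
  · rw [card_comap_mk', ha]
  · intro y₁ h₁ y₂ h₂
    have h := hcomm (QuotientGroup.mk' X y₁) h₁ (QuotientGroup.mk' X y₂) h₂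
    rw [← hker, MonoidHom.mem_ker]
    simp only [map_mul, map_inv]
    rw [h]
    group
  · intro Z hZ hXZ hZY
    haveI : (Z.map (QuotientGroup.mk' X)).Normal := hZ.map _ hfs
    rcases hYbmin (Z.map (QuotientGroup.mk' X)) inferInstance
      (by rw [Subgroup.map_le_iff_le_comap]; exact hZY) with h | h
    · left
      refine le_antisymm ?_ hXZ
      have := (Subgroup.map_eq_bot_iff _).mp h
      rwa [hker] at this
    · right
      have h1 : Z = (Z.map (QuotientGroup.mk' X)).comap (QuotientGroup.mk' X) := by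
        rw [Subgroup.comap_map_eq, hker]; exact (sup_eq_left.mpr hXZ).symm
      rw [h1, h]

/-- The centralizer in `G` of the section `M/K`. -/
def secCent (M K : Subgroup G) [hM : M.Normal] [hK : K.Normal] : Subgroup G where
  carrier := {g | ∀ m ∈ M, g * m * g⁻¹ * m⁻¹ ∈ K}
  one_mem' := by
    intro m _
    have h1 : (1 : G) * m * 1⁻¹ * m⁻¹ = 1 := by group
    rw [h1]; exact K.one_mem
  mul_mem' := by
    intro a b ha hb m hm
    have h1 : a * b * m * (a * b)⁻¹ * m⁻¹ =
        a * (b * m * b⁻¹ * m⁻¹) * a⁻¹ * (a * m * a⁻¹ * m⁻¹) := by group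
    rw [h1]
    exact K.mul_mem (hK.conj_mem _ (hb m hm) a) (ha m hm)
  inv_mem' := by
    intro a ha m hm
    have h1 : a⁻¹ * m * a⁻¹⁻¹ * m⁻¹ = a⁻¹ * (a * m * a⁻¹ * m⁻¹)⁻¹ * a⁻¹⁻¹ := by group
    rw [h1]
    exact hK.conj_mem _ (K.inv_mem (ha m hm)) a⁻¹

theorem mem_secCent (M K : Subgroup G) [hM : M.Normal] [hK : K.Normal] (g : G) :
    g ∈ secCent M K ↔ ∀ m ∈ M, g * m * g⁻¹ * m⁻¹ ∈ K := Iff.rfl

instance secCent_normal (M K : Subgroup G) [hM : M.Normal] [hK : K.Normal] :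
    (secCent M K).Normal := ⟨by
  intro a ha x
  rw [mem_secCent] at ha ⊢
  intro m hm
  have h1 : x * a * x⁻¹ * m * (x * a * x⁻¹)⁻¹ * m⁻¹ =
      x * (a * (x⁻¹ * m * x) * a⁻¹ * (x⁻¹ * m * x)⁻¹) * x⁻¹ := by group
  rw [h1]
  have hm' : x⁻¹ * m * x ∈ M := by simpa using hM.conj_mem m hm x⁻¹
  exact hK.conj_mem _ (ha _ hm') x⟩

/-- If `G = M H` with `M` normal, `Y` is normal and `[M, Y ∩ H] ≤ K ≤ H`, then `Y ∩ H` is
normal. -/
theorem inf_normal_of_sup_eq_top (M H Y K : Subgroup G) [hM : M.Normal] [hY : Y.Normal]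
    (hMH : M ⊔ H = ⊤) (hKH : K ≤ H)
    (hc : ∀ m ∈ M, ∀ c ∈ Y ⊓ H, m * c * m⁻¹ * c⁻¹ ∈ K) : (Y ⊓ H).Normal := ⟨by
  intro z hz g
  have hg : g ∈ ((M ⊔ H : Subgroup G) : Set G) := by rw [hMH]; trivial
  rw [Subgroup.normal_mul] at hg
  obtain ⟨m, hm, h, hh, rfl⟩ := Set.mem_mul.mp hg
  have hz' : h * z * h⁻¹ ∈ Y ⊓ H :=
    Subgroup.mem_inf.mpr ⟨hY.conj_mem z (Subgroup.mem_inf.mp hz).1 h,
      H.mul_mem (H.mul_mem hh (Subgroup.mem_inf.mp hz).2) (H.inv_mem hh)⟩
  have h1 : m * h * z * (m * h)⁻¹ = m * (h * z * h⁻¹) * m⁻¹ := by group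
  rw [h1]
  refine Subgroup.mem_inf.mpr ⟨hY.conj_mem _ (Subgroup.mem_inf.mp hz').1 m, ?_⟩
  have h2 : m * (h * z * h⁻¹) * m⁻¹ =
      (m * (h * z * h⁻¹) * m⁻¹ * (h * z * h⁻¹)⁻¹) * (h * z * h⁻¹) := by group
  rw [h2]
  exact H.mul_mem (hKH (hc m hm _ hz')) (Subgroup.mem_inf.mp hz').2⟩

/-- A normal subgroup `N ≥ K` with `N/K` a `p`-group centralizes a chief `p`-factor `M/K`. -/
theorem le_secCent_of_pgroup (K M N : Subgroup G) [hK : K.Normal] [hM : M.Normal]
    [hN : N.Normal] (p a c : ℕ) [Fact p.Prime] (hKM : K ≤ M) (hKN : K ≤ N) (hne : K ≠ M)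
    (hmin : ∀ Z : Subgroup G, Z.Normal → K ≤ Z → Z ≤ M → Z = K ∨ Z = M)
    (hMc : Nat.card M = p ^ a * Nat.card K) (hNc : Nat.card N = p ^ c * Nat.card K) :
    N ≤ secCent M K := by
  have hfs : Function.Surjective (QuotientGroup.mk' K) := QuotientGroup.mk'_surjective K
  have hker : (QuotientGroup.mk' K).ker = K := QuotientGroup.ker_mk' K
  haveI : (M.map (QuotientGroup.mk' K)).Normal := hM.map _ hfs
  haveI : (N.map (QuotientGroup.mk' K)).Normal := hN.map _ hfs
  have hcm : ∀ Z : Subgroup G, K ≤ Z →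
      Nat.card Z = Nat.card (Z.map (QuotientGroup.mk' K)) * Nat.card K := by
    intro Z hKZ
    have h1 : (Z.map (QuotientGroup.mk' K)).comap (QuotientGroup.mk' K) = Z := by
      rw [Subgroup.comap_map_eq, hker]; exact sup_eq_left.mpr hKZ
    conv_lhs => rw [← h1]
    exact card_comap_mk' K (Z.map (QuotientGroup.mk' K))
  have hK0 : 0 < Nat.card K := Nat.card_pos
  have hMp : IsPGroup p (M.map (QuotientGroup.mk' K)) := by
    apply IsPGroup.of_card (n := a)
    have h1 := hcm M hKM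
    rw [hMc] at h1
    exact (Nat.eq_of_mul_eq_mul_right hK0 h1).symm
  have hNp : IsPGroup p (N.map (QuotientGroup.mk' K)) := by
    apply IsPGroup.of_card (n := c)
    have h1 := hcm N hKN
    rw [hNc] at h1
    exact (Nat.eq_of_mul_eq_mul_right hK0 h1).symm
  have hMne : M.map (QuotientGroup.mk' K) ≠ ⊥ := by
    intro h
    apply hne
    refine le_antisymm hKM ?_
    have := (Subgroup.map_eq_bot_iff _).mp h
    rwa [hker] at this
  have hmin' : ∀ Z : Subgroup (G ⧸ K), Z.Normal → Z ≤ M.map (QuotientGroup.mk' K) →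
      Z = ⊥ ∨ Z = M.map (QuotientGroup.mk' K) := by
    intro Z hZ hZM
    haveI := hZ
    have hKZ : K ≤ Z.comap (QuotientGroup.mk' K) := by
      intro x hx
      rw [Subgroup.mem_comap]
      have : QuotientGroup.mk' K x = 1 := by rw [← MonoidHom.mem_ker, hker]; exact hx
      rw [this]; exact Z.one_mem
    have hZM' : Z.comap (QuotientGroup.mk' K) ≤ M := by
      have := Subgroup.comap_mono (f := QuotientGroup.mk' K) hZM
      rwa [Subgroup.comap_map_eq, hker, sup_eq_left.mpr hKM] at this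
    rcases hmin (Z.comap (QuotientGroup.mk' K)) inferInstance hKZ hZM' with h | h
    · left
      rw [← Subgroup.map_comap_eq_self_of_surjective hfs Z, h]
      exact (Subgroup.map_eq_bot_iff _).mpr (le_of_eq hker.symm)
    · right
      rw [← Subgroup.map_comap_eq_self_of_surjective hfs Z, h]
  have hcen := helper12.le_centralizer_of_minimal_normal_pgroup (N.map (QuotientGroup.mk' K))
    (M.map (QuotientGroup.mk' K)) hNp hMp hMne hmin'
  intro n hn
  rw [mem_secCent]
  intro m hm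
  have h1 : QuotientGroup.mk' K n ∈ Subgroup.centralizer
      ((M.map (QuotientGroup.mk' K) : Subgroup (G ⧸ K)) : Set (G ⧸ K)) :=
    hcen (Subgroup.mem_map_of_mem _ hn)
  have h2 := Subgroup.mem_centralizer_iff.mp h1 (QuotientGroup.mk' K m)
    (Subgroup.mem_map_of_mem _ hm)
  rw [← hker, MonoidHom.mem_ker]
  simp only [map_mul, map_inv]
  rw [← h2]
  group

/-- The configuration around a non-normal maximal subgroup `H ≥ L` with `G/L` solvable:
`K = core(H)`, a chief factor `M/K` (a `p`-group) with `G = M H`, `M ∩ H = K`, and a chief factor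
`N/M` (a `q`-group, `q ≠ p`) with `N ∩ H ≠ K`; moreover `H ∖ K` acts fixed-point-freely in
the sense that some `M`-conjugate of each such element leaves `H`. -/
theorem exists_maximal_config (L H : Subgroup G) [hL : L.Normal] (hLH : L ≤ H)
    (hmax : IsCoatom H) (hsolv : Group.IsSolvable (G ⧸ L)) (hHn : ¬ H.Normal) :
    ∃ (K M N : Subgroup G) (p q a b : ℕ), K.Normal ∧ M.Normal ∧ N.Normal ∧ L ≤ K ∧ K ≤ H ∧
      K ≤ M ∧ M ≤ N ∧ M ⊔ H = ⊤ ∧ M ⊓ H = K ∧ p.Prime ∧ q.Prime ∧ p ≠ q ∧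
      Nat.card M = p ^ a * Nat.card K ∧ Nat.card N = q ^ b * Nat.card M ∧ N ⊓ H ≠ K ∧
      (∀ c ∈ H, c ∉ K → ∃ x ∈ M, x * c * x⁻¹ ∉ H) := by
  have hKH : H.normalCore ≤ H := Subgroup.normalCore_le H
  have hLK : L ≤ H.normalCore := Subgroup.normal_le_normalCore.mpr hLH
  have hKneH : H.normalCore ≠ H := fun h => hHn (h ▸ inferInstance)
  have hKtop : H.normalCore ≠ ⊤ := fun h => hmax.1 (top_le_iff.mp (h ▸ hKH))
  have hsolvOf : ∀ X : Subgroup G, ∀ _ : X.Normal, L ≤ X → Group.IsSolvable (G ⧸ X) := by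
    intro X hX hLX
    haveI := hsolv
    have hsurj : Function.Surjective (QuotientGroup.map L X (MonoidHom.id G) hLX) := by
      intro y
      obtain ⟨g, rfl⟩ := QuotientGroup.mk_surjective y
      exact ⟨(g : G ⧸ L), rfl⟩
    exact Group.isSolvable_of_surjective hsurj
  obtain ⟨M, p, a, hMn, hKM, hKneM, hp, hMcard, hMcomm, hMmin⟩ :=
    exists_chief_over H.normalCore (hsolvOf _ inferInstance hLK) hKtop
  haveI := hMn
  have hMH : M ⊔ H = ⊤ := by
    apply hmax.2
    refine lt_of_le_of_ne le_sup_right (fun h => ?_)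
    have hMleH : M ≤ H := by rw [h]; exact le_sup_left
    exact hKneM (le_antisymm hKM (Subgroup.normal_le_normalCore.mpr hMleH))
  have hMHK : M ⊓ H = H.normalCore := by
    haveI := inf_normal_of_sup_eq_top M H M H.normalCore hMH hKH
      (fun m hm c hc => hMcomm m hm c (Subgroup.mem_inf.mp hc).1)
    exact le_antisymm (Subgroup.normal_le_normalCore.mpr inf_le_right) (le_inf hKM hKH)
  have hcent : secCent M H.normalCore ⊓ H ≤ H.normalCore := by
    haveI := inf_normal_of_sup_eq_top M H (secCent M H.normalCore) H.normalCore hMH hKH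
      (fun m hm c hc => by
        have h0 := H.normalCore.inv_mem ((Subgroup.mem_inf.mp hc).1 m hm)
        have h1 : (c * m * c⁻¹ * m⁻¹)⁻¹ = m * c * m⁻¹ * c⁻¹ := by group
        rwa [h1] at h0)
    exact Subgroup.normal_le_normalCore.mpr inf_le_right
  have hMtop : M ≠ ⊤ := by
    intro h
    apply hKneH
    rw [← hMHK, h, top_inf_eq]
  obtain ⟨N, q, b, hNn, hMN, hMneN, hq, hNcard, -, -⟩ :=
    exists_chief_over M (hsolvOf M hMn (hLK.trans hKM)) hMtop
  haveI := hNn
  have hAK : N ⊓ H ≠ H.normalCore := by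
    intro h
    apply hMneN
    refine le_antisymm hMN ?_
    intro n hn
    have hg : n ∈ ((M ⊔ H : Subgroup G) : Set G) := by rw [hMH]; trivial
    rw [Subgroup.normal_mul] at hg
    obtain ⟨m, hm, h', hh', rfl⟩ := Set.mem_mul.mp hg
    have h1 : h' ∈ N ⊓ H := by
      refine Subgroup.mem_inf.mpr ⟨?_, hh'⟩
      have := N.mul_mem (N.inv_mem (hMN hm)) hn
      simpa using this
    rw [h] at h1
    exact M.mul_mem hm (hKM h1)
  have hpq : p ≠ q := by
    rintro rfl
    apply hAK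
    refine le_antisymm ?_ (le_inf (hKM.trans hMN) hKH)
    haveI : Fact p.Prime := ⟨hp⟩
    have hNc : N ≤ secCent M H.normalCore :=
      le_secCent_of_pgroup H.normalCore M N p a (b + a) hKM (hKM.trans hMN) hKneM hMmin hMcard
        (by rw [hNcard, hMcard, pow_add, mul_assoc])
    exact (inf_le_inf_right H hNc).trans hcent
  refine ⟨H.normalCore, M, N, p, q, a, b, inferInstance, hMn, hNn, hLK, hKH, hKM, hMN, hMH, hMHK,
    hp, hq, hpq, hMcard, hNcard, hAK, ?_⟩
  intro c hcH hcK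
  have hc' : c⁻¹ ∉ secCent M H.normalCore := fun h => hcK (by
    simpa using H.normalCore.inv_mem (hcent (Subgroup.mem_inf.mpr ⟨h, H.inv_mem hcH⟩)))
  have hex : ∃ m ∈ M, c⁻¹ * m * c⁻¹⁻¹ * m⁻¹ ∉ H.normalCore := by
    by_contra hcon
    push Not at hcon
    exact hc' ((mem_secCent M H.normalCore c⁻¹).mpr hcon)
  obtain ⟨m, hm, hmK⟩ := hex
  refine ⟨m, hm, fun hH => hmK ?_⟩
  rw [← hMHK]
  refine Subgroup.mem_inf.mpr ⟨M.mul_mem (hMn.conj_mem m hm c⁻¹) (M.inv_mem hm), ?_⟩
  have h1 : c⁻¹ * m * c⁻¹⁻¹ * m⁻¹ = c⁻¹ * (m * c * m⁻¹) := by group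
  rw [h1]
  exact H.mul_mem (H.inv_mem hcH) hH

end GroupTheory

end Cfsg.Agent.Lib.helper82
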