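import Mathlib
import Cfsg.Prelude.Def_Characters
import Cfsg.Prelude.Def_Blocks
import Cfsg.Agent.Lib.helper82.GlaubSub
import Cfsg.Agent.Lib.helper1.Hall

/-!
# Coprime actions of solvable groups on characters and classes (helper82)

`A ≤ MulAut G` solvable with `(|G|, |A|) = 1`.
* `card_inv_irr_eq_classes` : the number of `A`-invariant irreducible characters of `G` equals
  the number of `A`-invariant conjugacy classes of `G`.
* `card_inv_classes_eq` : both equal the number of classes of the fixed points.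

Proof: induction on `|A|` through a nontrivial normal `p`-subgroup `T` of `A`, the Glauberman
correspondence for `T` (equivariant by uniqueness) and the fixed-point count for classes.
-/

set_option autoImplicit false
set_option linter.style.haveILetI false
set_option linter.unusedSectionVars false

namespace Cfsg.Agent.Lib.helper82

open Module Cfsg
open Cfsg.Agent.Lib
open scoped ComplexConjugate

universe u

section Equivariance

variable {G : Type u} [Group G]

/-- `K` is an `A`-invariant conjugacy class. -/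
def IsInvClass (A : Subgroup (MulAut G)) (K : ConjClasses G) : Prop :=
  ∀ σ ∈ A, ∀ g, ConjClasses.mk g = K → ConjClasses.mk (σ g) = K

/-- The Glauberman correspondence for a normal `p`-subgroup `T` of `A` matches the
`A`-invariant characters of `G` with the `A`-invariant characters of the fixed points of `T`. -/
theorem card_inv_irr_of_gcorr (p : ℕ) [hp : Fact p.Prime] [Fintype G]
    (A T : Subgroup (MulAut G)) (hTA : T ≤ A) (hnorm : ∀ σ ∈ A, ∀ τ ∈ T, σ⁻¹ * τ * σ ∈ T)
    [Fintype (fixedPts T)] (hT : GCorr p T (fixedPts T).subtype) :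
    Nat.card {χ : IrrCharacter G // IsInvFun A (χ : G → ℂ)} =
      Nat.card {χ' : IrrCharacter (fixedPts T) //
        IsInvFun (resAut A T hnorm).range (χ' : fixedPts T → ℂ)} := by
  classical
  have hex : ∀ χ : {χ : IrrCharacter G // IsInvFun A (χ : G → ℂ)},
      ∃ χ' : IrrCharacter (fixedPts T), SF p (fixedPts T).subtype (χ.1 : G → ℂ) χ' :=
    fun χ => hT.1 χ.1 (fun σ hσ => χ.2 σ (hTA hσ))
  choose f hf using hex
  have hfinv : ∀ χ, IsInvFun (resAut A T hnorm).range (f χ : fixedPts T → ℂ) := by
    intro χ τ hτ b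
    obtain ⟨σ, rfl⟩ := hτ
    exact SF_inv p (fixedPts T).subtype (σ : MulAut G) (resAut A T hnorm σ) (fun b => rfl)
      (χ.1 : G → ℂ) (χ.2 σ σ.2) (f χ) (hf χ) b
  apply Nat.card_congr
  refine Equiv.ofBijective (fun χ => ⟨f χ, hfinv χ⟩) ⟨?_, ?_⟩
  · intro χ₁ χ₂ h
    have h' : f χ₁ = f χ₂ := congrArg Subtype.val h
    apply Subtype.ext
    exact hT.2.1 χ₁.1 χ₂.1 (fun σ hσ => χ₁.2 σ (hTA hσ)) (fun σ hσ => χ₂.2 σ (hTA hσ)) (f χ₁)
      (hf χ₁).grel (by rw [h']; exact (hf χ₂).grel)
  · rintro ⟨χ', hχ'⟩
    obtain ⟨χ, hχT, hχrel⟩ := hT.2.2 χ'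
    have hχA : IsInvFun A (χ : G → ℂ) := by
      intro σ hσ g
      let χσ : IrrCharacter G := ⟨fun g => (χ : G → ℂ) (σ g), isIrrCharacter_comp_aut σ χ.2⟩
      have hχσT : IsInvFun T (χσ : G → ℂ) := by
        intro τ hτ g
        show (χ : G → ℂ) (σ (τ g)) = (χ : G → ℂ) (σ g)
        have h0 := hnorm σ⁻¹ (inv_mem hσ) τ hτ
        rw [inv_inv] at h0
        have h1 : σ (τ g) = (σ * τ * σ⁻¹) (σ g) := by simp [MulAut.mul_apply]
        rw [h1, hχT _ h0]
      have hrel : GRel p (fixedPts T).subtype (χσ : G → ℂ) (χ' : fixedPts T → ℂ) :=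
        GRel_transport p (fixedPts T).subtype σ (resAut A T hnorm ⟨σ, hσ⟩) (fun b => rfl)
          (χ : G → ℂ) (χ' : fixedPts T → ℂ)
          (fun b => hχ' (resAut A T hnorm ⟨σ, hσ⟩) ⟨⟨σ, hσ⟩, rfl⟩ b) hχrel
      have h3 := hT.2.1 χσ χ hχσT hχT χ' hrel hχrel
      exact congrFun (congrArg Subtype.val h3) g
    refine ⟨⟨χ, hχA⟩, ?_⟩
    apply Subtype.ext
    exact ((hf ⟨χ, hχA⟩).unique hχrel).symm

/-- The `A`-invariant classes of `G` correspond to the `A`-invariant classes of the fixed points
of a normal `p`-subgroup `T` of `A`. -/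
theorem card_inv_classes_of_pgroup (p : ℕ) [hp : Fact p.Prime] [Finite G]
    (A T : Subgroup (MulAut G)) (hTA : T ≤ A) (hnorm : ∀ σ ∈ A, ∀ τ ∈ T, σ⁻¹ * τ * σ ∈ T)
    (hT : IsPGroup p T) (hpG : ¬ p ∣ Nat.card G) :
    Nat.card {K : ConjClasses G // IsInvClass A K} =
      Nat.card {K' : ConjClasses (fixedPts T) // IsInvClass (resAut A T hnorm).range K'} := by
  classical
  have hCsub : ∀ g, g ∈ (fixedPts T).subtype.range ↔ g ∈ fixedPts T := fun g => by
    rw [Subgroup.range_subtype]
  symm
  apply Nat.card_congr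
  refine Equiv.ofBijective
    (fun K' => ⟨ConjClasses.map (fixedPts T).subtype K'.1, ?_⟩) ⟨?_, ?_⟩
  · obtain ⟨K', hK'⟩ := K'
    obtain ⟨b, rfl⟩ := ConjClasses.mk_surjective K'
    intro σ hσ g hg
    have hg' : IsConj g (b : G) := ConjClasses.mk_eq_mk_iff_isConj.mp hg
    have h1 : ConjClasses.mk (resAut A T hnorm ⟨σ, hσ⟩ b) = ConjClasses.mk b :=
      hK' (resAut A T hnorm ⟨σ, hσ⟩) ⟨⟨σ, hσ⟩, rfl⟩ b rfl
    have h2 : IsConj (resAut A T hnorm ⟨σ, hσ⟩ b) b := ConjClasses.mk_eq_mk_iff_isConj.mp h1
    have h3 : IsConj (σ (b : G)) (b : G) := (fixedPts T).subtype.map_isConj h2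
    show ConjClasses.mk (σ g) = ConjClasses.mk (b : G)
    rw [ConjClasses.mk_eq_mk_iff_isConj]
    exact ((σ : G ≃* G).toMonoidHom.map_isConj hg').trans h3
  · rintro ⟨K₁, h₁⟩ ⟨K₂, h₂⟩ h
    obtain ⟨b₁, rfl⟩ := ConjClasses.mk_surjective K₁
    obtain ⟨b₂, rfl⟩ := ConjClasses.mk_surjective K₂
    have h' : ConjClasses.mk (b₁ : G) = ConjClasses.mk (b₂ : G) := congrArg Subtype.val h
    apply Subtype.ext
    show ConjClasses.mk b₁ = ConjClasses.mk b₂
    rw [ConjClasses.mk_eq_mk_iff_isConj] at h' ⊢
    exact fusion_of_fixed p T (fixedPts T).subtype hT hpG Subtype.val_injective hCsub b₁ b₂ h'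
  · rintro ⟨K, hK⟩
    obtain ⟨b, hb⟩ := exists_fixed_in_class p T (fixedPts T).subtype hT hpG hCsub K
      (fun σ hσ => hK σ (hTA hσ))
    refine ⟨⟨ConjClasses.mk b, ?_⟩, Subtype.ext hb⟩
    rintro τ ⟨σ, rfl⟩ b₁ hb₁
    have h1 : IsConj b₁ b := ConjClasses.mk_eq_mk_iff_isConj.mp hb₁
    have h2 : ConjClasses.mk (b₁ : G) = K := by
      rw [← hb]
      exact ConjClasses.mk_eq_mk_iff_isConj.mpr ((fixedPts T).subtype.map_isConj h1)
    have h3 : ConjClasses.mk ((σ : MulAut G) (b₁ : G)) = K := hK σ σ.2 _ h2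
    rw [← hb] at h3
    rw [ConjClasses.mk_eq_mk_iff_isConj] at h3 ⊢
    exact fusion_of_fixed p T (fixedPts T).subtype hT hpG Subtype.val_injective hCsub
      (resAut A T hnorm σ b₁) b h3

end Equivariance

section Skeleton

variable {G : Type u} [Group G] [Finite G]

/-- A nontrivial solvable group of automorphisms has a nontrivial normal `p`-subgroup. -/
theorem exists_normal_pgroup_aut (A : Subgroup (MulAut G)) (hsolv : Group.IsSolvable A)
    (hne : A ≠ ⊥) :
    ∃ (p : ℕ) (T : Subgroup (MulAut G)), p.Prime ∧ T ≤ A ∧ T ≠ ⊥ ∧ IsPGroup p T ∧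
      ∀ σ ∈ A, ∀ τ ∈ T, σ⁻¹ * τ * σ ∈ T := by
  haveI := hsolv
  haveI : Nontrivial A := (Subgroup.nontrivial_iff_ne_bot A).mpr hne
  obtain ⟨p, M, hp, hMn, hMne, hMp⟩ := helper1.exists_normal_pgroup (G := A)
  refine ⟨p, M.map A.subtype, hp, ?_, ?_, ?_, ?_⟩
  · rintro x ⟨m, -, rfl⟩
    exact m.2
  · intro h
    apply hMne
    rw [eq_bot_iff]
    intro m hm
    have h1 : (m : MulAut G) ∈ M.map A.subtype := ⟨m, hm, rfl⟩
    rw [h, Subgroup.mem_bot] at h1
    rw [Subgroup.mem_bot]
    exact Subtype.ext h1
  · exact hMp.map A.subtype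
  · rintro σ hσ τ ⟨m, hm, rfl⟩
    refine ⟨(⟨σ, hσ⟩ : A)⁻¹ * m * ⟨σ, hσ⟩, ?_, rfl⟩
    have := hMn.conj_mem m hm (⟨σ, hσ⟩ : A)⁻¹
    simpa using this

/-- The restricted action has smaller order. -/
theorem card_range_resAut_lt (A T : Subgroup (MulAut G)) (hTA : T ≤ A)
    (hnorm : ∀ σ ∈ A, ∀ τ ∈ T, σ⁻¹ * τ * σ ∈ T) (hTne : T ≠ ⊥) :
    Nat.card (resAut A T hnorm).range < Nat.card A := by
  obtain ⟨τ, hτ, hτ1⟩ : ∃ τ : MulAut G, τ ∈ T ∧ τ ≠ 1 := by
    obtain ⟨x, hx⟩ := (Subgroup.ne_bot_iff_exists_ne_one (H := T)).mp hTne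
    exact ⟨x.1, x.2, fun h => hx (Subtype.ext h)⟩
  have hker : (⟨τ, hTA hτ⟩ : A) ∈ (resAut A T hnorm).ker := by
    rw [MonoidHom.mem_ker]
    ext b
    show τ (b : G) = (b : G)
    exact b.2 τ hτ
  have h1 : Nat.card (resAut A T hnorm).range = (resAut A T hnorm).ker.index :=
    (Subgroup.index_ker _).symm
  have h2 : (resAut A T hnorm).ker.index * Nat.card (resAut A T hnorm).ker = Nat.card A :=
    Subgroup.index_mul_card _
  have h3 : 1 < Nat.card (resAut A T hnorm).ker := by
    haveI : Nontrivial (resAut A T hnorm).ker :=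
      ⟨⟨⟨⟨τ, hTA hτ⟩, hker⟩, 1, fun h => hτ1 (by
        have h1 : (⟨τ, hTA hτ⟩ : A) = 1 := congrArg Subtype.val h
        exact congrArg Subtype.val h1)⟩⟩
    exact Finite.one_lt_card
  have h4 : 0 < (resAut A T hnorm).ker.index :=
    Nat.pos_of_ne_zero Subgroup.index_ne_zero_of_finite
  nlinarith

/-- Fixed points of the restricted action. -/
theorem range_codRestrict_fixedPts (A T : Subgroup (MulAut G))
    (hnorm : ∀ σ ∈ A, ∀ τ ∈ T, σ⁻¹ * τ * σ ∈ T) {C : Type u} [Group C] (j : C →* G)
    (hC : ∀ g, g ∈ j.range ↔ g ∈ fixedPts A) (hmem : ∀ c, j c ∈ fixedPts T)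
    (b : fixedPts T) :
    b ∈ (j.codRestrict (fixedPts T) hmem).range ↔ b ∈ fixedPts (resAut A T hnorm).range := by
  constructor
  · rintro ⟨c, rfl⟩ τ ⟨σ, rfl⟩
    apply Subtype.ext
    show (σ : MulAut G) (j c) = j c
    exact (hC _).mp ⟨c, rfl⟩ σ σ.2
  · intro hb
    have hbX : (b : G) ∈ fixedPts A := by
      intro σ hσ
      have := hb (resAut A T hnorm ⟨σ, hσ⟩) ⟨⟨σ, hσ⟩, rfl⟩
      exact congrArg Subtype.val this
    obtain ⟨c, hc⟩ := (hC _).mpr hbX
    exact ⟨c, Subtype.ext hc⟩

end Skeleton

section Count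

/-- Coprime action of a solvable group: the number of invariant irreducible characters equals
the number of invariant classes (inductive form). -/
theorem card_inv_irr_eq_classes_aux : ∀ (n : ℕ) {G : Type u} [Group G] [Finite G]
    (A : Subgroup (MulAut G)), Nat.card A ≤ n → Group.IsSolvable A →
    (Nat.card G).Coprime (Nat.card A) →
    Nat.card {χ : IrrCharacter G // IsInvFun A (χ : G → ℂ)} =
      Nat.card {K : ConjClasses G // IsInvClass A K} := by
  intro n
  induction n with
  | zero =>
    intro G _ _ A hn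
    exact absurd hn (by have := Nat.card_pos (α := A); omega)
  | succ n ih =>
    intro G _ _ A hn hsolv hcop
    classical
    by_cases hbot : A = ⊥
    · have e1 : Nat.card {χ : IrrCharacter G // IsInvFun A (χ : G → ℂ)} =
          Nat.card (IrrCharacter G) :=
        Nat.card_congr (Equiv.subtypeUnivEquiv (fun χ => by
          intro σ hσ g
          rw [hbot, Subgroup.mem_bot] at hσ
          rw [hσ]; rfl))
      have e2 : Nat.card {K : ConjClasses G // IsInvClass A K} = Nat.card (ConjClasses G) :=
        Nat.card_congr (Equiv.subtypeUnivEquiv (fun K => by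
          intro σ hσ g hg
          rw [hbot, Subgroup.mem_bot] at hσ
          rw [hσ]; exact hg))
      rw [e1, e2, helper4.card_irr_eq_card_conjClasses]
    · obtain ⟨p, T, hp, hTA, hTne, hTp, hnorm⟩ := exists_normal_pgroup_aut A hsolv hbot
      haveI : Fact p.Prime := ⟨hp⟩
      letI : Fintype G := Fintype.ofFinite G
      letI : Fintype (fixedPts T) := Fintype.ofFinite _
      have hpT : p ∣ Nat.card T :=
        (hTp.card_eq_or_dvd).resolve_left (fun h => hTne (Subgroup.card_eq_one.mp h))
      have hpA : p ∣ Nat.card A := hpT.trans (Subgroup.card_dvd_of_le hTA)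
      have hpG : ¬ p ∣ Nat.card G := fun h => by
        have := Nat.dvd_gcd h hpA
        rw [hcop] at this
        exact hp.one_lt.ne' (Nat.dvd_one.mp this)
      have hT := glauberman_pgroup p T hTp hpG (fixedPts T).subtype Subtype.val_injective
        (fun g => by rw [Subgroup.range_subtype])
      have h1 := card_inv_irr_of_gcorr p A T hTA hnorm hT
      have h2 := card_inv_classes_of_pgroup p A T hTA hnorm hTp hpG
      rw [h1, h2]
      have hcard : Nat.card (resAut A T hnorm).range ≤ n := by
        have := card_range_resAut_lt A T hTA hnorm hTne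
        omega
      have hsolv' : Group.IsSolvable (resAut A T hnorm).range := by
        haveI := hsolv
        exact Group.isSolvable_of_surjective (resAut A T hnorm).rangeRestrict_surjective
      have hcop' : (Nat.card (fixedPts T)).Coprime (Nat.card (resAut A T hnorm).range) := by
        apply Nat.Coprime.coprime_dvd_left (Subgroup.card_subgroup_dvd_card _)
        apply Nat.Coprime.coprime_dvd_right _ hcop
        exact Subgroup.card_dvd_of_surjective (resAut A T hnorm).rangeRestrict
          (resAut A T hnorm).rangeRestrict_surjective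
      exact ih (resAut A T hnorm).range hcard hsolv' hcop'

/-- Coprime action of a solvable group: the number of invariant classes equals the number of
classes of the fixed points (inductive form). -/
theorem card_inv_classes_eq_aux : ∀ (n : ℕ) {G : Type u} [Group G] [Finite G]
    (A : Subgroup (MulAut G)), Nat.card A ≤ n → Group.IsSolvable A →
    (Nat.card G).Coprime (Nat.card A) →
    ∀ {C : Type u} [Group C] (j : C →* G), Function.Injective j →
    (∀ g, g ∈ j.range ↔ g ∈ fixedPts A) →
    Nat.card {K : ConjClasses G // IsInvClass A K} = Nat.card (ConjClasses C) := by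
  intro n
  induction n with
  | zero =>
    intro G _ _ A hn
    exact absurd hn (by have := Nat.card_pos (α := A); omega)
  | succ n ih =>
    intro G _ _ A hn hsolv hcop C _ j hj hC
    classical
    by_cases hbot : A = ⊥
    · obtain ⟨p, hpge, hp⟩ := Nat.exists_infinite_primes (Nat.card G + 1)
      haveI : Fact p.Prime := ⟨hp⟩
      have hpG : ¬ p ∣ Nat.card G := fun h => by
        have := Nat.le_of_dvd Nat.card_pos h
        omega
      have hA : IsPGroup p A := by
        rw [hbot]
        exact IsPGroup.of_bot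
      exact card_invariant_classes p A j hA hpG hj hC
    · obtain ⟨p, T, hp, hTA, hTne, hTp, hnorm⟩ := exists_normal_pgroup_aut A hsolv hbot
      haveI : Fact p.Prime := ⟨hp⟩
      have hpT : p ∣ Nat.card T :=
        (hTp.card_eq_or_dvd).resolve_left (fun h => hTne (Subgroup.card_eq_one.mp h))
      have hpA : p ∣ Nat.card A := hpT.trans (Subgroup.card_dvd_of_le hTA)
      have hpG : ¬ p ∣ Nat.card G := fun h => by
        have := Nat.dvd_gcd h hpA
        rw [hcop] at this
        exact hp.one_lt.ne' (Nat.dvd_one.mp this)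
      have h2 := card_inv_classes_of_pgroup p A T hTA hnorm hTp hpG
      rw [h2]
      have hcard : Nat.card (resAut A T hnorm).range ≤ n := by
        have := card_range_resAut_lt A T hTA hnorm hTne
        omega
      have hsolv' : Group.IsSolvable (resAut A T hnorm).range := by
        haveI := hsolv
        exact Group.isSolvable_of_surjective (resAut A T hnorm).rangeRestrict_surjective
      have hcop' : (Nat.card (fixedPts T)).Coprime (Nat.card (resAut A T hnorm).range) := by
        apply Nat.Coprime.coprime_dvd_left (Subgroup.card_subgroup_dvd_card _)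
        apply Nat.Coprime.coprime_dvd_right _ hcop
        exact Subgroup.card_dvd_of_surjective (resAut A T hnorm).rangeRestrict
          (resAut A T hnorm).rangeRestrict_surjective
      have hmem : ∀ c, j c ∈ fixedPts T := fun c τ hτ => (hC _).mp ⟨c, rfl⟩ τ (hTA hτ)
      exact ih (resAut A T hnorm).range hcard hsolv' hcop' (j.codRestrict (fixedPts T) hmem)
        (fun a b h => hj (congrArg Subtype.val h))
        (range_codRestrict_fixedPts A T hnorm j hC hmem)

/-- **Coprime action of a solvable group**: the number of invariant irreducible characters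
equals the number of invariant conjugacy classes. -/
theorem card_inv_irr_eq_classes {G : Type u} [Group G] [Finite G] (A : Subgroup (MulAut G))
    (hsolv : Group.IsSolvable A) (hcop : (Nat.card G).Coprime (Nat.card A)) :
    Nat.card {χ : IrrCharacter G // IsInvFun A (χ : G → ℂ)} =
      Nat.card {K : ConjClasses G // IsInvClass A K} :=
  card_inv_irr_eq_classes_aux (Nat.card A) A le_rfl hsolv hcop

/-- **Coprime action of a solvable group**: the number of invariant conjugacy classes equals
the number of classes of the fixed points. -/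
theorem card_inv_classes_eq {G : Type u} [Group G] [Finite G] (A : Subgroup (MulAut G))
    (hsolv : Group.IsSolvable A) (hcop : (Nat.card G).Coprime (Nat.card A))
    {C : Type u} [Group C] (j : C →* G) (hj : Function.Injective j)
    (hC : ∀ g, g ∈ j.range ↔ g ∈ fixedPts A) :
    Nat.card {K : ConjClasses G // IsInvClass A K} = Nat.card (ConjClasses C) :=
  card_inv_classes_eq_aux (Nat.card A) A le_rfl hsolv hcop j hj hC

/-- **Coprime action of a solvable group**: the number of invariant irreducible characters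
equals the number of irreducible characters of the fixed points. -/
theorem card_inv_irr_eq_card_irr_fixed {G : Type u} [Group G] [Finite G]
    (A : Subgroup (MulAut G)) (hsolv : Group.IsSolvable A)
    (hcop : (Nat.card G).Coprime (Nat.card A))
    {C : Type u} [Group C] (j : C →* G) (hj : Function.Injective j)
    (hC : ∀ g, g ∈ j.range ↔ g ∈ fixedPts A) :
    Nat.card {χ : IrrCharacter G // IsInvFun A (χ : G → ℂ)} = Nat.card (IrrCharacter C) := by
  haveI : Finite C := Finite.of_injective j hj
  rw [card_inv_irr_eq_classes A hsolv hcop, card_inv_classes_eq A hsolv hcop j hj hC,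
    helper4.card_irr_eq_card_conjClasses]

end Count

section InternalCount

variable {Γ : Type u} [Group Γ] [Finite Γ] (G S : Subgroup Γ)
  (hnorm : ∀ s ∈ S, ∀ g ∈ G, s * g * s⁻¹ ∈ G)

theorem isInvClass_conj_iff (K : ConjClasses G) :
    IsInvClass (conjHom G S hnorm).range K ↔
      ∀ s ∈ S, ∀ g g' : G, (g' : Γ) = s * g * s⁻¹ → ConjClasses.mk g = K →
        ConjClasses.mk g' = K := by
  constructor
  · intro h s hs g g' hg' hg
    have h1 := h (conjHom G S hnorm ⟨s, hs⟩) ⟨⟨s, hs⟩, rfl⟩ g hg
    have h2 : g' = (conjHom G S hnorm ⟨s, hs⟩) g := Subtype.ext hg'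
    rw [h2]
    exact h1
  · rintro h σ ⟨s, rfl⟩ g hg
    exact h s s.2 g _ rfl hg

theorem solvable_conj_range (hsolv : Group.IsSolvable S) :
    Group.IsSolvable (conjHom G S hnorm).range := by
  haveI := hsolv
  exact Group.isSolvable_of_surjective (conjHom G S hnorm).rangeRestrict_surjective

theorem coprime_conj_range (hcop : (Nat.card G).Coprime (Nat.card S)) :
    (Nat.card G).Coprime (Nat.card (conjHom G S hnorm).range) :=
  Nat.Coprime.coprime_dvd_right
    (Subgroup.card_dvd_of_surjective (conjHom G S hnorm).rangeRestrict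
      (conjHom G S hnorm).rangeRestrict_surjective) hcop

end InternalCount

end Cfsg.Agent.Lib.helper82
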