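import Mathlib
import Cfsg.Prelude.Def_Characters
import Cfsg.Prelude.Def_Blocks
import Cfsg.Agent.Lib.helper82.GlaubSolv

/-!
# The Glauberman correspondence and normal subgroups (helper82)

* `stabRes A N hA : A →* MulAut N` : restriction of a group of automorphisms to a stable
  subgroup; `fixJ T N` : the inclusion of `C_N(T)` (as a subgroup of `C_G(T)`) into `N`.
* `sum_modEq_sum_inv` : orbit sums of invariant weights on `Irr(G)` modulo `p`.
* `SF_transport` : transport of the correspondence by compatible automorphisms.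
* `glauberman_over` : if `χ ↔ χ'` and `ϑ ↔ ϑ'` under the correspondences for a `p`-group `T`
  acting on `G ⊵ N`, and `χ'` lies over `ϑ'`, then `χ` lies over `ϑ`.
* `exists_inv_over_solvable` : `A` solvable acting coprimely on `G ⊵ N`, `ϑ ∈ Irr(N)` invariant:
  some `A`-invariant `χ ∈ Irr(G)` lies over `ϑ`.
-/

set_option autoImplicit false
set_option linter.style.haveILetI false
set_option linter.unusedSectionVars false

namespace Cfsg.Agent.Lib.helper82

open Module Cfsg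
open Cfsg.Agent.Lib
open scoped ComplexConjugate

universe u

section StabRes

variable {G : Type u} [Group G]

/-- Restriction of a group of automorphisms to a stable subgroup. -/
def stabRes (A : Subgroup (MulAut G)) (N : Subgroup G) (hA : ∀ σ ∈ A, ∀ x ∈ N, σ x ∈ N) :
    A →* MulAut N where
  toFun σ :=
    { toFun := fun n => ⟨(σ : MulAut G) n, hA σ σ.2 n n.2⟩
      invFun := fun n => ⟨(σ : MulAut G)⁻¹ n, hA _ (inv_mem σ.2) n n.2⟩
      left_inv := fun n => Subtype.ext (by simp)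
      right_inv := fun n => Subtype.ext (by simp)
      map_mul' := fun a b => Subtype.ext (map_mul (σ : MulAut G) a.1 b.1) }
  map_one' := by ext n; rfl
  map_mul' := fun σ τ => by ext n; rfl

theorem stabRes_apply (A : Subgroup (MulAut G)) (N : Subgroup G)
    (hA : ∀ σ ∈ A, ∀ x ∈ N, σ x ∈ N) (σ : A) (n : N) :
    ((stabRes A N hA σ) n : G) = (σ : MulAut G) n := rfl

/-- The inclusion of `N ∩ C_G(T)`, as a subgroup of `C_G(T)`, into `N`. -/
def fixJ (T : Subgroup (MulAut G)) (N : Subgroup G) : N.subgroupOf (fixedPts T) →* N where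
  toFun x := ⟨((x : fixedPts T) : G), Subgroup.mem_subgroupOf.mp x.2⟩
  map_one' := rfl
  map_mul' := fun _ _ => rfl

theorem fixJ_apply (T : Subgroup (MulAut G)) (N : Subgroup G)
    (x : N.subgroupOf (fixedPts T)) : ((fixJ T N x : N) : G) = ((x : fixedPts T) : G) := rfl

theorem fixJ_injective (T : Subgroup (MulAut G)) (N : Subgroup G) :
    Function.Injective (fixJ T N) := by
  intro a b hab
  apply Subtype.ext
  apply Subtype.ext
  have := congrArg (fun y : N => (y : G)) hab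
  exact this

theorem fixJ_range (T : Subgroup (MulAut G)) (N : Subgroup G)
    (hTN : ∀ σ ∈ T, ∀ x ∈ N, σ x ∈ N) (n : N) :
    n ∈ (fixJ T N).range ↔ n ∈ fixedPts (stabRes T N hTN).range := by
  constructor
  · rintro ⟨x, rfl⟩ τ' ⟨τ, rfl⟩
    apply Subtype.ext
    show (τ : MulAut G) ((x : fixedPts T) : G) = ((x : fixedPts T) : G)
    exact (x : fixedPts T).2 τ τ.2
  · intro h
    have hB : (n : G) ∈ fixedPts T := fun τ hτ =>
      congrArg Subtype.val (h (stabRes T N hTN ⟨τ, hτ⟩) ⟨⟨τ, hτ⟩, rfl⟩)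
    exact ⟨⟨⟨n, hB⟩, Subgroup.mem_subgroupOf.mpr n.2⟩, Subtype.ext rfl⟩

end StabRes

section OrbitSum

variable {G : Type u} [Group G] [Finite G]

/-- Orbit sums on `Irr(G)` modulo `p`: an invariant weight has the same total, modulo `p`, as
its total over the invariant characters. -/
theorem sum_modEq_sum_inv (p : ℕ) [hp : Fact p.Prime] [Fintype (IrrCharacter G)]
    (X : Subgroup (MulAut G)) [DecidablePred fun χ : IrrCharacter G => IsInvFun X (χ : G → ℂ)]
    (hX : IsPGroup p X) (w : IrrCharacter G → ℕ)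
    (hw : ∀ σ ∈ X, ∀ χ : IrrCharacter G,
      w ⟨fun g => (χ : G → ℂ) (σ g), isIrrCharacter_comp_aut σ χ.2⟩ = w χ) :
    (∑ χ : IrrCharacter G, w χ) ≡
      (∑ χ : IrrCharacter G, if IsInvFun X (χ : G → ℂ) then w χ else 0) [MOD p] := by
  classical
  letI : MulAction X (IrrCharacter G) :=
    { smul := fun σ χ => ⟨fun g => (χ : G → ℂ) ((σ : MulAut G)⁻¹ g),
        isIrrCharacter_comp_aut (σ : MulAut G)⁻¹ χ.2⟩
      one_smul := fun χ => Subtype.ext (funext fun g => by
        show (χ : G → ℂ) (((1 : X) : MulAut G)⁻¹ g) = (χ : G → ℂ) g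
        simp)
      mul_smul := fun σ τ χ => Subtype.ext (funext fun g => by
        show (χ : G → ℂ) (((σ * τ : X) : MulAut G)⁻¹ g) =
          (χ : G → ℂ) ((τ : MulAut G)⁻¹ ((σ : MulAut G)⁻¹ g))
        simp [mul_inv_rev, MulAut.mul_apply]) }
  have hsmul : ∀ (σ : X) (χ : IrrCharacter G) (g : G),
      ((σ • χ : IrrCharacter G) : G → ℂ) g = (χ : G → ℂ) ((σ : MulAut G)⁻¹ g) := fun _ _ _ => rfl
  have hfixinv : ∀ χ : IrrCharacter G, (∀ σ : X, σ • χ = χ) → IsInvFun X (χ : G → ℂ) := by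
    intro χ hχ σ hσ g
    have h1 := congrArg (fun ψ : IrrCharacter G => (ψ : G → ℂ) (σ g)) (hχ ⟨σ, hσ⟩)
    simp only [hsmul] at h1
    rw [← h1]
    simp
  have hinvfix : ∀ χ : IrrCharacter G, IsInvFun X (χ : G → ℂ) → ∀ σ : X, σ • χ = χ := by
    intro χ hχ σ
    apply Subtype.ext
    funext g
    rw [hsmul]
    exact hχ _ (inv_mem σ.2) g
  have hinviff : ∀ (σ : X) (χ : IrrCharacter G),
      IsInvFun X ((σ • χ : IrrCharacter G) : G → ℂ) ↔ IsInvFun X (χ : G → ℂ) := by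
    intro σ χ
    constructor
    · intro h
      have h1 : σ⁻¹ • (σ • χ) = σ • χ := hinvfix _ h σ⁻¹
      rw [inv_smul_smul] at h1
      rw [h1]; exact h
    · intro h
      rw [hinvfix χ h σ]; exact h
  have hwsmul : ∀ (σ : X) (χ : IrrCharacter G), w (σ • χ) = w χ := fun σ χ =>
    hw _ (inv_mem σ.2) χ
  have hdvd := dvd_sum_of_fixed p hX
    (fun χ : IrrCharacter G => if IsInvFun X (χ : G → ℂ) then 0 else w χ)
    (fun σ χ => by
      show (if IsInvFun X ((σ • χ : IrrCharacter G) : G → ℂ) then 0 else w (σ • χ)) = _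
      rw [hwsmul]
      by_cases h : IsInvFun X (χ : G → ℂ)
      · rw [if_pos h, if_pos ((hinviff σ χ).mpr h)]
      · rw [if_neg h, if_neg (fun h' => h ((hinviff σ χ).mp h'))])
    (fun χ hχ => by
      rw [if_pos (hfixinv χ hχ)]
      exact dvd_zero p)
  have hsplit : ∑ χ : IrrCharacter G, w χ =
      (∑ χ : IrrCharacter G, if IsInvFun X (χ : G → ℂ) then w χ else 0) +
        ∑ χ : IrrCharacter G, if IsInvFun X (χ : G → ℂ) then 0 else w χ := by
    rw [← Finset.sum_add_distrib]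
    apply Finset.sum_congr rfl
    intro χ _
    split_ifs <;> simp
  rw [hsplit]
  exact Nat.ModEq.add_left _ (Nat.modEq_zero_iff_dvd.mpr hdvd)

end OrbitSum

section Transport

variable {N D : Type u} [Group N] [Group D] [Fintype D]

/-- Transport of the strong form of the correspondence by compatible automorphisms. -/
theorem SF_transport (p : ℕ) (j : D →* N) (σ : MulAut N) (σD : MulAut D)
    (hσ : ∀ x, j (σD x) = σ (j x)) (ψ : N → ℂ) (ψ' : IrrCharacter D) (h : SF p j ψ ψ') :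
    SF p j (fun n => ψ (σ n))
      ⟨fun x => (ψ' : D → ℂ) (σD x), isIrrCharacter_comp_aut σD ψ'.2⟩ := by
  classical
  obtain ⟨ε, hε, hall⟩ := h
  refine ⟨ε, hε, fun β' => ?_⟩
  obtain ⟨k, hk⟩ := hall ⟨fun x => (β' : D → ℂ) (σD⁻¹ x), isIrrCharacter_comp_aut σD⁻¹ β'.2⟩
  refine ⟨k, ?_⟩
  have h1 := classInner_comp_equiv (σD : D ≃* D) (fun x => ψ (j x))
    (fun x => (β' : D → ℂ) (σD⁻¹ x))
  have h2 : classInner (fun x => (fun n => ψ (σ n)) (j x)) (β' : D → ℂ) =
      classInner (fun x => ψ (j x)) (fun x => (β' : D → ℂ) (σD⁻¹ x)) := by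
    rw [← h1]
    congr 1
    · funext x
      show ψ (σ (j x)) = ψ (j (σD x))
      rw [hσ]
    · funext x
      show (β' : D → ℂ) x = (β' : D → ℂ) (σD⁻¹ (σD x))
      simp
  rw [h2, hk]
  have hiff : ((⟨fun x => (β' : D → ℂ) (σD⁻¹ x), isIrrCharacter_comp_aut σD⁻¹ β'.2⟩ :
      IrrCharacter D) = ψ') ↔
      (β' = ⟨fun x => (ψ' : D → ℂ) (σD x), isIrrCharacter_comp_aut σD ψ'.2⟩) := by
    constructor
    · intro h
      apply Subtype.ext
      funext x
      have := congrFun (congrArg Subtype.val h) (σD x)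
      simp only at this
      rw [← this]
      simp
    · intro h
      apply Subtype.ext
      funext x
      have := congrFun (congrArg Subtype.val h) (σD⁻¹ x)
      simp only at this
      rw [this]
      simp
  rw [if_congr hiff rfl rfl]

end Transport

section Over

variable {G : Type u} [Group G] [Fintype G] (p : ℕ) [hp : Fact p.Prime]

/-- **Glauberman correspondence and normal subgroups**: if `χ ↔ χ'` and `ϑ ↔ ϑ'` under the
correspondences for the `p`-group `T` acting on `G` and on the `T`-stable normal subgroup `N`,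
and `χ'` lies over `ϑ'`, then `χ` lies over `ϑ`. -/
theorem glauberman_over (T : Subgroup (MulAut G)) (hT : IsPGroup p T) (hpG : ¬ p ∣ Nat.card G)
    (N : Subgroup G) [hN : N.Normal] [Fintype N] (hTN : ∀ σ ∈ T, ∀ x ∈ N, σ x ∈ N)
    [Fintype (fixedPts T)] [Fintype (N.subgroupOf (fixedPts T))]
    (χ : IrrCharacter G) (hχ : IsInvFun T (χ : G → ℂ)) (χ' : IrrCharacter (fixedPts T))
    (hχ' : SF p (fixedPts T).subtype (χ : G → ℂ) χ')
    (ϑ : IrrCharacter N) (hϑ : IsInvFun (stabRes T N hTN).range (ϑ : N → ℂ))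
    (ϑ' : IrrCharacter (N.subgroupOf (fixedPts T))) (hϑ' : SF p (fixJ T N) (ϑ : N → ℂ) ϑ')
    (hover : classInner (fun x : N.subgroupOf (fixedPts T) => (χ' : fixedPts T → ℂ) x)
      (ϑ' : N.subgroupOf (fixedPts T) → ℂ) ≠ 0) :
    classInner (fun n : N => (χ : G → ℂ) n) (ϑ : N → ℂ) ≠ 0 := by
  classical
  letI : Fintype (IrrCharacter N) := Fintype.ofFinite _
  letI : Fintype (IrrCharacter (fixedPts T)) := Fintype.ofFinite _
  have hTNp : IsPGroup p (stabRes T N hTN).range :=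
    hT.of_surjective (stabRes T N hTN).rangeRestrict (stabRes T N hTN).rangeRestrict_surjective
  have hpN : ¬ p ∣ Nat.card N := fun h => hpG (h.trans (Subgroup.card_subgroup_dvd_card _))
  have hj := fixJ_injective T N
  have hC := fixJ_range T N hTN
  have hcorrN : GCorr p (stabRes T N hTN).range (fixJ T N) :=
    glauberman_pgroup p _ hTNp hpN _ hj hC
  have hχchar := helper4.isCharacter_of_isIrrCharacter χ.2
  have hχcf := helper4.isClassFunction_of_isIrrCharacter χ.2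
  -- decomposition of `χ|N`
  obtain ⟨c, hc1, hc2, hc3⟩ := exists_nat_decomp (helper4.isCharacter_restrict N hχchar)
  have hcinv : ∀ σ ∈ (stabRes T N hTN).range, ∀ ψ : IrrCharacter N,
      c ⟨fun n => (ψ : N → ℂ) (σ n), isIrrCharacter_comp_aut σ ψ.2⟩ = c ψ := by
    intro σ hσ ψ
    have h1 : (fun n : N => (χ : G → ℂ) ((σ n : N) : G)) = fun n : N => (χ : G → ℂ) n := by
      obtain ⟨τ, rfl⟩ := hσ
      funext n
      exact hχ τ τ.2 n
    have h2 := classInner_comp_equiv (σ : N ≃* N) (fun n : N => (χ : G → ℂ) n) (ψ : N → ℂ)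
    have h3 : classInner (fun n : N => (χ : G → ℂ) n) (fun n => (ψ : N → ℂ) (σ n)) =
        classInner (fun n : N => (χ : G → ℂ) n) (ψ : N → ℂ) := by
      rw [← h2]
      congr 1
      exact h1.symm
    have h4 : (c ⟨fun n => (ψ : N → ℂ) (σ n), isIrrCharacter_comp_aut σ ψ.2⟩ : ℂ) = (c ψ : ℂ) := by
      rw [← hc1, ← hc1]
      exact h3
    exact_mod_cast h4
  -- step 1: an invariant constituent with multiplicity prime to `p`
  have hdegχ : ¬ p ∣ charDegree (χ : G → ℂ) := fun h => hpG (h.trans (irr_degree_dvd_card χ))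
  have hsum1 : ∑ ψ : IrrCharacter N, c ψ * charDegree (ψ : N → ℂ) = charDegree (χ : G → ℂ) := by
    have h1 : ((∑ ψ : IrrCharacter N, c ψ * charDegree (ψ : N → ℂ) : ℕ) : ℂ) =
        (charDegree (χ : G → ℂ) : ℂ) := by
      rw [← hc3]
      exact irr_one_eq χ
    exact_mod_cast h1
  have hmod1 := sum_modEq_sum_inv p (stabRes T N hTN).range hTNp
    (fun ψ => c ψ * charDegree (ψ : N → ℂ))
    (fun σ hσ ψ => by
      show c ⟨fun n => (ψ : N → ℂ) (σ n), isIrrCharacter_comp_aut σ ψ.2⟩ *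
        charDegree (fun n => (ψ : N → ℂ) (σ n)) = _
      rw [hcinv σ hσ ψ]
      congr 1
      unfold charDegree
      show ⌊((ψ : N → ℂ) (σ 1)).re⌋₊ = _
      rw [map_one])
  obtain ⟨ϑ₁, hϑ₁inv, hϑ₁c⟩ : ∃ ϑ₁ : IrrCharacter N,
      IsInvFun (stabRes T N hTN).range (ϑ₁ : N → ℂ) ∧ ¬ p ∣ c ϑ₁ := by
    by_contra hcon
    push Not at hcon
    have h1 : p ∣ ∑ ψ : IrrCharacter N,
        (if IsInvFun (stabRes T N hTN).range (ψ : N → ℂ) then c ψ * charDegree (ψ : N → ℂ)
          else 0) := by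
      apply Finset.dvd_sum
      intro ψ _
      split_ifs with h
      · exact Dvd.dvd.mul_right (hcon ψ h) _
      · exact dvd_zero _
    have h2 : p ∣ ∑ ψ : IrrCharacter N, c ψ * charDegree (ψ : N → ℂ) :=
      Nat.modEq_zero_iff_dvd.mp (hmod1.trans (Nat.modEq_zero_iff_dvd.mpr h1))
    rw [hsum1] at h2
    exact hdegχ h2
  obtain ⟨ϑ₁', hϑ₁'⟩ := hcorrN.1 ϑ₁ hϑ₁inv
  -- multiplicities of `ϑ₁'` in the restrictions of the `ψ ∈ Irr(N)`
  have hd : ∀ ψ : IrrCharacter N, ∃ d : ℕ,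
      classInner (fun x => (ψ : N → ℂ) (fixJ T N x)) (ϑ₁' : N.subgroupOf (fixedPts T) → ℂ) = d :=
    fun ψ => helper4.exists_nat_classInner_irr
      (helper4.isCharacter_comp (fixJ T N) (helper4.isCharacter_of_isIrrCharacter ψ.2)) ϑ₁'.2
  choose d hd using hd
  have hdinv : ∀ σ ∈ (stabRes T N hTN).range, ∀ ψ : IrrCharacter N,
      d ⟨fun n => (ψ : N → ℂ) (σ n), isIrrCharacter_comp_aut σ ψ.2⟩ = d ψ := by
    intro σ hσ ψ
    have h1 : (fun x => (ψ : N → ℂ) (σ (fixJ T N x))) = fun x => (ψ : N → ℂ) (fixJ T N x) := by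
      funext x
      rw [(hC (fixJ T N x)).mp ⟨x, rfl⟩ σ hσ]
    have h2 : (d ⟨fun n => (ψ : N → ℂ) (σ n), isIrrCharacter_comp_aut σ ψ.2⟩ : ℂ) = (d ψ : ℂ) := by
      rw [← hd, ← hd]
      show classInner (fun x => (ψ : N → ℂ) (σ (fixJ T N x))) _ = _
      rw [h1]
    exact_mod_cast h2
  -- the multiplicity of `ϑ₁'` in `χ` restricted to `N ∩ C_G(T)`, through `N`
  have hmN : classInner (fun x : N.subgroupOf (fixedPts T) => (χ : G → ℂ) ((x : fixedPts T) : G))
      (ϑ₁' : N.subgroupOf (fixedPts T) → ℂ) = ((∑ ψ : IrrCharacter N, c ψ * d ψ : ℕ) : ℂ) := by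
    have h1 : (fun x : N.subgroupOf (fixedPts T) => (χ : G → ℂ) ((x : fixedPts T) : G)) =
        ∑ ψ : IrrCharacter N, (c ψ : ℂ) • (fun x => (ψ : N → ℂ) (fixJ T N x)) := by
      funext x
      rw [Finset.sum_apply]
      exact hc2 (fixJ T N x)
    rw [h1, helper4.classInner_sum_left]
    push_cast
    apply Finset.sum_congr rfl
    intro ψ _
    rw [helper4.classInner_smul_left, hd]
  have hmodN := sum_modEq_sum_inv p (stabRes T N hTN).range hTNp (fun ψ => c ψ * d ψ)
    (fun σ hσ ψ => by rw [hcinv σ hσ ψ, hdinv σ hσ ψ])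
  obtain ⟨ε₁, hε₁, hall₁⟩ := hϑ₁'
  have hdvd : ∀ ψ : IrrCharacter N, IsInvFun (stabRes T N hTN).range (ψ : N → ℂ) → ψ ≠ ϑ₁ →
      p ∣ d ψ := by
    intro ψ hψ hne
    obtain ⟨ψ', hψ'⟩ := hcorrN.1 ψ hψ
    have hne' : ϑ₁' ≠ ψ' := by
      intro h
      apply hne
      exact hcorrN.2.1 ψ ϑ₁ hψ hϑ₁inv ϑ₁' (h ▸ hψ'.grel) (SF.grel ⟨ε₁, hε₁, hall₁⟩)
    obtain ⟨ε, hε, hall⟩ := hψ'
    obtain ⟨k, hk⟩ := hall ϑ₁'
    rw [if_neg hne', add_zero, hd] at hk
    have h1 : (d ψ : ℤ) = (p : ℤ) * k := by exact_mod_cast hk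
    have h2 : (p : ℤ) ∣ (d ψ : ℤ) := ⟨k, h1⟩
    exact_mod_cast h2
  obtain ⟨k₁, hk₁⟩ := hall₁ ϑ₁'
  rw [if_pos rfl, hd] at hk₁
  have hdϑ₁ : (d ϑ₁ : ℤ) = (p : ℤ) * k₁ + ε₁ := by exact_mod_cast hk₁
  have hpdϑ₁ : ¬ p ∣ d ϑ₁ := by
    intro h
    apply not_dvd_sign p hε₁
    have h1 : (p : ℤ) ∣ (d ϑ₁ : ℤ) := by exact_mod_cast h
    rw [hdϑ₁] at h1
    exact (Int.dvd_add_right ⟨k₁, rfl⟩).mp h1
  have hpm : ¬ p ∣ ∑ ψ : IrrCharacter N, c ψ * d ψ := by
    intro hdvdsum
    have h1 : p ∣ ∑ ψ : IrrCharacter N,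
        (if IsInvFun (stabRes T N hTN).range (ψ : N → ℂ) then c ψ * d ψ else 0) :=
      Nat.modEq_zero_iff_dvd.mp (hmodN.symm.trans (Nat.modEq_zero_iff_dvd.mpr hdvdsum))
    rw [← Finset.add_sum_erase _ _ (Finset.mem_univ ϑ₁), if_pos hϑ₁inv] at h1
    have h2 : p ∣ ∑ ψ ∈ Finset.univ.erase ϑ₁,
        (if IsInvFun (stabRes T N hTN).range (ψ : N → ℂ) then c ψ * d ψ else 0) := by
      apply Finset.dvd_sum
      intro ψ hψ
      split_ifs with h
      · exact Dvd.dvd.mul_left (hdvd ψ h (Finset.ne_of_mem_erase hψ)) _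
      · exact dvd_zero _
    have h3 : p ∣ c ϑ₁ * d ϑ₁ := (Nat.dvd_add_left h2).mp h1
    rcases (Nat.Prime.dvd_mul hp.out).mp h3 with h | h
    · exact hϑ₁c h
    · exact hpdϑ₁ h
  -- the same multiplicity, through `C_G(T)`
  obtain ⟨ε, hε, hall⟩ := hχ'
  choose kB hkB using hall
  have hnB : ∀ β : IrrCharacter (fixedPts T), ∃ n : ℕ,
      classInner (fun x : N.subgroupOf (fixedPts T) => (β : fixedPts T → ℂ) x)
        (ϑ₁' : N.subgroupOf (fixedPts T) → ℂ) = n := fun β =>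
    helper4.exists_nat_classInner_irr (helper4.isCharacter_restrict _
      (helper4.isCharacter_of_isIrrCharacter β.2)) ϑ₁'.2
  choose nB hnB using hnB
  have hmB : classInner (fun x : N.subgroupOf (fixedPts T) => (χ : G → ℂ) ((x : fixedPts T) : G))
      (ϑ₁' : N.subgroupOf (fixedPts T) → ℂ) =
      ((∑ β : IrrCharacter (fixedPts T),
        ((p : ℤ) * kB β + if β = χ' then ε else 0) * (nB β : ℤ) : ℤ) : ℂ) := by
    have hcf : IsClassFunction (fixedPts T) (fun b : fixedPts T => (χ : G → ℂ) b) :=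
      helper4.isClassFunction_restrict _ hχcf
    have hexp := helper4.classFunction_eq_sum_irr hcf
    have h1 : (fun x : N.subgroupOf (fixedPts T) => (χ : G → ℂ) ((x : fixedPts T) : G)) =
        ∑ β : IrrCharacter (fixedPts T),
          classInner (fun b : fixedPts T => (χ : G → ℂ) b) (β : fixedPts T → ℂ) •
            (fun x : N.subgroupOf (fixedPts T) => (β : fixedPts T → ℂ) x) := by
      funext x
      have := congrFun hexp (x : fixedPts T)
      rw [Finset.sum_apply] at this ⊢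
      exact this
    rw [h1, helper4.classInner_sum_left]
    push_cast
    apply Finset.sum_congr rfl
    intro β _
    rw [helper4.classInner_smul_left, hnB]
    have h2 := hkB β
    have h3 : classInner (fun b : fixedPts T => (χ : G → ℂ) b) (β : fixedPts T → ℂ) =
        (((p : ℤ) * kB β + if β = χ' then ε else 0 : ℤ) : ℂ) := h2
    rw [h3]
    push_cast
    rfl
  have hZ : ((∑ ψ : IrrCharacter N, c ψ * d ψ : ℕ) : ℤ) =
      ∑ β : IrrCharacter (fixedPts T),
        ((p : ℤ) * kB β + if β = χ' then ε else 0) * (nB β : ℤ) := by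
    have := hmN.symm.trans hmB
    exact_mod_cast this
  have hZ2 : ∑ β : IrrCharacter (fixedPts T),
      ((p : ℤ) * kB β + if β = χ' then ε else 0) * (nB β : ℤ) =
      (p : ℤ) * (∑ β : IrrCharacter (fixedPts T), kB β * (nB β : ℤ)) + ε * (nB χ' : ℤ) := by
    simp_rw [add_mul, Finset.sum_add_distrib, ite_mul, zero_mul]
    rw [Finset.sum_ite_eq' Finset.univ χ' (fun β => ε * (nB β : ℤ)),
      if_pos (Finset.mem_univ _), Finset.mul_sum]
    congr 1
    apply Finset.sum_congr rfl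
    intro β _
    ring
  have hnχ' : nB χ' ≠ 0 := by
    intro h0
    apply hpm
    have h1 : ((∑ ψ : IrrCharacter N, c ψ * d ψ : ℕ) : ℤ) =
        (p : ℤ) * (∑ β : IrrCharacter (fixedPts T), kB β * (nB β : ℤ)) := by
      rw [hZ, hZ2, h0]; simp
    have h2 : (p : ℤ) ∣ ((∑ ψ : IrrCharacter N, c ψ * d ψ : ℕ) : ℤ) := ⟨_, h1⟩
    exact_mod_cast h2
  have hover₁ : classInner (fun x : N.subgroupOf (fixedPts T) => (χ' : fixedPts T → ℂ) x)
      (ϑ₁' : N.subgroupOf (fixedPts T) → ℂ) ≠ 0 := by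
    rw [hnB]
    exact_mod_cast hnχ'
  -- Clifford in `C_G(T)`
  obtain ⟨b, hb⟩ := clifford_conj (N.subgroupOf (fixedPts T)) χ'.2 ϑ'.2 ϑ₁'.2 hover hover₁
  -- transport by conjugation with `b`
  have hcompat : ∀ x : N.subgroupOf (fixedPts T),
      fixJ T N ((MulAut.conjNormal b⁻¹ : MulAut (N.subgroupOf (fixedPts T))) x) =
        (MulAut.conjNormal ((b : G)⁻¹) : MulAut N) (fixJ T N x) := by
    intro x
    apply Subtype.ext
    simp [fixJ_apply]
  have hSFb := SF_transport p (fixJ T N) (MulAut.conjNormal ((b : G)⁻¹) : MulAut N)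
    (MulAut.conjNormal b⁻¹ : MulAut (N.subgroupOf (fixedPts T))) hcompat (ϑ : N → ℂ) ϑ' hϑ'
  have hϑbinv : IsInvFun (stabRes T N hTN).range
      (fun n => (ϑ : N → ℂ) ((MulAut.conjNormal ((b : G)⁻¹) : MulAut N) n)) := by
    rintro τ' ⟨τ, rfl⟩ n
    have hbfix : (τ : MulAut G) (b : G) = b := b.2 τ τ.2
    have h1 : (MulAut.conjNormal ((b : G)⁻¹) : MulAut N) ((stabRes T N hTN τ) n) =
        (stabRes T N hTN τ) ((MulAut.conjNormal ((b : G)⁻¹) : MulAut N) n) := by
      apply Subtype.ext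
      simp [stabRes_apply, hbfix]
    show (ϑ : N → ℂ) ((MulAut.conjNormal ((b : G)⁻¹) : MulAut N) ((stabRes T N hTN τ) n)) = _
    rw [h1]
    exact hϑ (stabRes T N hTN τ) ⟨τ, rfl⟩ _
  have hgrelb : GRel p (fixJ T N)
      (fun n => (ϑ : N → ℂ) ((MulAut.conjNormal ((b : G)⁻¹) : MulAut N) n))
      (ϑ₁' : N.subgroupOf (fixedPts T) → ℂ) := by
    rw [hb]
    exact hSFb.grel
  have heq := hcorrN.2.1
    ⟨fun n => (ϑ : N → ℂ) ((MulAut.conjNormal ((b : G)⁻¹) : MulAut N) n),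
      isIrrCharacter_comp_aut _ ϑ.2⟩ ϑ₁ hϑbinv hϑ₁inv ϑ₁' hgrelb
    (SF.grel ⟨ε₁, hε₁, hall₁⟩)
  -- conclusion
  have hcϑ₁ : c ϑ₁ ≠ 0 := fun h => hϑ₁c (h ▸ dvd_zero p)
  have h5 : classInner (fun n : N => (χ : G → ℂ) n) (ϑ₁ : N → ℂ) ≠ 0 := by
    rw [hc1]
    exact_mod_cast hcϑ₁
  have h6 : (ϑ₁ : N → ℂ) = cconj N (b : G) (ϑ : N → ℂ) := by
    rw [← heq]
    rfl
  rw [h6, classInner_restrict_cconj N hχcf] at h5
  exact h5

end Over

section Solvable

/-- Coprime action of a solvable group `A` on `G ⊵ N` (inductive form): every `A`-invariant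
irreducible character of `N` lies under an `A`-invariant irreducible character of `G`. -/
theorem exists_inv_over_solvable_aux : ∀ (n : ℕ) {G : Type u} [Group G] [Finite G]
    (A : Subgroup (MulAut G)), Nat.card A ≤ n → Group.IsSolvable A →
    (Nat.card G).Coprime (Nat.card A) →
    ∀ (N : Subgroup G) [N.Normal] [Fintype N] (hAN : ∀ σ ∈ A, ∀ x ∈ N, σ x ∈ N)
      (ϑ : IrrCharacter N), IsInvFun (stabRes A N hAN).range (ϑ : N → ℂ) →
      ∃ χ : IrrCharacter G, IsInvFun A (χ : G → ℂ) ∧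
        classInner (fun n : N => (χ : G → ℂ) n) (ϑ : N → ℂ) ≠ 0 := by
  intro n
  induction n with
  | zero =>
    intro G _ _ A hn
    exact absurd hn (by have := Nat.card_pos (α := A); omega)
  | succ n ih =>
    intro G _ _ A hn hsolv hcop N _ _ hAN ϑ hϑ
    classical
    letI : Fintype G := Fintype.ofFinite G
    by_cases hbot : A = ⊥
    · obtain ⟨χ, hχ, hover⟩ := exists_irr_over N ϑ.2
      refine ⟨⟨χ, hχ⟩, ?_, hover⟩
      intro σ hσ g
      rw [hbot, Subgroup.mem_bot] at hσ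
      rw [hσ]; rfl
    · obtain ⟨p, T, hp, hTA, hTne, hTp, hnorm⟩ := exists_normal_pgroup_aut A hsolv hbot
      haveI : Fact p.Prime := ⟨hp⟩
      letI : Fintype (fixedPts T) := Fintype.ofFinite _
      letI : Fintype (N.subgroupOf (fixedPts T)) := Fintype.ofFinite _
      have hpT : p ∣ Nat.card T :=
        (hTp.card_eq_or_dvd).resolve_left (fun h => hTne (Subgroup.card_eq_one.mp h))
      have hpA : p ∣ Nat.card A := hpT.trans (Subgroup.card_dvd_of_le hTA)
      have hpG : ¬ p ∣ Nat.card G := fun h => by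
        have := Nat.dvd_gcd h hpA
        rw [hcop] at this
        exact hp.one_lt.ne' (Nat.dvd_one.mp this)
      have hpN : ¬ p ∣ Nat.card N := fun h => hpG (h.trans (Subgroup.card_subgroup_dvd_card _))
      have hT := glauberman_pgroup p T hTp hpG (fixedPts T).subtype Subtype.val_injective
        (fun g => by rw [Subgroup.range_subtype])
      have hTN : ∀ σ ∈ T, ∀ x ∈ N, σ x ∈ N := fun σ hσ => hAN σ (hTA hσ)
      have hTNp : IsPGroup p (stabRes T N hTN).range :=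
        hTp.of_surjective (stabRes T N hTN).rangeRestrict
          (stabRes T N hTN).rangeRestrict_surjective
      have hcorrN : GCorr p (stabRes T N hTN).range (fixJ T N) :=
        glauberman_pgroup p _ hTNp hpN _ (fixJ_injective T N) (fixJ_range T N hTN)
      have hϑT : IsInvFun (stabRes T N hTN).range (ϑ : N → ℂ) := by
        rintro τ' ⟨τ, rfl⟩ x
        exact hϑ (stabRes A N hAN ⟨τ, hTA τ.2⟩) ⟨⟨τ, hTA τ.2⟩, rfl⟩ x
      obtain ⟨ϑ', hϑ'⟩ := hcorrN.1 ϑ hϑT
      -- the action of `A` on `C_G(T)` and on `N ∩ C_G(T)`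
      have hAN' : ∀ ρ ∈ (resAut A T hnorm).range, ∀ x ∈ N.subgroupOf (fixedPts T),
          ρ x ∈ N.subgroupOf (fixedPts T) := by
        rintro ρ ⟨σ, rfl⟩ x hx
        rw [Subgroup.mem_subgroupOf] at hx ⊢
        rw [resAut_apply]
        exact hAN σ σ.2 _ hx
      have hϑ'inv : IsInvFun (stabRes (resAut A T hnorm).range (N.subgroupOf (fixedPts T))
          hAN').range (ϑ' : N.subgroupOf (fixedPts T) → ℂ) := by
        rintro ρ' ⟨⟨ρ, σ, rfl⟩, rfl⟩ x
        exact SF_inv p (fixJ T N) (stabRes A N hAN σ)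
          (stabRes (resAut A T hnorm).range (N.subgroupOf (fixedPts T)) hAN'
            ⟨resAut A T hnorm σ, σ, rfl⟩)
          (fun b => Subtype.ext rfl) (ϑ : N → ℂ)
          (fun x => hϑ (stabRes A N hAN σ) ⟨σ, rfl⟩ x) ϑ' hϑ' x
      have hcard : Nat.card (resAut A T hnorm).range ≤ n := by
        have := card_range_resAut_lt A T hTA hnorm hTne
        omega
      have hsolv' : Group.IsSolvable (resAut A T hnorm).range := by
        haveI := hsolv
        exact Group.isSolvable_of_surjective (resAut A T hnorm).rangeRestrict_surjective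
      have hcop' : (Nat.card (fixedPts T)).Coprime (Nat.card (resAut A T hnorm).range) := by
        apply Nat.Coprime.coprime_dvd_left (Subgroup.card_subgroup_dvd_card _)
        apply Nat.Coprime.coprime_dvd_right _ hcop
        exact Subgroup.card_dvd_of_surjective (resAut A T hnorm).rangeRestrict
          (resAut A T hnorm).rangeRestrict_surjective
      obtain ⟨χ', hχ'inv, hχ'over⟩ := ih (resAut A T hnorm).range hcard hsolv' hcop'
        (N.subgroupOf (fixedPts T)) hAN' ϑ' hϑ'inv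
      -- the preimage of `χ'`
      obtain ⟨χ, hχT, hχrel⟩ := hT.2.2 χ'
      have hχA : IsInvFun A (χ : G → ℂ) := by
        intro σ hσ g
        let χσ : IrrCharacter G := ⟨fun g => (χ : G → ℂ) (σ g), isIrrCharacter_comp_aut σ χ.2⟩
        have hχσT : IsInvFun T (χσ : G → ℂ) := by
          intro τ hτ g
          show (χ : G → ℂ) (σ (τ g)) = (χ : G → ℂ) (σ g)
          have h0 := hnorm σ⁻¹ (inv_mem hσ) τ hτ
          rw [inv_inv] at h0
          have h1 : σ (τ g) = (σ * τ * σ⁻¹) (σ g) := by simp [MulAut.mul_apply]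
          rw [h1, hχT _ h0]
        have hrel : GRel p (fixedPts T).subtype (χσ : G → ℂ) (χ' : fixedPts T → ℂ) :=
          GRel_transport p (fixedPts T).subtype σ (resAut A T hnorm ⟨σ, hσ⟩) (fun b => rfl)
            (χ : G → ℂ) (χ' : fixedPts T → ℂ)
            (fun b => hχ'inv (resAut A T hnorm ⟨σ, hσ⟩) ⟨⟨σ, hσ⟩, rfl⟩ b) hχrel
        have h3 := hT.2.1 χσ χ hχσT hχT χ' hrel hχrel
        exact congrFun (congrArg Subtype.val h3) g
      obtain ⟨χ'', hχ''⟩ := hT.1 χ hχT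
      have e1 : χ' = χ'' := hχ''.unique hχrel
      rw [← e1] at hχ''
      exact ⟨χ, hχA, glauberman_over p T hTp hpG N hTN χ hχT χ' hχ'' ϑ hϑT ϑ' hϑ' hχ'over⟩

/-- Coprime action of a solvable group `A` on `G ⊵ N`: every `A`-invariant irreducible
character of `N` lies under an `A`-invariant irreducible character of `G`. -/
theorem exists_inv_over_solvable {G : Type u} [Group G] [Finite G] (A : Subgroup (MulAut G))
    (hsolv : Group.IsSolvable A) (hcop : (Nat.card G).Coprime (Nat.card A))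
    (N : Subgroup G) [N.Normal] [Fintype N] (hAN : ∀ σ ∈ A, ∀ x ∈ N, σ x ∈ N)
    (ϑ : IrrCharacter N) (hϑ : IsInvFun (stabRes A N hAN).range (ϑ : N → ℂ)) :
    ∃ χ : IrrCharacter G, IsInvFun A (χ : G → ℂ) ∧
      classInner (fun n : N => (χ : G → ℂ) n) (ϑ : N → ℂ) ≠ 0 :=
  exists_inv_over_solvable_aux (Nat.card A) A le_rfl hsolv hcop N hAN ϑ hϑ

end Solvable

section InternalOver

/-- Internal form: inside `Γ` the solvable subgroup `S` normalises `G ⊵ N` and `N`, with
`(|G|, |S|) = 1`; every `S`-invariant irreducible character of `N` lies under an `S`-invariant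
irreducible character of `G`. -/
theorem exists_inv_over_internal {Γ : Type u} [Group Γ] [Finite Γ] (G S N : Subgroup Γ)
    [Fintype G] [Fintype N] (hnorm : ∀ s ∈ S, ∀ g ∈ G, s * g * s⁻¹ ∈ G) (hNG : N ≤ G)
    (hNnormal : ∀ g ∈ G, ∀ n ∈ N, g * n * g⁻¹ ∈ N) (hNS : ∀ s ∈ S, ∀ n ∈ N, s * n * s⁻¹ ∈ N)
    (hcop : (Nat.card G).Coprime (Nat.card S)) (hsolv : Group.IsSolvable S)
    (θ : IrrCharacter N)
    (hinv : ∀ s ∈ S, ∀ g g' : N, (g' : Γ) = s * g * s⁻¹ → (θ : N → ℂ) g' = (θ : N → ℂ) g) :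
    ∃ χ : IrrCharacter G,
      classInner (fun n : N => (χ : G → ℂ) ⟨n, hNG n.2⟩) (θ : N → ℂ) ≠ 0 ∧
      (∀ s ∈ S, ∀ g g' : G, (g' : Γ) = s * g * s⁻¹ → (χ : G → ℂ) g' = (χ : G → ℂ) g) := by
  classical
  haveI : (N.subgroupOf G).Normal := ⟨fun n hn g => by
    rw [Subgroup.mem_subgroupOf] at hn ⊢
    exact hNnormal g g.2 n hn⟩
  letI : Fintype (N.subgroupOf G) := Fintype.ofFinite _
  let e : N.subgroupOf G ≃* N := Subgroup.subgroupOfEquivOfLe hNG
  have he : ∀ x : N.subgroupOf G, ((e x : N) : Γ) = ((x : G) : Γ) := fun x => rfl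
  let ϑ : IrrCharacter (N.subgroupOf G) :=
    ⟨fun x => (θ : N → ℂ) (e x), isIrrCharacter_comp_surj e.toMonoidHom e.surjective θ.2⟩
  have hAN : ∀ σ ∈ (conjHom G S hnorm).range, ∀ x ∈ N.subgroupOf G, σ x ∈ N.subgroupOf G := by
    rintro σ ⟨s, rfl⟩ x hx
    rw [Subgroup.mem_subgroupOf] at hx ⊢
    rw [conjHom_apply]
    exact hNS s s.2 _ hx
  have hϑ : IsInvFun (stabRes (conjHom G S hnorm).range (N.subgroupOf G) hAN).range
      (ϑ : N.subgroupOf G → ℂ) := by
    rintro σ' ⟨⟨σ, s, rfl⟩, rfl⟩ x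
    show (θ : N → ℂ) (e _) = (θ : N → ℂ) (e x)
    exact hinv s s.2 (e x) _ rfl
  obtain ⟨χ, hχinv, hχover⟩ := exists_inv_over_solvable (conjHom G S hnorm).range
    (solvable_conj_range G S hnorm hsolv) (coprime_conj_range G S hnorm hcop)
    (N.subgroupOf G) hAN ϑ hϑ
  refine ⟨χ, ?_, (isInvFun_conj_iff G S hnorm (χ : G → ℂ)).mp hχinv⟩
  have h1 := classInner_comp_equiv e (fun n : N => (χ : G → ℂ) ⟨n, hNG n.2⟩) (θ : N → ℂ)
  rw [← h1]
  exact hχover

end InternalOver

end Cfsg.Agent.Lib.helper82
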