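import Mathlib
import Cfsg.Prelude.Def_Characters
import Cfsg.Prelude.Def_Blocks
import Cfsg.Agent.Lib.helper82.GlaubOver
import Cfsg.Agent.Lib.helper82.GlaubSub
import Cfsg.Agent.Lib.helper82.CharDeg
import Cfsg.Agent.Lib.helper4.BrauerInd
import Cfsg.Agent.Lib.helper45.UnipotentGL

/-!
# Dade's detection theorem (Isaacs 8.24) (helper82)

* `sum_subgroup` : a sum over a subgroup as a sum over the group.
* `sum_indFun_mul_inv` : `∑_{s ∈ S} (ψ^G)(s) F(s) = |G|/|H| ∑_{b ∈ H ∩ S} ψ(b) F(b)` for `S ⊴ G` and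
  `F` invariant under `G`-conjugation on `S`.
* `card_mul_card_inf` : `|G| |E ∩ N| = |G : EN| |E| |N|`.
* `dade_detect` : `G/N` a `p`-group, `ϑ ∈ Irr(N)` invariant: some `p`-elementary `E` with `EN = G`
  and some `E`-invariant `φ ∈ Irr(E ∩ N)` with `p ∤ [ϑ_{E∩N}, φ]`.
-/

set_option autoImplicit false
set_option linter.style.haveILetI false
set_option linter.unusedSectionVars false

namespace Cfsg.Agent.Lib.helper82

open Module Cfsg
open Cfsg.Agent.Lib
open scoped ComplexConjugate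

universe u

section Sums

variable {G : Type u} [Group G] [Fintype G]

/-- A sum over a subgroup as a sum over the whole group. -/
theorem sum_subgroup (K : Subgroup G) [Fintype K] [DecidablePred (· ∈ K)] (f : G → ℂ) :
    ∑ k : K, f k = ∑ g : G, if g ∈ K then f g else 0 := by
  rw [← Finset.sum_filter]
  exact (Finset.sum_subtype (Finset.univ.filter (· ∈ K)) (by simp) f).symm

/-- Summing an induced function against an invariant function over a normal subgroup. -/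
theorem sum_indFun_mul_inv (S H : Subgroup G) [hS : S.Normal] [Fintype S] [Fintype ↥(H ⊓ S)]
    (ψ : H → ℂ) (F : G → ℂ) (hF : ∀ x s : G, s ∈ S → F (x * s * x⁻¹) = F s) :
    ∑ s : S, indFun H ψ (s : G) * F s =
      (Nat.card G : ℂ) * (Nat.card H : ℂ)⁻¹ * ∑ b : ↥(H ⊓ S), ψ ⟨b, b.2.1⟩ * F b := by
  classical
  have h1 : ∀ x : G, ∑ s : S, extendByZero H ψ (x⁻¹ * (s : G) * x) * F s =
      ∑ s : S, extendByZero H ψ (s : G) * F s := by
    intro x
    have := Fintype.sum_equiv (MulAut.conjNormal (H := S) x⁻¹).toEquiv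
      (fun s : S => extendByZero H ψ (x⁻¹ * (s : G) * x) * F s)
      (fun s : S => extendByZero H ψ (s : G) * F (x * (s : G) * x⁻¹)) (by
        intro s
        show _ = extendByZero H ψ ((MulAut.conjNormal (H := S) x⁻¹ s : S) : G) *
          F (x * ((MulAut.conjNormal (H := S) x⁻¹ s : S) : G) * x⁻¹)
        rw [MulAut.conjNormal_apply]
        simp only [inv_inv]
        congr 2
        group)
    rw [this]
    apply Finset.sum_congr rfl
    intro s _
    rw [hF x s s.2]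
  have h2 : ∑ s : S, extendByZero H ψ (s : G) * F s = ∑ b : ↥(H ⊓ S), ψ ⟨b, b.2.1⟩ * F b := by
    rw [sum_subgroup S (fun g => extendByZero H ψ g * F g)]
    have h3 : ∑ b : ↥(H ⊓ S), ψ ⟨b, b.2.1⟩ * F b =
        ∑ b : ↥(H ⊓ S), (fun g => extendByZero H ψ g * F g) b := by
      apply Finset.sum_congr rfl
      intro b _
      show _ = extendByZero H ψ (b : G) * F b
      rw [helper4.extendByZero_apply_mem H ψ b.2.1]
    rw [h3, sum_subgroup (H ⊓ S) (fun g => extendByZero H ψ g * F g)]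
    apply Finset.sum_congr rfl
    intro g _
    by_cases hgS : g ∈ S
    · by_cases hgH : g ∈ H
      · rw [if_pos hgS, if_pos ⟨hgH, hgS⟩]
      · rw [if_pos hgS, if_neg (fun h => hgH h.1), helper4.extendByZero_apply_of_not_mem H ψ hgH,
          zero_mul]
    · rw [if_neg hgS, if_neg (fun h => hgS h.2)]
  calc ∑ s : S, indFun H ψ (s : G) * F s
      = ∑ s : S, (Nat.card H : ℂ)⁻¹ * ∑ x : G, extendByZero H ψ (x⁻¹ * (s : G) * x) * F s := by
        apply Finset.sum_congr rfl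
        intro s _
        rw [helper4.indFun_apply, mul_assoc, Finset.sum_mul]
    _ = (Nat.card H : ℂ)⁻¹ * ∑ x : G, ∑ s : S, extendByZero H ψ (x⁻¹ * (s : G) * x) * F s := by
        rw [← Finset.mul_sum, Finset.sum_comm]
    _ = (Nat.card H : ℂ)⁻¹ * ∑ x : G, ∑ b : ↥(H ⊓ S), ψ ⟨b, b.2.1⟩ * F b := by
        congr 1
        apply Finset.sum_congr rfl
        intro x _
        rw [h1 x, h2]
    _ = _ := by
        rw [Finset.sum_const, Finset.card_univ, nsmul_eq_mul, ← Nat.card_eq_fintype_card]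
        ring

end Sums

section Index

variable {G : Type u} [Group G] [Finite G]

/-- `|G| |E ∩ N| = |G : EN| |E| |N|` for `N` normal. -/
theorem card_mul_card_inf (E N : Subgroup G) [hN : N.Normal] :
    Nat.card G * Nat.card ↥(E ⊓ N) = (E ⊔ N).index * Nat.card E * Nat.card N := by
  have h1 : N.relIndex (E ⊔ N) * (E ⊔ N).index = N.index :=
    Subgroup.relIndex_mul_index le_sup_right
  have h2 : N.relIndex (E ⊔ N) = N.relIndex E := Subgroup.relIndex_sup_right E N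
  have h3 : (E ⊓ N).relIndex E = N.relIndex E := Subgroup.inf_relIndex_left E N
  have h4 : Nat.card ↥(E ⊓ N) * (E ⊓ N).relIndex E = Nat.card E := by
    have := Subgroup.relIndex_mul_relIndex (H := (⊥ : Subgroup G)) (K := E ⊓ N) (L := E) bot_le
      inf_le_left
    rwa [Subgroup.relIndex_bot_left, Subgroup.relIndex_bot_left] at this
  have h5 : N.index * Nat.card N = Nat.card G := N.index_mul_card
  rw [← h5, ← h1, h2, ← h3, ← h4]
  ring

/-- If `E N = G` then `|E : E ∩ N| = |G : N|`. -/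
theorem relIndex_inf_of_sup_eq_top (E N : Subgroup G) [hN : N.Normal] (h : E ⊔ N = ⊤) :
    (E ⊓ N).relIndex E = N.index := by
  rw [Subgroup.inf_relIndex_left, ← Subgroup.relIndex_sup_right E N, h, Subgroup.relIndex_top_right]

end Index

section OrbitInv

variable {Γ : Type u} [Group Γ] [Finite Γ]

/-- If `E/D` is a `p`-group, `X`, `Y` are `E`-invariant characters of `D ⊴ E` and
`p ∤ [X, Y]`, then some `E`-invariant `φ ∈ Irr(D)` has `p ∤ [Y, φ]`. -/
theorem exists_inv_irr_of_inner (p : ℕ) [hp : Fact p.Prime] (E D : Subgroup Γ)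
    (hnorm : ∀ s ∈ E, ∀ d ∈ D, s * d * s⁻¹ ∈ D) (j : ℕ) (hidx : D.relIndex E = p ^ j)
    [Fintype D] (X Y : D → ℂ) (hX : IsCharacter D X) (hY : IsCharacter D Y)
    (hXinv : ∀ s ∈ E, ∀ x y : D, (y : Γ) = s * x * s⁻¹ → X y = X x)
    (hYinv : ∀ s ∈ E, ∀ x y : D, (y : Γ) = s * x * s⁻¹ → Y y = Y x)
    (c : ℕ) (hc : classInner X Y = c) (hpc : ¬ p ∣ c) :
    ∃ φ : D → ℂ, IsIrrCharacter D φ ∧
      (∀ s ∈ E, ∀ x y : D, (y : Γ) = s * x * s⁻¹ → φ y = φ x) ∧
      ∃ b : ℕ, ¬ p ∣ b ∧ classInner Y φ = b := by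
  classical
  haveI : Fintype (IrrCharacter D) := Fintype.ofFinite _
  obtain ⟨a, ha, haX, -⟩ := exists_nat_decomp hX
  obtain ⟨b, hb, hbY, -⟩ := exists_nat_decomp hY
  have hcsum : c = ∑ χ : IrrCharacter D, a χ * b χ := by
    have h1 : classInner X Y = ∑ χ : IrrCharacter D, (a χ : ℂ) * classInner (χ : D → ℂ) Y := by
      have hXfun : X = fun g => ∑ χ : IrrCharacter D, (a χ : ℂ) * (χ : D → ℂ) g := funext haX
      conv_lhs => rw [hXfun]
      exact helper45.classInner_sum_left _ _ _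
    have h2 : ∀ χ : IrrCharacter D, classInner (χ : D → ℂ) Y = b χ :=
      fun χ => classInner_irr_char_comm χ (hb χ)
    rw [hc] at h1
    simp only [h2] at h1
    exact_mod_cast h1
  obtain ⟨Q⟩ : Nonempty (Sylow p E) := inferInstance
  set c1 := conjHom D E hnorm with hc1
  set XQ : Subgroup (MulAut D) := (Q : Subgroup E).map c1 with hXQdef
  have hXQ : IsPGroup p XQ := Q.isPGroup'.map c1
  have hXσ : ∀ σ ∈ XQ, ∀ d : D, X (σ d) = X d := by
    rintro σ ⟨q, -, rfl⟩ d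
    exact hXinv q q.2 d _ rfl
  have hYσ : ∀ σ ∈ XQ, ∀ d : D, Y (σ d) = Y d := by
    rintro σ ⟨q, -, rfl⟩ d
    exact hYinv q q.2 d _ rfl
  have hw : ∀ σ ∈ XQ, ∀ χ : IrrCharacter D,
      (fun χ : IrrCharacter D => a χ * b χ)
        ⟨fun g => (χ : D → ℂ) (σ g), isIrrCharacter_comp_aut σ χ.2⟩ = a χ * b χ := by
    intro σ hσ χ
    have h1 : (a ⟨fun g => (χ : D → ℂ) (σ g), isIrrCharacter_comp_aut σ χ.2⟩ : ℂ) = a χ := by
      rw [← ha, ← ha]
      have := classInner_comp_equiv (σ : D ≃* D) X (χ : D → ℂ)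
      rw [← this]
      congr 1
      funext d
      exact (hXσ σ hσ d).symm
    have h2 : (b ⟨fun g => (χ : D → ℂ) (σ g), isIrrCharacter_comp_aut σ χ.2⟩ : ℂ) = b χ := by
      rw [← hb, ← hb]
      have := classInner_comp_equiv (σ : D ≃* D) Y (χ : D → ℂ)
      rw [← this]
      congr 1
      funext d
      exact (hYσ σ hσ d).symm
    have h1' := Nat.cast_injective h1
    have h2' := Nat.cast_injective h2
    show a _ * b _ = a χ * b χ
    rw [h1', h2']
  have hmod := sum_modEq_sum_inv p XQ hXQ (fun χ : IrrCharacter D => a χ * b χ) hw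
  obtain ⟨χ, hχinv, hχp⟩ : ∃ χ : IrrCharacter D, IsInvFun XQ (χ : D → ℂ) ∧ ¬ p ∣ a χ * b χ := by
    by_contra hcon
    push Not at hcon
    have h1 : p ∣ ∑ χ : IrrCharacter D, if IsInvFun XQ (χ : D → ℂ) then a χ * b χ else 0 := by
      apply Finset.dvd_sum
      intro χ _
      split_ifs with h
      · exact hcon χ h
      · exact dvd_zero p
    have h2 : p ∣ ∑ χ : IrrCharacter D, a χ * b χ :=
      Nat.modEq_zero_iff_dvd.mp (hmod.trans (Nat.modEq_zero_iff_dvd.mpr h1))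
    exact hpc (hcsum ▸ h2)
  refine ⟨χ, χ.2, ?_, b χ, fun h => hχp (Dvd.dvd.mul_left h _), hb χ⟩
  -- `E = D Q`
  haveI hDn : (D.subgroupOf E).Normal := by
    constructor
    intro n hn g
    rw [Subgroup.mem_subgroupOf] at hn ⊢
    exact hnorm g g.2 n hn
  have htop : D.subgroupOf E ⊔ (Q : Subgroup E) = ⊤ := by
    rw [← Subgroup.index_eq_one]
    have h1 : (D.subgroupOf E ⊔ (Q : Subgroup E)).index ∣ p ^ j := by
      have := Subgroup.index_dvd_of_le (le_sup_left : D.subgroupOf E ≤ D.subgroupOf E ⊔ (Q : Subgroup E))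
      rwa [show (D.subgroupOf E).index = D.relIndex E from rfl, hidx] at this
    have h2 : (D.subgroupOf E ⊔ (Q : Subgroup E)).index ∣ (Q : Subgroup E).index :=
      Subgroup.index_dvd_of_le le_sup_right
    obtain ⟨i, -, hi⟩ := (Nat.dvd_prime_pow hp.1).mp h1
    rw [hi] at h2 ⊢
    rcases Nat.eq_zero_or_pos i with h0 | hpos
    · rw [h0, pow_zero]
    · exact absurd ((dvd_pow_self p hpos.ne').trans h2) Q.not_dvd_index
  have hcf := helper4.isClassFunction_of_isIrrCharacter χ.2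
  intro s hs x y hy
  have hmem : (⟨s, hs⟩ : E) ∈ D.subgroupOf E ⊔ (Q : Subgroup E) := by rw [htop]; trivial
  obtain ⟨d, hd, q, hq, hdq⟩ := Subgroup.mem_sup_of_normal_left.mp hmem
  have hd' : (d : Γ) ∈ D := Subgroup.mem_subgroupOf.mp hd
  have hσ : c1 q ∈ XQ := ⟨q, hq, rfl⟩
  have h1 : y = ⟨d, hd'⟩ * (c1 q x) * (⟨d, hd'⟩ : D)⁻¹ := by
    apply Subtype.ext
    rw [hy]
    have : s = (d : Γ) * (q : Γ) := by
      have := congrArg Subtype.val hdq
      exact this.symm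
    rw [this]
    show _ = (d : Γ) * ((q : Γ) * x * (q : Γ)⁻¹) * (d : Γ)⁻¹
    group
  rw [h1, hcf, hχinv _ hσ]

end OrbitInv

section Detect

variable {G : Type u} [Group G] [Fintype G]

/-- Integer multiples of a fixed complex number are closed under list sums. -/
theorem list_sum_zmul (κ : ℂ) (L : List ℂ) (h : ∀ z ∈ L, ∃ j : ℤ, z = κ * j) :
    ∃ j : ℤ, L.sum = κ * j := by
  induction L with
  | nil => exact ⟨0, by simp⟩
  | cons a L ih =>
    obtain ⟨j1, h1⟩ := h a List.mem_cons_self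
    obtain ⟨j2, h2⟩ := ih (fun z hz => h z (List.mem_cons_of_mem _ hz))
    exact ⟨j1 + j2, by rw [List.sum_cons, h1, h2]; push_cast; ring⟩

/-- **Dade's detection theorem** (Isaacs 8.24). -/
theorem dade_detect (p : ℕ) [hp : Fact p.Prime] (N : Subgroup G) [hN : N.Normal]
    (k : ℕ) (hind : N.index = p ^ k) (ϑ : N → ℂ) (hϑ : IsIrrCharacter N ϑ)
    (hinv : ∀ (g : G) (n : N), ϑ ⟨g * n * g⁻¹, hN.conj_mem (n : G) n.2 g⟩ = ϑ n) :
    ∃ (E : Subgroup G) (φ : ↥(E ⊓ N) → ℂ), IsElementary p E ∧ E ⊔ N = ⊤ ∧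
      IsIrrCharacter ↥(E ⊓ N) φ ∧
      (∀ g ∈ E, ∀ x y : ↥(E ⊓ N), (y : G) = g * x * g⁻¹ → φ y = φ x) ∧
      ∃ m : ℕ, ¬ p ∣ m ∧ (Nat.card ↥(E ⊓ N) : ℂ)⁻¹ *
        ∑ᶠ x : ↥(E ⊓ N), ϑ ⟨(x : G), x.2.2⟩ * conj (φ x) = (m : ℂ) := by
  classical
  have hN0 : (Nat.card N : ℂ) ≠ 0 := by exact_mod_cast Nat.card_pos.ne'
  have hA : ∃ (E : Subgroup G) (ψ : E → ℂ), IsElementary p E ∧ IsCharacter E ψ ∧ E ⊔ N = ⊤ ∧
      ∃ c : ℕ, ¬ p ∣ c ∧ classInner (fun x : ↥(E ⊓ N) => ψ ⟨x, x.2.1⟩ * ϑ ⟨x, x.2.2⟩)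
          (fun x : ↥(E ⊓ N) => ϑ ⟨x, x.2.2⟩) = (c : ℂ) := by
    by_contra hcon
    obtain ⟨m, hm, hmem⟩ := helper4.exists_const_mem_elSpan (G := G) p
    obtain ⟨l, hl, hsum⟩ := helper4.exists_list_of_mem_indSpan _ hmem
    set F : G → ℂ := fun g => if h : g ∈ N then ϑ ⟨g, h⟩ * conj (ϑ ⟨g, h⟩) else 0 with hFdef
    have hFN : ∀ g (hg : g ∈ N), F g = ϑ ⟨g, hg⟩ * conj (ϑ ⟨g, hg⟩) := by
      intro g hg
      simp only [hFdef, dif_pos hg]
    have hFinv : ∀ x s : G, s ∈ N → F (x * s * x⁻¹) = F s := by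
      intro x s hs
      rw [hFN _ (hN.conj_mem s hs x), hFN _ hs, hinv x ⟨s, hs⟩]
    have hFsum : ∑ n : N, F n = (Nat.card N : ℂ) := by
      have h1 := helper4.classInner_irr_self hϑ
      unfold classInner at h1
      have h2 : ∑ n : N, F n = ∑ n : N, ϑ n * conj (ϑ n) :=
        Finset.sum_congr rfl (fun n _ => hFN n n.2)
      rw [h2]
      field_simp at h1
      exact h1
    let Φ : (G → ℂ) →+ ℂ :=
      { toFun := fun f => ∑ n : N, f n * F n
        map_zero' := by simp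
        map_add' := by
          intro f g
          simp only [Pi.add_apply, add_mul, Finset.sum_add_distrib] }
    have h1 := congrArg Φ hsum
    rw [map_list_sum, List.map_map] at h1
    have hL : Φ (fun _ : G => (m : ℂ)) = (m : ℂ) * (Nat.card N : ℂ) := by
      show ∑ n : N, (m : ℂ) * F n = _
      rw [← Finset.mul_sum, hFsum]
    rw [hL] at h1
    have hterm : ∀ z ∈ l.map (Φ ∘ fun t => (t.2.2 : ℂ) • indFun t.1 t.2.1),
        ∃ j : ℤ, z = ((Nat.card N : ℂ) * (p : ℂ)) * j := by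
      intro z hz
      obtain ⟨t, ht, rfl⟩ := List.mem_map.mp hz
      obtain ⟨hE, hψ⟩ := hl t ht
      obtain ⟨E, ψ, a⟩ := t
      simp only at hE hψ
      have hX : IsCharacter ↥(E ⊓ N) (fun x : ↥(E ⊓ N) => ψ ⟨x, x.2.1⟩ * ϑ ⟨x, x.2.2⟩) :=
        helper4.isCharacter_mul
          (helper4.isCharacter_comp (Subgroup.inclusion (inf_le_left : E ⊓ N ≤ E)) hψ)
          (helper4.isCharacter_comp (Subgroup.inclusion (inf_le_right : E ⊓ N ≤ N))
            (helper4.isCharacter_of_isIrrCharacter hϑ))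
      have hY : IsCharacter ↥(E ⊓ N) (fun x : ↥(E ⊓ N) => ϑ ⟨x, x.2.2⟩) :=
        helper4.isCharacter_comp (Subgroup.inclusion (inf_le_right : E ⊓ N ≤ N))
            (helper4.isCharacter_of_isIrrCharacter hϑ)
      obtain ⟨c, hc⟩ := helper4.exists_nat_classInner hX hY
      have hD0 : (Nat.card ↥(E ⊓ N) : ℂ) ≠ 0 := by exact_mod_cast Nat.card_pos.ne'
      have hE0 : (Nat.card E : ℂ) ≠ 0 := by exact_mod_cast Nat.card_pos.ne'
      have hval : (Φ ∘ fun t : (E : Subgroup G) × ((E → ℂ) × ℤ) =>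
          (t.2.2 : ℂ) • indFun t.1 t.2.1) ⟨E, ψ, a⟩ =
          (a : ℂ) * (((E ⊔ N).index : ℂ) * (Nat.card N : ℂ) * (c : ℂ)) := by
        show ∑ n : N, ((a : ℂ) • indFun E ψ) n * F n = _
        have h2 : ∑ n : N, ((a : ℂ) • indFun E ψ) n * F n =
            (a : ℂ) * ∑ n : N, indFun E ψ n * F n := by
          rw [Finset.mul_sum]
          apply Finset.sum_congr rfl
          intro n _
          rw [Pi.smul_apply, smul_eq_mul, mul_assoc]
        rw [h2, sum_indFun_mul_inv N E ψ F hFinv]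
        have h3 : ∑ b : ↥(E ⊓ N), ψ ⟨b, b.2.1⟩ * F b = (Nat.card ↥(E ⊓ N) : ℂ) * (c : ℂ) := by
          rw [← hc]
          unfold classInner
          rw [← mul_assoc, mul_inv_cancel₀ hD0, one_mul]
          apply Finset.sum_congr rfl
          intro b _
          rw [hFN _ b.2.2, mul_assoc]
        rw [h3]
        have h4 := card_mul_card_inf E N
        have h5 : (Nat.card G : ℂ) * (Nat.card ↥(E ⊓ N) : ℂ) =
            ((E ⊔ N).index : ℂ) * (Nat.card E : ℂ) * (Nat.card N : ℂ) := by exact_mod_cast h4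
        field_simp
        linear_combination (a : ℂ) * (c : ℂ) * h5
      rw [hval]
      by_cases htop : E ⊔ N = ⊤
      · have hpc : p ∣ c := by
          by_contra hpc
          exact hcon ⟨E, ψ, hE, hψ, htop, c, hpc, hc⟩
        obtain ⟨c', rfl⟩ := hpc
        refine ⟨a * (E ⊔ N).index * c', ?_⟩
        push_cast
        ring
      · have hW1 : (E ⊔ N).index ≠ 1 := fun h => htop (Subgroup.index_eq_one.mp h)
        have hW2 : (E ⊔ N).index ∣ p ^ k := hind ▸ Subgroup.index_dvd_of_le le_sup_right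
        obtain ⟨i, -, hi⟩ := (Nat.dvd_prime_pow hp.1).mp hW2
        have hi0 : i ≠ 0 := by
          rintro rfl
          exact hW1 (by rw [hi, pow_zero])
        obtain ⟨W', hW'⟩ : p ∣ (E ⊔ N).index := hi ▸ dvd_pow_self p hi0
        refine ⟨a * W' * c, ?_⟩
        rw [hW']
        push_cast
        ring
    obtain ⟨j, hj⟩ := list_sum_zmul _ _ hterm
    rw [hj] at h1
    have h2 : (m : ℂ) = (p : ℂ) * j := by
      have h3 : (Nat.card N : ℂ) * ((m : ℂ) - (p : ℂ) * j) = 0 := by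
        linear_combination h1
      rcases mul_eq_zero.mp h3 with h4 | h4
      · exact absurd h4 hN0
      · exact sub_eq_zero.mp h4
    have h3 : m = (p : ℤ) * j := by exact_mod_cast h2
    exact hm ⟨j, h3⟩
  obtain ⟨E, ψ, hE, hψ, htop, c, hpc, hc⟩ := hA
  have hnorm : ∀ s ∈ E, ∀ d ∈ E ⊓ N, s * d * s⁻¹ ∈ E ⊓ N := fun s hs d hd =>
    ⟨E.mul_mem (E.mul_mem hs hd.1) (E.inv_mem hs), hN.conj_mem d hd.2 s⟩
  have hidx : (E ⊓ N).relIndex E = p ^ k := by
    rw [relIndex_inf_of_sup_eq_top E N htop, hind]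
  have hcfψ := helper4.isClassFunction_of_isCharacter hψ
  have hYinv : ∀ s ∈ E, ∀ x y : ↥(E ⊓ N), (y : G) = s * x * s⁻¹ →
      ϑ ⟨y, y.2.2⟩ = ϑ ⟨x, x.2.2⟩ := by
    intro s hs x y hy
    have h1 := hinv s ⟨x, x.2.2⟩
    rw [← h1]
    congr 1
    exact Subtype.ext hy
  have hψinv : ∀ s ∈ E, ∀ x y : ↥(E ⊓ N), (y : G) = s * x * s⁻¹ →
      ψ ⟨y, y.2.1⟩ = ψ ⟨x, x.2.1⟩ := by
    intro s hs x y hy
    have h1 := hcfψ ⟨x, x.2.1⟩ ⟨s, hs⟩
    rw [← h1]
    congr 1
    exact Subtype.ext hy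
  obtain ⟨φ, hφ, hφinv, b, hpb, hb⟩ := exists_inv_irr_of_inner p E (E ⊓ N) hnorm k hidx
    (fun x : ↥(E ⊓ N) => ψ ⟨x, x.2.1⟩ * ϑ ⟨x, x.2.2⟩) (fun x : ↥(E ⊓ N) => ϑ ⟨x, x.2.2⟩)
    (helper4.isCharacter_mul
      (helper4.isCharacter_comp (Subgroup.inclusion (inf_le_left : E ⊓ N ≤ E)) hψ)
      (helper4.isCharacter_comp (Subgroup.inclusion (inf_le_right : E ⊓ N ≤ N))
        (helper4.isCharacter_of_isIrrCharacter hϑ)))
    (helper4.isCharacter_comp (Subgroup.inclusion (inf_le_right : E ⊓ N ≤ N))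
      (helper4.isCharacter_of_isIrrCharacter hϑ))
    (fun s hs x y hy => by
      show ψ ⟨y, y.2.1⟩ * ϑ ⟨y, y.2.2⟩ = ψ ⟨x, x.2.1⟩ * ϑ ⟨x, x.2.2⟩
      rw [hψinv s hs x y hy, hYinv s hs x y hy])
    hYinv c hc hpc
  refine ⟨E, φ, hE, htop, hφ, hφinv, b, hpb, ?_⟩
  rw [finsum_eq_sum_of_fintype]
  exact hb

end Detect

end Cfsg.Agent.Lib.helper82
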