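import Mathlib
import Cfsg.Prelude.Def_Characters
import Cfsg.Prelude.Def_Blocks
import Cfsg.Agent.Lib.helper82.CharDeg
import Cfsg.Agent.Lib.helper78.FrobSchur
import Cfsg.Agent.Lib.helper83.FrobSchur

set_option autoImplicit false
set_option linter.style.haveILetI false
set_option linter.unusedSectionVars false

namespace Cfsg.Agent.Lib.helper82

open Module Cfsg
open Cfsg.Agent.Lib
open Cfsg.Agent.Lib.helper83
open scoped ComplexConjugate

universe u

section FS

variable {G : Type u} [Group G] [Fintype G]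

/-- The Frobenius–Schur indicator of an irreducible character is `0`, `1` or `-1`. -/
theorem irr_fs_values (χ : IrrCharacter G) :
    (Nat.card G : ℂ)⁻¹ * ∑ g : G, (χ : G → ℂ) (g * g) = 0 ∨
    (Nat.card G : ℂ)⁻¹ * ∑ g : G, (χ : G → ℂ) (g * g) = 1 ∨
    (Nat.card G : ℂ)⁻¹ * ∑ g : G, (χ : G → ℂ) (g * g) = -1 := by
  obtain ⟨χf, n, ρ, hirr, rfl⟩ := χ
  exact helper78.fs_indicator_values ρ hirr

/-- An irreducible character with nonzero Frobenius–Schur indicator is real-valued. -/
theorem irr_fs_real (χ : IrrCharacter G)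
    (h : (Nat.card G : ℂ)⁻¹ * ∑ g : G, (χ : G → ℂ) (g * g) ≠ 0) (g : G) :
    conj ((χ : G → ℂ) g) = (χ : G → ℂ) g := by
  obtain ⟨χf, n, ρ, hirr, rfl⟩ := χ
  exact helper78.fs_real_of_indicator_ne_zero ρ hirr h g

/-- Summing over the group a function that factors through a quotient. -/
theorem sum_comp_quot (N : Subgroup G) [N.Normal] [Fintype (G ⧸ N)] (F : G ⧸ N → ℂ) :
    ∑ g : G, F (g : G ⧸ N) = (Nat.card N : ℂ) * ∑ q : G ⧸ N, F q := by
  classical
  have : Fintype N := Fintype.ofFinite _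
  have hbij : Function.Bijective (fun x : (G ⧸ N) × N => (Quotient.out x.1 : G) * (x.2 : G)) := by
    constructor
    · rintro ⟨q, n⟩ ⟨q', n'⟩ h
      simp only at h
      have h1 : ((Quotient.out q * (n : G) : G) : G ⧸ N) = q := by
        rw [QuotientGroup.mk_mul_of_mem _ n.2]; exact Quotient.out_eq' q
      have h2 : ((Quotient.out q' * (n' : G) : G) : G ⧸ N) = q' := by
        rw [QuotientGroup.mk_mul_of_mem _ n'.2]; exact Quotient.out_eq' q'
      have hq : q = q' := by rw [← h1, ← h2, h]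
      subst hq
      have hn : (n : G) = n' := mul_left_cancel h
      rw [Subtype.ext hn]
    · intro g
      have hmem : (Quotient.out (g : G ⧸ N))⁻¹ * g ∈ N := by
        rw [← QuotientGroup.eq]; exact Quotient.out_eq' _
      exact ⟨((g : G ⧸ N), ⟨_, hmem⟩), by simp⟩
  rw [← Fintype.sum_bijective _ hbij (fun x : (G ⧸ N) × N => F x.1) (fun g => F (g : G ⧸ N))
    (fun x => by
      show F x.1 = F ((Quotient.out x.1 * (x.2 : G) : G) : G ⧸ N)
      rw [QuotientGroup.mk_mul_of_mem _ x.2.2]
      congr 1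
      exact (Quotient.out_eq' x.1).symm)]
  rw [Fintype.sum_prod_type]
  simp only [Finset.sum_const, Finset.card_univ, nsmul_eq_mul]
  rw [← Finset.mul_sum, Nat.card_eq_fintype_card]

/-- In a group of odd order, `∑ χ(g²) = ∑ χ(g)`. -/
theorem sum_sq_eq_sum_of_odd {A : Type*} [Group A] [Fintype A] (hodd : Odd (Nat.card A))
    (F : A → ℂ) : ∑ a : A, F (a * a) = ∑ a : A, F a := by
  have hcop : (Nat.card A).Coprime 2 := by
    rw [Nat.coprime_comm, Nat.Prime.coprime_iff_not_dvd Nat.prime_two]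
    intro h
    exact (Nat.not_even_iff_odd.mpr hodd) (even_iff_two_dvd.mpr h)
  refine Fintype.sum_equiv (powCoprime hcop) _ _ (fun a => ?_)
  simp [powCoprime, pow_two]

end FS

end Cfsg.Agent.Lib.helper82
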