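import Mathlib
import Cfsg.Prelude.Def_Characters
import Cfsg.Prelude.Def_Blocks
import Cfsg.Prelude.Def_CharExt
import Cfsg.Agent.Lib.helper82.GlaubOver
import Cfsg.Agent.Lib.helper82.FSInd
import Cfsg.Agent.Lib.helper19.CanonExt

/-!
# The relative Glauberman correspondence, invariant case (helper82)

`A` a `p`-group of automorphisms of `G`, `N ⊴ G` an `A`-stable normal subgroup of index prime to
`p` and order prime to its index; `relC A N` is the subgroup of `g` with `σ g g⁻¹ ∈ N` for all
`σ ∈ A` (the preimage of the fixed points of `A` on `G/N`).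

* `quotHom A N hAN : A →* MulAut (G ⧸ N)`, `quotMap N j`.
* `exists_inv_extension` : an `A`-invariant extension of a `G`- and `A`-invariant `θ ∈ Irr(N)`.
* `isIrrCharacter_of_restrict`, `classInner_inflation`.
* `rel_glauberman_invariant` : for `θ ∈ Irr(N)` invariant in `G` and under `A`, the
  `A`-invariant characters of `G` over `θ` correspond to the characters of `relC A N` over `θ`,
  with multiplicities `≡ ±1`, `0` modulo `p`.
-/

set_option autoImplicit false
set_option linter.style.haveILetI false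
set_option linter.unusedSectionVars false

namespace Cfsg.Agent.Lib.helper82

open Module Cfsg
open Cfsg.Agent.Lib
open scoped ComplexConjugate

universe u

section RelC

variable {G : Type u} [Group G] (A : Subgroup (MulAut G)) (N : Subgroup G) [hN : N.Normal]

/-- The elements of `G` fixed by `A` modulo `N`. -/
def relC : Subgroup G where
  carrier := {g | ∀ σ ∈ A, σ g * g⁻¹ ∈ N}
  one_mem' := by
    intro σ _
    simp [N.one_mem]
  mul_mem' := by
    intro a b ha hb σ hσ
    have h1 := ha σ hσ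
    have h2 := hb σ hσ
    have h3 : σ (a * b) * (a * b)⁻¹ = (σ a * a⁻¹) * (a * (σ b * b⁻¹) * a⁻¹) := by
      rw [map_mul]; group
    rw [h3]
    exact N.mul_mem h1 (hN.conj_mem _ h2 a)
  inv_mem' := by
    intro a ha σ hσ
    have h1 := ha σ hσ
    have h3 : σ a⁻¹ * a⁻¹⁻¹ = a⁻¹ * (σ a * a⁻¹)⁻¹ * a⁻¹⁻¹ := by
      rw [map_inv]; group
    rw [h3]
    exact hN.conj_mem _ (N.inv_mem h1) a⁻¹

theorem mem_relC (g : G) : g ∈ relC A N ↔ ∀ σ ∈ A, σ g * g⁻¹ ∈ N := Iff.rfl

theorem le_relC (hAN : ∀ σ ∈ A, ∀ x ∈ N, σ x ∈ N) : N ≤ relC A N :=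
  fun n hn σ hσ => N.mul_mem (hAN σ hσ n hn) (N.inv_mem hn)

/-- The induced action on the quotient. -/
def quotHom (hAN : ∀ σ ∈ A, ∀ x ∈ N, σ x ∈ N) : A →* MulAut (G ⧸ N) where
  toFun σ := QuotientGroup.congr N N (σ : MulAut G) (by
    ext x
    constructor
    · rintro ⟨y, hy, rfl⟩
      exact hAN σ σ.2 y hy
    · intro hx
      exact ⟨(σ : MulAut G)⁻¹ x, hAN _ (inv_mem σ.2) x hx, by simp⟩)
  map_one' := by
    ext x
    induction x using QuotientGroup.induction_on with
    | H g => rfl
  map_mul' σ τ := by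
    ext x
    induction x using QuotientGroup.induction_on with
    | H g => rfl

theorem quotHom_apply (hAN : ∀ σ ∈ A, ∀ x ∈ N, σ x ∈ N) (σ : A) (g : G) :
    quotHom A N hAN σ (g : G ⧸ N) = (((σ : MulAut G) g : G) : G ⧸ N) := rfl

theorem mk_mem_fixedPts_quotHom (hAN : ∀ σ ∈ A, ∀ x ∈ N, σ x ∈ N) (g : G) :
    (g : G ⧸ N) ∈ fixedPts (quotHom A N hAN).range ↔ g ∈ relC A N := by
  constructor
  · intro h σ hσ
    have h1 := h (quotHom A N hAN ⟨σ, hσ⟩) ⟨⟨σ, hσ⟩, rfl⟩
    rw [quotHom_apply] at h1
    have h2 : (σ g)⁻¹ * g ∈ N := QuotientGroup.eq.mp h1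
    have h3 : σ g * g⁻¹ = σ g * ((σ g)⁻¹ * g)⁻¹ * (σ g)⁻¹ := by group
    rw [h3]
    exact hN.conj_mem _ (N.inv_mem h2) _
  · rintro h τ ⟨σ, rfl⟩
    rw [quotHom_apply]
    apply QuotientGroup.eq.mpr
    have h1 := h σ σ.2
    have h3 : ((σ : MulAut G) g)⁻¹ * g =
        ((σ : MulAut G) g)⁻¹ * ((σ : MulAut G) g * g⁻¹)⁻¹ * ((σ : MulAut G) g)⁻¹⁻¹ := by group
    rw [h3]
    exact hN.conj_mem _ (N.inv_mem h1) _

variable {D : Type u} [Group D] (j : D →* G)

/-- The map induced on quotients by `j`. -/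
def quotMap : D ⧸ N.comap j →* G ⧸ N := QuotientGroup.map (N.comap j) N j le_rfl

theorem quotMap_mk (d : D) : quotMap N j (d : D ⧸ N.comap j) = ((j d : G) : G ⧸ N) := rfl

theorem quotMap_injective : Function.Injective (quotMap N j) := by
  rw [injective_iff_map_eq_one]
  intro x hx
  induction x using QuotientGroup.induction_on with
  | H d =>
    rw [quotMap_mk, QuotientGroup.eq_one_iff] at hx
    exact (QuotientGroup.eq_one_iff d).mpr hx

theorem quotMap_range (hAN : ∀ σ ∈ A, ∀ x ∈ N, σ x ∈ N)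
    (hD : ∀ g, g ∈ j.range ↔ g ∈ relC A N) (y : G ⧸ N) :
    y ∈ (quotMap N j).range ↔ y ∈ fixedPts (quotHom A N hAN).range := by
  induction y using QuotientGroup.induction_on with
  | H g =>
    rw [mk_mem_fixedPts_quotHom]
    constructor
    · rintro ⟨x, hx⟩
      induction x using QuotientGroup.induction_on with
      | H d =>
        rw [quotMap_mk] at hx
        have h1 : (j d)⁻¹ * g ∈ N := QuotientGroup.eq.mp hx
        have h2 : j d ∈ relC A N := (hD _).mp ⟨d, rfl⟩
        have h3 : g = j d * ((j d)⁻¹ * g) := by group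
        rw [h3]
        exact (relC A N).mul_mem h2 (le_relC A N hAN h1)
    · intro h
      obtain ⟨d, hd⟩ := (hD g).mpr h
      exact ⟨(d : D ⧸ N.comap j), by rw [quotMap_mk, hd]⟩

end RelC

section Aux

/-- A character whose restriction to a subgroup is irreducible is irreducible. -/
theorem isIrrCharacter_of_restrict {D : Type u} [Group D] [Finite D] (H : Subgroup D)
    {χ : D → ℂ} (hχ : IsCharacter D χ) (hH : IsIrrCharacter H (fun h : H => χ h)) :
    IsIrrCharacter D χ := by
  obtain ⟨d, ρ, rfl⟩ := hχ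
  obtain ⟨d', ρ', hρ', hρ'χ⟩ := hH
  have hchar : ρ'.character = (compRep H.subtype ρ).character := by
    rw [hρ'χ]; rfl
  obtain ⟨φ⟩ := helper4.nonempty_equiv_of_character_eq ρ' (compRep H.subtype ρ) hchar
  have hρH : (compRep H.subtype ρ).IsIrreducible := helper4.isIrreducible_of_equiv φ hρ'
  exact ⟨d, ρ, isIrreducible_of_compRep H.subtype ρ hρH, rfl⟩

/-- Inflation preserves the inner product. -/
theorem classInner_inflation {D : Type u} [Group D] [Fintype D] (M : Subgroup D) [M.Normal]
    [Fintype (D ⧸ M)] (φ φ' : D ⧸ M → ℂ) :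
    classInner (fun d : D => φ (d : D ⧸ M)) (fun d : D => φ' (d : D ⧸ M)) = classInner φ φ' := by
  unfold classInner
  rw [sum_comp_quot M (fun q => φ q * conj (φ' q))]
  have hcard : Nat.card D = Nat.card (D ⧸ M) * Nat.card M :=
    Subgroup.card_eq_card_quotient_mul_card_subgroup M
  rw [hcard]
  push_cast
  have h1 : (Nat.card M : ℂ) ≠ 0 := by exact_mod_cast Nat.card_pos.ne'
  have h2 : (Nat.card (D ⧸ M) : ℂ) ≠ 0 := by exact_mod_cast Nat.card_pos.ne'
  field_simp

/-- The determinantal order of a character divides the group order. -/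
theorem detOrder_dvd_card_aux {H : Type u} [Group H] [Finite H] {ϑ : H → ℂ}
    (hϑ : IsCharacter H ϑ) : detOrder ϑ ∣ Nat.card H := by
  obtain ⟨f, hf⟩ := helper19.exists_detChar_hom hϑ
  rw [helper19.detOrder_eq_orderOf f hf]
  apply orderOf_dvd_of_pow_eq_one
  refine MonoidHom.ext fun g => ?_
  show f g ^ Nat.card H = 1
  rw [← map_pow, pow_card_eq_one', map_one]

/-- An invariant irreducible character of a normal subgroup of order prime to its index has an
extension invariant under every group of automorphisms fixing it. -/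
theorem exists_inv_extension {G : Type u} [Group G] [Fintype G] (N : Subgroup G) [hN : N.Normal]
    [Fintype N] (hcop : (N.index).Coprime (Nat.card N)) (A : Subgroup (MulAut G))
    (hAN : ∀ σ ∈ A, ∀ x ∈ N, σ x ∈ N) (θ : IrrCharacter N)
    (hθG : ∀ g : G, cconj N g θ.1 = θ.1)
    (hθA : IsInvFun (stabRes A N hAN).range (θ : N → ℂ)) :
    ∃ χ : G → ℂ, IsIrrCharacter G χ ∧ (∀ n : N, χ n = (θ : N → ℂ) n) ∧ IsInvFun A χ := by
  classical
  have hθc := helper4.isCharacter_of_isIrrCharacter θ.2
  have hcop' : Nat.Coprime N.index (detOrder (θ : N → ℂ) * charDegree (θ : N → ℂ)) :=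
    Nat.Coprime.mul_right
      (Nat.Coprime.coprime_dvd_right (detOrder_dvd_card_aux hθc) hcop)
      (Nat.Coprime.coprime_dvd_right (irr_degree_dvd_card θ) hcop)
  obtain ⟨χ, ⟨hirr, hext, hdet⟩, huniq⟩ := helper19.exists_canonical_extension N θ.1 θ.2
    (fun g n => (cconj_eq_iff N g θ.1).mp (hθG g) n) (charDegree (θ : N → ℂ)) (irr_one_eq θ) hcop'
  refine ⟨χ, hirr, hext, ?_⟩
  intro σ hσ g
  have hχc := helper4.isCharacter_of_isIrrCharacter hirr
  have h1 : (fun g => χ (σ g)) = χ := by
    apply huniq _ (isIrrCharacter_comp_aut σ hirr)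
    · intro n
      have h2 := hext ⟨σ (n : G), hAN σ hσ n n.2⟩
      show χ (σ (n : G)) = _
      rw [h2]
      exact hθA (stabRes A N hAN ⟨σ, hσ⟩) ⟨⟨σ, hσ⟩, rfl⟩ n
    · have h3 : detChar (fun g => χ (σ g)) = fun g => detChar χ (σ g) :=
        helper19.detChar_comp (σ : G ≃* G).toMonoidHom hχc
      have h4 : detOrder (fun g => χ (σ g)) = detOrder χ := by
        unfold detOrder
        rw [h3]
        apply orderOf_eq_orderOf_iff.mpr
        intro n
        constructor
        · intro h
          funext g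
          have := congrFun h (σ⁻¹ g)
          simpa using this
        · intro h
          funext g
          have := congrFun h (σ g)
          simpa using this
      rw [h4, hdet]
      exact Nat.Coprime.coprime_dvd_right (detOrder_dvd_card_aux hθc) hcop
  exact congrFun h1 g

end Aux

end Cfsg.Agent.Lib.helper82
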