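import Mathlib
import Cfsg.Prelude.Def_Characters
import Cfsg.Prelude.Def_Blocks
import Cfsg.Agent.Lib.helper82.DadeA
import Cfsg.Agent.Lib.helper82.CharQuot
import Cfsg.Agent.Lib.helper82.CharSums
import Cfsg.Agent.Lib.helper82.Ramification
import Cfsg.Agent.Lib.helper82.Clifford
import Cfsg.Agent.Lib.helper82.CliffordCorr
import Cfsg.Agent.Lib.helper82.RelGlaub1

/-!
# Character-theoretic tools for Isaacs 11.32 (helper82)

* `isIrrCharacter_restrict_of_le` : `ϑ_S` is irreducible when `ϑ_L` is, `L ≤ S ≤ H`.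
* `classInner_indFun_restrict_normal` : `|S| |H| [(ϑ^G)_S, F_S] = |G| |H ∩ S| [ϑ_{H∩S}, F_{H∩S}]`
  for `S ⊴ G` and a class function `F`.
* `eq_smul_of_classInner_of_degree` : a character `Ψ` with `[Ψ, θ] = c` and `Ψ(1) = c θ(1)` is
  `c θ`.
* `eq_zero_of_sum_normSq_eq` : vanishing off a subset carrying the whole norm.
* `sum_subgroup_le` : a sum over `A ≤ N` as a sum over `N`.
* `irr_one_ne_zero` : `χ(1) ≠ 0` for irreducible `χ`.
-/

set_option autoImplicit false
set_option linter.style.haveILetI false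
set_option linter.unusedSectionVars false

namespace Cfsg.Agent.Lib.helper82

open Module Cfsg
open Cfsg.Agent.Lib
open scoped ComplexConjugate

universe u

section Tools

variable {G : Type u} [Group G] [Fintype G]

theorem irr_one_ne_zero {χ : G → ℂ} (hχ : IsIrrCharacter G χ) : χ 1 ≠ 0 := by
  have h1 := irr_one_eq (⟨χ, hχ⟩ : IrrCharacter G)
  have h2 := irr_charDegree_pos (⟨χ, hχ⟩ : IrrCharacter G)
  simp only at h1 h2
  rw [h1]
  exact_mod_cast h2.ne'

/-- If the restriction of a character `ϑ` of `H` to `L` is irreducible, then so is its restriction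
to any intermediate subgroup. -/
theorem isIrrCharacter_restrict_of_le {H : Subgroup G} (L S : Subgroup G) (hLS : L ≤ S)
    (hSH : S ≤ H) (ϑ : H → ℂ) (hϑ : IsCharacter H ϑ)
    (hL : IsIrrCharacter L (fun x : L => ϑ ⟨x, hSH (hLS x.2)⟩)) :
    IsIrrCharacter S (fun x : S => ϑ ⟨x, hSH x.2⟩) := by
  have hchar : IsCharacter S (fun x : S => ϑ ⟨x, hSH x.2⟩) :=
    helper4.isCharacter_comp (Subgroup.inclusion hSH) hϑ
  refine isIrrCharacter_of_restrict (L.subgroupOf S) hchar ?_
  exact isIrrCharacter_subRes L S hLS hL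

/-- Restricting an induced character to a normal subgroup and pairing with a class function. -/
theorem classInner_indFun_restrict_normal (S H B : Subgroup G) [hS : S.Normal] [Fintype S]
    [Fintype B] (hB : H ⊓ S = B) (hBH : B ≤ H) (ϑ : H → ℂ) (F : G → ℂ) (hF : IsClassFunction G F) :
    (Nat.card S : ℂ) * (Nat.card H : ℂ) *
        classInner (fun s : S => indFun H ϑ s) (fun s : S => F s) =
      (Nat.card G : ℂ) * (Nat.card B : ℂ) *
        classInner (fun b : B => ϑ ⟨b, hBH b.2⟩) (fun b : B => F b) := by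
  classical
  subst hB
  have hS0 : (Nat.card S : ℂ) ≠ 0 := by exact_mod_cast Nat.card_pos.ne'
  have hH0 : (Nat.card H : ℂ) ≠ 0 := by exact_mod_cast Nat.card_pos.ne'
  have hB0 : (Nat.card ↥(H ⊓ S) : ℂ) ≠ 0 := by exact_mod_cast Nat.card_pos.ne'
  unfold classInner
  have h := sum_indFun_mul_inv S H ϑ (fun g => conj (F g)) (fun x s _ => by rw [hF s x])
  rw [h]
  field_simp

/-- A character `Ψ` with `[Ψ, θ] = c` and `Ψ(1) = c θ(1)` equals `c θ`. -/
theorem eq_smul_of_classInner_of_degree {A : Type u} [Group A] [Fintype A] {Ψ θ : A → ℂ}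
    (hΨ : IsCharacter A Ψ) (hθ : IsIrrCharacter A θ) (c : ℕ) (h1 : classInner Ψ θ = c)
    (h2 : Ψ 1 = c * θ 1) : Ψ = (c : ℂ) • θ := by
  classical
  haveI : Fintype (IrrCharacter A) := Fintype.ofFinite _
  obtain ⟨n, hn, hdec, hdeg⟩ := exists_nat_decomp hΨ
  set θ' : IrrCharacter A := ⟨θ, hθ⟩ with hθ'
  have hnθ : n θ' = c := by
    have h3 : (n θ' : ℂ) = (c : ℂ) := (hn θ').symm.trans h1
    exact_mod_cast h3
  have hθ1 : θ 1 = (charDegree θ : ℂ) := irr_one_eq θ'
  have hsum : ∑ ψ : IrrCharacter A, n ψ * charDegree (ψ : A → ℂ) = c * charDegree θ := by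
    have h3 : ((∑ ψ : IrrCharacter A, n ψ * charDegree (ψ : A → ℂ) : ℕ) : ℂ) =
        ((c * charDegree θ : ℕ) : ℂ) := by
      rw [← hdeg, h2, hθ1]
      push_cast
      rfl
    exact_mod_cast h3
  have hzero : ∀ ψ : IrrCharacter A, ψ ≠ θ' → n ψ = 0 := by
    intro ψ hψ
    by_contra h0
    have h3 : n θ' * charDegree (θ' : A → ℂ) + n ψ * charDegree (ψ : A → ℂ) ≤
        ∑ ψ : IrrCharacter A, n ψ * charDegree (ψ : A → ℂ) := by
      have h4 := Finset.sum_le_sum_of_subset
        (f := fun ψ : IrrCharacter A => n ψ * charDegree (ψ : A → ℂ))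
        (Finset.subset_univ {θ', ψ})
      rwa [Finset.sum_pair (Ne.symm hψ)] at h4
    have h4 : 0 < n ψ * charDegree (ψ : A → ℂ) :=
      Nat.mul_pos (Nat.pos_of_ne_zero h0) (irr_charDegree_pos ψ)
    rw [hsum, hnθ] at h3
    have h5 : c * charDegree (θ' : A → ℂ) = c * charDegree θ := rfl
    omega
  funext x
  rw [hdec x, Finset.sum_eq_single θ']
  · rw [hnθ]; rfl
  · intro ψ _ hψ
    rw [hzero ψ hψ]
    simp
  · intro h
    exact absurd (Finset.mem_univ _) h

/-- If the squared norms over a subset already add up to the total, the function vanishes off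
the subset. -/
theorem eq_zero_of_sum_normSq_eq {T : Type*} [Fintype T] (f : T → ℂ) (P : T → Prop)
    [DecidablePred P]
    (h : ∑ t, f t * conj (f t) = ∑ t, if P t then f t * conj (f t) else 0) :
    ∀ t, ¬ P t → f t = 0 := by
  have h1 : ∑ t, (if P t then 0 else Complex.normSq (f t)) = 0 := by
    have h2 : ((∑ t, (if P t then 0 else Complex.normSq (f t)) : ℝ) : ℂ) = 0 := by
      have h3 : ∀ t, (((if P t then 0 else Complex.normSq (f t)) : ℝ) : ℂ) =
          f t * conj (f t) - (if P t then f t * conj (f t) else 0) := by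
        intro t
        by_cases ht : P t
        · simp [ht]
        · simp [ht, Complex.mul_conj]
      rw [Complex.ofReal_sum]
      simp only [h3]
      rw [Finset.sum_sub_distrib, h, sub_self]
    exact_mod_cast h2
  have h4 := (Finset.sum_eq_zero_iff_of_nonneg (fun t _ => by
    by_cases ht : P t
    · simp [ht]
    · simp [ht, Complex.normSq_nonneg])).mp h1
  intro t ht
  have h5 := h4 t (Finset.mem_univ t)
  rw [if_neg ht] at h5
  exact Complex.normSq_eq_zero.mp h5

/-- A sum over a subgroup `A ≤ N` as a sum over `N`. -/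
theorem sum_subgroup_le (A N : Subgroup G) [Fintype A] [Fintype N] [DecidablePred (· ∈ A)]
    (hAN : A ≤ N) (f : N → ℂ) :
    ∑ x : A, f ⟨x, hAN x.2⟩ = ∑ n : N, if (n : G) ∈ A then f n else 0 := by
  classical
  rw [← Finset.sum_filter]
  refine Finset.sum_bij (fun x _ => (⟨x, hAN x.2⟩ : N)) ?_ ?_ ?_ ?_
  · intro x _
    simp
  · intro x _ y _ h
    exact Subtype.ext (congrArg (fun z : N => (z : G)) h)
  · intro n hn
    exact ⟨⟨n, (Finset.mem_filter.mp hn).2⟩, Finset.mem_univ _, rfl⟩
  · intro x _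
    rfl

/-- The squared norm of an irreducible character sums to the group order. -/
theorem sum_mul_conj_irr {χ : G → ℂ} (hχ : IsIrrCharacter G χ) :
    ∑ g : G, χ g * conj (χ g) = (Nat.card G : ℂ) := by
  have h := helper4.classInner_irr_self hχ
  unfold classInner at h
  have hG0 : (Nat.card G : ℂ) ≠ 0 := by exact_mod_cast Nat.card_pos.ne'
  field_simp at h
  exact h

end Tools

end Cfsg.Agent.Lib.helper82
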