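import Mathlib
import Cfsg.Prelude.Def_Characters
import Cfsg.Agent.Lib.helper4.RepBasic
import Cfsg.Agent.Lib.helper4.Induction
import Cfsg.Agent.Lib.helper82.CharInt
import Cfsg.Agent.Lib.helper82.CharDeg
import Cfsg.Agent.Lib.helper82.CharSums
import Cfsg.Agent.Lib.helper82.CharQuot
import Cfsg.Agent.Lib.helper82.Isaacs1132A
import Cfsg.Agent.Lib.helper82.Isaacs1132B
import Cfsg.Agent.Lib.helper19.Gallagher

/-!
# Tools for Berger's theorem (helper82)

* `sum_comp_surj_hom` : summing over the fibres of a surjective homomorphism.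
* `indFun_comp_surj` : induction commutes with inflation along a surjective homomorphism.
* `irr_trivial_of_constituent` : an irreducible constituent of a function constant on the
  cosets of a normal subgroup `A` has `A` in its kernel.
* `exists_irr_constituent` : a character of nonzero degree has an irreducible constituent.
* `indFun_coset_of_trivial` : inducing a function constant on the cosets of a normal subgroup.
* `pow_mem_of_card` : `m ^ |M : K| ∈ K`.
* `exists_maximal_config'` : the configuration around a non-normal maximal subgroup.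
-/

set_option autoImplicit false
set_option linter.style.haveILetI false
set_option linter.unusedSectionVars false

namespace Cfsg.Agent.Lib.helper82

open Module Cfsg
open Cfsg.Agent.Lib
open scoped ComplexConjugate

universe u

section Fibres

/-- Summing over the fibres of a surjective homomorphism. -/
theorem sum_comp_surj_hom {A B : Type*} [Group A] [Group B] [Fintype A] [Fintype B]
    (f : A →* B) (hf : Function.Surjective f) (F : B → ℂ) :
    ∑ a : A, F (f a) = (Nat.card f.ker : ℂ) * ∑ b : B, F b := by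
  classical
  rw [Finset.sum_comp F f, Finset.image_univ_of_surjective hf, Finset.mul_sum]
  refine Finset.sum_congr rfl (fun b _ => ?_)
  have h1 : (Finset.univ.filter (fun a : A => f a = b)).card = Nat.card f.ker := by
    rw [MonoidHom.card_fiber_eq_of_mem_range f (hf b) (hf 1), Nat.card_eq_fintype_card,
      Fintype.card_subtype]
    congr 1
    ext a
    simp [MonoidHom.mem_ker]
  rw [h1, nsmul_eq_mul]

/-- Induction commutes with inflation along a surjective homomorphism. -/
theorem indFun_comp_surj {A B : Type u} [Group A] [Group B] [Fintype A] [Fintype B]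
    (f : A →* B) (hf : Function.Surjective f) (H : Subgroup B) (ϑ : H → ℂ) :
    indFun (H.comap f) (fun x : H.comap f => ϑ ⟨f x, x.2⟩) = fun a => indFun H ϑ (f a) := by
  classical
  funext a
  rw [helper4.indFun_apply, helper4.indFun_apply]
  have hext : ∀ y : A, extendByZero (H.comap f) (fun x : H.comap f => ϑ ⟨f x, x.2⟩) y =
      extendByZero H ϑ (f y) := by
    intro y
    by_cases hy : f y ∈ H
    · rw [helper4.extendByZero_apply_mem H _ hy,
        helper4.extendByZero_apply_mem (H.comap f) _ (show y ∈ H.comap f from hy)]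
    · rw [helper4.extendByZero_apply_of_not_mem H _ hy,
        helper4.extendByZero_apply_of_not_mem (H.comap f) _ (show y ∉ H.comap f from hy)]
  have hsum : ∑ x : A, extendByZero (H.comap f) (fun x : H.comap f => ϑ ⟨f x, x.2⟩)
      (x⁻¹ * a * x) = (Nat.card f.ker : ℂ) * ∑ b : B, extendByZero H ϑ (b⁻¹ * f a * b) := by
    rw [← sum_comp_surj_hom f hf (fun b => extendByZero H ϑ (b⁻¹ * f a * b))]
    refine Finset.sum_congr rfl (fun x _ => ?_)
    rw [hext, map_mul, map_mul, map_inv]
  have hcard : (Nat.card (H.comap f) : ℂ) = (Nat.card f.ker : ℂ) * (Nat.card H : ℂ) := by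
    have h1 : (H.comap f).index = H.index := Subgroup.index_comap_of_surjective H hf
    have h2 := (H.comap f).card_mul_index
    have h3 := H.card_mul_index
    have h4 : Nat.card A = Nat.card f.ker * Nat.card B := by
      have h5 := sum_comp_surj_hom f hf (fun _ => (1 : ℂ))
      simp only [Finset.sum_const, Finset.card_univ, nsmul_eq_mul, mul_one] at h5
      rw [Nat.card_eq_fintype_card, Nat.card_eq_fintype_card (α := B)]
      exact_mod_cast h5
    have hidx : H.index ≠ 0 := Subgroup.index_ne_zero_of_finite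
    have h6 : Nat.card (H.comap f) * H.index = Nat.card f.ker * Nat.card H * H.index := by
      calc Nat.card (H.comap f) * H.index = Nat.card (H.comap f) * (H.comap f).index := by rw [h1]
        _ = Nat.card A := h2
        _ = Nat.card f.ker * Nat.card B := h4
        _ = Nat.card f.ker * (Nat.card H * H.index) := by rw [h3]
        _ = Nat.card f.ker * Nat.card H * H.index := by rw [mul_assoc]
    have h7 := Nat.eq_of_mul_eq_mul_right (Nat.pos_of_ne_zero hidx) h6
    rw [h7]
    push_cast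
    rfl
  rw [hsum, hcard]
  have hk0 : (Nat.card f.ker : ℂ) ≠ 0 := by exact_mod_cast Nat.card_pos.ne'
  have hH0 : (Nat.card H : ℂ) ≠ 0 := by exact_mod_cast Nat.card_pos.ne'
  field_simp

end Fibres

section Constituents

/-- An irreducible constituent of a function constant on the cosets of a normal subgroup `A`
has `A` in its kernel. -/
theorem irr_trivial_of_constituent {X : Type u} [Group X] [Fintype X] (A : Subgroup X)
    [hA : A.Normal] {Ψ β₀ : X → ℂ} (hΨ : ∀ a ∈ A, ∀ g, Ψ (a * g) = Ψ g)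
    (hβ₀ : IsIrrCharacter X β₀) (hne : classInner Ψ β₀ ≠ 0) : ∀ a ∈ A, β₀ a = β₀ 1 := by
  classical
  haveI : Fintype A := Fintype.ofFinite A
  obtain ⟨m, ρ₀, hirr, rfl⟩ := hβ₀
  haveI := hirr
  obtain ⟨P, hP⟩ : ∃ P : End ℂ (Fin m → ℂ), P = ∑ a : A, ρ₀ (a : X) := ⟨_, rfl⟩
  have hPcomm : ∀ x : X, P * ρ₀ x = ρ₀ x * P := by
    intro x
    rw [hP, Finset.sum_mul, Finset.mul_sum]
    rw [← Equiv.sum_comp (MulAut.conjNormal x : A ≃* A).toEquiv
      (fun a : A => ρ₀ (a : X) * ρ₀ x)]
    refine Finset.sum_congr rfl (fun a _ => ?_)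
    simp only [MulEquiv.toEquiv_eq_coe, MulEquiv.coe_toEquiv, MulAut.conjNormal_apply]
    rw [← map_mul, ← map_mul]
    congr 1
    group
  obtain ⟨c, hc⟩ := schur_scalar ρ₀ P hPcomm
  have hPabs : ∀ a ∈ A, ρ₀ a * P = P := by
    intro a ha
    rw [hP, Finset.mul_sum]
    rw [← Equiv.sum_comp (Equiv.mulLeft (⟨a, ha⟩ : A)) (fun a' : A => ρ₀ (a' : X))]
    refine Finset.sum_congr rfl (fun a' _ => ?_)
    simp only [Equiv.coe_mulLeft, Subgroup.coe_mul]
    rw [map_mul]
  by_cases hc0 : c = 0
  · exfalso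
    apply hne
    have hP0 : P = 0 := by rw [hc, hc0, zero_smul]
    have hsum0 : ∀ g : X, ∑ a : A, ρ₀.character ((a : X) * g) = 0 := by
      intro g
      have h1 : ∑ a : A, ρ₀.character ((a : X) * g) =
          LinearMap.trace ℂ (Fin m → ℂ) (P * ρ₀ g) := by
        rw [hP, Finset.sum_mul, map_sum]
        refine Finset.sum_congr rfl (fun a _ => ?_)
        rw [← map_mul]
        rfl
      rw [h1, hP0, zero_mul, map_zero]
    unfold classInner
    have hA0 : (Nat.card A : ℂ) ≠ 0 := by exact_mod_cast Nat.card_pos.ne'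
    have h2 : (Nat.card A : ℂ) * ∑ g : X, Ψ g * conj (ρ₀.character g) = 0 := by
      have h3 : ∀ a : A, ∑ g : X, Ψ g * conj (ρ₀.character g) =
          ∑ g : X, Ψ g * conj (ρ₀.character ((a : X) * g)) := by
        intro a
        rw [← Equiv.sum_comp (Equiv.mulLeft (a : X)) (fun g => Ψ g * conj (ρ₀.character g))]
        refine Finset.sum_congr rfl (fun g _ => ?_)
        simp only [Equiv.coe_mulLeft]
        rw [hΨ a a.2]
      have h4 : ∑ a : A, ∑ g : X, Ψ g * conj (ρ₀.character ((a : X) * g)) =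
          (Nat.card A : ℂ) * ∑ g : X, Ψ g * conj (ρ₀.character g) := by
        rw [Finset.sum_congr rfl (fun a _ => (h3 a).symm), Finset.sum_const, Finset.card_univ,
          nsmul_eq_mul, Nat.card_eq_fintype_card]
      rw [← h4, Finset.sum_comm]
      refine Finset.sum_eq_zero (fun g _ => ?_)
      rw [← Finset.mul_sum, ← map_sum, hsum0, map_zero, mul_zero]
    rw [(mul_eq_zero.mp h2).resolve_left hA0, mul_zero]
  · intro a ha
    have h1 := hPabs a ha
    rw [hc, mul_smul_comm, mul_one] at h1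
    have h2 : ρ₀ a = 1 := smul_right_injective _ hc0 h1
    have h3 : ρ₀.character a = LinearMap.trace ℂ (Fin m → ℂ) (ρ₀ a) := rfl
    have h4 : ρ₀.character 1 = LinearMap.trace ℂ (Fin m → ℂ) (ρ₀ 1) := rfl
    rw [h3, h4, h2, map_one ρ₀]

/-- A character of nonzero degree has an irreducible constituent. -/
theorem exists_irr_constituent {X : Type u} [Group X] [Fintype X] {Ψ : X → ℂ}
    (hΨ : IsCharacter X Ψ) (h1 : Ψ 1 ≠ 0) :
    ∃ β₀ : X → ℂ, IsIrrCharacter X β₀ ∧ ∃ n : ℕ, classInner Ψ β₀ = n ∧ n ≠ 0 := by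
  classical
  haveI : Fintype (IrrCharacter X) := Fintype.ofFinite _
  obtain ⟨M, hM1, hM2, -⟩ := exists_nat_decomp hΨ
  by_contra hcon
  push Not at hcon
  have h0 : ∀ ψ : IrrCharacter X, M ψ = 0 := fun ψ => hcon ψ.1 ψ.2 (M ψ) (hM1 ψ)
  have h2 := hM2 1
  simp only [h0, Nat.cast_zero, zero_mul, Finset.sum_const_zero] at h2
  exact h1 h2

/-- Inducing a function which is constant on the cosets of a normal subgroup `A ≤ H` gives a
function constant on the cosets of `A`. -/
theorem indFun_coset_of_trivial {Γ : Type u} [Group Γ] [Fintype Γ] (A Hh : Subgroup Γ)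
    [hA : A.Normal] (hAH : A ≤ Hh) {β' : Hh → ℂ}
    (hβ' : ∀ a : Hh, (a : Γ) ∈ A → ∀ y : Hh, β' (a * y) = β' y) :
    ∀ a ∈ A, ∀ g : Γ, indFun Hh β' (a * g) = indFun Hh β' g := by
  intro a ha g
  rw [helper4.indFun_apply, helper4.indFun_apply]
  congr 1
  refine Finset.sum_congr rfl (fun x _ => ?_)
  have h1 : x⁻¹ * (a * g) * x = (x⁻¹ * a * x) * (x⁻¹ * g * x) := by group
  have ha' : x⁻¹ * a * x ∈ A := by simpa using hA.conj_mem a ha x⁻¹
  rw [h1]
  by_cases hy : x⁻¹ * g * x ∈ Hh
  · rw [helper4.extendByZero_apply_mem Hh _ hy,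
      helper4.extendByZero_apply_mem Hh _ (Hh.mul_mem (hAH ha') hy)]
    exact hβ' ⟨_, hAH ha'⟩ ha' ⟨_, hy⟩
  · have hy' : x⁻¹ * a * x * (x⁻¹ * g * x) ∉ Hh := by
      intro h
      apply hy
      have h2 := Hh.mul_mem (Hh.inv_mem (hAH ha')) h
      rwa [inv_mul_cancel_left] at h2
    rw [helper4.extendByZero_apply_of_not_mem Hh _ hy,
      helper4.extendByZero_apply_of_not_mem Hh _ hy']

end Constituents

section GroupTheory

variable {G : Type u} [Group G] [Finite G]

/-- `m ^ |M : K| ∈ K` for `m ∈ M`, `K ⊴ G`, `K ≤ M`. -/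
theorem pow_mem_of_card (K M : Subgroup G) [K.Normal] (hKM : K ≤ M) (n : ℕ)
    (hc : Nat.card M = n * Nat.card K) (m : G) (hm : m ∈ M) : m ^ n ∈ K := by
  have h1 : Nat.card (K.subgroupOf M) = Nat.card K :=
    Nat.card_congr (Subgroup.subgroupOfEquivOfLe hKM).toEquiv
  have h2 := (K.subgroupOf M).card_mul_index
  rw [h1, hc] at h2
  have hK0 : 0 < Nat.card K := Nat.card_pos
  have h3 : (K.subgroupOf M).index = n := by
    have h4 : (K.subgroupOf M).index * Nat.card K = n * Nat.card K := by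
      rw [mul_comm]
      exact h2
    exact Nat.eq_of_mul_eq_mul_right hK0 h4
  have h5 := Subgroup.pow_index_mem (K.subgroupOf M) (⟨m, hm⟩ : M)
  rw [h3, Subgroup.mem_subgroupOf] at h5
  simpa using h5

/-- (Variant also recording that `N/M` is abelian.) The configuration around a non-normal maximal subgroup `H ≥ L` with `G/L` solvable:
`K = core(H)`, a chief factor `M/K` (a `p`-group) with `G = M H`, `M ∩ H = K`, and a chief factor
`N/M` (a `q`-group, `q ≠ p`) with `N ∩ H ≠ K`; moreover `H ∖ K` acts fixed-point-freely in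
the sense that some `M`-conjugate of each such element leaves `H`. -/
theorem exists_maximal_config' (L H : Subgroup G) [hL : L.Normal] (hLH : L ≤ H)
    (hmax : IsCoatom H) (hsolv : Group.IsSolvable (G ⧸ L)) (hHn : ¬ H.Normal) :
    ∃ (K M N : Subgroup G) (p q a b : ℕ), K.Normal ∧ M.Normal ∧ N.Normal ∧ L ≤ K ∧ K ≤ H ∧
      K ≤ M ∧ M ≤ N ∧ M ⊔ H = ⊤ ∧ M ⊓ H = K ∧ p.Prime ∧ q.Prime ∧ p ≠ q ∧
      Nat.card M = p ^ a * Nat.card K ∧ Nat.card N = q ^ b * Nat.card M ∧ N ⊓ H ≠ K ∧
      (∀ n₁ ∈ N, ∀ n₂ ∈ N, n₁ * n₂ * n₁⁻¹ * n₂⁻¹ ∈ M) ∧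
      (∀ c ∈ H, c ∉ K → ∃ x ∈ M, x * c * x⁻¹ ∉ H) := by
  have hKH : H.normalCore ≤ H := Subgroup.normalCore_le H
  have hLK : L ≤ H.normalCore := Subgroup.normal_le_normalCore.mpr hLH
  have hKneH : H.normalCore ≠ H := fun h => hHn (h ▸ inferInstance)
  have hKtop : H.normalCore ≠ ⊤ := fun h => hmax.1 (top_le_iff.mp (h ▸ hKH))
  have hsolvOf : ∀ X : Subgroup G, ∀ _ : X.Normal, L ≤ X → Group.IsSolvable (G ⧸ X) := by
    intro X hX hLX
    haveI := hsolv
    have hsurj : Function.Surjective (QuotientGroup.map L X (MonoidHom.id G) hLX) := by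
      intro y
      obtain ⟨g, rfl⟩ := QuotientGroup.mk_surjective y
      exact ⟨(g : G ⧸ L), rfl⟩
    exact Group.isSolvable_of_surjective hsurj
  obtain ⟨M, p, a, hMn, hKM, hKneM, hp, hMcard, hMcomm, hMmin⟩ :=
    exists_chief_over H.normalCore (hsolvOf _ inferInstance hLK) hKtop
  haveI := hMn
  have hMH : M ⊔ H = ⊤ := by
    apply hmax.2
    refine lt_of_le_of_ne le_sup_right (fun h => ?_)
    have hMleH : M ≤ H := by rw [h]; exact le_sup_left
    exact hKneM (le_antisymm hKM (Subgroup.normal_le_normalCore.mpr hMleH))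
  have hMHK : M ⊓ H = H.normalCore := by
    haveI := inf_normal_of_sup_eq_top M H M H.normalCore hMH hKH
      (fun m hm c hc => hMcomm m hm c (Subgroup.mem_inf.mp hc).1)
    exact le_antisymm (Subgroup.normal_le_normalCore.mpr inf_le_right) (le_inf hKM hKH)
  have hcent : secCent M H.normalCore ⊓ H ≤ H.normalCore := by
    haveI := inf_normal_of_sup_eq_top M H (secCent M H.normalCore) H.normalCore hMH hKH
      (fun m hm c hc => by
        have h0 := H.normalCore.inv_mem ((Subgroup.mem_inf.mp hc).1 m hm)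
        have h1 : (c * m * c⁻¹ * m⁻¹)⁻¹ = m * c * m⁻¹ * c⁻¹ := by group
        rwa [h1] at h0)
    exact Subgroup.normal_le_normalCore.mpr inf_le_right
  have hMtop : M ≠ ⊤ := by
    intro h
    apply hKneH
    rw [← hMHK, h, top_inf_eq]
  obtain ⟨N, q, b, hNn, hMN, hMneN, hq, hNcard, hNcomm, -⟩ :=
    exists_chief_over M (hsolvOf M hMn (hLK.trans hKM)) hMtop
  haveI := hNn
  have hAK : N ⊓ H ≠ H.normalCore := by
    intro h
    apply hMneN
    refine le_antisymm hMN ?_
    intro n hn
    have hg : n ∈ ((M ⊔ H : Subgroup G) : Set G) := by rw [hMH]; trivial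
    rw [Subgroup.normal_mul] at hg
    obtain ⟨m, hm, h', hh', rfl⟩ := Set.mem_mul.mp hg
    have h1 : h' ∈ N ⊓ H := by
      refine Subgroup.mem_inf.mpr ⟨?_, hh'⟩
      have := N.mul_mem (N.inv_mem (hMN hm)) hn
      simpa using this
    rw [h] at h1
    exact M.mul_mem hm (hKM h1)
  have hpq : p ≠ q := by
    rintro rfl
    apply hAK
    refine le_antisymm ?_ (le_inf (hKM.trans hMN) hKH)
    haveI : Fact p.Prime := ⟨hp⟩
    have hNc : N ≤ secCent M H.normalCore :=
      le_secCent_of_pgroup H.normalCore M N p a (b + a) hKM (hKM.trans hMN) hKneM hMmin hMcard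
        (by rw [hNcard, hMcard, pow_add, mul_assoc])
    exact (inf_le_inf_right H hNc).trans hcent
  refine ⟨H.normalCore, M, N, p, q, a, b, inferInstance, hMn, hNn, hLK, hKH, hKM, hMN, hMH, hMHK,
    hp, hq, hpq, hMcard, hNcard, hAK, hNcomm, ?_⟩
  intro c hcH hcK
  have hc' : c⁻¹ ∉ secCent M H.normalCore := fun h => hcK (by
    simpa using H.normalCore.inv_mem (hcent (Subgroup.mem_inf.mpr ⟨h, H.inv_mem hcH⟩)))
  have hex : ∃ m ∈ M, c⁻¹ * m * c⁻¹⁻¹ * m⁻¹ ∉ H.normalCore := by
    by_contra hcon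
    push Not at hcon
    exact hc' ((mem_secCent M H.normalCore c⁻¹).mpr hcon)
  obtain ⟨m, hm, hmK⟩ := hex
  refine ⟨m, hm, fun hH => hmK ?_⟩
  rw [← hMHK]
  refine Subgroup.mem_inf.mpr ⟨M.mul_mem (hMn.conj_mem m hm c⁻¹) (M.inv_mem hm), ?_⟩
  have h1 : c⁻¹ * m * c⁻¹⁻¹ * m⁻¹ = c⁻¹ * (m * c * m⁻¹) := by group
  rw [h1]
  exact H.mul_mem (H.inv_mem hcH) hH

end GroupTheory

end Cfsg.Agent.Lib.helper82
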