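import Mathlib
import Cfsg.Prelude.Def_Characters
import Cfsg.Prelude.Def_Blocks
import Cfsg.Agent.Lib.helper82.GlaubSolv

/-!
# Counting characters of degree prime to a coprime complement (helper82)

`K ⊴ Γ` with `Γ ⧸ K ≃* H` and `(|K|, |H|) = 1`.
* `restrict_irr_of_coprime_degree` : `χ ∈ Irr(Γ)` of degree prime to `|Γ : K|` restricts
  irreducibly to `K`.
* `card_coprime_degree` : the number of such `χ` is the number of `Γ`-invariant irreducible
  characters of `K` times `|H : H'|`.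
-/

set_option autoImplicit false
set_option linter.style.haveILetI false
set_option linter.unusedSectionVars false

namespace Cfsg.Agent.Lib.helper82

open Module Cfsg
open Cfsg.Agent.Lib
open scoped ComplexConjugate

universe u

section CoprimeDeg

variable {Γ : Type u} [Group Γ] (K : Subgroup Γ) [K.Normal]

/-- An irreducible character of degree prime to the index of `K ⊴ Γ` restricts irreducibly. -/
theorem restrict_irr_of_coprime_degree [Fintype Γ] [Fintype K] {χ : Γ → ℂ}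
    (hχ : IsIrrCharacter Γ χ) (hcop : (charDegree χ).Coprime K.index) :
    IsIrrCharacter K (fun n : K => χ n) := by
  classical
  letI : Fintype (IrrCharacter K) := Fintype.ofFinite _
  obtain ⟨θ, hθ, e, he, he0⟩ := exists_constituent_restrict K hχ
  obtain ⟨k, hk, hk1⟩ := degree_quot_dvd_index K hχ hθ (by rw [he]; exact_mod_cast he0)
  have h1 : χ 1 = (charDegree χ : ℂ) := irr_one_eq ⟨χ, hχ⟩
  have h2 : θ 1 = (charDegree θ : ℂ) := irr_one_eq ⟨θ, hθ⟩
  have h3 : charDegree χ = k * charDegree θ := by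
    rw [h1, h2] at hk1
    exact_mod_cast hk1
  have hk1' : k = 1 := by
    have : k ∣ Nat.gcd (charDegree χ) K.index := Nat.dvd_gcd ⟨_, h3⟩ hk
    rw [hcop] at this
    exact Nat.dvd_one.mp this
  rw [hk1', one_mul] at h3
  obtain ⟨M, hM1, hM2, hM3⟩ :=
    exists_nat_decomp (helper4.isCharacter_restrict K (helper4.isCharacter_of_isIrrCharacter hχ))
  have hMθ : M ⟨θ, hθ⟩ = e := by
    have := hM1 ⟨θ, hθ⟩
    rw [he] at this
    exact_mod_cast this.symm
  have hdeg : ∑ ψ : IrrCharacter K, M ψ * charDegree (ψ : K → ℂ) = charDegree θ := by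
    have h4 : ((∑ ψ : IrrCharacter K, M ψ * charDegree (ψ : K → ℂ) : ℕ) : ℂ) =
        (charDegree θ : ℂ) := by
      rw [← hM3]
      show χ ((1 : K) : Γ) = _
      rw [← h3]
      exact h1
    exact_mod_cast h4
  have hpos : 0 < charDegree θ := helper83.charDegree_pos ⟨θ, hθ⟩
  rw [← Finset.add_sum_erase _ _ (Finset.mem_univ (⟨θ, hθ⟩ : IrrCharacter K)), hMθ] at hdeg
  have he1 : e = 1 := by
    have h5 : e * charDegree θ ≤ charDegree θ := by
      have : e * charDegree θ ≤ e * charDegree θ +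
          ∑ x ∈ Finset.univ.erase (⟨θ, hθ⟩ : IrrCharacter K), M x * charDegree (x : K → ℂ) :=
        Nat.le_add_right _ _
      rw [hdeg] at this
      exact this
    have h6 : e ≤ 1 := by
      by_contra h
      push Not at h
      nlinarith
    omega
  have hrest : ∑ x ∈ Finset.univ.erase (⟨θ, hθ⟩ : IrrCharacter K),
      M x * charDegree (x : K → ℂ) = 0 := by
    rw [he1, one_mul] at hdeg
    have hdeg' : charDegree θ + ∑ x ∈ Finset.univ.erase (⟨θ, hθ⟩ : IrrCharacter K),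
        M x * charDegree (x : K → ℂ) = charDegree θ := hdeg
    omega
  have hM0 : ∀ ψ : IrrCharacter K, ψ ≠ ⟨θ, hθ⟩ → M ψ = 0 := by
    intro ψ hψ
    have := (Finset.sum_eq_zero_iff.mp hrest) ψ (Finset.mem_erase.mpr ⟨hψ, Finset.mem_univ _⟩)
    rcases Nat.mul_eq_zero.mp this with h | h
    · exact h
    · exact absurd h (helper83.charDegree_pos ψ).ne'
  have hfun : (fun n : K => χ n) = θ := by
    funext n
    rw [hM2 n, Finset.sum_eq_single (⟨θ, hθ⟩ : IrrCharacter K)]
    · rw [hMθ, he1]; simp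
    · intro ψ _ hψ
      rw [hM0 ψ hψ]; simp
    · intro h; exact absurd (Finset.mem_univ _) h
  rw [hfun]
  exact hθ

/-- Counting irreducible characters of degree prime to `|H|`, `Γ ⧸ K ≃* H`,
`(|K|, |H|) = 1`. -/
theorem card_coprime_degree [Finite Γ] {H : Type*} [Group H] (e : H ≃* Γ ⧸ K)
    (hcop : (Nat.card K).Coprime (Nat.card H)) :
    Nat.card {χ : IrrCharacter Γ // (charDegree (χ : Γ → ℂ)).Coprime (Nat.card H)} =
      Nat.card {ϑ : IrrCharacter K // ∀ g : Γ, cconj K g (ϑ : K → ℂ) = ϑ} *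
        (commutator H).index := by
  classical
  letI : Fintype Γ := Fintype.ofFinite Γ
  letI : Fintype K := Fintype.ofFinite K
  have hidx : K.index = Nat.card H := by
    rw [Subgroup.index_eq_card]
    exact (Nat.card_congr e.toEquiv).symm
  have hcop' : Nat.Coprime K.index (Nat.card K) := by
    rw [hidx]; exact hcop.symm
  -- extensions
  have hext : ∀ ϑ : {ϑ : IrrCharacter K // ∀ g : Γ, cconj K g (ϑ : K → ℂ) = ϑ},
      ∃ χ : Γ → ℂ, IsIrrCharacter Γ χ ∧ ∀ n : K, χ n = (ϑ.1 : K → ℂ) n :=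
    fun ϑ => exists_extension_of_coprime_card K ϑ.1.2 ϑ.2 hcop'
  choose ext hext1 hext2 using hext
  have hextK : ∀ ϑ : {ϑ : IrrCharacter K // ∀ g : Γ, cconj K g (ϑ : K → ℂ) = ϑ},
      IsIrrCharacter K (fun n : K => ext ϑ n) := by
    intro ϑ
    have : (fun n : K => ext ϑ n) = (ϑ.1 : K → ℂ) := funext (hext2 ϑ)
    rw [this]; exact ϑ.1.2
  -- linear characters trivial on K
  have hLin : Nat.card {β : IrrCharacter Γ //
      (∀ x ∈ K, (β : Γ → ℂ) x = (β : Γ → ℂ) 1) ∧ (β : Γ → ℂ) 1 = 1} = (commutator H).index := by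
    have e1 : {β : IrrCharacter Γ //
        (∀ x ∈ K, (β : Γ → ℂ) x = (β : Γ → ℂ) 1) ∧ (β : Γ → ℂ) 1 = 1} ≃
        {β : {β : IrrCharacter Γ // ∀ x ∈ K, (β : Γ → ℂ) x = (β : Γ → ℂ) 1} //
          (β.1 : Γ → ℂ) 1 = 1} :=
      (Equiv.subtypeSubtypeEquivSubtypeInter _ _).symm
    have e2 : {β : {β : IrrCharacter Γ // ∀ x ∈ K, (β : Γ → ℂ) x = (β : Γ → ℂ) 1} //
          (β.1 : Γ → ℂ) 1 = 1} ≃ {ψ : IrrCharacter (Γ ⧸ K) // (ψ : Γ ⧸ K → ℂ) 1 = 1} :=
      Equiv.subtypeEquiv (irrQuotEquiv K) (fun β => by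
        have := irrQuotEquiv_apply K β 1
        rw [QuotientGroup.mk_one] at this
        rw [this])
    rw [Nat.card_congr (e1.trans e2), card_linear_irr]
    have h1 : (commutator (Γ ⧸ K)).index = Nat.card (Abelianization (Γ ⧸ K)) :=
      Subgroup.index_eq_card _
    have h2 : (commutator H).index = Nat.card (Abelianization H) := Subgroup.index_eq_card _
    rw [h1, h2]
    exact (Nat.card_congr e.abelianizationCongr.toEquiv).symm
  rw [← hLin, ← Nat.card_prod]
  symm
  apply Nat.card_congr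
  have hdeg : ∀ (ϑ : {ϑ : IrrCharacter K // ∀ g : Γ, cconj K g (ϑ : K → ℂ) = ϑ})
      (β : {β : IrrCharacter Γ //
        (∀ x ∈ K, (β : Γ → ℂ) x = (β : Γ → ℂ) 1) ∧ (β : Γ → ℂ) 1 = 1}),
      (charDegree (ext ϑ * (β.1 : Γ → ℂ))).Coprime (Nat.card H) := by
    intro ϑ β
    have h1 : charDegree (ext ϑ * (β.1 : Γ → ℂ)) = charDegree (ϑ.1 : K → ℂ) := by
      unfold charDegree
      rw [Pi.mul_apply, β.2.2, mul_one]
      have := hext2 ϑ 1
      rw [show ((1 : K) : Γ) = 1 from rfl] at this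
      rw [this]
    rw [h1]
    exact Nat.Coprime.coprime_dvd_left (irr_degree_dvd_card ϑ.1) hcop
  refine Equiv.ofBijective (fun x => ⟨⟨ext x.1 * (x.2.1 : Γ → ℂ),
    helper19.isIrr_mul_of_trivial K (ext x.1) (hext1 x.1) (hextK x.1) (x.2.1 : Γ → ℂ) x.2.1.2
      x.2.2.1⟩, hdeg x.1 x.2⟩) ⟨?_, ?_⟩
  · rintro ⟨ϑ₁, β₁⟩ ⟨ϑ₂, β₂⟩ h
    have hfun : ext ϑ₁ * (β₁.1 : Γ → ℂ) = ext ϑ₂ * (β₂.1 : Γ → ℂ) :=
      congrArg (fun x => (x.1 : Γ → ℂ)) h
    have hϑ : ϑ₁ = ϑ₂ := by
      apply Subtype.ext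
      apply Subtype.ext
      funext n
      have h1 := congrFun hfun (n : Γ)
      rw [Pi.mul_apply, Pi.mul_apply, β₁.2.1 n n.2, β₂.2.1 n n.2, β₁.2.2, β₂.2.2, mul_one,
        mul_one, hext2, hext2] at h1
      exact h1
    subst hϑ
    have hβ := helper19.mul_injective_of_trivial K (ext ϑ₁) (hext1 ϑ₁) (hextK ϑ₁)
      (β₁.1 : Γ → ℂ) (β₂.1 : Γ → ℂ) β₁.1.2 β₁.2.1 β₂.1.2 β₂.2.1 hfun
    have : β₁ = β₂ := Subtype.ext (Subtype.ext hβ)
    rw [this]
  · rintro ⟨χ, hχ⟩
    have hχK : IsIrrCharacter K (fun n : K => (χ : Γ → ℂ) n) :=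
      restrict_irr_of_coprime_degree K χ.2 (by rw [hidx]; exact hχ)
    have hinv : ∀ g : Γ, cconj K g (fun n : K => (χ : Γ → ℂ) n) = fun n : K => (χ : Γ → ℂ) n :=
      fun g => cconj_restrict K (helper4.isClassFunction_of_isIrrCharacter χ.2) g
    let ϑ : {ϑ : IrrCharacter K // ∀ g : Γ, cconj K g (ϑ : K → ℂ) = ϑ} := ⟨⟨_, hχK⟩, hinv⟩
    have hne : classInner (fun n : K => (χ : Γ → ℂ) n) (fun n : K => ext ϑ n) ≠ 0 := by
      have : (fun n : K => ext ϑ n) = fun n : K => (χ : Γ → ℂ) n := funext (hext2 ϑ)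
      rw [this, helper4.classInner_irr_self hχK]
      exact one_ne_zero
    obtain ⟨β, hβ, hβK, hχβ⟩ := helper19.gallagher K (ext ϑ) (hext1 ϑ) (hextK ϑ) (χ : Γ → ℂ)
      χ.2 hne
    have hβ1 : β 1 = 1 := by
      have h1 := congrFun hχβ 1
      rw [Pi.mul_apply] at h1
      have h2 : ext ϑ 1 = (χ : Γ → ℂ) 1 := hext2 ϑ 1
      rw [h2] at h1
      have h3 : (χ : Γ → ℂ) 1 ≠ 0 := helper4.irr_degree_ne_zero χ.2
      have h4 : (χ : Γ → ℂ) 1 * 1 = (χ : Γ → ℂ) 1 * β 1 := by rw [mul_one]; exact h1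
      exact (mul_left_cancel₀ h3 h4).symm
    refine ⟨⟨ϑ, ⟨⟨β, hβ⟩, hβK, hβ1⟩⟩, ?_⟩
    apply Subtype.ext
    apply Subtype.ext
    exact hχβ.symm

end CoprimeDeg

section Normalizer

variable {G : Type u} [Group G] [Finite G] (K H : Subgroup G) [hKn : K.Normal]

/-- `G = K H` with `K ⊴ G`, `(|K|, |H|) = 1`, `H` solvable: `G` and `N_G(H)` have the same
number of irreducible characters of degree prime to `|H|`. -/
theorem card_irr_coprime_normalizer (hKH : K ⊔ H = ⊤)
    (hcop : (Nat.card K).Coprime (Nat.card H)) (hsolv : Group.IsSolvable H) :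
    Nat.card {χ : IrrCharacter G // (charDegree (χ : G → ℂ)).Coprime (Nat.card H)} =
      Nat.card {η : IrrCharacter (Subgroup.normalizer (H : Set G)) //
        (charDegree (η : Subgroup.normalizer (H : Set G) → ℂ)).Coprime (Nat.card H)} := by
  classical
  have hHK : H ⊓ K = ⊥ := disjoint_iff.mp (Subgroup.disjoint_of_coprime_natCard hcop.symm)
  have hbot : ∀ x : G, x ∈ H → x ∈ K → x = 1 := by
    intro x hxH hxK
    have : x ∈ H ⊓ K := ⟨hxH, hxK⟩
    rw [hHK, Subgroup.mem_bot] at this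
    exact this
  have hdecomp : ∀ g : G, ∃ k ∈ K, ∃ h ∈ H, g = k * h := by
    intro g
    have hg : g ∈ ((K ⊔ H : Subgroup G) : Set G) := by rw [hKH]; trivial
    rw [Subgroup.normal_mul] at hg
    obtain ⟨k, hk, h, hh, rfl⟩ := Set.mem_mul.mp hg
    exact ⟨k, hk, h, hh, rfl⟩
  -- elements of `N ∩ K` centralize `H`
  have hcent : ∀ x : G, x ∈ Subgroup.normalizer (H : Set G) → x ∈ K → ∀ h ∈ H,
      h * x = x * h := by
    intro x hxN hxK h hh
    have hcK : h * x * h⁻¹ * x⁻¹ ∈ K := K.mul_mem (hKn.conj_mem x hxK h) (K.inv_mem hxK)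
    have hcH : h * x * h⁻¹ * x⁻¹ ∈ H := by
      have h1 : x * h⁻¹ * x⁻¹ ∈ H := (Subgroup.mem_normalizer_iff.mp hxN h⁻¹).mp (H.inv_mem hh)
      have h2 : h * x * h⁻¹ * x⁻¹ = h * (x * h⁻¹ * x⁻¹) := by group
      rw [h2]
      exact H.mul_mem hh h1
    have hc1 := hbot _ hcH hcK
    calc h * x = (h * x * h⁻¹ * x⁻¹) * x * h := by group
      _ = x * h := by rw [hc1, one_mul]
  -- `G ⧸ K ≃* H`
  have hfG : Function.Bijective ((QuotientGroup.mk' K).comp H.subtype) := by
    constructor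
    · rw [injective_iff_map_eq_one]
      intro h hh
      have h1 : (h : G) ∈ K := (QuotientGroup.eq_one_iff _).mp hh
      exact Subtype.ext (hbot _ h.2 h1)
    · intro x
      obtain ⟨g, rfl⟩ := QuotientGroup.mk_surjective x
      obtain ⟨k, hk, h, hh, rfl⟩ := hdecomp g
      refine ⟨⟨h, hh⟩, ?_⟩
      show ((h : G) : G ⧸ K) = ((k * h : G) : G ⧸ K)
      rw [QuotientGroup.mk_mul, (QuotientGroup.eq_one_iff k).mpr hk, one_mul]
  have h1 := card_coprime_degree K (MulEquiv.ofBijective _ hfG) hcop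
  -- `N ⧸ (K ∩ N) ≃* H`
  have hfN : Function.Bijective ((QuotientGroup.mk'
      (K.subgroupOf (Subgroup.normalizer (H : Set G)))).comp
      (Subgroup.inclusion (Subgroup.le_normalizer (H := H)))) := by
    constructor
    · rw [injective_iff_map_eq_one]
      intro h hh
      have h1 : Subgroup.inclusion (Subgroup.le_normalizer (H := H)) h ∈
          K.subgroupOf (Subgroup.normalizer (H : Set G)) := (QuotientGroup.eq_one_iff _).mp hh
      exact Subtype.ext (hbot _ h.2 (Subgroup.mem_subgroupOf.mp h1))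
    · intro x
      obtain ⟨n, rfl⟩ := QuotientGroup.mk_surjective x
      obtain ⟨k, hk, h, hh, hnk⟩ := hdecomp (n : G)
      refine ⟨⟨h, hh⟩, ?_⟩
      show ((Subgroup.inclusion (Subgroup.le_normalizer (H := H)) ⟨h, hh⟩ :
        Subgroup.normalizer (H : Set G)) :
          Subgroup.normalizer (H : Set G) ⧸ K.subgroupOf (Subgroup.normalizer (H : Set G))) = n
      rw [QuotientGroup.eq, Subgroup.mem_subgroupOf]
      show h⁻¹ * (n : G) ∈ K
      rw [hnk]
      have h2 : h⁻¹ * (k * h) = h⁻¹ * k * h⁻¹⁻¹ := by group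
      rw [h2]
      exact hKn.conj_mem k hk h⁻¹
  -- the embedding of `K ∩ N` in `K`
  let jK : K.subgroupOf (Subgroup.normalizer (H : Set G)) →* K :=
    { toFun := fun x => ⟨((x : Subgroup.normalizer (H : Set G)) : G),
        Subgroup.mem_subgroupOf.mp x.2⟩
      map_one' := rfl
      map_mul' := fun a b => rfl }
  have hjK : Function.Injective jK := by
    intro a b hab
    apply Subtype.ext
    apply Subtype.ext
    have := congrArg (fun y : K => (y : G)) hab
    exact this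
  have hcopN : (Nat.card (K.subgroupOf (Subgroup.normalizer (H : Set G)))).Coprime
      (Nat.card H) :=
    Nat.Coprime.coprime_dvd_left (Subgroup.card_dvd_of_injective jK hjK) hcop
  have h2 := card_coprime_degree (K.subgroupOf (Subgroup.normalizer (H : Set G)))
    (MulEquiv.ofBijective _ hfN) hcopN
  rw [h1, h2]
  congr 1
  -- invariant characters of `K`
  have hnormKH : ∀ s ∈ H, ∀ g ∈ K, s * g * s⁻¹ ∈ K := fun s _ g hg => hKn.conj_mem g hg s
  have eA : Nat.card {ϑ : IrrCharacter K // ∀ g : G, cconj K g (ϑ : K → ℂ) = ϑ} =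
      Nat.card {ϑ : IrrCharacter K // IsInvFun (conjHom K H hnormKH).range (ϑ : K → ℂ)} := by
    apply Nat.card_congr
    apply Equiv.subtypeEquivRight
    intro ϑ
    constructor
    · rintro h σ ⟨s, rfl⟩ n
      exact (cconj_eq_iff K (s : G) (ϑ : K → ℂ)).mp (h s) n
    · intro hinv g
      obtain ⟨k, hk, h, hh, rfl⟩ := hdecomp g
      rw [cconj_mul]
      have e1 : cconj K h (ϑ : K → ℂ) = ϑ :=
        (cconj_eq_iff K h (ϑ : K → ℂ)).mpr
          (fun n => hinv (conjHom K H hnormKH ⟨h, hh⟩) ⟨⟨h, hh⟩, rfl⟩ n)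
      rw [e1]
      exact cconj_of_mem K (helper4.isClassFunction_of_isIrrCharacter ϑ.2) hk
  have hCK : ∀ k : K, k ∈ jK.range ↔ k ∈ fixedPts (conjHom K H hnormKH).range := by
    intro k
    rw [mem_fixedPts_conj_iff]
    constructor
    · rintro ⟨x, rfl⟩
      rw [Subgroup.mem_centralizer_iff]
      intro h hh
      exact hcent _ (x : Subgroup.normalizer (H : Set G)).2 (Subgroup.mem_subgroupOf.mp x.2) h hh
    · intro hk
      have hkN : (k : G) ∈ Subgroup.normalizer (H : Set G) :=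
        Subgroup.centralizer_le_normalizer _ hk
      exact ⟨⟨⟨k, hkN⟩, Subgroup.mem_subgroupOf.mpr k.2⟩, Subtype.ext rfl⟩
  have eB := card_inv_irr_eq_card_irr_fixed (conjHom K H hnormKH).range
    (solvable_conj_range K H hnormKH hsolv) (coprime_conj_range K H hnormKH hcop) jK hjK hCK
  have eC : Nat.card {ϑ : IrrCharacter (K.subgroupOf (Subgroup.normalizer (H : Set G))) //
      ∀ n : Subgroup.normalizer (H : Set G),
        cconj (K.subgroupOf (Subgroup.normalizer (H : Set G))) n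
          (ϑ : K.subgroupOf (Subgroup.normalizer (H : Set G)) → ℂ) = ϑ} =
      Nat.card (IrrCharacter (K.subgroupOf (Subgroup.normalizer (H : Set G)))) := by
    apply Nat.card_congr
    apply Equiv.subtypeUnivEquiv
    intro ϑ n
    obtain ⟨k, hk, h, hh, hnk⟩ := hdecomp (n : G)
    have hhN : h ∈ Subgroup.normalizer (H : Set G) := Subgroup.le_normalizer hh
    have hkN : k ∈ Subgroup.normalizer (H : Set G) := by
      have h3 : k = (n : G) * h⁻¹ := by rw [hnk]; group
      rw [h3]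
      exact Subgroup.mul_mem _ n.2 (Subgroup.inv_mem _ hhN)
    have hn : n = (⟨k, hkN⟩ : Subgroup.normalizer (H : Set G)) * ⟨h, hhN⟩ := Subtype.ext hnk
    rw [hn, cconj_mul]
    have e1 : cconj (K.subgroupOf (Subgroup.normalizer (H : Set G)))
        (⟨h, hhN⟩ : Subgroup.normalizer (H : Set G))
        (ϑ : K.subgroupOf (Subgroup.normalizer (H : Set G)) → ℂ) = ϑ := by
      rw [cconj_eq_iff]
      intro x
      refine congrArg _ ?_
      apply Subtype.ext
      apply Subtype.ext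
      show h * ((x : Subgroup.normalizer (H : Set G)) : G) * h⁻¹ = _
      rw [hcent _ (x : Subgroup.normalizer (H : Set G)).2 (Subgroup.mem_subgroupOf.mp x.2) h hh]
      group
    rw [e1]
    exact cconj_of_mem _ (helper4.isClassFunction_of_isIrrCharacter ϑ.2)
      (Subgroup.mem_subgroupOf.mpr hk)
  rw [eA, eB, eC]

end Normalizer

end Cfsg.Agent.Lib.helper82
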