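import Mathlib
import Cfsg.Agent.Lib.helper2.BGDefs
import Cfsg.Agent.Lib.helper82.BFA1
import Cfsg.Agent.Lib.helper79.BFB6core
import Cfsg.Agent.Lib.helper83.D1ER1

/-!
# S4504 piece P (`period_facts`)

Values of a character `ψ` on `⟨x⟩` when the spectrum of `x` is one coset `a₀ H` of the
index-2 subgroup `H` of `(ℤ/p)ˣ`, each eigenvalue with multiplicity one: the two Gaussian
periods `γ = ψ(x)`, `γ' = ψ(x^c)` (`c ∉ H`).
-/

set_option autoImplicit false

open Cfsg Cfsg.Agent.Lib.helper20.D1E Cfsg.Agent.Lib.helper2.BF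
open scoped ComplexConjugate

namespace Cfsg.Agent.Lib.helper2.BG

variable {G : Type*} [Group G] [Fintype G]

/-- `H` has index `2`. -/
theorem helper82_index_two (p : ℕ) [Fact p.Prime] (H : Subgroup (ZMod p)ˣ)
    (he : 2 * Nat.card H + 1 = p) : H.index = 2 := by
  have h1 : Nat.card (ZMod p)ˣ = p - 1 := by
    rw [Nat.card_eq_fintype_card, ZMod.card_units]
  have h2 := H.card_mul_index
  rw [h1] at h2
  have h3 : Nat.card H * H.index = Nat.card H * 2 := by omega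
  have hpos : 0 < Nat.card H := Nat.card_pos
  exact Nat.eq_of_mul_eq_mul_left hpos h3

/-- P (values of `ψ` on `P` when the spectrum of `x` is one coset of the index-2 subgroup `H`). -/
theorem period_facts (p : ℕ) [Fact p.Prime] (x : G) (hxp : x ^ p = 1)
    (H : Subgroup (ZMod p)ˣ) (ψ : G → ℂ) (hψ : IsCharacter G ψ) (a₀ : (ZMod p)ˣ)
    (hmu : OrbitMu p x H ψ a₀ 1) (he : 2 * Nat.card H + 1 = p) (c : (ZMod p)ˣ) (hc : c ∉ H)
    (mp : ℕ) (hmc : (mp : ZMod p) = (c : ZMod p)) :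
    (∀ u : (ZMod p)ˣ, u ∈ H → ψ (x ^ ((u : ZMod p).val)) = ψ x) ∧
    (∀ u : (ZMod p)ˣ, u ∉ H → ψ (x ^ ((u : ZMod p).val)) = ψ (x ^ mp)) ∧
    ψ x + ψ (x ^ mp) = -1 ∧
    (ψ x - ψ (x ^ mp)) * conj (ψ x - ψ (x ^ mp)) = (p : ℂ) ∧
    ψ x * conj (ψ x) + ψ (x ^ mp) * conj (ψ (x ^ mp)) = ((p : ℂ) + 1) / 2 ∧
    ψ (x ^ (mp * mp)) = ψ x ∧
    (ψ x * conj (ψ x)) * (conj (ψ x) * ψ (x ^ mp))
      + (ψ (x ^ mp) * conj (ψ (x ^ mp))) * (conj (ψ (x ^ mp)) * ψ x)
      = -(((p : ℂ) ^ 2 - 1) / 8) := by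
  classical
  have hp : p.Prime := Fact.out
  set E : ZMod p → ℂ := Cfsg.Agent.Lib.helper83.D1E.eZ p with hE
  set Hs : Finset (ZMod p)ˣ := Finset.univ.filter (· ∈ H) with hHs
  have hmemHs : ∀ u : (ZMod p)ˣ, u ∈ Hs ↔ u ∈ H := fun u => by simp [hHs]
  have hHs_card : Hs.card = Nat.card H := (Nat.subtype_card Hs hmemHs).symm
  have hcardpos : 0 < Nat.card H := Nat.card_pos
  set η : (ZMod p)ˣ → ℂ := fun w => ∑ h ∈ Hs, E ((w : ZMod p) * (h : ZMod p)) with hη
  -- values of `ψ` on powers of `x`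
  have hval : ∀ i : ℕ, ψ (x ^ i)
      = ∑ h ∈ Hs, E ((a₀ : ZMod p) * (h : ZMod p) * (i : ZMod p)) := by
    intro i
    rw [mu_expand p x hxp ψ i]
    have hterm : ∀ b : ZMod p, mu p x ψ b * zeta p ^ (b.val * i)
        = if b ∈ Hs.image (fun h : (ZMod p)ˣ => (a₀ : ZMod p) * (h : ZMod p))
            then E (b * (i : ZMod p)) else 0 := by
      intro b
      have hEb : E (b * (i : ZMod p)) = zeta p ^ (b.val * i) := by
        rw [hE, Cfsg.Agent.Lib.helper83.D1E.eZ_mul, ZMod.val_natCast,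
          ← pow_eq_pow_mod i (Cfsg.Agent.Lib.helper83.D1E.eZ_pow_p p b),
          Cfsg.Agent.Lib.helper83.D1E.eZ, ← pow_mul]
      rw [hmu b]
      by_cases hb : b ∈ Hs.image (fun h : (ZMod p)ˣ => (a₀ : ZMod p) * (h : ZMod p))
      · rw [if_pos hb, hEb]
        obtain ⟨h, hh, rfl⟩ := Finset.mem_image.mp hb
        rw [Set.indicator_of_mem (show (a₀ : ZMod p) * (h : ZMod p) ∈
          {b : ZMod p | ∃ h ∈ H, b = (a₀ : ZMod p) * ((h : (ZMod p)ˣ) : ZMod p)} from
            ⟨h, (hmemHs h).mp hh, rfl⟩)]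
        simp
      · rw [if_neg hb]
        rw [Set.indicator_of_notMem (show b ∉
          {b : ZMod p | ∃ h ∈ H, b = (a₀ : ZMod p) * ((h : (ZMod p)ˣ) : ZMod p)} from ?_)]
        · simp
        · rintro ⟨h, hh, rfl⟩
          exact hb (Finset.mem_image.mpr ⟨h, (hmemHs h).mpr hh, rfl⟩)
    rw [Finset.sum_congr rfl (fun b _ => hterm b), ← Finset.sum_filter,
      Finset.filter_mem_eq_inter, Finset.univ_inter, Finset.sum_image]
    intro h₁ _ h₂ _ h12
    have h12' : (a₀ : ZMod p) * (h₁ : ZMod p) = (a₀ : ZMod p) * (h₂ : ZMod p) := h12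
    exact Units.ext (mul_left_cancel₀ (Units.ne_zero a₀) h12')
  have hψu : ∀ u : (ZMod p)ˣ, ψ (x ^ (u : ZMod p).val) = η (a₀ * u) := by
    intro u
    rw [hval]
    refine Finset.sum_congr rfl (fun h _ => ?_)
    rw [ZMod.natCast_zmod_val, Units.val_mul]
    congr 1
    ring
  have hψx : ψ x = η a₀ := by
    have h1 := hval 1
    rw [pow_one] at h1
    rw [h1]
    refine Finset.sum_congr rfl (fun h _ => ?_)
    rw [Nat.cast_one, mul_one]
  have hψmp : ψ (x ^ mp) = η (a₀ * c) := by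
    rw [hval]
    refine Finset.sum_congr rfl (fun h _ => ?_)
    rw [hmc, Units.val_mul]
    congr 1
    ring
  have hψmp2 : ψ (x ^ (mp * mp)) = η (a₀ * (c * c)) := by
    rw [hval]
    refine Finset.sum_congr rfl (fun h _ => ?_)
    rw [Nat.cast_mul, hmc, Units.val_mul, Units.val_mul]
    congr 1
    ring
  have hψ1 : ψ 1 = (Nat.card H : ℂ) := by
    have h1 := hval 0
    rw [pow_zero] at h1
    rw [h1]
    have h2 : ∀ h ∈ Hs, E ((a₀ : ZMod p) * (h : ZMod p) * ((0 : ℕ) : ZMod p)) = 1 := by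
      intro h _
      rw [Nat.cast_zero, mul_zero, hE, Cfsg.Agent.Lib.helper83.D1E.eZ_zero]
    rw [Finset.sum_congr rfl h2, Finset.sum_const, nsmul_eq_mul, mul_one, hHs_card]
  -- index two
  have hidx : H.index = 2 := helper82_index_two p H he
  have hmul : ∀ a b : (ZMod p)ˣ, a * b ∈ H ↔ (a ∈ H ↔ b ∈ H) :=
    fun a b => Subgroup.mul_mem_iff_of_index_two hidx
  have hnotH : ∀ u : (ZMod p)ˣ, u ∉ H → ∃ h ∈ H, u = c * h := by
    intro u hu
    refine ⟨c⁻¹ * u, ?_, by group⟩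
    rw [hmul, inv_mem_iff]
    exact ⟨fun h => absurd h hc, fun h => absurd h hu⟩
  have hcc : c * c ∈ H := by rw [hmul]
  -- `η` is constant on cosets of `H`
  have hηH : ∀ w u : (ZMod p)ˣ, u ∈ H → η (w * u) = η w := by
    intro w u hu
    simp only [hη]
    refine Finset.sum_bij (fun h _ => u * h) ?_ ?_ ?_ ?_
    · intro h hh
      exact (hmemHs _).mpr (H.mul_mem hu ((hmemHs h).mp hh))
    · intro h₁ _ h₂ _ h12
      exact mul_left_cancel h12
    · intro h' hh'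
      refine ⟨u⁻¹ * h', (hmemHs _).mpr (H.mul_mem (H.inv_mem hu) ((hmemHs h').mp hh')), by group⟩
    · intro h _
      rw [Units.val_mul, Units.val_mul]
      congr 1
      ring
  -- splitting a sum over the units along `H ⊔ c H`
  have hcompl : ∀ F : (ZMod p)ˣ → ℂ,
      ∑ b : (ZMod p)ˣ, F b = ∑ h ∈ Hs, F h + ∑ h ∈ Hs, F (c * h) := by
    intro F
    rw [← Finset.sum_add_sum_compl Hs F]
    congr 1
    symm
    refine Finset.sum_bij (fun h _ => c * h) ?_ ?_ ?_ ?_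
    · intro h hh
      rw [Finset.mem_compl, hmemHs, hmul]
      exact fun hiff => hc (hiff.mpr ((hmemHs h).mp hh))
    · intro h₁ _ h₂ _ h12
      exact mul_left_cancel h12
    · intro b hb
      rw [Finset.mem_compl, hmemHs] at hb
      obtain ⟨h, hh, rfl⟩ := hnotH b hb
      exact ⟨h, (hmemHs h).mpr hh, rfl⟩
    · intro h _
      rfl
  set γ : ℂ := η a₀ with hγ
  set γ' : ℂ := η (a₀ * c) with hγ'
  -- (1), (2), (6)
  have f1 : ∀ u : (ZMod p)ˣ, u ∈ H → ψ (x ^ ((u : ZMod p).val)) = γ := by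
    intro u hu
    rw [hψu]
    exact hηH a₀ u hu
  have f2 : ∀ u : (ZMod p)ˣ, u ∉ H → ψ (x ^ ((u : ZMod p).val)) = γ' := by
    intro u hu
    obtain ⟨h, hh, rfl⟩ := hnotH u hu
    rw [hψu, ← mul_assoc]
    exact hηH (a₀ * c) h hh
  have f6 : ψ (x ^ (mp * mp)) = γ := by
    rw [hψmp2]
    exact hηH a₀ (c * c) hcc
  -- (3)
  have f3 : γ + γ' = -1 := by
    have hsum := Cfsg.Agent.Lib.helper83.D1E.sum_units_eZ' p (a₀ : ZMod p)
    rw [if_neg (Units.ne_zero a₀)] at hsum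
    rw [← hsum, hcompl (fun b => Cfsg.Agent.Lib.helper83.D1E.eZ p ((a₀ : ZMod p) * (b : ZMod p)))]
    congr 1
    simp only [hγ', hη]
    refine Finset.sum_congr rfl (fun h _ => ?_)
    rw [Units.val_mul, Units.val_mul, mul_assoc]
  -- (5) by Parseval
  have f5 : γ * conj γ + γ' * conj γ' = ((p : ℂ) + 1) / 2 := by
    have hpar := helper79_parseval p x hxp ψ
    have hnorm : ∀ b : ZMod p, Complex.normSq (mu p x ψ b) = (mu p x ψ b).re := by
      intro b
      rw [hmu b]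
      by_cases hb : b ∈ {b : ZMod p | ∃ h ∈ H, b = (a₀ : ZMod p) * ((h : (ZMod p)ˣ) : ZMod p)}
      · rw [Set.indicator_of_mem hb]; simp
      · rw [Set.indicator_of_notMem hb]; simp
    have hsum_mu : ∑ b : ZMod p, mu p x ψ b = (Nat.card H : ℂ) := by
      rw [← hψ1]
      have h0 := mu_expand p x hxp ψ 0
      rw [pow_zero] at h0
      rw [h0]
      refine Finset.sum_congr rfl (fun b _ => ?_)
      rw [mul_zero, pow_zero, mul_one]
    have hR : ∑ b : ZMod p, Complex.normSq (mu p x ψ b) = (Nat.card H : ℝ) := by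
      rw [Finset.sum_congr rfl (fun b _ => hnorm b), ← Complex.re_sum, hsum_mu]
      simp
    rw [hR] at hpar
    have hparC : ∑ i ∈ Finset.range p, ((Complex.normSq (ψ (x ^ i)) : ℝ) : ℂ)
        = (p : ℂ) * (Nat.card H : ℂ) := by
      have := congrArg (fun r : ℝ => (r : ℂ)) hpar
      simpa using this
    rw [helper79_sum_range_zmod p (fun i => ((Complex.normSq (ψ (x ^ i)) : ℝ) : ℂ)),
      Cfsg.Agent.Lib.helper83.D1E.sum_zmod_eq p
        (fun k : ZMod p => ((Complex.normSq (ψ (x ^ k.val)) : ℝ) : ℂ)),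
      hcompl (fun u => ((Complex.normSq (ψ (x ^ (u : ZMod p).val)) : ℝ) : ℂ))] at hparC
    have hA : ∀ h ∈ Hs, ((Complex.normSq (ψ (x ^ (h : ZMod p).val)) : ℝ) : ℂ) = γ * conj γ := by
      intro h hh
      rw [f1 h ((hmemHs h).mp hh), Complex.mul_conj]
    have hB : ∀ h ∈ Hs, ((Complex.normSq (ψ (x ^ ((c * h : (ZMod p)ˣ) : ZMod p).val)) : ℝ) : ℂ)
        = γ' * conj γ' := by
      intro h hh
      have hch : c * h ∉ H := by
        rw [hmul]
        exact fun hiff => hc (hiff.mpr ((hmemHs h).mp hh))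
      rw [f2 (c * h) hch, Complex.mul_conj]
    rw [Finset.sum_congr rfl hA, Finset.sum_congr rfl hB, Finset.sum_const, Finset.sum_const,
      nsmul_eq_mul, nsmul_eq_mul, hHs_card, ZMod.val_zero, pow_zero, hψ1] at hparC
    have hn0 : (Nat.card H : ℂ) ≠ 0 := by exact_mod_cast hcardpos.ne'
    have hpC : (p : ℂ) = 2 * (Nat.card H : ℂ) + 1 := by exact_mod_cast he.symm
    have hnn : ((Complex.normSq (Nat.card H : ℂ) : ℝ) : ℂ) = (Nat.card H : ℂ) * (Nat.card H : ℂ) := by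
      rw [← Complex.mul_conj, Complex.conj_natCast]
    rw [hnn] at hparC
    have key : (Nat.card H : ℂ) * (γ * conj γ + γ' * conj γ' - ((p : ℂ) + 1) / 2) = 0 := by
      rw [hpC] at hparC ⊢
      linear_combination hparC
    rcases mul_eq_zero.mp key with h0 | h0
    · exact absurd h0 hn0
    · exact sub_eq_zero.mp h0
  have f3c : conj γ + conj γ' = -1 := by
    have := congrArg (starRingEnd ℂ) f3
    simpa using this
  have f4 : (γ - γ') * conj (γ - γ') = (p : ℂ) := by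
    rw [map_sub]
    linear_combination 2 * f5 - (conj γ + conj γ') * f3 + f3c
  -- conjugation of `η`
  have hηconj : ∀ w : (ZMod p)ˣ, conj (η w) = η (w * (-1)) := by
    intro w
    simp only [hη]
    rw [map_sum]
    refine Finset.sum_congr rfl (fun h _ => ?_)
    rw [hE, Cfsg.Agent.Lib.helper83.D1E.eZ_conj, ← Cfsg.Agent.Lib.helper83.D1E.eZ_neg]
    congr 1
    rw [Units.val_mul, Units.val_neg, Units.val_one]
    ring
  have f7 : (γ * conj γ) * (conj γ * γ') + (γ' * conj γ') * (conj γ' * γ)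
      = -(((p : ℂ) ^ 2 - 1) / 8) := by
    by_cases hneg : (-1 : (ZMod p)ˣ) ∈ H
    · have c1 : conj γ = γ := by
        rw [hγ, hηconj]
        exact hηH a₀ (-1) hneg
      have c2 : conj γ' = γ' := by
        rw [hγ', hηconj]
        exact hηH (a₀ * c) (-1) hneg
      rw [c1, c2] at f5 ⊢
      have hB : γ * γ' = (1 - (p : ℂ)) / 4 := by
        linear_combination ((γ + γ' - 1) / 2) * f3 - (1 / 2) * f5
      calc γ * γ * (γ * γ') + γ' * γ' * (γ' * γ)
          = (γ * γ') * (γ * γ + γ' * γ') := by ring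
        _ = (1 - (p : ℂ)) / 4 * (((p : ℂ) + 1) / 2) := by rw [hB, f5]
        _ = -(((p : ℂ) ^ 2 - 1) / 8) := by ring
    · obtain ⟨h₀, hh₀, hm1⟩ := hnotH (-1) hneg
      have c1 : conj γ = γ' := by
        rw [hγ, hηconj, hm1, ← mul_assoc]
        exact hηH (a₀ * c) h₀ hh₀
      have c2 : conj γ' = γ := by
        rw [hγ', hηconj, hm1]
        have e1 : a₀ * c * (c * h₀) = a₀ * (c * c * h₀) := by group
        rw [e1]
        exact hηH a₀ (c * c * h₀) (H.mul_mem hcc hh₀)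
      rw [c1, c2] at f5 ⊢
      have hB : γ * γ' = ((p : ℂ) + 1) / 4 := by
        linear_combination (1 / 2) * f5
      have hA : γ * γ + γ' * γ' = (1 - (p : ℂ)) / 2 := by
        linear_combination (γ + γ' - 1) * f3 - 2 * hB
      calc γ * γ' * (γ' * γ') + γ' * γ * (γ * γ)
          = (γ * γ') * (γ * γ + γ' * γ') := by ring
        _ = ((p : ℂ) + 1) / 4 * ((1 - (p : ℂ)) / 2) := by rw [hB, hA]
        _ = -(((p : ℂ) ^ 2 - 1) / 8) := by ring
  rw [hψx, hψmp]
  exact ⟨f1, f2, f3, f4, f5, f6, f7⟩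

end Cfsg.Agent.Lib.helper2.BG
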