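import Mathlib
import Cfsg.Agent.Lib.helper2.BGDefs
import Cfsg.Agent.Lib.helper82.BGP
import Cfsg.Agent.Lib.helper81.CharOrtho
import Cfsg.Agent.Lib.helper80.BlockIdem

/-!
# S4504 piece O1 (`moments`), core

The second and fourth moments of `ψ` over the `p`-regular elements, with the conclusions of
pieces O0 (`psing_sum`) and C (`central_scalar`) as hypotheses.
-/

set_option autoImplicit false

open Cfsg Cfsg.Agent.Lib.helper20.D1E Cfsg.Agent.Lib.helper2.BF
open scoped ComplexConjugate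

namespace Cfsg.Agent.Lib.helper2.BG

variable {G : Type*} [Group G] [Fintype G]

omit [Fintype G] in
/-- Multiplying by a central `p`-regular element does not change `p`-regularity. -/
theorem helper82_preg_mul (p : ℕ) [Fact p.Prime] (g z : G) (hz : z ∈ Subgroup.center G)
    (hzp : ¬ p ∣ orderOf z) : p ∣ orderOf (g * z) ↔ p ∣ orderOf g := by
  have hp : p.Prime := Fact.out
  have key : ∀ a b : G, b ∈ Subgroup.center G → ¬ p ∣ orderOf b → p ∣ orderOf (a * b) →
      p ∣ orderOf a := by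
    intro a b hb hbp hab
    have hcomm : Commute a b := Subgroup.mem_center_iff.mp hb a
    have h1 : p ∣ Nat.lcm (orderOf a) (orderOf b) := dvd_trans hab hcomm.orderOf_mul_dvd_lcm
    have h2 : p ∣ orderOf a * orderOf b := dvd_trans h1 (Nat.lcm_dvd_mul _ _)
    rcases (Nat.Prime.dvd_mul hp).mp h2 with h | h
    · exact h
    · exact absurd h hbp
  constructor
  · exact key g z hz hzp
  · intro hg
    have hz' : z⁻¹ ∈ Subgroup.center G := (Subgroup.center G).inv_mem hz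
    have hzp' : ¬ p ∣ orderOf z⁻¹ := by rwa [orderOf_inv]
    by_contra hcon
    have h3 : ¬ p ∣ orderOf (g * z * z⁻¹) := fun h => hcon (key (g * z) z⁻¹ hz' hzp' h)
    rw [mul_inv_cancel_right] at h3
    exact h3 hg

/-- A sum over the units of `ZMod p` of a function constant on `H` and on its complement
(`H` of index two). -/
theorem helper82_sum_units_two (p : ℕ) [Fact p.Prime] (H : Subgroup (ZMod p)ˣ)
    (he : 2 * Nat.card H + 1 = p) (f : (ZMod p)ˣ → ℂ) (A B : ℂ)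
    (hA : ∀ u ∈ H, f u = A) (hB : ∀ u, u ∉ H → f u = B) :
    ∑ u : (ZMod p)ˣ, f u = (Nat.card H : ℂ) * (A + B) := by
  classical
  have hp : p.Prime := Fact.out
  have h1 : (Finset.univ.filter (fun u : (ZMod p)ˣ => u ∈ H)).card = Nat.card H :=
    (Nat.subtype_card _ (fun u => by simp)).symm
  have h2 : (Finset.univ.filter (fun u : (ZMod p)ˣ => ¬ u ∈ H)).card = Nat.card H := by
    have h3 := Finset.card_filter_add_card_filter_not (s := (Finset.univ : Finset (ZMod p)ˣ))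
      (fun u : (ZMod p)ˣ => u ∈ H)
    rw [h1, Finset.card_univ, ZMod.card_units] at h3
    omega
  rw [← Finset.sum_filter_add_sum_filter_not Finset.univ (fun u : (ZMod p)ˣ => u ∈ H) f,
    Finset.sum_congr rfl (fun u hu => hA u (Finset.mem_filter.mp hu).2),
    Finset.sum_congr rfl (fun u hu => hB u (Finset.mem_filter.mp hu).2),
    Finset.sum_const, Finset.sum_const, h1, h2, nsmul_eq_mul, nsmul_eq_mul]
  ring

/-- O1 (core): second and fourth moments of `ψ` over the `p`-regular elements. -/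
theorem helper82_moments_core (p : ℕ) [Fact p.Prime] (P : Sylow p G) (hP : Nat.card P = p)
    (x : G) (hx : x ∈ (P : Subgroup G)) (hx1 : x ≠ 1) (H : Subgroup (ZMod p)ˣ)
    (ψ : IrrCharacter G) (a₀ : (ZMod p)ˣ) (hmu : OrbitMu p x H (ψ : G → ℂ) a₀ 1)
    (he : 2 * Nat.card H + 1 = p)
    (hZ : ∀ z ∈ Subgroup.center G, ¬ p ∣ orderOf z)
    (c : (ZMod p)ˣ) (hc : c ∉ H) (mp : ℕ) (hmc : (mp : ZMod p) = (c : ZMod p))
    (hmreg : ∀ g : G, ¬ p ∣ orderOf g → g ^ mp = g)
    (h4 : ∑ g : G, ((ψ : G → ℂ) g * conj ((ψ : G → ℂ) g)) *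
        (conj ((ψ : G → ℂ) g) * (ψ : G → ℂ) (g ^ mp)) = 0)
    (hsing : ∀ F : G → ℂ, IsClassFunction G F → (∀ g, ¬ p ∣ orderOf g → F g = 0) →
      (∀ g z : G, z ∈ Subgroup.center G → F (g * z) = F g) →
      ((p : ℂ) * (Nat.card H : ℂ)) * ∑ g : G, F g =
        (Nat.card G : ℂ) * ∑ u : (ZMod p)ˣ, F (x ^ ((u : ZMod p).val)))
    (hcs : ∀ z ∈ Subgroup.center G, ∃ μ : ℂ, ‖μ‖ = 1 ∧
      ∀ g : G, (ψ : G → ℂ) (g * z) = μ * (ψ : G → ℂ) g) :
    (2 * (p : ℝ)) * ∑ g : G, Set.indicator {g : G | ¬ p ∣ orderOf g}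
        (fun g => ‖(ψ : G → ℂ) g‖ ^ 2) g = (Nat.card G : ℝ) * ((p : ℝ) - 1) ∧
    (8 * (p : ℝ)) * ∑ g : G, Set.indicator {g : G | ¬ p ∣ orderOf g}
        (fun g => ‖(ψ : G → ℂ) g‖ ^ 4) g = (Nat.card G : ℝ) * ((p : ℝ) ^ 2 - 1) := by
  classical
  have hp : p.Prime := Fact.out
  have hpC : (p : ℂ) ≠ 0 := by exact_mod_cast hp.ne_zero
  have hcardpos : 0 < Nat.card H := Nat.card_pos
  have hn0 : (Nat.card H : ℂ) ≠ 0 := by exact_mod_cast hcardpos.ne'
  -- `x` has order `p`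
  have hxp : x ^ p = 1 := by
    have h1 : (⟨x, hx⟩ : (P : Subgroup G)) ^ Nat.card (P : Subgroup G) = 1 := pow_card_eq_one'
    have h2 := congrArg Subtype.val h1
    have hP' : Nat.card (P : Subgroup G) = p := hP
    rw [hP'] at h2
    simpa using h2
  have hxo : orderOf x = p := orderOf_eq_prime hxp hx1
  have hxu : ∀ u : (ZMod p)ˣ, p ∣ orderOf (x ^ (u : ZMod p).val) := by
    intro u
    have hne : x ^ (u : ZMod p).val ≠ 1 := by
      intro h1
      have h2 : orderOf x ∣ (u : ZMod p).val := orderOf_dvd_of_pow_eq_one h1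
      rw [hxo] at h2
      have h3 : (u : ZMod p).val < p := ZMod.val_lt _
      have h4 : (u : ZMod p).val ≠ 0 := by
        rw [Ne, ZMod.val_eq_zero]
        exact Units.ne_zero u
      exact absurd (Nat.le_of_dvd (Nat.pos_of_ne_zero h4) h2) (by omega)
    have hpow : (x ^ (u : ZMod p).val) ^ p = 1 := by
      rw [← pow_mul, mul_comm, pow_mul, hxp, one_pow]
    rw [orderOf_eq_prime hpow hne]
  obtain ⟨f1, f2, f3, f4, f5, f6, f7⟩ :=
    period_facts p x hxp H (ψ : G → ℂ) (Cfsg.Agent.Lib.helper81.irr_isCharacter ψ) a₀ hmu he c hc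
      mp hmc
  have hidx : H.index = 2 := helper82_index_two p H he
  have hmul : ∀ a b : (ZMod p)ˣ, a * b ∈ H ↔ (a ∈ H ↔ b ∈ H) :=
    fun a b => Subgroup.mul_mem_iff_of_index_two hidx
  set γ : ℂ := (ψ : G → ℂ) x with hγ
  set γ' : ℂ := (ψ : G → ℂ) (x ^ mp) with hγ'
  -- the power `x^(u mp)`
  have hpowmp : ∀ u : (ZMod p)ˣ, (x ^ (u : ZMod p).val) ^ mp
      = x ^ (((u * c : (ZMod p)ˣ) : ZMod p)).val := by
    intro u
    rw [← pow_mul]
    have h1 : (((u : ZMod p).val * mp : ℕ) : ZMod p) = ((u * c : (ZMod p)ˣ) : ZMod p) := by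
      rw [Nat.cast_mul, ZMod.natCast_zmod_val, hmc, Units.val_mul]
    rw [← h1, ZMod.val_natCast]
    exact pow_eq_pow_mod _ hxp
  -- class function / centre invariance helpers
  have hord : ∀ g h : G, orderOf (h * g * h⁻¹) = orderOf g := by
    intro g h
    have := MulEquiv.orderOf_eq (MulAut.conj h) g
    rwa [MulAut.conj_apply] at this
  have hψc : ∀ g h : G, (ψ : G → ℂ) (h * g * h⁻¹) = (ψ : G → ℂ) g :=
    Cfsg.Agent.Lib.helper81.irr_classFun ψ
  have hμ : ∀ μ : ℂ, ‖μ‖ = 1 → μ * conj μ = 1 := by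
    intro μ hμ1
    rw [Complex.mul_conj', hμ1]
    norm_num
  -- the two singular functions
  set F₁ : G → ℂ := fun g => if p ∣ orderOf g then (ψ : G → ℂ) g * conj ((ψ : G → ℂ) g) else 0
    with hF₁
  set F₂ : G → ℂ := fun g => if p ∣ orderOf g then
    ((ψ : G → ℂ) g * conj ((ψ : G → ℂ) g)) * (conj ((ψ : G → ℂ) g) * (ψ : G → ℂ) (g ^ mp)) else 0
    with hF₂
  have hF₁cls : IsClassFunction G F₁ := by
    intro g h
    simp only [hF₁]
    rw [hord g h, hψc g h]
  have hF₂cls : IsClassFunction G F₂ := by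
    intro g h
    simp only [hF₂]
    rw [hord g h, hψc g h, conj_pow, hψc (g ^ mp) h]
  have hF₁reg : ∀ g, ¬ p ∣ orderOf g → F₁ g = 0 := fun g hg => by simp only [hF₁]; rw [if_neg hg]
  have hF₂reg : ∀ g, ¬ p ∣ orderOf g → F₂ g = 0 := fun g hg => by simp only [hF₂]; rw [if_neg hg]
  have hF₁z : ∀ g z : G, z ∈ Subgroup.center G → F₁ (g * z) = F₁ g := by
    intro g z hz
    obtain ⟨μ, hμ1, hμg⟩ := hcs z hz
    simp only [hF₁]
    by_cases hg : p ∣ orderOf g
    · rw [if_pos hg, if_pos ((helper82_preg_mul p g z hz (hZ z hz)).mpr hg), hμg g, map_mul]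
      linear_combination ((ψ : G → ℂ) g * conj ((ψ : G → ℂ) g)) * hμ μ hμ1
    · rw [if_neg hg, if_neg (fun h => hg ((helper82_preg_mul p g z hz (hZ z hz)).mp h))]
  have hF₂z : ∀ g z : G, z ∈ Subgroup.center G → F₂ (g * z) = F₂ g := by
    intro g z hz
    obtain ⟨μ, hμ1, hμg⟩ := hcs z hz
    simp only [hF₂]
    by_cases hg : p ∣ orderOf g
    · have hcomm : Commute g z := Subgroup.mem_center_iff.mp hz g
      have hpw : (g * z) ^ mp = g ^ mp * z := by
        rw [hcomm.mul_pow, hmreg z (hZ z hz)]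
      rw [if_pos hg, if_pos ((helper82_preg_mul p g z hz (hZ z hz)).mpr hg), hpw, hμg g,
        hμg (g ^ mp), map_mul]
      have hμ' := hμ μ hμ1
      linear_combination (((ψ : G → ℂ) g * conj ((ψ : G → ℂ) g)) *
        (conj ((ψ : G → ℂ) g) * (ψ : G → ℂ) (g ^ mp)) * (μ * conj μ + 1)) * hμ'
    · rw [if_neg hg, if_neg (fun h => hg ((helper82_preg_mul p g z hz (hZ z hz)).mp h))]
  -- the singular sums
  have hS₁ := hsing F₁ hF₁cls hF₁reg hF₁z
  have hS₂ := hsing F₂ hF₂cls hF₂reg hF₂z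
  have hU₁ : ∑ u : (ZMod p)ˣ, F₁ (x ^ ((u : ZMod p).val))
      = (Nat.card H : ℂ) * (γ * conj γ + γ' * conj γ') := by
    apply helper82_sum_units_two p H he
    · intro u hu
      simp only [hF₁]
      rw [if_pos (hxu u), f1 u hu]
    · intro u hu
      simp only [hF₁]
      rw [if_pos (hxu u), f2 u hu]
  have hU₂ : ∑ u : (ZMod p)ˣ, F₂ (x ^ ((u : ZMod p).val))
      = (Nat.card H : ℂ) * ((γ * conj γ) * (conj γ * γ') + (γ' * conj γ') * (conj γ' * γ)) := by
    apply helper82_sum_units_two p H he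
    · intro u hu
      have huc : u * c ∉ H := by
        rw [hmul]
        exact fun hiff => hc (hiff.mp hu)
      simp only [hF₂]
      rw [if_pos (hxu u), hpowmp u, f1 u hu, f2 (u * c) huc]
    · intro u hu
      have huc : u * c ∈ H := by
        rw [hmul]
        exact ⟨fun h => absurd h hu, fun h => absurd h hc⟩
      simp only [hF₂]
      rw [if_pos (hxu u), hpowmp u, f2 u hu, f1 (u * c) huc]
  rw [hU₁, f5] at hS₁
  rw [hU₂, f7] at hS₂
  -- cancel `|H|`
  have hS₁' : (p : ℂ) * ∑ g : G, F₁ g = (Nat.card G : ℂ) * (((p : ℂ) + 1) / 2) := by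
    apply mul_left_cancel₀ hn0
    linear_combination hS₁
  have hS₂' : (p : ℂ) * ∑ g : G, F₂ g = (Nat.card G : ℂ) * (-(((p : ℂ) ^ 2 - 1) / 8)) := by
    apply mul_left_cancel₀ hn0
    linear_combination hS₂
  -- the regular sums, complex form
  have hR2 : ((∑ g : G, Set.indicator {g : G | ¬ p ∣ orderOf g}
        (fun g => ‖(ψ : G → ℂ) g‖ ^ 2) g : ℝ) : ℂ)
      = ∑ g : G, (if p ∣ orderOf g then 0 else (ψ : G → ℂ) g * conj ((ψ : G → ℂ) g)) := by
    rw [Complex.ofReal_sum]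
    refine Finset.sum_congr rfl (fun g _ => ?_)
    by_cases hg : p ∣ orderOf g
    · rw [if_pos hg, Set.indicator_of_notMem (by simpa using hg)]
      simp
    · rw [if_neg hg, Set.indicator_of_mem (by simpa using hg), Complex.mul_conj']
      push_cast
      rfl
  have hR4 : ((∑ g : G, Set.indicator {g : G | ¬ p ∣ orderOf g}
        (fun g => ‖(ψ : G → ℂ) g‖ ^ 4) g : ℝ) : ℂ)
      = ∑ g : G, (if p ∣ orderOf g then 0 else ((ψ : G → ℂ) g * conj ((ψ : G → ℂ) g)) *
          (conj ((ψ : G → ℂ) g) * (ψ : G → ℂ) (g ^ mp))) := by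
    rw [Complex.ofReal_sum]
    refine Finset.sum_congr rfl (fun g _ => ?_)
    by_cases hg : p ∣ orderOf g
    · rw [if_pos hg, Set.indicator_of_notMem (by simpa using hg)]
      simp
    · rw [if_neg hg, Set.indicator_of_mem (by simpa using hg), hmreg g hg, Complex.mul_conj',
        Complex.conj_mul']
      push_cast
      ring
  -- total sums
  have hT2 : ∑ g : G, (ψ : G → ℂ) g * conj ((ψ : G → ℂ) g) = (Nat.card G : ℂ) := by
    have h1 := Cfsg.Agent.Lib.helper80.irr_sum_mul_conj ψ ψ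
    rwa [if_pos rfl] at h1
  have hsplit2 : ∑ g : G, (ψ : G → ℂ) g * conj ((ψ : G → ℂ) g)
      = ∑ g : G, F₁ g
        + ∑ g : G, (if p ∣ orderOf g then 0 else (ψ : G → ℂ) g * conj ((ψ : G → ℂ) g)) := by
    rw [← Finset.sum_add_distrib]
    refine Finset.sum_congr rfl (fun g _ => ?_)
    simp only [hF₁]
    by_cases hg : p ∣ orderOf g
    · rw [if_pos hg, if_pos hg, add_zero]
    · rw [if_neg hg, if_neg hg, zero_add]
  have hsplit4 : ∑ g : G, ((ψ : G → ℂ) g * conj ((ψ : G → ℂ) g)) *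
        (conj ((ψ : G → ℂ) g) * (ψ : G → ℂ) (g ^ mp))
      = ∑ g : G, F₂ g
        + ∑ g : G, (if p ∣ orderOf g then 0 else ((ψ : G → ℂ) g * conj ((ψ : G → ℂ) g)) *
          (conj ((ψ : G → ℂ) g) * (ψ : G → ℂ) (g ^ mp))) := by
    rw [← Finset.sum_add_distrib]
    refine Finset.sum_congr rfl (fun g _ => ?_)
    simp only [hF₂]
    by_cases hg : p ∣ orderOf g
    · rw [if_pos hg, if_pos hg, add_zero]
    · rw [if_neg hg, if_neg hg, zero_add]
  rw [hT2, ← hR2] at hsplit2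
  rw [h4, ← hR4] at hsplit4
  set R2 : ℝ := ∑ g : G, Set.indicator {g : G | ¬ p ∣ orderOf g}
    (fun g => ‖(ψ : G → ℂ) g‖ ^ 2) g with hR2def
  set R4 : ℝ := ∑ g : G, Set.indicator {g : G | ¬ p ∣ orderOf g}
    (fun g => ‖(ψ : G → ℂ) g‖ ^ 4) g with hR4def
  constructor
  · have hC : ((2 * (p : ℝ) * R2 : ℝ) : ℂ) = (((Nat.card G : ℝ) * ((p : ℝ) - 1) : ℝ) : ℂ) := by
      push_cast
      linear_combination (-2 * (p : ℂ)) * hsplit2 - 2 * hS₁'
    exact_mod_cast hC
  · have hC : ((8 * (p : ℝ) * R4 : ℝ) : ℂ)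
        = (((Nat.card G : ℝ) * ((p : ℝ) ^ 2 - 1) : ℝ) : ℂ) := by
      push_cast
      linear_combination (-8 * (p : ℂ)) * hsplit4 - 8 * hS₂'
    exact_mod_cast hC

end Cfsg.Agent.Lib.helper2.BG
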