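import Mathlib
import Cfsg.Agent.Lib.helper2.BGDefs
import Cfsg.Agent.Lib.helper82.BGO1core
import Cfsg.Agent.Lib.helper40.BGO0
import Cfsg.Agent.Lib.helper48.BGBC

/-!
# S4504 piece O1 (`moments`)

Second and fourth moments of `ψ` over the `p`-regular elements: the core
(`helper82_moments_core`) with pieces O0 (`helper40_psing_sum`) and C (`helper48_central_scalar`).
-/

set_option autoImplicit false

open Cfsg Cfsg.Agent.Lib.helper20.D1E Cfsg.Agent.Lib.helper2.BF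
open scoped ComplexConjugate

namespace Cfsg.Agent.Lib.helper2.BG

variable {G : Type*} [Group G] [Fintype G]

/-- O1 (second and fourth moments of `ψ` over the `p`-regular elements). -/
theorem moments (p : ℕ) [Fact p.Prime] (P : Sylow p G) (hP : Nat.card P = p)
    (x : G) (hx : x ∈ (P : Subgroup G)) (hx1 : x ≠ 1) (H : Subgroup (ZMod p)ˣ)
    (hH : ∀ r : (ZMod p)ˣ, r ∈ H ↔ ∃ n : G, n * x * n⁻¹ = x ^ ((r : ZMod p).val))
    (hHc : Nat.card H = (Subgroup.centralizer ((P : Subgroup G) : Set G)).relIndex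
        (Subgroup.normalizer ((P : Subgroup G) : Set G)))
    (ψ : IrrCharacter G) (a₀ : (ZMod p)ˣ) (hmu : OrbitMu p x H (ψ : G → ℂ) a₀ 1)
    (he : 2 * Nat.card H + 1 = p)
    (hK : ∀ k ∈ Subgroup.centralizer ((P : Subgroup G) : Set G), ¬ p ∣ orderOf k →
      k ∈ Subgroup.center G)
    (hZ : ∀ z ∈ Subgroup.center G, ¬ p ∣ orderOf z)
    (c : (ZMod p)ˣ) (hc : c ∉ H) (mp : ℕ) (hmc : (mp : ZMod p) = (c : ZMod p))
    (hmreg : ∀ g : G, ¬ p ∣ orderOf g → g ^ mp = g)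
    (h4 : ∑ g : G, ((ψ : G → ℂ) g * conj ((ψ : G → ℂ) g)) *
        (conj ((ψ : G → ℂ) g) * (ψ : G → ℂ) (g ^ mp)) = 0) :
    (2 * (p : ℝ)) * ∑ g : G, Set.indicator {g : G | ¬ p ∣ orderOf g}
        (fun g => ‖(ψ : G → ℂ) g‖ ^ 2) g = (Nat.card G : ℝ) * ((p : ℝ) - 1) ∧
    (8 * (p : ℝ)) * ∑ g : G, Set.indicator {g : G | ¬ p ∣ orderOf g}
        (fun g => ‖(ψ : G → ℂ) g‖ ^ 4) g = (Nat.card G : ℝ) * ((p : ℝ) ^ 2 - 1) :=
  helper82_moments_core p P hP x hx hx1 H ψ a₀ hmu he hZ c hc mp hmc hmreg h4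
    (fun F hF hreg hFz => helper40_psing_sum p P hP x hx hx1 H hH hHc hK hZ F hF hreg hFz)
    (fun z hz => helper48_central_scalar ψ z hz)

end Cfsg.Agent.Lib.helper2.BG
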