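import Mathlib
import Cfsg.Prelude.Def_LocalStructure
import Cfsg.Prelude.Def_Blocks
import Cfsg.Agent.Lib.helper81.CharOrtho
import Cfsg.Agent.Lib.helper82.CharQuot

/-!
# S3875 piece E3 (helper82): in a perfect group an irreducible character of degree one is trivial
-/

set_option autoImplicit false

namespace Cfsg.Agent.Lib.helper82.S3875

open Cfsg

/-- PIECE E3. In a perfect group an irreducible character of degree one is trivial. -/
theorem degree_one_trivial {H : Type*} [Group H] [Finite H] (hperf : commutator H = ⊤)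
    (χ : IrrCharacter H) (h1 : charDegree (χ : H → ℂ) = 1) : (χ : H → ℂ) = fun _ => 1 := by
  have hχ1 : (χ : H → ℂ) 1 = 1 := by
    rw [Cfsg.Agent.Lib.helper81.irr_one_eq_charDegree, h1]
    simp
  funext x
  have h2 := Cfsg.Agent.Lib.helper82.linear_commutator
    (Cfsg.Agent.Lib.helper81.irr_isCharacter χ) hχ1 x (by rw [hperf]; trivial)
  rw [h2, hχ1]

end Cfsg.Agent.Lib.helper82.S3875
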