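import Mathlib
import Cfsg.Prelude.Def_Characters
import Cfsg.Prelude.Def_Blocks
import Cfsg.Agent.Lib.helper82.GlaubSolv

/-!
# Real characters and the Glauberman correspondence (helper82)

* `starIrr χ` : the complex conjugate of an irreducible character.
* `card_real_irr_eq` : the number of real-valued irreducible characters equals the number of
  real classes (Brauer's permutation lemma).
* `SF_star` : the correspondence commutes with complex conjugation.
* `card_real_inv_irr`, `card_invariant_real_classes` : for a `p`-group of operators on a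
  `p'`-group, real invariant characters / classes correspond to real characters / classes of
  the fixed points.
* `card_real_inv_irr_eq_classes` : the count of real invariant characters and classes agree.
-/

set_option autoImplicit false
set_option linter.style.haveILetI false
set_option linter.unusedSectionVars false

namespace Cfsg.Agent.Lib.helper82

open Module Cfsg
open Cfsg.Agent.Lib
open scoped ComplexConjugate

universe u

section Star

variable {G : Type u} [Group G]

/-- The complex conjugate of an irreducible character is irreducible. -/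
theorem isIrrCharacter_star [Fintype G] {χ : G → ℂ} (hχ : IsIrrCharacter G χ) :
    IsIrrCharacter G (fun g => conj (χ g)) := by
  apply helper4.isIrrCharacter_of_isCharacter_of_norm_one
    (helper4.isCharacter_conj (helper4.isCharacter_of_isIrrCharacter hχ))
  have h1 := helper4.classInner_irr_self hχ
  unfold classInner at h1 ⊢
  rw [← h1]
  congr 1
  apply Finset.sum_congr rfl
  intro g _
  simp [mul_comm]

/-- The complex conjugate of an irreducible character. -/
noncomputable def starIrr [Fintype G] (χ : IrrCharacter G) : IrrCharacter G :=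
  ⟨fun g => conj ((χ : G → ℂ) g), isIrrCharacter_star χ.2⟩

theorem starIrr_apply [Fintype G] (χ : IrrCharacter G) (g : G) :
    (starIrr χ : G → ℂ) g = conj ((χ : G → ℂ) g) := rfl

theorem starIrr_starIrr [Fintype G] (χ : IrrCharacter G) : starIrr (starIrr χ) = χ := by
  apply Subtype.ext
  funext g
  simp [starIrr_apply]

theorem starIrr_eq_iff [Fintype G] (χ : IrrCharacter G) :
    starIrr χ = χ ↔ ∀ g, ((χ : G → ℂ) g).im = 0 := by
  constructor
  · intro h g
    have h1 := congrFun (congrArg Subtype.val h) g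
    exact Complex.conj_eq_iff_im.mp h1
  · intro h
    apply Subtype.ext
    funext g
    exact Complex.conj_eq_iff_im.mpr (h g)

/-- Brauer's permutation lemma for complex conjugation: the number of real-valued irreducible
characters equals the number of real classes. -/
theorem card_real_irr_eq [Finite G] :
    Nat.card {χ : IrrCharacter G // ∀ g, ((χ : G → ℂ) g).im = 0} =
      Nat.card {K : ConjClasses G // ∀ g, ConjClasses.mk g = K → IsConj g g⁻¹} := by
  classical
  letI : Fintype G := Fintype.ofFinite G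
  have h := helper84.card_irr_fixed_eq (G := G) (fun g => g⁻¹) starIrr
    (fun χ g => by rw [starIrr_apply, helper83.irr_inv])
    (fun K => ∀ g, ConjClasses.mk g = K → IsConj g g⁻¹)
    (fun g => by
      constructor
      · intro h
        exact h g rfl
      · intro h g' hg'
        rw [ConjClasses.mk_eq_mk_iff_isConj] at hg'
        obtain ⟨u, hu⟩ := isConj_iff.mp hg'
        have h2 : IsConj g'⁻¹ g⁻¹ := isConj_iff.mpr ⟨u, by rw [← hu]; group⟩
        exact hg'.trans (h.trans h2.symm))
  rw [← h]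
  exact Nat.card_congr (Equiv.subtypeEquivRight (fun χ => (starIrr_eq_iff χ).symm))

end Star

section Corr

variable {G : Type u} [Group G] {C : Type u} [Group C] [Fintype C]

/-- The correspondence commutes with complex conjugation. -/
theorem SF_star (p : ℕ) (j : C →* G) (χ : G → ℂ) (β : IrrCharacter C) (h : SF p j χ β) :
    SF p j (fun g => conj (χ g)) (starIrr β) := by
  classical
  obtain ⟨ε, hε, hall⟩ := h
  refine ⟨ε, hε, fun β' => ?_⟩
  obtain ⟨k, hk⟩ := hall (starIrr β')
  refine ⟨k, ?_⟩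
  have h1 : classInner (fun c => (fun g => conj (χ g)) (j c)) (β' : C → ℂ) =
      conj (classInner (fun c => χ (j c)) (starIrr β' : C → ℂ)) := by
    unfold classInner
    rw [map_mul, map_sum]
    congr 1
    · simp
    · apply Finset.sum_congr rfl
      intro c _
      rw [map_mul, starIrr_apply]
      simp
  rw [h1, hk]
  have hiff : (starIrr β' = β) ↔ (β' = starIrr β) := by
    constructor
    · intro h; rw [← h, starIrr_starIrr]
    · intro h; rw [h, starIrr_starIrr]
  rw [if_congr hiff rfl rfl]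
  exact map_intCast (starRingEnd ℂ) _

end Corr

section Count

variable {G : Type u} [Group G] [Fintype G] (p : ℕ) [hp : Fact p.Prime]
variable (X : Subgroup (MulAut G)) {C : Type u} [Group C] [Fintype C] (j : C →* G)

/-- Real invariant irreducible characters correspond to real irreducible characters of the
fixed points. -/
theorem card_real_inv_irr (hX : IsPGroup p X) (hpG : ¬ p ∣ Nat.card G)
    (hj : Function.Injective j) (hC : ∀ g, g ∈ j.range ↔ g ∈ fixedPts X) :
    Nat.card {χ : IrrCharacter G // (∀ g, ((χ : G → ℂ) g).im = 0) ∧ IsInvFun X (χ : G → ℂ)} =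
      Nat.card {β : IrrCharacter C // ∀ c, ((β : C → ℂ) c).im = 0} := by
  classical
  have hcorr := glauberman_pgroup p X hX hpG j hj hC
  have hex : ∀ χ : {χ : IrrCharacter G // (∀ g, ((χ : G → ℂ) g).im = 0) ∧
      IsInvFun X (χ : G → ℂ)}, ∃ β : IrrCharacter C, SF p j (χ.1 : G → ℂ) β :=
    fun χ => hcorr.1 χ.1 χ.2.2
  choose f hf using hex
  have hstarinv : ∀ χ : IrrCharacter G, IsInvFun X (χ : G → ℂ) →
      IsInvFun X (starIrr χ : G → ℂ) := by
    intro χ hχ σ hσ g
    rw [starIrr_apply, starIrr_apply, hχ σ hσ g]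
  have hfreal : ∀ χ, ∀ c, ((f χ : C → ℂ) c).im = 0 := by
    intro χ
    rw [← starIrr_eq_iff]
    have h1 := SF_star p j (χ.1 : G → ℂ) (f χ) (hf χ)
    have h2 : (fun g => conj ((χ.1 : G → ℂ) g)) = (χ.1 : G → ℂ) := by
      funext g
      exact Complex.conj_eq_iff_im.mpr (χ.2.1 g)
    rw [h2] at h1
    exact (hf χ).unique h1.grel
  apply Nat.card_congr
  refine Equiv.ofBijective (fun χ => ⟨f χ, hfreal χ⟩) ⟨?_, ?_⟩
  · intro χ₁ χ₂ h
    have h' : f χ₁ = f χ₂ := congrArg Subtype.val h
    apply Subtype.ext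
    exact hcorr.2.1 χ₁.1 χ₂.1 χ₁.2.2 χ₂.2.2 (f χ₁) (hf χ₁).grel (by rw [h']; exact (hf χ₂).grel)
  · rintro ⟨β, hβ⟩
    obtain ⟨χ, hχinv, hχrel⟩ := hcorr.2.2 β
    obtain ⟨β₁, hβ₁⟩ := hcorr.1 χ hχinv
    have e1 : β = β₁ := hβ₁.unique hχrel
    rw [← e1] at hβ₁
    have hβstar : starIrr β = β := (starIrr_eq_iff β).mpr hβ
    have h1 := SF_star p j (χ : G → ℂ) β hβ₁
    rw [hβstar] at h1
    have h2 : starIrr χ = χ :=
      hcorr.2.1 (starIrr χ) χ (hstarinv χ hχinv) hχinv β h1.grel hχrel
    have hχreal : ∀ g, ((χ : G → ℂ) g).im = 0 := (starIrr_eq_iff χ).mp h2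
    refine ⟨⟨χ, hχreal, hχinv⟩, ?_⟩
    apply Subtype.ext
    exact ((hf ⟨χ, hχreal, hχinv⟩).unique hχrel).symm

/-- Real invariant classes correspond to real classes of the fixed points. -/
theorem card_invariant_real_classes (hX : IsPGroup p X) (hpG : ¬ p ∣ Nat.card G)
    (hj : Function.Injective j) (hC : ∀ g, g ∈ j.range ↔ g ∈ fixedPts X) :
    Nat.card {K : ConjClasses G // (∀ g, ConjClasses.mk g = K → IsConj g g⁻¹) ∧
      ∀ σ ∈ X, ∀ g, ConjClasses.mk g = K → ConjClasses.mk (σ g) = K} =
      Nat.card {K' : ConjClasses C // ∀ c, ConjClasses.mk c = K' → IsConj c c⁻¹} := by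
  classical
  have hinvconj : ∀ {H : Type u} [Group H] (a b : H), IsConj a b → IsConj a⁻¹ b⁻¹ := by
    intro H _ a b hab
    obtain ⟨u, hu⟩ := isConj_iff.mp hab
    exact isConj_iff.mpr ⟨u, by rw [← hu]; group⟩
  symm
  apply Nat.card_congr
  refine Equiv.ofBijective (fun K' => ⟨ConjClasses.map j K'.1, ?_, ?_⟩) ⟨?_, ?_⟩
  · obtain ⟨K', hK'⟩ := K'
    obtain ⟨c, rfl⟩ := ConjClasses.mk_surjective K'
    intro g hg
    have hg' : IsConj g (j c) := ConjClasses.mk_eq_mk_iff_isConj.mp hg
    have h1 : IsConj c c⁻¹ := hK' c rfl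
    have h2 : IsConj (j c) (j c)⁻¹ := by
      obtain ⟨u, hu⟩ := isConj_iff.mp h1
      rw [← map_inv, ← hu]
      exact isConj_iff.mpr ⟨j u, by simp⟩
    exact hg'.trans (h2.trans (hinvconj _ _ hg').symm)
  · obtain ⟨K', hK'⟩ := K'
    obtain ⟨c, rfl⟩ := ConjClasses.mk_surjective K'
    exact class_of_fixed_invariant X j hC c
  · rintro ⟨K₁, hK₁⟩ ⟨K₂, hK₂⟩ h
    obtain ⟨c₁, rfl⟩ := ConjClasses.mk_surjective K₁
    obtain ⟨c₂, rfl⟩ := ConjClasses.mk_surjective K₂
    have h1 : ConjClasses.mk (j c₁) = ConjClasses.mk (j c₂) := congrArg Subtype.val h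
    apply Subtype.ext
    show ConjClasses.mk c₁ = ConjClasses.mk c₂
    rw [ConjClasses.mk_eq_mk_iff_isConj] at h1 ⊢
    exact fusion_of_fixed p X j hX hpG hj hC c₁ c₂ h1
  · rintro ⟨K, hKreal, hKinv⟩
    obtain ⟨c, hc⟩ := exists_fixed_in_class p X j hX hpG hC K hKinv
    refine ⟨⟨ConjClasses.mk c, ?_⟩, Subtype.ext hc⟩
    intro c' hc'
    have hc'' : IsConj c' c := ConjClasses.mk_eq_mk_iff_isConj.mp hc'
    have h1 : IsConj (j c) (j c)⁻¹ := hKreal (j c) hc
    rw [← map_inv] at h1
    have h2 : IsConj c c⁻¹ := fusion_of_fixed p X j hX hpG hj hC c c⁻¹ h1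
    exact hc''.trans (h2.trans (hinvconj _ _ hc'').symm)

/-- For a `p`-group of operators on a group of order prime to `p`, the number of real invariant
irreducible characters equals the number of real invariant classes. -/
theorem card_real_inv_irr_eq_classes (hX : IsPGroup p X) (hpG : ¬ p ∣ Nat.card G) :
    Nat.card {χ : IrrCharacter G // (∀ g, ((χ : G → ℂ) g).im = 0) ∧ IsInvFun X (χ : G → ℂ)} =
      Nat.card {K : ConjClasses G // (∀ g, ConjClasses.mk g = K → IsConj g g⁻¹) ∧
        ∀ σ ∈ X, ∀ g, ConjClasses.mk g = K → ConjClasses.mk (σ g) = K} := by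
  classical
  letI : Fintype (fixedPts X) := Fintype.ofFinite _
  have hj : Function.Injective (fixedPts X).subtype := Subtype.val_injective
  have hC : ∀ g, g ∈ (fixedPts X).subtype.range ↔ g ∈ fixedPts X := fun g => by
    rw [Subgroup.range_subtype]
  rw [card_real_inv_irr p X (fixedPts X).subtype hX hpG hj hC,
    card_invariant_real_classes p X (fixedPts X).subtype hX hpG hj hC]
  exact card_real_irr_eq

end Count

section Internal

variable {Γ : Type u} [Group Γ] [Finite Γ] (p : ℕ) [hp : Fact p.Prime] (P K : Subgroup Γ)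

theorem real_class_iff {H : Type u} [Group H] (g : H) :
    (∀ g', ConjClasses.mk g' = ConjClasses.mk g → IsConj g' g'⁻¹) ↔ IsConj g g⁻¹ := by
  constructor
  · intro h
    exact h g rfl
  · intro h g' hg'
    rw [ConjClasses.mk_eq_mk_iff_isConj] at hg'
    obtain ⟨u, hu⟩ := isConj_iff.mp hg'
    have h2 : IsConj g'⁻¹ g⁻¹ := isConj_iff.mpr ⟨u, by rw [← hu]; group⟩
    exact hg'.trans (h.trans h2.symm)

/-- Internal form: a `p`-subgroup `P` normalizing a `p'`-subgroup `K`. The real `P`-invariant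
irreducible characters of `K` are as many as the real `P`-invariant classes of `K`; and if all
real irreducible characters are `P`-invariant, each real element of `K` is conjugate to an
element centralized by `P`. -/
theorem real_inv_internal (hP : IsPGroup p P) (hK : ¬ p ∣ Nat.card K)
    (hPK : P ≤ Subgroup.normalizer (K : Set Γ)) :
    Nat.card {θ : IrrCharacter K // (∀ k : K, ((θ : K → ℂ) k).im = 0) ∧
        (∀ x ∈ P, ∀ k k' : K, (k' : Γ) = x * (k : Γ) * x⁻¹ → (θ : K → ℂ) k' = (θ : K → ℂ) k)} =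
      Nat.card {c : ConjClasses K // (∀ k : K, ConjClasses.mk k = c → IsConj k k⁻¹) ∧
        ∀ k : K, ConjClasses.mk k = c → ∀ x ∈ P, ∀ k' : K, (k' : Γ) = x * (k : Γ) * x⁻¹ →
          ConjClasses.mk k' = c} ∧
    ((∀ θ : IrrCharacter K, (∀ k : K, ((θ : K → ℂ) k).im = 0) →
        (∀ x ∈ P, ∀ k k' : K, (k' : Γ) = x * (k : Γ) * x⁻¹ → (θ : K → ℂ) k' = (θ : K → ℂ) k)) →
      ∀ k : K, IsConj k k⁻¹ → ∃ k' : K, IsConj k k' ∧ ∀ x ∈ P, x * (k' : Γ) * x⁻¹ = (k' : Γ)) := by
  classical
  letI : Fintype K := Fintype.ofFinite K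
  have hnorm : ∀ s ∈ P, ∀ g ∈ K, s * g * s⁻¹ ∈ K := fun s hs g hg =>
    (Subgroup.mem_normalizer_iff.mp (hPK hs) g).mp hg
  have hA : IsPGroup p (conjHom K P hnorm).range :=
    hP.of_surjective (conjHom K P hnorm).rangeRestrict
      (conjHom K P hnorm).rangeRestrict_surjective
  have h := card_real_inv_irr_eq_classes p (conjHom K P hnorm).range hA hK
  have e1 : Nat.card {θ : IrrCharacter K // (∀ k : K, ((θ : K → ℂ) k).im = 0) ∧
        (∀ x ∈ P, ∀ k k' : K, (k' : Γ) = x * (k : Γ) * x⁻¹ → (θ : K → ℂ) k' = (θ : K → ℂ) k)} =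
      Nat.card {θ : IrrCharacter K // (∀ k : K, ((θ : K → ℂ) k).im = 0) ∧
        IsInvFun (conjHom K P hnorm).range (θ : K → ℂ)} :=
    Nat.card_congr (Equiv.subtypeEquivRight (fun θ =>
      and_congr Iff.rfl (isInvFun_conj_iff K P hnorm (θ : K → ℂ)).symm))
  have hiffc : ∀ c : ConjClasses K,
      (∀ k : K, ConjClasses.mk k = c → ∀ x ∈ P, ∀ k' : K, (k' : Γ) = x * (k : Γ) * x⁻¹ →
          ConjClasses.mk k' = c) ↔
      (∀ σ ∈ (conjHom K P hnorm).range, ∀ g, ConjClasses.mk g = c →
        ConjClasses.mk (σ g) = c) := by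
    intro c
    constructor
    · rintro h σ ⟨s, rfl⟩ g hg
      exact h g hg s s.2 _ rfl
    · intro h k hk x hx k' hk'
      have h2 : k' = (conjHom K P hnorm ⟨x, hx⟩) k := Subtype.ext hk'
      rw [h2]
      exact h _ ⟨⟨x, hx⟩, rfl⟩ k hk
  have e2 : Nat.card {c : ConjClasses K // (∀ k : K, ConjClasses.mk k = c → IsConj k k⁻¹) ∧
        ∀ k : K, ConjClasses.mk k = c → ∀ x ∈ P, ∀ k' : K, (k' : Γ) = x * (k : Γ) * x⁻¹ →
          ConjClasses.mk k' = c} =
      Nat.card {c : ConjClasses K // (∀ g, ConjClasses.mk g = c → IsConj g g⁻¹) ∧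
        ∀ σ ∈ (conjHom K P hnorm).range, ∀ g, ConjClasses.mk g = c →
          ConjClasses.mk (σ g) = c} :=
    Nat.card_congr (Equiv.subtypeEquivRight (fun c => and_congr Iff.rfl (hiffc c)))
  refine ⟨by rw [e1, e2]; exact h, ?_⟩
  intro hall k hk
  -- all real classes are invariant
  have e3 : Nat.card {θ : IrrCharacter K // (∀ k : K, ((θ : K → ℂ) k).im = 0) ∧
        IsInvFun (conjHom K P hnorm).range (θ : K → ℂ)} =
      Nat.card {θ : IrrCharacter K // ∀ k : K, ((θ : K → ℂ) k).im = 0} :=
    Nat.card_congr (Equiv.subtypeEquivRight (fun θ =>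
      ⟨fun h => h.1, fun h => ⟨h, (isInvFun_conj_iff K P hnorm (θ : K → ℂ)).mpr (hall θ h)⟩⟩))
  have e4 := card_real_irr_eq (G := K)
  have hle : Nat.card {c : ConjClasses K // ∀ g, ConjClasses.mk g = c → IsConj g g⁻¹} ≤
      Nat.card {c : ConjClasses K // (∀ g, ConjClasses.mk g = c → IsConj g g⁻¹) ∧
        ∀ σ ∈ (conjHom K P hnorm).range, ∀ g, ConjClasses.mk g = c →
          ConjClasses.mk (σ g) = c} := by
    rw [← h, e3, e4]
  have hinj : Function.Injective
      (fun c : {c : ConjClasses K // (∀ g, ConjClasses.mk g = c → IsConj g g⁻¹) ∧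
        ∀ σ ∈ (conjHom K P hnorm).range, ∀ g, ConjClasses.mk g = c →
          ConjClasses.mk (σ g) = c} =>
        (⟨c.1, c.2.1⟩ : {c : ConjClasses K // ∀ g, ConjClasses.mk g = c → IsConj g g⁻¹})) := by
    intro a b hab
    have hab' : (a.1 : ConjClasses K) = b.1 :=
      congrArg (fun z : {c : ConjClasses K // ∀ g, ConjClasses.mk g = c → IsConj g g⁻¹} =>
        (z.1 : ConjClasses K)) hab
    exact Subtype.ext hab'
  have hbij := hinj.bijective_of_nat_card_le hle
  obtain ⟨⟨c', hc'real, hc'inv⟩, hc'⟩ := hbij.2 ⟨ConjClasses.mk k, (real_class_iff k).mpr hk⟩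
  have hc'' : c' = ConjClasses.mk k := congrArg Subtype.val hc'
  subst hc''
  have hC : ∀ g, g ∈ (fixedPts (conjHom K P hnorm).range).subtype.range ↔
      g ∈ fixedPts (conjHom K P hnorm).range := fun g => by rw [Subgroup.range_subtype]
  obtain ⟨c, hc⟩ := exists_fixed_in_class p (conjHom K P hnorm).range
    (fixedPts (conjHom K P hnorm).range).subtype hA hK hC (ConjClasses.mk k) hc'inv
  refine ⟨(c : K), (ConjClasses.mk_eq_mk_iff_isConj.mp hc).symm, ?_⟩
  intro x hx
  have h1 := c.2 (conjHom K P hnorm ⟨x, hx⟩) ⟨⟨x, hx⟩, rfl⟩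
  exact congrArg Subtype.val h1

end Internal

end Cfsg.Agent.Lib.helper82
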