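import Mathlib
import Cfsg.Prelude.Def_Characters
import Cfsg.Prelude.Def_Blocks
import Cfsg.Prelude.Def_CharExt
import Cfsg.Agent.Lib.helper82.RelGlaub1

/-!
# The relative Glauberman correspondence over an invariant character (helper82)

`A` a `p`-group of automorphisms of `G`, `N ⊴ G` an `A`-stable normal subgroup of index prime to
`p` and order prime to its index, `j : D →* G` injective with range `relC A N`, and `θ ∈ Irr(N)`
invariant in `G` and under `A`.

* `OverG N θ χ`, `OverD j N θ η` : `χ` (resp. `η`) restricts to a nonzero multiple of `θ`.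
* `SF_degree_modEq` : the degree congruence in a Glauberman-type relation.
* `gallagher_quot`, `isIrr_mul_quot`, `mul_quot_injective` : Gallagher through `G ⧸ N`.
* `RelCorr p A N j θ`, `rel_glauberman_invariant`.
-/

set_option autoImplicit false
set_option linter.style.haveILetI false
set_option linter.unusedSectionVars false

namespace Cfsg.Agent.Lib.helper82

open Module Cfsg
open Cfsg.Agent.Lib
open scoped ComplexConjugate

universe u

section Deg

variable {G : Type u} [Group G] [Finite G] {C : Type u} [Group C] [Fintype C]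

/-- The degree congruence in a Glauberman-type relation. -/
theorem SF_degree_modEq (p : ℕ) (j : C →* G) (χ : IrrCharacter G) (β : IrrCharacter C) (ε : ℤ)
    (hall : ∀ β' : IrrCharacter C, ∃ k : ℤ,
      classInner (fun c => (χ : G → ℂ) (j c)) (β' : C → ℂ) =
        (((p : ℤ) * k + if β' = β then ε else 0 : ℤ) : ℂ)) :
    (charDegree (χ : G → ℂ) : ℤ) ≡ ε * charDegree (β : C → ℂ) [ZMOD p] := by
  classical
  letI : Fintype (IrrCharacter C) := Fintype.ofFinite _
  choose k hk using hall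
  have hcf : IsClassFunction C (fun c => (χ : G → ℂ) (j c)) :=
    helper4.isClassFunction_of_isCharacter
      (helper4.isCharacter_comp j (helper4.isCharacter_of_isIrrCharacter χ.2))
  have hexp := helper4.classFunction_eq_sum_irr hcf
  have h1 := congrFun hexp 1
  rw [Finset.sum_apply] at h1
  have h2 : ((charDegree (χ : G → ℂ) : ℤ) : ℂ) =
      ((∑ β' : IrrCharacter C, ((p : ℤ) * k β' + if β' = β then ε else 0) *
        (charDegree (β' : C → ℂ) : ℤ) : ℤ) : ℂ) := by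
    have h3 : (χ : G → ℂ) 1 = (χ : G → ℂ) (j 1) := by rw [map_one]
    have h4 : ((charDegree (χ : G → ℂ) : ℤ) : ℂ) = (χ : G → ℂ) 1 := by
      rw [irr_one_eq χ]; norm_cast
    rw [h4, h3, h1, Int.cast_sum]
    apply Finset.sum_congr rfl
    intro β' _
    rw [Pi.smul_apply, smul_eq_mul, hk β', irr_one_eq β']
    push_cast
    rfl
  have h4 : (charDegree (χ : G → ℂ) : ℤ) =
      ∑ β' : IrrCharacter C, ((p : ℤ) * k β' + if β' = β then ε else 0) *
        (charDegree (β' : C → ℂ) : ℤ) := by exact_mod_cast h2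
  have h5 : ∑ β' : IrrCharacter C, ((p : ℤ) * k β' + if β' = β then ε else 0) *
        (charDegree (β' : C → ℂ) : ℤ) =
      (p : ℤ) * (∑ β' : IrrCharacter C, k β' * (charDegree (β' : C → ℂ) : ℤ)) +
        ε * (charDegree (β : C → ℂ) : ℤ) := by
    simp_rw [add_mul, Finset.sum_add_distrib, ite_mul, zero_mul]
    rw [Finset.sum_ite_eq' Finset.univ β (fun β' => ε * (charDegree (β' : C → ℂ) : ℤ)),
      if_pos (Finset.mem_univ _), Finset.mul_sum]
    congr 1
    apply Finset.sum_congr rfl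
    intro β' _
    ring
  rw [h4, h5]
  exact Int.modEq_iff_dvd.mpr
    (Dvd.intro (-(∑ β' : IrrCharacter C, k β' * (charDegree (β' : C → ℂ) : ℤ))) (by ring))

end Deg

section Gall

variable {G : Type u} [Group G] [Fintype G] (N : Subgroup G) [hN : N.Normal] [Fintype N]

/-- Gallagher's theorem, through the quotient group. -/
theorem gallagher_quot (χ : G → ℂ) (hχ : IsIrrCharacter G χ)
    (hχN : IsIrrCharacter N (fun n : N => χ n)) (ψ : G → ℂ) (hψ : IsIrrCharacter G ψ)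
    (e : ℂ) (he : e ≠ 0) (hψN : ∀ n : N, ψ n = e * χ n) :
    ∃ β : IrrCharacter (G ⧸ N), ψ = χ * fun g : G => (β : G ⧸ N → ℂ) (g : G ⧸ N) := by
  have hne : classInner (fun n : N => ψ n) (fun n : N => χ n) ≠ 0 := by
    have h1 : (fun n : N => ψ n) = e • (fun n : N => χ n) := by
      funext n; exact hψN n
    rw [h1, helper4.classInner_smul_left, helper4.classInner_irr_self hχN, mul_one]
    exact he
  obtain ⟨β, hβ, hβN, hψβ⟩ := helper19.gallagher N χ hχ hχN ψ hψ hne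
  obtain ⟨β', hβ', hβ'g⟩ := isIrrCharacter_deflation N hβ hβN
  refine ⟨⟨β', hβ'⟩, ?_⟩
  rw [hψβ]
  funext g
  show χ g * β g = χ g * β' (g : G ⧸ N)
  rw [hβ'g]

theorem inflation_trivial (β : G ⧸ N → ℂ) :
    ∀ x ∈ N, (fun g : G => β (g : G ⧸ N)) x = (fun g : G => β (g : G ⧸ N)) 1 := by
  intro x hx
  show β (x : G ⧸ N) = β ((1 : G) : G ⧸ N)
  rw [(QuotientGroup.eq_one_iff x).mpr hx]
  rfl

theorem inflation_coset (β : G ⧸ N → ℂ) :
    ∀ n ∈ N, ∀ g : G, (fun g : G => β (g : G ⧸ N)) (n * g) = (fun g : G => β (g : G ⧸ N)) g := by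
  intro n hn g
  show β ((n * g : G) : G ⧸ N) = β (g : G ⧸ N)
  rw [QuotientGroup.mk_mul, (QuotientGroup.eq_one_iff n).mpr hn, one_mul]

theorem isIrr_mul_quot (χ : G → ℂ) (hχ : IsIrrCharacter G χ)
    (hχN : IsIrrCharacter N (fun n : N => χ n)) (β : IrrCharacter (G ⧸ N)) :
    IsIrrCharacter G (χ * fun g : G => (β : G ⧸ N → ℂ) (g : G ⧸ N)) :=
  helper19.isIrr_mul_of_trivial N χ hχ hχN _ (isIrrCharacter_inflation N β.2)
    (inflation_trivial N _)

theorem mul_quot_apply_mem (χ : G → ℂ) (β : G ⧸ N → ℂ) (n : G) (hn : n ∈ N) :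
    (χ * fun g : G => β (g : G ⧸ N)) n = β 1 * χ n := by
  show χ n * β (n : G ⧸ N) = β 1 * χ n
  rw [(QuotientGroup.eq_one_iff n).mpr hn, mul_comm]

theorem mul_quot_injective (χ : G → ℂ) (hχ : IsIrrCharacter G χ)
    (hχN : IsIrrCharacter N (fun n : N => χ n)) (β β' : IrrCharacter (G ⧸ N))
    (h : (χ * fun g : G => (β : G ⧸ N → ℂ) (g : G ⧸ N)) =
      χ * fun g : G => (β' : G ⧸ N → ℂ) (g : G ⧸ N)) : β = β' := by
  have h1 := helper19.mul_injective_of_trivial N χ hχ hχN _ _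
    (isIrrCharacter_inflation N β.2) (inflation_trivial N _)
    (isIrrCharacter_inflation N β'.2) (inflation_trivial N _) h
  apply Subtype.ext
  funext q
  induction q using QuotientGroup.induction_on with
  | H g => exact congrFun h1 g

end Gall

section Main

variable {G : Type u} [Group G] {D : Type u} [Group D]

/-- `χ` restricts to a nonzero multiple of `θ` on `N`. -/
def OverG (N : Subgroup G) (θ : N → ℂ) (χ : G → ℂ) : Prop :=
  ∃ e : ℂ, e ≠ 0 ∧ ∀ n : N, χ n = e * θ n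

/-- `η` restricts to a nonzero multiple of `θ ∘ j` on the preimage of `N`. -/
def OverD (j : D →* G) (N : Subgroup G) (θ : N → ℂ) (η : D → ℂ) : Prop :=
  ∃ e : ℂ, e ≠ 0 ∧ ∀ (d : D) (h : j d ∈ N), η d = e * θ ⟨j d, h⟩

variable [Fintype D]

/-- The relative correspondence over an invariant `θ`. -/
def RelCorr (p : ℕ) (A : Subgroup (MulAut G)) (N : Subgroup G) (j : D →* G) (θ : N → ℂ) :
    Prop :=
  (∀ χ : IrrCharacter G, IsInvFun A (χ : G → ℂ) → OverG N θ (χ : G → ℂ) →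
    ∃ η₀ : IrrCharacter D, OverD j N θ (η₀ : D → ℂ) ∧ ∃ ε : ℤ, (ε = 1 ∨ ε = -1) ∧
      (∀ η : IrrCharacter D, OverD j N θ (η : D → ℂ) → ∃ k : ℤ,
        classInner (fun d => (χ : G → ℂ) (j d)) (η : D → ℂ) =
          (((p : ℤ) * k + if η = η₀ then ε else 0 : ℤ) : ℂ)) ∧
      (charDegree (χ : G → ℂ) : ℤ) ≡ ε * charDegree (η₀ : D → ℂ) [ZMOD p]) ∧
  (∀ χ₁ χ₂ : IrrCharacter G, IsInvFun A (χ₁ : G → ℂ) → IsInvFun A (χ₂ : G → ℂ) →
    OverG N θ (χ₁ : G → ℂ) → OverG N θ (χ₂ : G → ℂ) →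
    ∀ η : IrrCharacter D, OverD j N θ (η : D → ℂ) → GRel p j (χ₁ : G → ℂ) (η : D → ℂ) →
      GRel p j (χ₂ : G → ℂ) (η : D → ℂ) → χ₁ = χ₂) ∧
  (∀ η : IrrCharacter D, OverD j N θ (η : D → ℂ) → ∃ χ : IrrCharacter G,
    IsInvFun A (χ : G → ℂ) ∧ OverG N θ (χ : G → ℂ) ∧ GRel p j (χ : G → ℂ) (η : D → ℂ))

variable [Fintype G]

theorem rel_glauberman_invariant (p : ℕ) [hp : Fact p.Prime]
    (N : Subgroup G) [hN : N.Normal] [Fintype N]
    (A : Subgroup (MulAut G)) (hA : IsPGroup p A) (hAN : ∀ σ ∈ A, ∀ x ∈ N, σ x ∈ N)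
    (hpN : ¬ p ∣ N.index) (hNcop : (N.index).Coprime (Nat.card N))
    (j : D →* G) (hj : Function.Injective j)
    (hD : ∀ g, g ∈ j.range ↔ g ∈ relC A N)
    (θ : IrrCharacter N) (hθG : ∀ g : G, cconj N g θ.1 = θ.1)
    (hθA : IsInvFun (stabRes A N hAN).range (θ : N → ℂ)) :
    RelCorr p A N j (θ : N → ℂ) := by
  classical
  obtain ⟨θh, hθh, hθhN, hθhA⟩ := exists_inv_extension N hNcop A hAN θ hθG hθA
  have hθhc := helper4.isCharacter_of_isIrrCharacter hθh
  have hθhN' : IsIrrCharacter N (fun n : N => θh n) := by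
    have : (fun n : N => θh n) = (θ : N → ℂ) := funext hθhN
    rw [this]; exact θ.2
  letI : Fintype (N.comap j) := Fintype.ofFinite _
  letI : Fintype (G ⧸ N) := Fintype.ofFinite _
  letI : Fintype (D ⧸ N.comap j) := Fintype.ofFinite _
  have hsurjM : Function.Surjective (j.subgroupComap N) := by
    intro n
    obtain ⟨d, hd⟩ := (hD (n : G)).mpr (le_relC A N hAN n.2)
    exact ⟨⟨d, by show j d ∈ N; rw [hd]; exact n.2⟩, Subtype.ext hd⟩
  have hθtc : IsCharacter D (fun d => θh (j d)) := helper4.isCharacter_comp j hθhc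
  have hθtM : IsIrrCharacter (N.comap j) (fun m : N.comap j => θh (j (m : D))) := by
    have h1 : (fun m : N.comap j => θh (j (m : D))) =
        fun m => (θ : N → ℂ) (j.subgroupComap N m) := by
      funext m
      exact hθhN (j.subgroupComap N m)
    rw [h1]
    exact isIrrCharacter_comp_surj (j.subgroupComap N) hsurjM θ.2
  have hθt : IsIrrCharacter D (fun d => θh (j d)) :=
    isIrrCharacter_of_restrict (N.comap j) hθtc hθtM
  -- the correspondence in the quotient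
  have hA' : IsPGroup p (quotHom A N hAN).range :=
    hA.of_surjective (quotHom A N hAN).rangeRestrict (quotHom A N hAN).rangeRestrict_surjective
  have hpG' : ¬ p ∣ Nat.card (G ⧸ N) := by
    rw [← Subgroup.index_eq_card]; exact hpN
  have hcorr : GCorr p (quotHom A N hAN).range (quotMap N j) :=
    glauberman_pgroup p _ hA' hpG' (quotMap N j) (quotMap_injective N j)
      (quotMap_range A N j hAN hD)
  -- the key formula
  have hkey : ∀ (β : G ⧸ N → ℂ) (γ : D ⧸ N.comap j → ℂ),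
      classInner (fun d => (θh * fun g : G => β (g : G ⧸ N)) (j d))
        ((fun d => θh (j d)) * fun d : D => γ (d : D ⧸ N.comap j)) =
      classInner (fun x => β (quotMap N j x)) γ := by
    intro β γ
    have h1 : (fun d => (θh * fun g : G => β (g : G ⧸ N)) (j d)) =
        (fun d => θh (j d)) *
          fun d : D => (fun x => β (quotMap N j x)) (d : D ⧸ N.comap j) := by
      funext d
      rfl
    rw [h1, helper19.classInner_mul_of_trivial (N.comap j) _ hθt hθtM _ _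
      (inflation_coset (N.comap j) (fun x => β (quotMap N j x))) (inflation_coset (N.comap j) γ)]
    exact classInner_inflation (N.comap j) (fun x => β (quotMap N j x)) γ
  -- invariance
  have hinv_iff : ∀ β : IrrCharacter (G ⧸ N),
      IsInvFun A (θh * fun g : G => (β : G ⧸ N → ℂ) (g : G ⧸ N)) ↔
        IsInvFun (quotHom A N hAN).range (β : G ⧸ N → ℂ) := by
    intro β
    constructor
    · rintro h τ ⟨σ, rfl⟩ q
      have h1 : (θh * fun g : G => (β : G ⧸ N → ℂ) (quotHom A N hAN σ (g : G ⧸ N))) =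
          θh * fun g : G => (β : G ⧸ N → ℂ) (g : G ⧸ N) := by
        funext g
        have h2 := h σ σ.2 g
        show θh g * (β : G ⧸ N → ℂ) (quotHom A N hAN σ (g : G ⧸ N)) =
          θh g * (β : G ⧸ N → ℂ) (g : G ⧸ N)
        rw [quotHom_apply]
        have h4 : θh g = θh ((σ : MulAut G) g) := (hθhA σ σ.2 g).symm
        calc θh g * (β : G ⧸ N → ℂ) ((((σ : MulAut G) g : G)) : G ⧸ N)
            = θh ((σ : MulAut G) g) * (β : G ⧸ N → ℂ) ((((σ : MulAut G) g : G)) : G ⧸ N) := by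
              rw [← h4]
          _ = θh g * (β : G ⧸ N → ℂ) (g : G ⧸ N) := h2
      have h3 := mul_quot_injective N θh hθh hθhN'
        ⟨fun q => (β : G ⧸ N → ℂ) (quotHom A N hAN σ q), isIrrCharacter_comp_aut _ β.2⟩ β h1
      exact congrFun (congrArg Subtype.val h3) q
    · intro h σ hσ g
      show θh (σ g) * (β : G ⧸ N → ℂ) ((σ g : G) : G ⧸ N) = θh g * (β : G ⧸ N → ℂ) (g : G ⧸ N)
      rw [hθhA σ hσ g]
      refine congrArg _ ?_
      exact h (quotHom A N hAN ⟨σ, hσ⟩) ⟨⟨σ, hσ⟩, rfl⟩ (g : G ⧸ N)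
  -- parametrisations
  have hparG : ∀ χ : IrrCharacter G, OverG N (θ : N → ℂ) (χ : G → ℂ) →
      ∃ β : IrrCharacter (G ⧸ N), (χ : G → ℂ) = θh * fun g : G => (β : G ⧸ N → ℂ) (g : G ⧸ N) := by
    rintro χ ⟨e, he, hχe⟩
    exact gallagher_quot N θh hθh hθhN' χ χ.2 e he (fun n => by rw [hχe n, hθhN n])
  have hparD : ∀ η : IrrCharacter D, OverD j N (θ : N → ℂ) (η : D → ℂ) →
      ∃ γ : IrrCharacter (D ⧸ N.comap j),
        (η : D → ℂ) = (fun d => θh (j d)) * fun d : D => (γ : D ⧸ N.comap j → ℂ) (d : D ⧸ N.comap j) := by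
    rintro η ⟨e, he, hηe⟩
    exact gallagher_quot (N.comap j) _ hθt hθtM η η.2 e he
      (fun m => by rw [hηe m m.2, hθhN ⟨j m, m.2⟩])
  have hoverG : ∀ β : IrrCharacter (G ⧸ N),
      OverG N (θ : N → ℂ) (θh * fun g : G => (β : G ⧸ N → ℂ) (g : G ⧸ N)) := by
    intro β
    refine ⟨(β : G ⧸ N → ℂ) 1, ?_, fun n => ?_⟩
    · rw [irr_one_eq β]
      exact_mod_cast (irr_charDegree_pos β).ne'
    · rw [mul_quot_apply_mem N θh _ n n.2, hθhN n]
  have hoverD : ∀ γ : IrrCharacter (D ⧸ N.comap j), OverD j N (θ : N → ℂ)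
      ((fun d => θh (j d)) * fun d : D => (γ : D ⧸ N.comap j → ℂ) (d : D ⧸ N.comap j)) := by
    intro γ
    refine ⟨(γ : D ⧸ N.comap j → ℂ) 1, ?_, fun d h => ?_⟩
    · rw [irr_one_eq γ]
      exact_mod_cast (irr_charDegree_pos γ).ne'
    · rw [mul_quot_apply_mem (N.comap j) _ _ d h, hθhN ⟨j d, h⟩]
  have hdegG : ∀ (χ : IrrCharacter G) (β : IrrCharacter (G ⧸ N)),
      (χ : G → ℂ) = θh * (fun g : G => (β : G ⧸ N → ℂ) (g : G ⧸ N)) →
      charDegree (χ : G → ℂ) = charDegree (θ : N → ℂ) * charDegree (β : G ⧸ N → ℂ) := by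
    intro χ β h
    have h1 : ((charDegree (χ : G → ℂ) : ℕ) : ℂ) =
        ((charDegree (θ : N → ℂ) * charDegree (β : G ⧸ N → ℂ) : ℕ) : ℂ) := by
      rw [← irr_one_eq χ, h]
      push_cast
      rw [← irr_one_eq θ, ← irr_one_eq β, ← hθhN 1]
      rfl
    exact_mod_cast h1
  have hdegD : ∀ (η : IrrCharacter D) (γ : IrrCharacter (D ⧸ N.comap j)),
      (η : D → ℂ) = (fun d => θh (j d)) *
        (fun d : D => (γ : D ⧸ N.comap j → ℂ) (d : D ⧸ N.comap j)) →
      charDegree (η : D → ℂ) = charDegree (θ : N → ℂ) * charDegree (γ : D ⧸ N.comap j → ℂ) := by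
    intro η γ h
    have h1 : ((charDegree (η : D → ℂ) : ℕ) : ℂ) =
        ((charDegree (θ : N → ℂ) * charDegree (γ : D ⧸ N.comap j → ℂ) : ℕ) : ℂ) := by
      rw [← irr_one_eq η, h]
      push_cast
      rw [← irr_one_eq θ, ← irr_one_eq γ, ← hθhN 1]
      show θh (j 1) * (γ : D ⧸ N.comap j → ℂ) ((1 : D) : D ⧸ N.comap j) = _
      rw [map_one]
      rfl
    exact_mod_cast h1
  refine ⟨?_, ?_, ?_⟩
  · intro χ hχA hχo
    obtain ⟨β, hχβ⟩ := hparG χ hχo
    have hβinv : IsInvFun (quotHom A N hAN).range (β : G ⧸ N → ℂ) := by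
      rw [← hinv_iff β, ← hχβ]; exact hχA
    obtain ⟨γ₀, ε, hε, hall⟩ := hcorr.1 β hβinv
    have hη₀irr := isIrr_mul_quot (N.comap j) _ hθt hθtM γ₀
    refine ⟨⟨_, hη₀irr⟩, hoverD γ₀, ε, hε, ?_, ?_⟩
    · intro η hηo
      obtain ⟨γ, hηγ⟩ := hparD η hηo
      obtain ⟨k, hk⟩ := hall γ
      refine ⟨k, ?_⟩
      rw [hχβ, hηγ, hkey, hk]
      have hiff : (γ = γ₀) ↔ (η = ⟨_, hη₀irr⟩) := by
        constructor
        · intro h
          apply Subtype.ext
          rw [hηγ, h]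
        · intro h
          have h2 := congrArg Subtype.val h
          rw [hηγ] at h2
          exact mul_quot_injective (N.comap j) _ hθt hθtM γ γ₀ h2
      by_cases hc : γ = γ₀
      · rw [if_pos hc, if_pos (hiff.mp hc)]
      · rw [if_neg hc, if_neg (fun h => hc (hiff.mpr h))]
    · have hdeg := SF_degree_modEq p (quotMap N j) β γ₀ ε hall
      rw [hdegG χ β hχβ, hdegD ⟨_, hη₀irr⟩ γ₀ rfl]
      push_cast
      have h1 := hdeg.mul_left (charDegree (θ : N → ℂ) : ℤ)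
      have h2 : (ε * ((charDegree (θ : N → ℂ) : ℤ) * (charDegree (γ₀ : D ⧸ N.comap j → ℂ) : ℤ))) =
          (charDegree (θ : N → ℂ) : ℤ) * (ε * (charDegree (γ₀ : D ⧸ N.comap j → ℂ) : ℤ)) := by
        ring
      rw [h2]
      exact h1
  · intro χ₁ χ₂ h₁A h₂A h₁o h₂o η hηo hg₁ hg₂
    obtain ⟨β₁, hχβ₁⟩ := hparG χ₁ h₁o
    obtain ⟨β₂, hχβ₂⟩ := hparG χ₂ h₂o
    obtain ⟨γ, hηγ⟩ := hparD η hηo
    have hβ₁inv : IsInvFun (quotHom A N hAN).range (β₁ : G ⧸ N → ℂ) := by
      rw [← hinv_iff β₁, ← hχβ₁]; exact h₁A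
    have hβ₂inv : IsInvFun (quotHom A N hAN).range (β₂ : G ⧸ N → ℂ) := by
      rw [← hinv_iff β₂, ← hχβ₂]; exact h₂A
    have hg₁' : GRel p (quotMap N j) (β₁ : G ⧸ N → ℂ) (γ : D ⧸ N.comap j → ℂ) := by
      intro k hk
      apply hg₁ k
      rw [hχβ₁, hηγ, hkey]
      exact hk
    have hg₂' : GRel p (quotMap N j) (β₂ : G ⧸ N → ℂ) (γ : D ⧸ N.comap j → ℂ) := by
      intro k hk
      apply hg₂ k
      rw [hχβ₂, hηγ, hkey]
      exact hk
    have h := hcorr.2.1 β₁ β₂ hβ₁inv hβ₂inv γ hg₁' hg₂'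
    apply Subtype.ext
    rw [hχβ₁, hχβ₂, h]
  · intro η hηo
    obtain ⟨γ, hηγ⟩ := hparD η hηo
    obtain ⟨β, hβinv, hβg⟩ := hcorr.2.2 γ
    refine ⟨⟨_, isIrr_mul_quot N θh hθh hθhN' β⟩, (hinv_iff β).mpr hβinv, hoverG β, ?_⟩
    intro k hk
    apply hβg k
    rw [hηγ, hkey] at hk
    exact hk

end Main

end Cfsg.Agent.Lib.helper82
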