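import Mathlib
import Cfsg.Prelude.Def_Characters
import Cfsg.Prelude.Def_Blocks
import Cfsg.Prelude.Def_CharExt
import Cfsg.Agent.Lib.helper82.RelGlaub2
import Cfsg.Agent.Lib.helper82.CliffordCorr

/-!
# Clifford theory with a group of operators (helper82)

* `over_trans` : transitivity of "lying over" along a homomorphism.
* `exists_inv_constituent` : a `p`-group `B` of automorphisms, `N ⊴ X` of index prime to `p`
  and `B`-stable, `ξ ∈ Irr(X)` `B`-invariant: `ξ` has a `B`-invariant constituent on `N`.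
* `inertia_stable` : the inertia group of an invariant character is stable.
* `clifford_unique`, `classInner_res_ind_self`, `clifford_inv_down`, `clifford_inv_up` :
  the Clifford correspondence commutes with the action.
* `exists_relC_conj` : two invariant conjugate characters of `Q` are conjugate by an element of
  `relC A Q`.
-/

set_option autoImplicit false
set_option linter.style.haveILetI false
set_option linter.unusedSectionVars false

namespace Cfsg.Agent.Lib.helper82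

open Module Cfsg
open Cfsg.Agent.Lib
open scoped ComplexConjugate

universe u

section OverTrans

variable {D M : Type u} [Group D] [Fintype D] [Group M] [Fintype M]

/-- Transitivity of "lying over" along a homomorphism. -/
theorem over_trans (f : M →* D) {Ψ : D → ℂ} (hΨ : IsCharacter D Ψ) {η : D → ℂ}
    (hη : IsIrrCharacter D η) {φ : M → ℂ} (hφ : IsIrrCharacter M φ)
    (h1 : classInner Ψ η ≠ 0) (h2 : classInner (fun m => η (f m)) φ ≠ 0) :
    classInner (fun m => Ψ (f m)) φ ≠ 0 := by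
  classical
  letI : Fintype (IrrCharacter D) := Fintype.ofFinite _
  obtain ⟨c, hc1, hc2, hc3⟩ := exists_nat_decomp hΨ
  have hn : ∀ η' : IrrCharacter D, ∃ n : ℕ,
      classInner (fun m => (η' : D → ℂ) (f m)) φ = n := fun η' =>
    helper4.exists_nat_classInner_irr
      (helper4.isCharacter_comp f (helper4.isCharacter_of_isIrrCharacter η'.2)) hφ
  choose n hn using hn
  have h3 : classInner (fun m => Ψ (f m)) φ =
      ((∑ η' : IrrCharacter D, c η' * n η' : ℕ) : ℂ) := by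
    have h4 : (fun m => Ψ (f m)) =
        ∑ η' : IrrCharacter D, (c η' : ℂ) • (fun m => (η' : D → ℂ) (f m)) := by
      funext m
      rw [Finset.sum_apply]
      exact hc2 (f m)
    rw [h4, helper4.classInner_sum_left]
    push_cast
    apply Finset.sum_congr rfl
    intro η' _
    rw [helper4.classInner_smul_left, hn]
  rw [h3]
  have hcη : c ⟨η, hη⟩ ≠ 0 := by
    intro h0
    apply h1
    have := hc1 ⟨η, hη⟩
    rw [h0] at this
    simpa using this
  have hnη : n ⟨η, hη⟩ ≠ 0 := by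
    intro h0
    apply h2
    have := hn ⟨η, hη⟩
    rw [h0] at this
    simpa using this
  have h5 : c ⟨η, hη⟩ * n ⟨η, hη⟩ ≤ ∑ η' : IrrCharacter D, c η' * n η' :=
    Finset.single_le_sum (f := fun η' : IrrCharacter D => c η' * n η')
      (fun _ _ => Nat.zero_le _) (Finset.mem_univ _)
  have h6 : 0 < c ⟨η, hη⟩ * n ⟨η, hη⟩ :=
    Nat.mul_pos (Nat.pos_of_ne_zero hcη) (Nat.pos_of_ne_zero hnη)
  exact_mod_cast (lt_of_lt_of_le h6 h5).ne'

end OverTrans

section F1

variable {X : Type u} [Group X] [Fintype X] (N : Subgroup X) [hN : N.Normal] [Fintype N]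

/-- An invariant irreducible character has an invariant constituent on a stable normal subgroup
of index prime to `p`. -/
theorem exists_inv_constituent (p : ℕ) [hp : Fact p.Prime] (hpN : ¬ p ∣ N.index)
    (B : Subgroup (MulAut X)) (hB : IsPGroup p B) (hBN : ∀ σ ∈ B, ∀ x ∈ N, σ x ∈ N)
    (ξ : IrrCharacter X) (hξ : IsInvFun B (ξ : X → ℂ)) :
    ∃ φ : IrrCharacter N, IsInvFun (stabRes B N hBN).range (φ : N → ℂ) ∧
      classInner (fun n : N => (ξ : X → ℂ) n) (φ : N → ℂ) ≠ 0 := by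
  classical
  letI : Fintype (IrrCharacter N) := Fintype.ofFinite _
  have hBNp : IsPGroup p (stabRes B N hBN).range :=
    hB.of_surjective (stabRes B N hBN).rangeRestrict (stabRes B N hBN).rangeRestrict_surjective
  have hξchar := helper4.isCharacter_of_isIrrCharacter ξ.2
  have hξcf := helper4.isClassFunction_of_isIrrCharacter ξ.2
  obtain ⟨c, hc1, hc2, hc3⟩ := exists_nat_decomp (helper4.isCharacter_restrict N hξchar)
  have hcinv : ∀ σ ∈ (stabRes B N hBN).range, ∀ ψ : IrrCharacter N,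
      c ⟨fun n => (ψ : N → ℂ) (σ n), isIrrCharacter_comp_aut σ ψ.2⟩ = c ψ := by
    intro σ hσ ψ
    have h1 : (fun n : N => (ξ : X → ℂ) ((σ n : N) : X)) = fun n : N => (ξ : X → ℂ) n := by
      obtain ⟨τ, rfl⟩ := hσ
      funext n
      exact hξ τ τ.2 n
    have h2 := classInner_comp_equiv (σ : N ≃* N) (fun n : N => (ξ : X → ℂ) n) (ψ : N → ℂ)
    have h3 : classInner (fun n : N => (ξ : X → ℂ) n) (fun n => (ψ : N → ℂ) (σ n)) =
        classInner (fun n : N => (ξ : X → ℂ) n) (ψ : N → ℂ) := by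
      rw [← h2]
      congr 1
      exact h1.symm
    have h4 : (c ⟨fun n => (ψ : N → ℂ) (σ n), isIrrCharacter_comp_aut σ ψ.2⟩ : ℂ) = (c ψ : ℂ) := by
      rw [← hc1, ← hc1]
      exact h3
    exact_mod_cast h4
  -- a constituent
  obtain ⟨φ₀, hφ₀⟩ : ∃ φ₀ : IrrCharacter N, c φ₀ ≠ 0 := by
    by_contra hcon
    push Not at hcon
    have h1 : (ξ : X → ℂ) 1 = 0 := by
      have h2 : (∑ ψ : IrrCharacter N, c ψ * charDegree (ψ : N → ℂ)) = 0 :=
        Finset.sum_eq_zero (fun ψ _ => by rw [hcon ψ, zero_mul])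
      have h3 := hc3
      rw [h2] at h3
      simpa using h3
    rw [irr_one_eq ξ] at h1
    exact (irr_charDegree_pos ξ).ne' (by exact_mod_cast h1)
  have hφ₀' : classInner (fun n : N => (ξ : X → ℂ) n) (φ₀ : N → ℂ) ≠ 0 := by
    rw [hc1]; exact_mod_cast hφ₀
  -- the constituents form the orbit of `φ₀`
  have hfilter : Finset.univ.filter (fun φ : IrrCharacter N => c φ ≠ 0) =
      conjOrbit N (φ₀ : N → ℂ) := by
    ext φ
    rw [Finset.mem_filter, mem_conjOrbit]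
    constructor
    · rintro ⟨-, h⟩
      have h' : classInner (fun n : N => (ξ : X → ℂ) n) (φ : N → ℂ) ≠ 0 := by
        rw [hc1]; exact_mod_cast h
      exact clifford_conj N ξ.2 φ₀.2 φ.2 hφ₀' h'
    · rintro ⟨x, hx⟩
      refine ⟨Finset.mem_univ _, ?_⟩
      have h' : classInner (fun n : N => (ξ : X → ℂ) n) (φ : N → ℂ) ≠ 0 := by
        rw [hx, classInner_restrict_cconj N hξcf]; exact hφ₀'
      rw [hc1] at h'
      exact_mod_cast h'
  have hcard : ∑ φ : IrrCharacter N, (if c φ ≠ 0 then 1 else 0) =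
      (inertia N (φ₀ : N → ℂ)).index := by
    rw [← card_conjOrbit N φ₀.2, ← hfilter, Finset.card_filter]
  have hnd : ¬ p ∣ (inertia N (φ₀ : N → ℂ)).index := fun h =>
    hpN (h.trans (Subgroup.index_dvd_of_le
      (le_inertia N (helper4.isClassFunction_of_isIrrCharacter φ₀.2))))
  have hmod := sum_modEq_sum_inv p (stabRes B N hBN).range hBNp
    (fun φ => if c φ ≠ 0 then 1 else 0) (fun σ hσ φ => by rw [hcinv σ hσ φ])
  by_contra hcon
  push Not at hcon
  have h0 : ∑ φ : IrrCharacter N,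
      (if IsInvFun (stabRes B N hBN).range (φ : N → ℂ) then (if c φ ≠ 0 then 1 else 0) else 0) =
        0 := by
    apply Finset.sum_eq_zero
    intro φ _
    split_ifs with h1 h2
    · exfalso
      have h3 := hcon φ h1
      rw [hc1] at h3
      exact h2 (by exact_mod_cast h3)
    · rfl
    · rfl
  rw [h0, hcard] at hmod
  exact hnd (Nat.modEq_zero_iff_dvd.mp hmod)

end F1

section Stable

variable {K : Type u} [Group K] (Q : Subgroup K) [hQ : Q.Normal]

/-- The inertia group of an invariant function is stable. -/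
theorem inertia_stable (A : Subgroup (MulAut K)) (hAQ : ∀ σ ∈ A, ∀ x ∈ Q, σ x ∈ Q)
    (θ : Q → ℂ) (hθ : IsInvFun (stabRes A Q hAQ).range θ) :
    ∀ σ ∈ A, ∀ x ∈ inertia Q θ, σ x ∈ inertia Q θ := by
  intro σ hσ x hx
  rw [mem_inertia_iff] at hx ⊢
  intro n
  have hn' : (σ⁻¹ : MulAut K) (n : K) ∈ Q := hAQ _ (inv_mem hσ) n n.2
  have h1 := hx ⟨_, hn'⟩
  have h2 := hθ (stabRes A Q hAQ ⟨σ, hσ⟩) ⟨⟨σ, hσ⟩, rfl⟩
    ⟨x * (σ⁻¹ : MulAut K) (n : K) * x⁻¹, hQ.conj_mem _ hn' x⟩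
  have h3 := hθ (stabRes A Q hAQ ⟨σ, hσ⟩) ⟨⟨σ, hσ⟩, rfl⟩ ⟨_, hn'⟩
  have e1 : (stabRes A Q hAQ ⟨σ, hσ⟩) ⟨x * (σ⁻¹ : MulAut K) (n : K) * x⁻¹,
      hQ.conj_mem _ hn' x⟩ = ⟨σ x * n * (σ x)⁻¹, hQ.conj_mem _ n.2 _⟩ := by
    apply Subtype.ext
    simp [stabRes_apply]
  have e2 : (stabRes A Q hAQ ⟨σ, hσ⟩) ⟨(σ⁻¹ : MulAut K) (n : K), hn'⟩ = n := by
    apply Subtype.ext
    simp [stabRes_apply]
  rw [e1] at h2
  rw [e2] at h3
  rw [h2, h1, ← h3]

end Stable

section CU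

variable {G : Type u} [Group G] [Fintype G] (N : Subgroup G) [hN : N.Normal] [Fintype N]
  (T : Subgroup G) [Fintype T]

/-- Uniqueness in the Clifford correspondence. -/
theorem clifford_unique (hNT : N ≤ T) {θ : N → ℂ} (hθ : IsIrrCharacter N θ)
    (hT : T = inertia N θ) {χ : G → ℂ} (hχ : IsIrrCharacter G χ) {ψ : T → ℂ}
    (hψ : IsIrrCharacter T ψ) (hψθ : classInner (fun n : N => ψ ⟨n, hNT n.2⟩) θ ≠ 0)
    (ha : classInner (fun t : T => χ t) ψ ≠ 0) : indFun T ψ = χ := by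
  obtain ⟨hirr, -⟩ := clifford_corr_irr N T hNT hθ hT hψ hψθ
  have hχcf := helper4.isClassFunction_of_isIrrCharacter hχ
  by_contra hne
  have h2 := helper4.classInner_irr_ne hirr hχ hne
  rw [helper4.frobenius_reciprocity T ψ hχcf] at h2
  apply ha
  rw [← helper4.classInner_conj_symm, h2]
  simp

omit hN [Fintype N] in
/-- The multiplicity of `ψ` in the restriction of an irreducible `ψ^G`. -/
theorem classInner_res_ind_self {ψ : T → ℂ} (hirr : IsIrrCharacter G (indFun T ψ)) :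
    classInner (fun t : T => indFun T ψ t) ψ = 1 := by
  have hχcf := helper4.isClassFunction_of_isIrrCharacter hirr
  rw [← helper4.classInner_conj_symm, ← helper4.frobenius_reciprocity T ψ hχcf,
    helper4.classInner_irr_self hirr]
  simp

end CU

section Equivariance

variable {K : Type u} [Group K] [Fintype K] (Q : Subgroup K) [hQ : Q.Normal] [Fintype Q]

/-- The Clifford correspondent of an invariant character is invariant. -/
theorem clifford_inv_down (A : Subgroup (MulAut K)) (hAQ : ∀ σ ∈ A, ∀ x ∈ Q, σ x ∈ Q)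
    (θ : IrrCharacter Q) (hθA : IsInvFun (stabRes A Q hAQ).range (θ : Q → ℂ))
    [Fintype (inertia Q (θ : Q → ℂ))] (hQT : Q ≤ inertia Q (θ : Q → ℂ))
    (hAT : ∀ σ ∈ A, ∀ x ∈ inertia Q (θ : Q → ℂ), σ x ∈ inertia Q (θ : Q → ℂ))
    (χ : IrrCharacter K) (hχA : IsInvFun A (χ : K → ℂ))
    (hχθ : classInner (fun n : Q => (χ : K → ℂ) n) (θ : Q → ℂ) ≠ 0) :
    ∃ ψ : IrrCharacter (inertia Q (θ : Q → ℂ)),
      indFun (inertia Q (θ : Q → ℂ)) (ψ : inertia Q (θ : Q → ℂ) → ℂ) = (χ : K → ℂ) ∧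
      classInner (fun n : Q => (ψ : inertia Q (θ : Q → ℂ) → ℂ) ⟨n, hQT n.2⟩) (θ : Q → ℂ) ≠ 0 ∧
      IsInvFun (stabRes A (inertia Q (θ : Q → ℂ)) hAT).range
        (ψ : inertia Q (θ : Q → ℂ) → ℂ) := by
  obtain ⟨ψ, hψ, hind, hmult⟩ :=
    clifford_corr_surj Q (inertia Q (θ : Q → ℂ)) hQT θ.2 rfl χ.2 hχθ
  have hψθ : classInner (fun n : Q => ψ ⟨n, hQT n.2⟩) (θ : Q → ℂ) ≠ 0 := by
    rw [hmult]; exact hχθ
  refine ⟨⟨ψ, hψ⟩, hind, hψθ, ?_⟩
  rintro τ ⟨σ, rfl⟩ t
  have hψσ : IsIrrCharacter (inertia Q (θ : Q → ℂ))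
      (fun t => ψ ((stabRes A (inertia Q (θ : Q → ℂ)) hAT σ) t)) :=
    isIrrCharacter_comp_aut (stabRes A (inertia Q (θ : Q → ℂ)) hAT σ) hψ
  have hov : classInner
      (fun n : Q => ψ ((stabRes A (inertia Q (θ : Q → ℂ)) hAT σ) ⟨n, hQT n.2⟩))
      (θ : Q → ℂ) ≠ 0 := by
    have h1 := classInner_comp_equiv (stabRes A Q hAQ σ : Q ≃* Q)
      (fun n : Q => ψ ⟨n, hQT n.2⟩) (θ : Q → ℂ)
    have h2 : (fun n : Q => (θ : Q → ℂ) ((stabRes A Q hAQ σ : Q ≃* Q) n)) = (θ : Q → ℂ) :=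
      funext (fun n => hθA _ ⟨σ, rfl⟩ n)
    rw [h2] at h1
    have h3 : (fun n : Q => ψ ((stabRes A (inertia Q (θ : Q → ℂ)) hAT σ) ⟨n, hQT n.2⟩)) =
        fun n : Q => ψ ⟨((stabRes A Q hAQ σ : Q ≃* Q) n : Q),
          hQT ((stabRes A Q hAQ σ : Q ≃* Q) n).2⟩ := by
      funext n
      rfl
    rw [h3, h1]
    exact hψθ
  have ha : classInner (fun t : inertia Q (θ : Q → ℂ) => (χ : K → ℂ) t)
      (fun t => ψ ((stabRes A (inertia Q (θ : Q → ℂ)) hAT σ) t)) ≠ 0 := by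
    have h1 := classInner_comp_equiv
      (stabRes A (inertia Q (θ : Q → ℂ)) hAT σ : inertia Q (θ : Q → ℂ) ≃* inertia Q (θ : Q → ℂ))
      (fun t : inertia Q (θ : Q → ℂ) => (χ : K → ℂ) t) ψ
    have h2 : (fun t : inertia Q (θ : Q → ℂ) => (χ : K → ℂ)
        (((stabRes A (inertia Q (θ : Q → ℂ)) hAT σ :
          inertia Q (θ : Q → ℂ) ≃* inertia Q (θ : Q → ℂ)) t : inertia Q (θ : Q → ℂ)) : K)) =
        fun t : inertia Q (θ : Q → ℂ) => (χ : K → ℂ) t :=
      funext (fun t => hχA σ σ.2 t)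
    rw [h2] at h1
    rw [h1, ← hind, classInner_res_ind_self _ (hind ▸ χ.2)]
    exact one_ne_zero
  have h5 := clifford_unique Q _ hQT θ.2 rfl χ.2 hψσ hov ha
  have h6 := clifford_corr_inj Q _ hQT θ.2 rfl hψσ hψ hov hψθ (h5.trans hind.symm)
  exact congrFun h6 t

/-- The character induced from an invariant character of the inertia group is invariant. -/
theorem clifford_inv_up (A : Subgroup (MulAut K)) (θ : IrrCharacter Q)
    [Fintype (inertia Q (θ : Q → ℂ))] (hQT : Q ≤ inertia Q (θ : Q → ℂ))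
    (hAT : ∀ σ ∈ A, ∀ x ∈ inertia Q (θ : Q → ℂ), σ x ∈ inertia Q (θ : Q → ℂ))
    (ψ : IrrCharacter (inertia Q (θ : Q → ℂ)))
    (hψθ : classInner (fun n : Q => (ψ : inertia Q (θ : Q → ℂ) → ℂ) ⟨n, hQT n.2⟩)
      (θ : Q → ℂ) ≠ 0)
    (hψA : IsInvFun (stabRes A (inertia Q (θ : Q → ℂ)) hAT).range
      (ψ : inertia Q (θ : Q → ℂ) → ℂ)) :
    IsInvFun A (indFun (inertia Q (θ : Q → ℂ)) (ψ : inertia Q (θ : Q → ℂ) → ℂ)) := by
  obtain ⟨hχirr, -⟩ := clifford_corr_irr Q _ hQT θ.2 rfl ψ.2 hψθ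
  intro σ hσ g
  have hχσ : IsIrrCharacter K
      (fun g => indFun (inertia Q (θ : Q → ℂ)) (ψ : inertia Q (θ : Q → ℂ) → ℂ) (σ g)) :=
    isIrrCharacter_comp_aut σ hχirr
  have ha : classInner (fun t : inertia Q (θ : Q → ℂ) =>
      indFun (inertia Q (θ : Q → ℂ)) (ψ : inertia Q (θ : Q → ℂ) → ℂ) (σ t))
      (ψ : inertia Q (θ : Q → ℂ) → ℂ) ≠ 0 := by
    have h1 := classInner_comp_equiv
      (stabRes A (inertia Q (θ : Q → ℂ)) hAT ⟨σ, hσ⟩ :
        inertia Q (θ : Q → ℂ) ≃* inertia Q (θ : Q → ℂ))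
      (fun t : inertia Q (θ : Q → ℂ) =>
        indFun (inertia Q (θ : Q → ℂ)) (ψ : inertia Q (θ : Q → ℂ) → ℂ) t)
      (ψ : inertia Q (θ : Q → ℂ) → ℂ)
    have h2 : (fun t : inertia Q (θ : Q → ℂ) => (ψ : inertia Q (θ : Q → ℂ) → ℂ)
        ((stabRes A (inertia Q (θ : Q → ℂ)) hAT ⟨σ, hσ⟩ :
          inertia Q (θ : Q → ℂ) ≃* inertia Q (θ : Q → ℂ)) t)) =
        (ψ : inertia Q (θ : Q → ℂ) → ℂ) :=
      funext (fun t => hψA _ ⟨⟨σ, hσ⟩, rfl⟩ t)
    rw [h2] at h1
    have h3 : classInner (fun t : inertia Q (θ : Q → ℂ) =>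
        indFun (inertia Q (θ : Q → ℂ)) (ψ : inertia Q (θ : Q → ℂ) → ℂ) (σ t))
        (ψ : inertia Q (θ : Q → ℂ) → ℂ) = 1 := by
      rw [← classInner_res_ind_self _ hχirr, ← h1]
      rfl
    rw [h3]
    exact one_ne_zero
  have h5 := clifford_unique Q _ hQT θ.2 rfl hχσ ψ.2 hψθ ha
  exact (congrFun h5 g).symm

end Equivariance

end Cfsg.Agent.Lib.helper82
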