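import Mathlib
import Cfsg.Prelude.Def_Characters
import Cfsg.Prelude.Def_Blocks
import Cfsg.Prelude.Def_CharExt
import Cfsg.Agent.Lib.helper82.RelGlaub3

/-!
# The relative Glauberman correspondence: reduction to the inertia groups (helper82)

`K` a finite group, `Q ⊴ K` of index prime to `p`, `A` a `p`-group of automorphisms of `K`
stabilising `Q`, `i : C →* K` injective with range `relC A Q`.

* `exists_relC_conj` : invariant conjugate characters of `Q` are conjugate under `relC A Q`.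
* `pullFun Q i θ`, `inertia_comap`, `inertiaHom`.
* `mult_identity` : multiplicities through the Clifford correspondences in `K` and in `C`.
* `relcorr_inertia` : the correspondence between the inertia groups.
* `overG_iff`, `overD_iff`.
-/

set_option autoImplicit false
set_option linter.style.haveILetI false
set_option linter.unusedSectionVars false

namespace Cfsg.Agent.Lib.helper82

open Module Cfsg
open Cfsg.Agent.Lib
open scoped ComplexConjugate

universe u

section F2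

variable {K : Type u} [Group K] [Finite K] (Q : Subgroup K) [hQ : Q.Normal]

/-- Two invariant conjugate functions on `Q` are conjugate by an element of `relC A Q`. -/
theorem exists_relC_conj (p : ℕ) [hp : Fact p.Prime] (hQi : ¬ p ∣ Q.index)
    (A : Subgroup (MulAut K)) (hA : IsPGroup p A) (hAQ : ∀ σ ∈ A, ∀ x ∈ Q, σ x ∈ Q)
    (θ : Q → ℂ) (hθcf : IsClassFunction Q θ) (hθ : IsInvFun (stabRes A Q hAQ).range θ) (x : K)
    (hx : IsInvFun (stabRes A Q hAQ).range (cconj Q x θ)) :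
    ∃ y ∈ relC A Q, cconj Q y θ = cconj Q x θ := by
  classical
  have hQT : Q ≤ inertia Q θ := le_inertia Q hθcf
  have hAT := inertia_stable Q A hAQ θ hθ
  have hstep1 : ∀ σ ∈ A, x⁻¹ * σ x ∈ inertia Q θ := by
    intro σ hσ
    rw [← cconj_eq_cconj_iff]
    funext n
    have hn' : (σ⁻¹ : MulAut K) (n : K) ∈ Q := hAQ _ (inv_mem hσ) n n.2
    rw [cconj_apply, cconj_apply]
    have hmem : x⁻¹ * (σ⁻¹ : MulAut K) (n : K) * x ∈ Q := by
      have := hQ.conj_mem _ hn' x⁻¹
      rwa [inv_inv] at this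
    have h1 := hθ (stabRes A Q hAQ ⟨σ, hσ⟩) ⟨⟨σ, hσ⟩, rfl⟩
      ⟨x⁻¹ * (σ⁻¹ : MulAut K) (n : K) * x, hmem⟩
    have hmem2 : (σ x)⁻¹ * (n : K) * σ x ∈ Q := by
      have := hQ.conj_mem _ n.2 (σ x)⁻¹
      rwa [inv_inv] at this
    have e1 : (stabRes A Q hAQ ⟨σ, hσ⟩) ⟨x⁻¹ * (σ⁻¹ : MulAut K) (n : K) * x, hmem⟩ =
        ⟨(σ x)⁻¹ * n * σ x, hmem2⟩ := by
      apply Subtype.ext
      simp [stabRes_apply]
    rw [e1] at h1
    rw [h1]
    have h2 := hx (stabRes A Q hAQ ⟨σ, hσ⟩) ⟨⟨σ, hσ⟩, rfl⟩ ⟨_, hn'⟩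
    have e2 : (stabRes A Q hAQ ⟨σ, hσ⟩) ⟨(σ⁻¹ : MulAut K) (n : K), hn'⟩ = n := by
      apply Subtype.ext
      simp [stabRes_apply]
    rw [e2, cconj_apply, cconj_apply] at h2
    exact h2.symm
  -- the action on the image of the coset `x T` in `K ⧸ Q`
  let T' : Subgroup (K ⧸ Q) := (inertia Q θ).map (QuotientGroup.mk' Q)
  let Ω : Type u := {q : K ⧸ Q // ((x : K ⧸ Q))⁻¹ * q ∈ T'}
  have hstab : ∀ (σ : A) (q : K ⧸ Q), ((x : K ⧸ Q))⁻¹ * q ∈ T' →
      ((x : K ⧸ Q))⁻¹ * quotHom A Q hAQ σ q ∈ T' := by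
    intro σ q hq
    obtain ⟨t, ht, hteq⟩ := hq
    have hq' : q = (x : K ⧸ Q) * (t : K ⧸ Q) := by
      have h1 : (t : K ⧸ Q) = ((x : K ⧸ Q))⁻¹ * q := hteq
      rw [h1]; group
    rw [hq', map_mul, quotHom_apply, quotHom_apply]
    refine ⟨x⁻¹ * (σ : MulAut K) x * (σ : MulAut K) t,
      (inertia Q θ).mul_mem (hstep1 σ σ.2) (hAT σ σ.2 t ht), ?_⟩
    simp [mul_assoc]
  letI : MulAction A Ω :=
    { smul := fun σ q => ⟨quotHom A Q hAQ σ q.1, hstab σ q.1 q.2⟩
      one_smul := fun q => Subtype.ext (by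
        show quotHom A Q hAQ 1 q.1 = q.1
        rw [map_one]; rfl)
      mul_smul := fun σ τ q => Subtype.ext (by
        show quotHom A Q hAQ (σ * τ) q.1 = quotHom A Q hAQ σ (quotHom A Q hAQ τ q.1)
        rw [map_mul]; rfl) }
  have hsmul : ∀ (σ : A) (q : Ω), (σ • q : Ω).1 = quotHom A Q hAQ σ q.1 := fun _ _ => rfl
  have hcard : Nat.card Ω = Nat.card T' := by
    apply Nat.card_congr
    exact
      { toFun := fun q => ⟨((x : K ⧸ Q))⁻¹ * q.1, q.2⟩
        invFun := fun r => ⟨(x : K ⧸ Q) * r.1, by simp⟩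
        left_inv := fun q => Subtype.ext (by simp)
        right_inv := fun r => Subtype.ext (by simp) }
  have hnd : ¬ p ∣ Nat.card Ω := by
    rw [hcard]
    intro h
    apply hQi
    rw [Subgroup.index_eq_card]
    exact h.trans (Subgroup.card_subgroup_dvd_card T')
  obtain ⟨q, hq⟩ := hA.nonempty_fixed_point_of_prime_not_dvd_card Ω hnd
  obtain ⟨y, hy⟩ := QuotientGroup.mk_surjective q.1
  refine ⟨y, ?_, ?_⟩
  · rw [← mk_mem_fixedPts_quotHom A Q hAQ]
    rintro τ ⟨σ, rfl⟩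
    have h1 := congrArg Subtype.val (hq σ)
    rw [hsmul] at h1
    rw [hy]
    exact h1
  · rw [cconj_eq_cconj_iff]
    have h1 := q.2
    rw [← hy] at h1
    obtain ⟨t, ht, hteq⟩ := h1
    have h2 : (t : K ⧸ Q) = ((x⁻¹ * y : K) : K ⧸ Q) := by
      have h3 : (t : K ⧸ Q) = ((x : K ⧸ Q))⁻¹ * (y : K ⧸ Q) := hteq
      rw [h3]; rfl
    have h3 : t⁻¹ * (x⁻¹ * y) ∈ Q := QuotientGroup.eq.mp h2
    have h4 : x⁻¹ * y = t * (t⁻¹ * (x⁻¹ * y)) := by group
    rw [h4]
    exact (inertia Q θ).mul_mem ht (hQT h3)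

end F2

section Pull

variable {K : Type u} [Group K] (Q : Subgroup K) {C : Type u} [Group C] (i : C →* K)

/-- A function on `Q` transported to the preimage of `Q`. -/
def pullFun (θ : Q → ℂ) : Q.comap i → ℂ := fun m => θ ⟨i m, m.2⟩

theorem pullFun_apply (θ : Q → ℂ) (m : Q.comap i) : pullFun Q i θ m = θ ⟨i m, m.2⟩ := rfl

theorem subgroupComap_surjective_of_le (hQr : Q ≤ i.range) :
    Function.Surjective (i.subgroupComap Q) := by
  intro n
  obtain ⟨c, hc⟩ := hQr n.2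
  exact ⟨⟨c, by show i c ∈ Q; rw [hc]; exact n.2⟩, Subtype.ext hc⟩

theorem isIrrCharacter_pullFun (hQr : Q ≤ i.range) {θ : Q → ℂ} (hθ : IsIrrCharacter Q θ) :
    IsIrrCharacter (Q.comap i) (pullFun Q i θ) :=
  isIrrCharacter_comp_surj (i.subgroupComap Q) (subgroupComap_surjective_of_le Q i hQr) hθ

theorem classInner_pullFun [Fintype Q] [Fintype (Q.comap i)] (hi : Function.Injective i)
    (hQr : Q ≤ i.range) (α β : Q → ℂ) :
    classInner (pullFun Q i α) (pullFun Q i β) = classInner α β := by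
  have hbij : Function.Bijective (i.subgroupComap Q) :=
    ⟨fun a b h => Subtype.ext (hi (congrArg Subtype.val h)),
      subgroupComap_surjective_of_le Q i hQr⟩
  exact classInner_comp_equiv (MulEquiv.ofBijective (i.subgroupComap Q) hbij) α β

variable [hQ : Q.Normal]

theorem inertia_comap (hQr : Q ≤ i.range) (θ : Q → ℂ) (c : C) :
    c ∈ inertia (Q.comap i) (pullFun Q i θ) ↔ i c ∈ inertia Q θ := by
  rw [mem_inertia_iff, mem_inertia_iff]
  constructor
  · intro h n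
    obtain ⟨m, hm⟩ := hQr n.2
    have hmQ : m ∈ Q.comap i := by show i m ∈ Q; rw [hm]; exact n.2
    have h1 := h ⟨m, hmQ⟩
    have hmem : i (c * m * c⁻¹) ∈ Q := by
      rw [map_mul, map_mul, map_inv, hm]; exact hQ.conj_mem _ n.2 _
    have h2 : θ ⟨i (c * m * c⁻¹), hmem⟩ = θ ⟨i m, hmQ⟩ := h1
    have e1 : (⟨i c * n * (i c)⁻¹, hQ.conj_mem _ n.2 _⟩ : Q) = ⟨i (c * m * c⁻¹), hmem⟩ := by
      apply Subtype.ext
      simp [hm]
    have e2 : n = ⟨i m, hmQ⟩ := Subtype.ext hm.symm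
    rw [e1, h2, ← e2]
  · intro h m
    have h1 := h ⟨i m, m.2⟩
    show θ ⟨i (c * m * c⁻¹), _⟩ = θ ⟨i m, _⟩
    rw [← h1]
    congr 1
    apply Subtype.ext
    simp

/-- The homomorphism between the inertia groups induced by `i`. -/
def inertiaHom (hQr : Q ≤ i.range) (θ : Q → ℂ) :
    inertia (Q.comap i) (pullFun Q i θ) →* inertia Q θ where
  toFun d := ⟨i (d : C), (inertia_comap Q i hQr θ d).mp d.2⟩
  map_one' := Subtype.ext (map_one i)
  map_mul' a b := Subtype.ext (map_mul i (a : C) (b : C))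

theorem inertiaHom_apply (hQr : Q ≤ i.range) (θ : Q → ℂ)
    (d : inertia (Q.comap i) (pullFun Q i θ)) :
    ((inertiaHom Q i hQr θ d : inertia Q θ) : K) = i (d : C) := rfl

theorem inertiaHom_injective (hi : Function.Injective i) (hQr : Q ≤ i.range) (θ : Q → ℂ) :
    Function.Injective (inertiaHom Q i hQr θ) := by
  intro a b h
  apply Subtype.ext
  apply hi
  exact congrArg Subtype.val h

end Pull

section MI

variable {K : Type u} [Group K] [Fintype K] (Q : Subgroup K) [hQ : Q.Normal] [Fintype Q]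
  {C : Type u} [Group C] [Fintype C] (i : C →* K) [Fintype (Q.comap i)] (θ : IrrCharacter Q)
  [Fintype (inertia Q (θ : Q → ℂ))] [Fintype (inertia (Q.comap i) (pullFun Q i (θ : Q → ℂ)))]

local notation "TK" => inertia Q (θ : Q → ℂ)
local notation "θC" => pullFun Q i (θ : Q → ℂ)
local notation "TC" => inertia (Q.comap i) (pullFun Q i (θ : Q → ℂ))

/-- The multiplicity identity through the two Clifford correspondences. -/
theorem mult_identity (hi : Function.Injective i) (hQr : Q ≤ i.range)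
    (hQT : Q ≤ TK) (hQTC : Q.comap i ≤ TC)
    {ψ : TK → ℂ} (hψ : IsIrrCharacter TK ψ)
    (hψθ : classInner (fun n : Q => ψ ⟨n, hQT n.2⟩) (θ : Q → ℂ) ≠ 0)
    {η : TC → ℂ} (hη : IsIrrCharacter TC η)
    (hηθ : classInner (fun m : Q.comap i => η ⟨m, hQTC m.2⟩) θC ≠ 0) :
    classInner (fun c => indFun TK ψ (i c)) (indFun TC η) =
      classInner (fun d => ψ (inertiaHom Q i hQr (θ : Q → ℂ) d)) η := by
  classical
  letI : Fintype (IrrCharacter TK) := Fintype.ofFinite _
  have hθC : IsIrrCharacter (Q.comap i) θC := isIrrCharacter_pullFun Q i hQr θ.2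
  obtain ⟨hχirr, -⟩ := clifford_corr_irr Q TK hQT θ.2 rfl hψ hψθ
  have hχcf : IsClassFunction K (indFun TK ψ) := helper4.isClassFunction_indFun _ ψ
  have hχc := helper4.isCharacter_of_isIrrCharacter hχirr
  have hcfC : IsClassFunction C (fun c => indFun TK ψ (i c)) :=
    helper4.isClassFunction_of_isCharacter (helper4.isCharacter_comp i hχc)
  have h1 : classInner (fun c => indFun TK ψ (i c)) (indFun TC η) =
      classInner (fun d : TC => indFun TK ψ (i d)) η := by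
    rw [← helper4.classInner_conj_symm, helper4.frobenius_reciprocity _ η hcfC,
      helper4.classInner_conj_symm]
  rw [h1]
  have hexp := helper4.classFunction_eq_sum_irr (helper4.isClassFunction_restrict TK hχcf)
  have h2 : (fun d : TC => indFun TK ψ (i d)) =
      ∑ ψ' : IrrCharacter TK,
        classInner (fun t : TK => indFun TK ψ t) (ψ' : TK → ℂ) •
          (fun d => (ψ' : TK → ℂ) (inertiaHom Q i hQr (θ : Q → ℂ) d)) := by
    funext d
    have h3 := congrFun hexp (inertiaHom Q i hQr (θ : Q → ℂ) d)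
    rw [Finset.sum_apply] at h3 ⊢
    exact h3
  rw [h2, helper4.classInner_sum_left, Finset.sum_eq_single ⟨ψ, hψ⟩]
  · rw [helper4.classInner_smul_left, classInner_res_ind_self _ hχirr, one_mul]
  · intro ψ' _ hne
    rw [helper4.classInner_smul_left]
    by_contra hcon
    have ha := left_ne_zero_of_mul hcon
    have hb := right_ne_zero_of_mul hcon
    have hov := over_trans (Subgroup.inclusion hQTC)
      (helper4.isCharacter_comp (inertiaHom Q i hQr (θ : Q → ℂ))
        (helper4.isCharacter_of_isIrrCharacter ψ'.2)) hη hθC hb hηθ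
    have hov' : classInner (fun n : Q => (ψ' : TK → ℂ) ⟨n, hQT n.2⟩) (θ : Q → ℂ) ≠ 0 := by
      rw [← classInner_pullFun Q i hi hQr]
      exact hov
    have h5 := clifford_unique Q _ hQT θ.2 rfl hχirr ψ'.2 hov' ha
    have h6 := clifford_corr_inj Q _ hQT θ.2 rfl ψ'.2 hψ hov' hψθ h5
    exact hne (Subtype.ext h6)
  · intro h
    exact absurd (Finset.mem_univ _) h

/-- The correspondence between the inertia groups. -/
theorem relcorr_inertia (p : ℕ) [hp : Fact p.Prime] (hQp : IsPGroup p Q) (hQi : ¬ p ∣ Q.index)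
    (A : Subgroup (MulAut K)) (hA : IsPGroup p A) (hAQ : ∀ σ ∈ A, ∀ x ∈ Q, σ x ∈ Q)
    (hi : Function.Injective i) (hC : ∀ k, k ∈ i.range ↔ k ∈ relC A Q) (hQr : Q ≤ i.range)
    (hθA : IsInvFun (stabRes A Q hAQ).range (θ : Q → ℂ))
    (hQT : Q ≤ TK) (hAT : ∀ σ ∈ A, ∀ x ∈ TK, σ x ∈ TK) :
    RelCorr p (stabRes A TK hAT).range (Q.subgroupOf TK) (inertiaHom Q i hQr (θ : Q → ℂ))
      (subRes Q TK (θ : Q → ℂ)) := by
  classical
  letI : Fintype (Q.subgroupOf TK) := Fintype.ofFinite _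
  have hATp : IsPGroup p (stabRes A TK hAT).range :=
    hA.of_surjective (stabRes A TK hAT).rangeRestrict (stabRes A TK hAT).rangeRestrict_surjective
  have hAN : ∀ τ ∈ (stabRes A TK hAT).range, ∀ x ∈ Q.subgroupOf TK, τ x ∈ Q.subgroupOf TK := by
    rintro τ ⟨σ, rfl⟩ x hx
    rw [Subgroup.mem_subgroupOf] at hx ⊢
    exact hAQ σ σ.2 _ hx
  have hpN : ¬ p ∣ (Q.subgroupOf TK).index := by
    intro h
    apply hQi
    exact h.trans (Subgroup.relIndex_dvd_index_of_normal Q TK)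
  have hcardN : Nat.card (Q.subgroupOf TK) = Nat.card Q :=
    Nat.card_congr (Subgroup.subgroupOfEquivOfLe hQT).toEquiv
  have hNcop : ((Q.subgroupOf TK).index).Coprime (Nat.card (Q.subgroupOf TK)) := by
    rw [hcardN]
    obtain ⟨n, hn⟩ := IsPGroup.iff_card.mp hQp
    rw [hn]
    exact Nat.Coprime.pow_right n ((Nat.Prime.coprime_iff_not_dvd hp.out).mpr hpN).symm
  have hD : ∀ t : TK, t ∈ (inertiaHom Q i hQr (θ : Q → ℂ)).range ↔
      t ∈ relC (stabRes A TK hAT).range (Q.subgroupOf TK) := by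
    intro t
    constructor
    · rintro ⟨d, rfl⟩ τ ⟨σ, rfl⟩
      rw [Subgroup.mem_subgroupOf]
      have h1 : i (d : C) ∈ relC A Q := (hC _).mp ⟨d, rfl⟩
      exact h1 σ σ.2
    · intro h
      have h1 : (t : K) ∈ relC A Q := by
        intro σ hσ
        have h2 := h (stabRes A TK hAT ⟨σ, hσ⟩) ⟨⟨σ, hσ⟩, rfl⟩
        rw [Subgroup.mem_subgroupOf] at h2
        exact h2
      obtain ⟨c, hc⟩ := (hC _).mpr h1
      have hcT : c ∈ TC := (inertia_comap Q i hQr (θ : Q → ℂ) c).mpr (by rw [hc]; exact t.2)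
      exact ⟨⟨c, hcT⟩, Subtype.ext hc⟩
  have hθG : ∀ t : TK, cconj (Q.subgroupOf TK) t (subRes Q TK (θ : Q → ℂ)) =
      subRes Q TK (θ : Q → ℂ) := by
    intro t
    rw [cconj_subRes, (t.2 : cconj Q (t : K) (θ : Q → ℂ) = (θ : Q → ℂ))]
  have hθA' : IsInvFun (stabRes (stabRes A TK hAT).range (Q.subgroupOf TK) hAN).range
      (subRes Q TK (θ : Q → ℂ)) := by
    rintro τ' ⟨⟨τ, ⟨σ, rfl⟩⟩, rfl⟩ n
    exact hθA (stabRes A Q hAQ σ) ⟨σ, rfl⟩ ⟨((n : TK) : K), Subgroup.mem_subgroupOf.mp n.2⟩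
  exact rel_glauberman_invariant p (Q.subgroupOf TK) (stabRes A TK hAT).range hATp hAN hpN hNcop
    (inertiaHom Q i hQr (θ : Q → ℂ)) (inertiaHom_injective Q i hi hQr (θ : Q → ℂ)) hD
    ⟨subRes Q TK (θ : Q → ℂ), isIrrCharacter_subRes Q TK hQT θ.2⟩ hθG hθA'

theorem overG_iff (hQT : Q ≤ TK) {ψ : TK → ℂ} (hψ : IsIrrCharacter TK ψ) :
    OverG (Q.subgroupOf TK) (subRes Q TK (θ : Q → ℂ)) ψ ↔
      classInner (fun n : Q => ψ ⟨n, hQT n.2⟩) (θ : Q → ℂ) ≠ 0 := by
  constructor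
  · rintro ⟨e, he, h⟩
    have h1 : (fun n : Q => ψ ⟨n, hQT n.2⟩) = e • (θ : Q → ℂ) := by
      funext n
      exact h ⟨⟨n, hQT n.2⟩, Subgroup.mem_subgroupOf.mpr n.2⟩
    rw [h1, helper4.classInner_smul_left, helper4.classInner_irr_self θ.2, mul_one]
    exact he
  · intro h
    obtain ⟨f, hf⟩ := helper4.exists_nat_classInner_irr
      (isCharacter_restrict_le Q TK hQT (helper4.isCharacter_of_isIrrCharacter hψ)) θ.2
    have hf0 : f ≠ 0 := by
      rintro rfl
      apply h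
      rw [hf]
      simp
    have h2 := clifford_invariant_rel Q TK hQT θ.2 le_rfl hψ f hf hf0
    exact ⟨f, by exact_mod_cast hf0,
      fun x => h2 ⟨((x : TK) : K), Subgroup.mem_subgroupOf.mp x.2⟩⟩

theorem overD_iff (hQr : Q ≤ i.range) (hQTC : Q.comap i ≤ TC) {η : TC → ℂ}
    (hη : IsIrrCharacter TC η) :
    OverD (inertiaHom Q i hQr (θ : Q → ℂ)) (Q.subgroupOf TK) (subRes Q TK (θ : Q → ℂ)) η ↔
      classInner (fun m : Q.comap i => η ⟨m, hQTC m.2⟩) θC ≠ 0 := by
  have hθC : IsIrrCharacter (Q.comap i) θC := isIrrCharacter_pullFun Q i hQr θ.2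
  constructor
  · rintro ⟨e, he, h⟩
    have h1 : (fun m : Q.comap i => η ⟨m, hQTC m.2⟩) = e • θC := by
      funext m
      exact h ⟨m, hQTC m.2⟩ (Subgroup.mem_subgroupOf.mpr m.2)
    rw [h1, helper4.classInner_smul_left, helper4.classInner_irr_self hθC, mul_one]
    exact he
  · intro h
    obtain ⟨f, hf⟩ := helper4.exists_nat_classInner_irr
      (isCharacter_restrict_le (Q.comap i) TC hQTC (helper4.isCharacter_of_isIrrCharacter hη)) hθC
    have hf0 : f ≠ 0 := by
      rintro rfl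
      apply h
      rw [hf]
      simp
    have h2 := clifford_invariant_rel (Q.comap i) TC hQTC hθC le_rfl hη f hf hf0
    exact ⟨f, by exact_mod_cast hf0,
      fun d hd => h2 ⟨(d : C), Subgroup.mem_subgroupOf.mp hd⟩⟩

end MI

end Cfsg.Agent.Lib.helper82
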