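import Mathlib
import Cfsg.Prelude.Def_Characters
import Cfsg.Prelude.Def_Blocks
import Cfsg.Prelude.Def_CharExt
import Cfsg.Agent.Lib.helper82.RelGlaub4

/-!
# The relative Glauberman correspondence over a normal Sylow `p`-subgroup (helper82)

`K` a finite group, `Q ⊴ K` a normal Sylow `p`-subgroup, `A` a `p`-group of automorphisms of `K`,
`i : C →* K` injective with range `relC A Q` (the preimage of the fixed points of `A` on `K ⧸ Q`),
`B` the group of automorphisms of `C` induced by `A`.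

* `rel_glauberman_over` : the correspondence over a fixed invariant `θ ∈ Irr(Q)`.
* `rel_glauberman` : a bijection `f` from the `A`-invariant irreducible characters of `K` onto
  the `B`-invariant irreducible characters of `C` with `[χ|C, ξ] ≡ ±1` or `0` modulo `p`
  according as `ξ = f χ` or not, and `χ(1) ≡ ± (f χ)(1)` modulo `p`.
-/

set_option autoImplicit false
set_option linter.style.haveILetI false
set_option linter.unusedSectionVars false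

namespace Cfsg.Agent.Lib.helper82

open Module Cfsg
open Cfsg.Agent.Lib
open scoped ComplexConjugate

universe u

section P6

variable {K : Type u} [Group K] [Fintype K] (Q : Subgroup K) [hQ : Q.Normal] [Fintype Q]
  {C : Type u} [Group C] [Fintype C] (i : C →* K) [Fintype (Q.comap i)] (θ : IrrCharacter Q)

local notation "θC" => pullFun Q i (θ : Q → ℂ)

/-- The relative Glauberman correspondence over a fixed invariant `θ ∈ Irr(Q)`. -/
theorem rel_glauberman_over (p : ℕ) [hp : Fact p.Prime] (hQp : IsPGroup p Q)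
    (hQi : ¬ p ∣ Q.index) (A : Subgroup (MulAut K)) (hA : IsPGroup p A)
    (hAQ : ∀ σ ∈ A, ∀ x ∈ Q, σ x ∈ Q) (hi : Function.Injective i)
    (hC : ∀ k, k ∈ i.range ↔ k ∈ relC A Q)
    (hθA : IsInvFun (stabRes A Q hAQ).range (θ : Q → ℂ)) :
    (∀ χ : IrrCharacter K, IsInvFun A (χ : K → ℂ) →
      classInner (fun n : Q => (χ : K → ℂ) n) (θ : Q → ℂ) ≠ 0 →
      ∃ ξ₀ : IrrCharacter C, classInner (fun m : Q.comap i => (ξ₀ : C → ℂ) m) θC ≠ 0 ∧
        ∃ ε : ℤ, (ε = 1 ∨ ε = -1) ∧ ∀ ξ : IrrCharacter C,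
          classInner (fun m : Q.comap i => (ξ : C → ℂ) m) θC ≠ 0 → ∃ k : ℤ,
            classInner (fun c => (χ : K → ℂ) (i c)) (ξ : C → ℂ) =
              (((p : ℤ) * k + if ξ = ξ₀ then ε else 0 : ℤ) : ℂ)) ∧
    (∀ χ₁ χ₂ : IrrCharacter K, IsInvFun A (χ₁ : K → ℂ) → IsInvFun A (χ₂ : K → ℂ) →
      classInner (fun n : Q => (χ₁ : K → ℂ) n) (θ : Q → ℂ) ≠ 0 →
      classInner (fun n : Q => (χ₂ : K → ℂ) n) (θ : Q → ℂ) ≠ 0 →
      ∀ ξ : IrrCharacter C, classInner (fun m : Q.comap i => (ξ : C → ℂ) m) θC ≠ 0 →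
        GRel p i (χ₁ : K → ℂ) (ξ : C → ℂ) → GRel p i (χ₂ : K → ℂ) (ξ : C → ℂ) → χ₁ = χ₂) ∧
    (∀ ξ : IrrCharacter C, classInner (fun m : Q.comap i => (ξ : C → ℂ) m) θC ≠ 0 →
      ∃ χ : IrrCharacter K, IsInvFun A (χ : K → ℂ) ∧
        classInner (fun n : Q => (χ : K → ℂ) n) (θ : Q → ℂ) ≠ 0 ∧
        GRel p i (χ : K → ℂ) (ξ : C → ℂ)) := by
  classical
  letI : Fintype (inertia Q (θ : Q → ℂ)) := Fintype.ofFinite _
  letI : Fintype (inertia (Q.comap i) θC) := Fintype.ofFinite _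
  have hθcf := helper4.isClassFunction_of_isIrrCharacter θ.2
  have hQr : Q ≤ i.range := fun q hq => (hC q).mpr (le_relC A Q hAQ hq)
  have hθC : IsIrrCharacter (Q.comap i) θC := isIrrCharacter_pullFun Q i hQr θ.2
  have hQT : Q ≤ inertia Q (θ : Q → ℂ) := le_inertia Q hθcf
  have hQTC : Q.comap i ≤ inertia (Q.comap i) θC :=
    le_inertia (Q.comap i) (helper4.isClassFunction_of_isIrrCharacter hθC)
  have hAT := inertia_stable Q A hAQ (θ : Q → ℂ) hθA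
  obtain ⟨RC1, RC2, RC3⟩ := relcorr_inertia Q i θ p hQp hQi A hA hAQ hi hC hQr hθA hQT hAT
  -- Clifford correspondents in `C`
  have hdownC : ∀ ξ : IrrCharacter C,
      classInner (fun m : Q.comap i => (ξ : C → ℂ) m) θC ≠ 0 →
      ∃ η : IrrCharacter (inertia (Q.comap i) θC),
        indFun (inertia (Q.comap i) θC) (η : inertia (Q.comap i) θC → ℂ) = (ξ : C → ℂ) ∧
        classInner (fun m : Q.comap i => (η : inertia (Q.comap i) θC → ℂ) ⟨m, hQTC m.2⟩)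
          θC ≠ 0 := by
    intro ξ hξ
    obtain ⟨η, hη, hind, hmult⟩ :=
      clifford_corr_surj (Q.comap i) (inertia (Q.comap i) θC) hQTC hθC rfl ξ.2 hξ
    exact ⟨⟨η, hη⟩, hind, by rw [hmult]; exact hξ⟩
  refine ⟨?_, ?_, ?_⟩
  · intro χ hχA hχθ
    obtain ⟨ψ, hψind, hψθ, hψA⟩ := clifford_inv_down Q A hAQ θ hθA hQT hAT χ hχA hχθ
    obtain ⟨η₀, hη₀o, ε, hε, hall, -⟩ := RC1 ψ hψA ((overG_iff Q θ hQT ψ.2).mpr hψθ)
    have hη₀θ := (overD_iff Q i θ hQr hQTC η₀.2).mp hη₀o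
    obtain ⟨hξ₀irr, hξ₀mult⟩ :=
      clifford_corr_irr (Q.comap i) (inertia (Q.comap i) θC) hQTC hθC rfl η₀.2 hη₀θ
    refine ⟨⟨_, hξ₀irr⟩, by rw [hξ₀mult]; exact hη₀θ, ε, hε, ?_⟩
    intro ξ hξ
    obtain ⟨η, hηind, hηθ⟩ := hdownC ξ hξ
    obtain ⟨k, hk⟩ := hall η ((overD_iff Q i θ hQr hQTC η.2).mpr hηθ)
    refine ⟨k, ?_⟩
    have hMI := mult_identity Q i θ hi hQr hQT hQTC ψ.2 hψθ η.2 hηθ
    rw [hψind, hηind] at hMI
    rw [hMI, hk]
    have hiff : (η = η₀) ↔ (ξ = ⟨_, hξ₀irr⟩) := by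
      constructor
      · intro h
        apply Subtype.ext
        rw [← hηind, h]
      · intro h
        have h2 := congrArg Subtype.val h
        rw [← hηind] at h2
        exact Subtype.ext
          (clifford_corr_inj (Q.comap i) _ hQTC hθC rfl η.2 η₀.2 hηθ hη₀θ h2)
    by_cases hc : η = η₀
    · rw [if_pos hc, if_pos (hiff.mp hc)]
    · rw [if_neg hc, if_neg (fun h => hc (hiff.mpr h))]
  · intro χ₁ χ₂ h₁A h₂A h₁θ h₂θ ξ hξ hg₁ hg₂
    obtain ⟨ψ₁, hψ₁ind, hψ₁θ, hψ₁A⟩ := clifford_inv_down Q A hAQ θ hθA hQT hAT χ₁ h₁A h₁θ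
    obtain ⟨ψ₂, hψ₂ind, hψ₂θ, hψ₂A⟩ := clifford_inv_down Q A hAQ θ hθA hQT hAT χ₂ h₂A h₂θ
    obtain ⟨η, hηind, hηθ⟩ := hdownC ξ hξ
    have hMI₁ := mult_identity Q i θ hi hQr hQT hQTC ψ₁.2 hψ₁θ η.2 hηθ
    have hMI₂ := mult_identity Q i θ hi hQr hQT hQTC ψ₂.2 hψ₂θ η.2 hηθ
    rw [hψ₁ind, hηind] at hMI₁
    rw [hψ₂ind, hηind] at hMI₂
    have hg₁' : GRel p (inertiaHom Q i hQr (θ : Q → ℂ))
        (ψ₁ : inertia Q (θ : Q → ℂ) → ℂ) (η : inertia (Q.comap i) θC → ℂ) := by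
      intro k hk
      apply hg₁ k
      rw [hMI₁]
      exact hk
    have hg₂' : GRel p (inertiaHom Q i hQr (θ : Q → ℂ))
        (ψ₂ : inertia Q (θ : Q → ℂ) → ℂ) (η : inertia (Q.comap i) θC → ℂ) := by
      intro k hk
      apply hg₂ k
      rw [hMI₂]
      exact hk
    have h := RC2 ψ₁ ψ₂ hψ₁A hψ₂A ((overG_iff Q θ hQT ψ₁.2).mpr hψ₁θ)
      ((overG_iff Q θ hQT ψ₂.2).mpr hψ₂θ) η ((overD_iff Q i θ hQr hQTC η.2).mpr hηθ) hg₁' hg₂'
    apply Subtype.ext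
    rw [← hψ₁ind, ← hψ₂ind, h]
  · intro ξ hξ
    obtain ⟨η, hηind, hηθ⟩ := hdownC ξ hξ
    obtain ⟨ψ, hψA, hψo, hψg⟩ := RC3 η ((overD_iff Q i θ hQr hQTC η.2).mpr hηθ)
    have hψθ := (overG_iff Q θ hQT ψ.2).mp hψo
    obtain ⟨hχirr, hχmult⟩ :=
      clifford_corr_irr Q (inertia Q (θ : Q → ℂ)) hQT θ.2 rfl ψ.2 hψθ
    refine ⟨⟨_, hχirr⟩, clifford_inv_up Q A θ hQT hAT ψ hψθ hψA,
      by rw [hχmult]; exact hψθ, ?_⟩
    intro k hk
    apply hψg k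
    have hMI := mult_identity Q i θ hi hQr hQT hQTC ψ.2 hψθ η.2 hηθ
    rw [hηind] at hMI
    rw [← hMI]
    exact hk

end P6

end Cfsg.Agent.Lib.helper82
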