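import Mathlib
import Cfsg.Prelude.Def_Characters
import Cfsg.Prelude.Def_Blocks
import Cfsg.Prelude.Def_CharExt
import Cfsg.Agent.Lib.helper82.RelGlaub5

/-!
# The relative Glauberman correspondence: the bijection (helper82)

`rel_glauberman` : `K` a finite group, `Q ⊴ K` a normal Sylow `p`-subgroup, `A` a `p`-group of
automorphisms of `K` stabilising `Q`, `i : C →* K` injective with range `relC A Q`, `B` a
`p`-group of automorphisms of `C` inducing the action of `A`.  There is a bijection `f` from the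
`A`-invariant irreducible characters of `K` onto the `B`-invariant irreducible characters of `C`
with `[χ ∘ i, ξ] ≡ ε` or `0` modulo `p` according as `ξ = f χ` or not (`ε = ±1`), and
`χ(1) ≡ ε (f χ)(1)` modulo `p`.
-/

set_option autoImplicit false
set_option linter.style.haveILetI false
set_option linter.unusedSectionVars false

namespace Cfsg.Agent.Lib.helper82

open Module Cfsg
open Cfsg.Agent.Lib
open scoped ComplexConjugate

universe u

section Final

variable {K : Type u} [Group K] [Fintype K] (Q : Subgroup K) [hQ : Q.Normal]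
  {C : Type u} [Group C] [Fintype C] (i : C →* K)

theorem rel_glauberman (p : ℕ) [hp : Fact p.Prime] (hQp : IsPGroup p Q) (hQi : ¬ p ∣ Q.index)
    (A : Subgroup (MulAut K)) (hA : IsPGroup p A) (hAQ : ∀ σ ∈ A, ∀ x ∈ Q, σ x ∈ Q)
    (hi : Function.Injective i) (hC : ∀ k, k ∈ i.range ↔ k ∈ relC A Q)
    (B : Subgroup (MulAut C)) (hB : IsPGroup p B)
    (hB1 : ∀ σ ∈ A, ∃ τ ∈ B, ∀ c, i (τ c) = σ (i c))
    (hB2 : ∀ τ ∈ B, ∃ σ ∈ A, ∀ c, i (τ c) = σ (i c)) :
    ∃ f : {χ : IrrCharacter K // IsInvFun A (χ : K → ℂ)} →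
        {ξ : IrrCharacter C // IsInvFun B (ξ : C → ℂ)},
      Function.Bijective f ∧ ∀ χ, ∃ ε : ℤ, (ε = 1 ∨ ε = -1) ∧
        (∀ ξ : {ξ : IrrCharacter C // IsInvFun B (ξ : C → ℂ)}, ∃ k : ℤ,
          classInner (fun c => (χ.1 : K → ℂ) (i c)) (ξ.1 : C → ℂ) =
            (((p : ℤ) * k + if ξ = f χ then ε else 0 : ℤ) : ℂ)) ∧
        (charDegree (χ.1 : K → ℂ) : ℤ) ≡ ε * charDegree ((f χ).1 : C → ℂ) [ZMOD p] := by
  classical
  letI : Fintype Q := Fintype.ofFinite _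
  letI : Fintype (Q.comap i) := Fintype.ofFinite _
  letI : Fintype (IrrCharacter C) := Fintype.ofFinite _
  have hQr : Q ≤ i.range := fun q hq => (hC q).mpr (le_relC A Q hAQ hq)
  have hBQ : ∀ τ ∈ B, ∀ x ∈ Q.comap i, τ x ∈ Q.comap i := by
    intro τ hτ x hx
    obtain ⟨σ, hσ, hστ⟩ := hB2 τ hτ
    show i (τ x) ∈ Q
    rw [hστ]
    exact hAQ σ hσ _ hx
  have hQCi : ¬ p ∣ (Q.comap i).index := by
    intro h
    apply hQi
    rw [Subgroup.index_comap] at h
    exact h.trans (Subgroup.relIndex_dvd_index_of_normal Q i.range)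
  -- the equivalence between the preimage of `Q` and `Q`
  have hbij : Function.Bijective (i.subgroupComap Q) :=
    ⟨fun a b h => Subtype.ext (hi (congrArg Subtype.val h)),
      subgroupComap_surjective_of_le Q i hQr⟩
  let eQ : Q.comap i ≃* Q := MulEquiv.ofBijective (i.subgroupComap Q) hbij
  have heQ : ∀ m : Q.comap i, ((eQ m : Q) : K) = i m := fun m => rfl
  -- invariant constituents of invariant characters of `C`
  have hF1C : ∀ ξ : IrrCharacter C, IsInvFun B (ξ : C → ℂ) →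
      ∃ θ : IrrCharacter Q, IsInvFun (stabRes A Q hAQ).range (θ : Q → ℂ) ∧
        classInner (fun m : Q.comap i => (ξ : C → ℂ) m) (pullFun Q i (θ : Q → ℂ)) ≠ 0 := by
    intro ξ hξ
    obtain ⟨φ, hφinv, hφ⟩ := exists_inv_constituent (Q.comap i) p hQCi B hB hBQ ξ hξ
    have hθirr : IsIrrCharacter Q (fun n => (φ : Q.comap i → ℂ) (eQ.symm n)) :=
      isIrrCharacter_comp_surj eQ.symm.toMonoidHom eQ.symm.surjective φ.2
    have hpull : pullFun Q i (fun n => (φ : Q.comap i → ℂ) (eQ.symm n)) =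
        (φ : Q.comap i → ℂ) := by
      funext m
      show (φ : Q.comap i → ℂ) (eQ.symm ⟨i m, m.2⟩) = _
      have h1 : (⟨i m, m.2⟩ : Q) = eQ m := rfl
      rw [h1, eQ.symm_apply_apply]
    refine ⟨⟨_, hθirr⟩, ?_, ?_⟩
    · rintro σ' ⟨σ, rfl⟩ n
      obtain ⟨τ, hτ, hτσ⟩ := hB1 σ σ.2
      have h1 : eQ.symm ((stabRes A Q hAQ σ) n) =
          (stabRes B (Q.comap i) hBQ ⟨τ, hτ⟩) (eQ.symm n) := by
        apply eQ.injective
        rw [eQ.apply_symm_apply]
        apply Subtype.ext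
        rw [heQ]
        show (σ : MulAut K) (n : K) = i (τ ((eQ.symm n : Q.comap i) : C))
        rw [hτσ, ← heQ, eQ.apply_symm_apply]
      show (φ : Q.comap i → ℂ) (eQ.symm ((stabRes A Q hAQ σ) n)) =
        (φ : Q.comap i → ℂ) (eQ.symm n)
      rw [h1]
      exact hφinv _ ⟨⟨τ, hτ⟩, rfl⟩ _
    · show classInner _ (pullFun Q i (fun n => (φ : Q.comap i → ℂ) (eQ.symm n))) ≠ 0
      rw [hpull]
      exact hφ
  -- transfer of "lying over" from `C` to `K`
  have hoverK : ∀ (χ : IrrCharacter K) (ξ : IrrCharacter C) (θ : IrrCharacter Q),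
      classInner (fun c => (χ : K → ℂ) (i c)) (ξ : C → ℂ) ≠ 0 →
      classInner (fun m : Q.comap i => (ξ : C → ℂ) m) (pullFun Q i (θ : Q → ℂ)) ≠ 0 →
      classInner (fun n : Q => (χ : K → ℂ) n) (θ : Q → ℂ) ≠ 0 := by
    intro χ ξ θ h1 h2
    have h3 := over_trans (Q.comap i).subtype
      (helper4.isCharacter_comp i (helper4.isCharacter_of_isIrrCharacter χ.2)) ξ.2
      (isIrrCharacter_pullFun Q i hQr θ.2) h1 h2
    rw [← classInner_pullFun Q i hi hQr]
    exact h3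
  -- existence
  have hE : ∀ χ : IrrCharacter K, IsInvFun A (χ : K → ℂ) →
      ∃ ξ₀ : IrrCharacter C, IsInvFun B (ξ₀ : C → ℂ) ∧ ∃ ε : ℤ, (ε = 1 ∨ ε = -1) ∧
        ∀ ξ : IrrCharacter C, IsInvFun B (ξ : C → ℂ) → ∃ k : ℤ,
          classInner (fun c => (χ : K → ℂ) (i c)) (ξ : C → ℂ) =
            (((p : ℤ) * k + if ξ = ξ₀ then ε else 0 : ℤ) : ℂ) := by
    intro χ hχA
    obtain ⟨θ, hθA, hχθ⟩ := exists_inv_constituent Q p hQi A hA hAQ χ hχA
    have hθcf := helper4.isClassFunction_of_isIrrCharacter θ.2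
    obtain ⟨ξ₀, hξ₀θ, ε, hε, hall⟩ :=
      (rel_glauberman_over Q i θ p hQp hQi A hA hAQ hi hC hθA).1 χ hχA hχθ
    have hξ₀B : IsInvFun B (ξ₀ : C → ℂ) := by
      intro τ hτ c
      obtain ⟨σ, hσ, hστ⟩ := hB2 τ hτ
      have hξ₁θ : classInner (fun m : Q.comap i => (ξ₀ : C → ℂ) (τ m))
          (pullFun Q i (θ : Q → ℂ)) ≠ 0 := by
        have h1 := classInner_comp_equiv
          (stabRes B (Q.comap i) hBQ ⟨τ, hτ⟩ : Q.comap i ≃* Q.comap i)
          (fun m : Q.comap i => (ξ₀ : C → ℂ) m) (pullFun Q i (θ : Q → ℂ))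
        have h2 : (fun m : Q.comap i => pullFun Q i (θ : Q → ℂ)
            ((stabRes B (Q.comap i) hBQ ⟨τ, hτ⟩ : Q.comap i ≃* Q.comap i) m)) =
            pullFun Q i (θ : Q → ℂ) := by
          funext m
          have h3 := hθA (stabRes A Q hAQ ⟨σ, hσ⟩) ⟨⟨σ, hσ⟩, rfl⟩ ⟨i m, m.2⟩
          show (θ : Q → ℂ) ⟨i (τ (m : C)), _⟩ = (θ : Q → ℂ) ⟨i m, m.2⟩
          rw [← h3]
          refine congrArg _ ?_
          apply Subtype.ext
          exact hστ m
        rw [h2] at h1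
        have h5 : classInner (fun m : Q.comap i => (ξ₀ : C → ℂ) (τ m))
            (pullFun Q i (θ : Q → ℂ)) =
            classInner (fun m : Q.comap i => (ξ₀ : C → ℂ) m) (pullFun Q i (θ : Q → ℂ)) := h1
        rw [h5]
        exact hξ₀θ
      have hval : classInner (fun c => (χ : K → ℂ) (i c)) (fun c => (ξ₀ : C → ℂ) (τ c)) =
          classInner (fun c => (χ : K → ℂ) (i c)) (ξ₀ : C → ℂ) := by
        have h1 := classInner_comp_equiv (τ : C ≃* C) (fun c => (χ : K → ℂ) (i c))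
          (ξ₀ : C → ℂ)
        have h2 : (fun c => (χ : K → ℂ) (i ((τ : C ≃* C) c))) =
            fun c => (χ : K → ℂ) (i c) := by
          funext c
          show (χ : K → ℂ) (i (τ c)) = _
          rw [hστ]
          exact hχA σ hσ (i c)
        rw [h2] at h1
        exact h1
      by_contra hne
      have hne' : (⟨fun c => (ξ₀ : C → ℂ) (τ c), isIrrCharacter_comp_aut τ ξ₀.2⟩ :
          IrrCharacter C) ≠ ξ₀ := by
        intro h
        exact hne (congrFun (congrArg Subtype.val h) c)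
      obtain ⟨k₀, hk₀⟩ := hall ξ₀ hξ₀θ
      obtain ⟨k₁, hk₁⟩ :=
        hall ⟨fun c => (ξ₀ : C → ℂ) (τ c), isIrrCharacter_comp_aut τ ξ₀.2⟩ hξ₁θ
      rw [if_pos rfl] at hk₀
      rw [if_neg hne', add_zero] at hk₁
      have h3 : ((p : ℤ) * k₁ : ℤ) = (p : ℤ) * k₀ + ε := by
        have h4 : (((p : ℤ) * k₁ : ℤ) : ℂ) = (((p : ℤ) * k₀ + ε : ℤ) : ℂ) := by
          rw [← hk₁, ← hk₀]
          exact hval
        exact_mod_cast h4
      exact not_dvd_sign p hε ⟨k₁ - k₀, by linarith⟩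
    refine ⟨ξ₀, hξ₀B, ε, hε, ?_⟩
    intro ξ hξB
    by_cases hξθ : classInner (fun m : Q.comap i => (ξ : C → ℂ) m)
        (pullFun Q i (θ : Q → ℂ)) ≠ 0
    · exact hall ξ hξθ
    · push Not at hξθ
      have hne : ξ ≠ ξ₀ := by
        rintro rfl
        exact hξ₀θ hξθ
      have h0 : classInner (fun c => (χ : K → ℂ) (i c)) (ξ : C → ℂ) = 0 := by
        by_contra h0
        obtain ⟨θ', hθ'A, hξθ'⟩ := hF1C ξ hξB
        have hχθ' := hoverK χ ξ θ' h0 hξθ'
        obtain ⟨x, hx⟩ := clifford_conj Q χ.2 θ.2 θ'.2 hχθ hχθ'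
        have hxinv : IsInvFun (stabRes A Q hAQ).range (cconj Q x (θ : Q → ℂ)) := by
          rw [← hx]; exact hθ'A
        obtain ⟨y, hy, hyx⟩ :=
          exists_relC_conj Q p hQi A hA hAQ (θ : Q → ℂ) hθcf hθA x hxinv
        obtain ⟨c, hc⟩ := (hC y).mpr hy
        have hpull : pullFun Q i (θ' : Q → ℂ) =
            cconj (Q.comap i) c (pullFun Q i (θ : Q → ℂ)) := by
          funext m
          rw [hx, ← hyx, ← hc, cconj_apply]
          show cconj Q (i c) (θ : Q → ℂ) ⟨i m, m.2⟩ = _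
          rw [cconj_apply]
          show (θ : Q → ℂ) ⟨(i c)⁻¹ * i m * i c, _⟩ = (θ : Q → ℂ) ⟨i (c⁻¹ * m * c), _⟩
          refine congrArg _ ?_
          apply Subtype.ext
          simp
        rw [hpull, classInner_restrict_cconj (Q.comap i)
          (helper4.isClassFunction_of_isIrrCharacter ξ.2)] at hξθ'
        exact hξθ' hξθ
      refine ⟨0, ?_⟩
      rw [h0, if_neg hne]
      simp
  -- injectivity
  have hI : ∀ χ₁ χ₂ : IrrCharacter K, IsInvFun A (χ₁ : K → ℂ) → IsInvFun A (χ₂ : K → ℂ) →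
      ∀ ξ : IrrCharacter C, IsInvFun B (ξ : C → ℂ) → GRel p i (χ₁ : K → ℂ) (ξ : C → ℂ) →
        GRel p i (χ₂ : K → ℂ) (ξ : C → ℂ) → χ₁ = χ₂ := by
    intro χ₁ χ₂ h₁ h₂ ξ hξB hg₁ hg₂
    obtain ⟨θ, hθA, hξθ⟩ := hF1C ξ hξB
    have hne : ∀ χ : IrrCharacter K, GRel p i (χ : K → ℂ) (ξ : C → ℂ) →
        classInner (fun c => (χ : K → ℂ) (i c)) (ξ : C → ℂ) ≠ 0 := by
      intro χ hg h0
      apply hg 0
      rw [h0]
      simp
    exact (rel_glauberman_over Q i θ p hQp hQi A hA hAQ hi hC hθA).2.1 χ₁ χ₂ h₁ h₂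
      (hoverK χ₁ ξ θ (hne χ₁ hg₁) hξθ) (hoverK χ₂ ξ θ (hne χ₂ hg₂) hξθ) ξ hξθ hg₁ hg₂
  -- surjectivity
  have hS : ∀ ξ : IrrCharacter C, IsInvFun B (ξ : C → ℂ) →
      ∃ χ : IrrCharacter K, IsInvFun A (χ : K → ℂ) ∧ GRel p i (χ : K → ℂ) (ξ : C → ℂ) := by
    intro ξ hξB
    obtain ⟨θ, hθA, hξθ⟩ := hF1C ξ hξB
    obtain ⟨χ, hχA, -, hg⟩ :=
      (rel_glauberman_over Q i θ p hQp hQi A hA hAQ hi hC hθA).2.2 ξ hξθ
    exact ⟨χ, hχA, hg⟩
  -- the map
  choose f0 hf0B ε hε hmult using hE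
  have hgrel : ∀ (χ : IrrCharacter K) (hχ : IsInvFun A (χ : K → ℂ)),
      GRel p i (χ : K → ℂ) (f0 χ hχ : C → ℂ) := by
    intro χ hχ k' hk'
    obtain ⟨k, hk⟩ := hmult χ hχ (f0 χ hχ) (hf0B χ hχ)
    rw [if_pos rfl, hk'] at hk
    have h3 : (p : ℤ) * k' = (p : ℤ) * k + ε χ hχ := by exact_mod_cast hk
    exact not_dvd_sign p (hε χ hχ) ⟨k' - k, by linarith⟩
  refine ⟨fun χ => ⟨f0 χ.1 χ.2, hf0B χ.1 χ.2⟩, ⟨?_, ?_⟩, ?_⟩
  · intro χ₁ χ₂ h
    have h' : f0 χ₁.1 χ₁.2 = f0 χ₂.1 χ₂.2 := congrArg Subtype.val h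
    apply Subtype.ext
    apply hI χ₁.1 χ₂.1 χ₁.2 χ₂.2 (f0 χ₁.1 χ₁.2) (hf0B χ₁.1 χ₁.2) (hgrel χ₁.1 χ₁.2)
    rw [h']
    exact hgrel χ₂.1 χ₂.2
  · intro ξ
    obtain ⟨χ, hχA, hg⟩ := hS ξ.1 ξ.2
    refine ⟨⟨χ, hχA⟩, ?_⟩
    by_contra hne
    have hne' : ξ.1 ≠ f0 χ hχA := fun h => hne (Subtype.ext h.symm)
    obtain ⟨k, hk⟩ := hmult χ hχA ξ.1 ξ.2
    rw [if_neg hne', add_zero] at hk
    exact hg k hk
  · intro χ
    refine ⟨ε χ.1 χ.2, hε χ.1 χ.2, ?_, ?_⟩
    · intro ξ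
      obtain ⟨k, hk⟩ := hmult χ.1 χ.2 ξ.1 ξ.2
      refine ⟨k, ?_⟩
      rw [hk]
      by_cases hc : ξ.1 = f0 χ.1 χ.2
      · rw [if_pos hc, if_pos (Subtype.ext hc)]
      · rw [if_neg hc, if_neg (fun h => hc (congrArg Subtype.val h))]
    · -- degrees
      have hχc := helper4.isCharacter_of_isIrrCharacter χ.1.2
      obtain ⟨m, hm1, hm2, hm3⟩ := exists_nat_decomp (helper4.isCharacter_comp i hχc)
      have hminv : ∀ τ ∈ B, ∀ ξ : IrrCharacter C,
          m ⟨fun c => (ξ : C → ℂ) (τ c), isIrrCharacter_comp_aut τ ξ.2⟩ = m ξ := by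
        intro τ hτ ξ
        obtain ⟨σ, hσ, hστ⟩ := hB2 τ hτ
        have h1 := classInner_comp_equiv (τ : C ≃* C) (fun c => (χ.1 : K → ℂ) (i c))
          (ξ : C → ℂ)
        have h2 : (fun c => (χ.1 : K → ℂ) (i ((τ : C ≃* C) c))) =
            fun c => (χ.1 : K → ℂ) (i c) := by
          funext c
          show (χ.1 : K → ℂ) (i (τ c)) = _
          rw [hστ]
          exact χ.2 σ hσ (i c)
        rw [h2] at h1
        have h4 : (m ⟨fun c => (ξ : C → ℂ) (τ c), isIrrCharacter_comp_aut τ ξ.2⟩ : ℂ) =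
            (m ξ : ℂ) := by
          rw [← hm1, ← hm1]
          exact h1
        exact_mod_cast h4
      have hmod := sum_modEq_sum_inv p B hB (fun ξ => m ξ * charDegree (ξ : C → ℂ))
        (fun τ hτ ξ => by
          show m ⟨fun c => (ξ : C → ℂ) (τ c), isIrrCharacter_comp_aut τ ξ.2⟩ *
            charDegree (fun c => (ξ : C → ℂ) (τ c)) = _
          rw [hminv τ hτ ξ]
          congr 1
          unfold charDegree
          show ⌊((ξ : C → ℂ) (τ 1)).re⌋₊ = _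
          rw [map_one])
      have hdegχ : charDegree (χ.1 : K → ℂ) =
          ∑ ξ : IrrCharacter C, m ξ * charDegree (ξ : C → ℂ) := by
        have h1 : ((charDegree (χ.1 : K → ℂ) : ℕ) : ℂ) =
            ((∑ ξ : IrrCharacter C, m ξ * charDegree (ξ : C → ℂ) : ℕ) : ℂ) := by
          rw [← hm3, ← irr_one_eq χ.1, map_one]
        exact_mod_cast h1
      have hterm : ∀ ξ : IrrCharacter C,
          (((if IsInvFun B (ξ : C → ℂ) then m ξ * charDegree (ξ : C → ℂ) else 0 : ℕ)) : ℤ) ≡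
            (if ξ = f0 χ.1 χ.2 then
              ε χ.1 χ.2 * (charDegree ((f0 χ.1 χ.2 : IrrCharacter C) : C → ℂ) : ℤ)
              else 0) [ZMOD p] := by
        intro ξ
        by_cases hinv : IsInvFun B (ξ : C → ℂ)
        · rw [if_pos hinv]
          obtain ⟨k, hk⟩ := hmult χ.1 χ.2 ξ hinv
          rw [hm1] at hk
          have hk' : (m ξ : ℤ) = (p : ℤ) * k + if ξ = f0 χ.1 χ.2 then ε χ.1 χ.2 else 0 := by
            exact_mod_cast hk
          push_cast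
          rw [hk']
          by_cases hc : ξ = f0 χ.1 χ.2
          · rw [if_pos hc, if_pos hc, hc]
            exact Int.modEq_iff_dvd.mpr (Dvd.intro
              (-(k * (charDegree ((f0 χ.1 χ.2 : IrrCharacter C) : C → ℂ) : ℤ))) (by ring))
          · rw [if_neg hc, if_neg hc, add_zero]
            exact Int.modEq_iff_dvd.mpr (Dvd.intro
              (-(k * (charDegree (ξ : C → ℂ) : ℤ))) (by ring))
        · rw [if_neg hinv]
          have hc : ξ ≠ f0 χ.1 χ.2 := by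
            rintro rfl
            exact hinv (hf0B χ.1 χ.2)
          rw [if_neg hc]
          rfl
      have hsum : ((∑ ξ : IrrCharacter C,
          (if IsInvFun B (ξ : C → ℂ) then m ξ * charDegree (ξ : C → ℂ) else 0) : ℕ) : ℤ) ≡
          ε χ.1 χ.2 * (charDegree ((f0 χ.1 χ.2 : IrrCharacter C) : C → ℂ) : ℤ) [ZMOD p] := by
        rw [Nat.cast_sum]
        have h1 := Int.ModEq.sum (s := Finset.univ) (fun ξ _ => hterm ξ)
        rw [Finset.sum_ite_eq' Finset.univ (f0 χ.1 χ.2)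
          (fun _ => ε χ.1 χ.2 * (charDegree ((f0 χ.1 χ.2 : IrrCharacter C) : C → ℂ) : ℤ)),
          if_pos (Finset.mem_univ _)] at h1
        exact h1
      rw [hdegχ]
      exact ((Int.natCast_modEq_iff).mpr hmod).trans hsum

end Final

end Cfsg.Agent.Lib.helper82
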