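import Mathlib
import Cfsg.Prelude.Def_Characters
import Cfsg.Prelude.Def_Blocks
import Cfsg.Prelude.Def_CharExt
import Cfsg.Agent.Lib.helper82.RelGlaub6

/-!
# The relative Glauberman correspondence, internal form (helper82)

* `aut_stable_of_normal_sylow` : a normal Sylow `p`-subgroup is stable under automorphisms.
* `rel_glauberman_internal` : `P` a `p`-subgroup of `G` normalising `K`, `Q` a normal Sylow
  `p`-subgroup of `K`, `C = {k ∈ K : [x, k] ∈ Q for all x ∈ P}`: a bijection between the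
  `P`-invariant irreducible characters of `K` and of `C`, with multiplicities `≡ ±1`, `0`
  modulo `p` and degrees congruent modulo `p` up to sign.
-/

set_option autoImplicit false
set_option linter.style.haveILetI false
set_option linter.unusedSectionVars false

namespace Cfsg.Agent.Lib.helper82

open Module Cfsg
open Cfsg.Agent.Lib
open scoped ComplexConjugate

universe u

/-- A normal Sylow `p`-subgroup is stable under every automorphism. -/
theorem aut_stable_of_normal_sylow (p : ℕ) [hp : Fact p.Prime] {K : Type u} [Group K] [Finite K]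
    (Q : Subgroup K) [hQ : Q.Normal] (hQp : IsPGroup p Q) (hQi : ¬ p ∣ Q.index) (σ : MulAut K) :
    ∀ x ∈ Q, σ x ∈ Q := by
  intro x hx
  obtain ⟨k, hk⟩ := hQp ⟨x, hx⟩
  have hxk : x ^ p ^ k = 1 := by
    have := congrArg Subtype.val hk
    simpa using this
  have h1 : ((σ x : K) : K ⧸ Q) ^ p ^ k = 1 := by
    rw [← QuotientGroup.mk_pow, ← map_pow, hxk, map_one]
    rfl
  have h2 : ((σ x : K) : K ⧸ Q) ^ Nat.card (K ⧸ Q) = 1 := pow_card_eq_one'
  have hcop : (p ^ k).Coprime (Nat.card (K ⧸ Q)) := by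
    apply Nat.Coprime.pow_left
    rw [← Subgroup.index_eq_card]
    exact (Nat.Prime.coprime_iff_not_dvd hp.out).mpr hQi
  have h3 := pow_gcd_eq_one.mpr ⟨h1, h2⟩
  rw [Nat.Coprime.gcd_eq_one hcop, pow_one] at h3
  exact (QuotientGroup.eq_one_iff _).mp h3

/-- **The relative Glauberman correspondence** over a normal Sylow `p`-subgroup. -/
theorem rel_glauberman_internal {G : Type u} [Group G] [Finite G] (p : ℕ) [Fact p.Prime]
    (P K Q C : Subgroup G) (hP : IsPGroup p ↥P) (hPK : P ≤ Subgroup.normalizer (K : Set G))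
    (hQK : Q ≤ K) (hQn : ∀ k ∈ K, ∀ q ∈ Q, k * q * k⁻¹ ∈ Q)
    (hQp : ∃ a : ℕ, Nat.card ↥Q = p ^ a) (hQsyl : ¬ p ∣ Q.relIndex K) (hCK : C ≤ K)
    (hC : ∀ k : G, k ∈ C ↔ (k ∈ K ∧ ∀ x ∈ P, x * k * x⁻¹ * k⁻¹ ∈ Q)) :
    ∃ f : {χ : Cfsg.IrrCharacter ↥K // (∀ x ∈ P, ∀ k k' : ↥K, (k' : G) = x * (k : G) * x⁻¹ →
        (χ : ↥K → ℂ) k' = (χ : ↥K → ℂ) k)} →
      {ξ : Cfsg.IrrCharacter ↥C // (∀ x ∈ P, ∀ k k' : ↥C, (k' : G) = x * (k : G) * x⁻¹ →
        (ξ : ↥C → ℂ) k' = (ξ : ↥C → ℂ) k)},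
      Function.Bijective f ∧ ∀ χ,
        (∀ ξ : {ξ : Cfsg.IrrCharacter ↥C // (∀ x ∈ P, ∀ k k' : ↥C,
            (k' : G) = x * (k : G) * x⁻¹ → (ξ : ↥C → ℂ) k' = (ξ : ↥C → ℂ) k)},
          ∃ m : ℕ, (Nat.card ↥C : ℂ)⁻¹ * ∑ᶠ c : ↥C, (χ.1 : ↥K → ℂ) (Subgroup.inclusion hCK c) *
              (starRingEnd ℂ) ((ξ.1 : ↥C → ℂ) c) = (m : ℂ) ∧
            (ξ = f χ → ((m : ZMod p) = 1 ∨ (m : ZMod p) = -1)) ∧ (ξ ≠ f χ → p ∣ m)) ∧
        ((Cfsg.charDegree ((f χ).1 : ↥C → ℂ) : ZMod p) =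
            (Cfsg.charDegree (χ.1 : ↥K → ℂ) : ZMod p) ∨
          (Cfsg.charDegree ((f χ).1 : ↥C → ℂ) : ZMod p) =
            -(Cfsg.charDegree (χ.1 : ↥K → ℂ) : ZMod p)) := by
  classical
  letI : Fintype K := Fintype.ofFinite _
  letI : Fintype C := Fintype.ofFinite _
  have hnK : ∀ s ∈ P, ∀ g ∈ K, s * g * s⁻¹ ∈ K := by
    intro s hs g hg
    exact (Subgroup.mem_normalizer_iff.mp (hPK hs) g).mp hg
  have hnC : ∀ s ∈ P, ∀ c ∈ C, s * c * s⁻¹ ∈ C := by
    intro s hs c hc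
    obtain ⟨hcK, hcP⟩ := (hC c).mp hc
    refine (hC _).mpr ⟨hnK s hs c hcK, fun x hx => ?_⟩
    have h1 := hcP (x * s) (P.mul_mem hx hs)
    have h2 := hcP s hs
    have h3 : x * (s * c * s⁻¹) * x⁻¹ * (s * c * s⁻¹)⁻¹ =
        (x * s * c * (x * s)⁻¹ * c⁻¹) * (s * c * s⁻¹ * c⁻¹)⁻¹ := by group
    rw [h3]
    exact Q.mul_mem h1 (Q.inv_mem h2)
  haveI hQ'n : (Q.subgroupOf K).Normal := ⟨fun n hn g => by
    rw [Subgroup.mem_subgroupOf] at hn ⊢
    exact hQn g g.2 n hn⟩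
  have hQ'p : IsPGroup p (Q.subgroupOf K) := by
    obtain ⟨a, ha⟩ := hQp
    apply IsPGroup.of_card (n := a)
    rw [← ha]
    exact Nat.card_congr (Subgroup.subgroupOfEquivOfLe hQK).toEquiv
  have hQ'i : ¬ p ∣ (Q.subgroupOf K).index := hQsyl
  have hA : IsPGroup p (conjHom K P hnK).range :=
    hP.of_surjective (conjHom K P hnK).rangeRestrict (conjHom K P hnK).rangeRestrict_surjective
  have hB : IsPGroup p (conjHom C P hnC).range :=
    hP.of_surjective (conjHom C P hnC).rangeRestrict (conjHom C P hnC).rangeRestrict_surjective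
  have hAQ : ∀ σ ∈ (conjHom K P hnK).range, ∀ x ∈ Q.subgroupOf K, σ x ∈ Q.subgroupOf K :=
    fun σ _ => aut_stable_of_normal_sylow p (Q.subgroupOf K) hQ'p hQ'i σ
  have hi : Function.Injective (Subgroup.inclusion hCK) := Subgroup.inclusion_injective hCK
  have hC' : ∀ k : K, k ∈ (Subgroup.inclusion hCK).range ↔
      k ∈ relC (conjHom K P hnK).range (Q.subgroupOf K) := by
    intro k
    constructor
    · rintro ⟨c, rfl⟩ σ ⟨s, rfl⟩
      rw [Subgroup.mem_subgroupOf]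
      exact ((hC c).mp c.2).2 s s.2
    · intro h
      have hkC : (k : G) ∈ C := (hC _).mpr ⟨k.2, fun x hx => by
        have h1 := h (conjHom K P hnK ⟨x, hx⟩) ⟨⟨x, hx⟩, rfl⟩
        rw [Subgroup.mem_subgroupOf] at h1
        exact h1⟩
      exact ⟨⟨k, hkC⟩, Subtype.ext rfl⟩
  have hB1 : ∀ σ ∈ (conjHom K P hnK).range, ∃ τ ∈ (conjHom C P hnC).range,
      ∀ c, Subgroup.inclusion hCK (τ c) = σ (Subgroup.inclusion hCK c) := by
    rintro σ ⟨s, rfl⟩
    exact ⟨conjHom C P hnC s, ⟨s, rfl⟩, fun c => Subtype.ext rfl⟩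
  have hB2 : ∀ τ ∈ (conjHom C P hnC).range, ∃ σ ∈ (conjHom K P hnK).range,
      ∀ c, Subgroup.inclusion hCK (τ c) = σ (Subgroup.inclusion hCK c) := by
    rintro τ ⟨s, rfl⟩
    exact ⟨conjHom K P hnK s, ⟨s, rfl⟩, fun c => Subtype.ext rfl⟩
  obtain ⟨f, hfbij, hf⟩ := rel_glauberman (Q.subgroupOf K) (Subgroup.inclusion hCK) p hQ'p hQ'i
    (conjHom K P hnK).range hA hAQ hi hC' (conjHom C P hnC).range hB hB1 hB2
  let eK : {χ : IrrCharacter K // ∀ x ∈ P, ∀ k k' : K, (k' : G) = x * (k : G) * x⁻¹ →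
      (χ : K → ℂ) k' = (χ : K → ℂ) k} ≃
      {χ : IrrCharacter K // IsInvFun (conjHom K P hnK).range (χ : K → ℂ)} :=
    Equiv.subtypeEquivRight (fun χ => (isInvFun_conj_iff K P hnK (χ : K → ℂ)).symm)
  let eC : {ξ : IrrCharacter C // IsInvFun (conjHom C P hnC).range (ξ : C → ℂ)} ≃
      {ξ : IrrCharacter C // ∀ x ∈ P, ∀ k k' : C, (k' : G) = x * (k : G) * x⁻¹ →
        (ξ : C → ℂ) k' = (ξ : C → ℂ) k} :=
    Equiv.subtypeEquivRight (fun ξ => isInvFun_conj_iff C P hnC (ξ : C → ℂ))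
  refine ⟨fun χ => eC (f (eK χ)), eC.bijective.comp (hfbij.comp eK.bijective), ?_⟩
  intro χ
  obtain ⟨ε, hε, hmult, hdeg⟩ := hf (eK χ)
  have hχc : IsCharacter K (χ.1 : K → ℂ) := helper4.isCharacter_of_isIrrCharacter χ.1.2
  refine ⟨?_, ?_⟩
  · intro ξ
    obtain ⟨k, hk⟩ := hmult (eC.symm ξ)
    obtain ⟨n, hn⟩ := helper4.exists_nat_classInner_irr
      (helper4.isCharacter_comp (Subgroup.inclusion hCK) hχc) ξ.1.2
    have hk' : classInner (fun c => (χ.1 : K → ℂ) (Subgroup.inclusion hCK c)) (ξ.1 : C → ℂ) =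
        (((p : ℤ) * k + if eC.symm ξ = f (eK χ) then ε else 0 : ℤ) : ℂ) := hk
    have hnk : (n : ℤ) = (p : ℤ) * k + if eC.symm ξ = f (eK χ) then ε else 0 := by
      have h1 : ((n : ℤ) : ℂ) =
          (((p : ℤ) * k + if eC.symm ξ = f (eK χ) then ε else 0 : ℤ) : ℂ) := by
        rw [← hk', hn]
        norm_cast
      exact_mod_cast h1
    refine ⟨n, ?_, ?_, ?_⟩
    · rw [finsum_eq_sum_of_fintype]
      exact hn
    · intro hξ
      have h1 : eC.symm ξ = f (eK χ) := by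
        rw [hξ]
        exact eC.symm_apply_apply _
      rw [if_pos h1] at hnk
      have h2 : (n : ZMod p) = ((n : ℤ) : ZMod p) := by norm_cast
      rw [h2, hnk]
      push_cast
      rw [ZMod.natCast_self, zero_mul, zero_add]
      rcases hε with rfl | rfl
      · left; simp
      · right; simp
    · intro hξ
      have h1 : eC.symm ξ ≠ f (eK χ) := by
        intro h
        apply hξ
        show ξ = eC (f (eK χ))
        rw [← h]
        exact (eC.apply_symm_apply ξ).symm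
      rw [if_neg h1, add_zero] at hnk
      have h2 : (p : ℤ) ∣ (n : ℤ) := ⟨k, hnk⟩
      exact_mod_cast h2
  · have h1 : ((charDegree (χ.1 : K → ℂ) : ℤ) : ZMod p) =
        ((ε * charDegree ((f (eK χ)).1 : C → ℂ) : ℤ) : ZMod p) :=
      (ZMod.intCast_eq_intCast_iff _ _ _).mpr hdeg
    push_cast at h1
    show (charDegree ((f (eK χ)).1 : C → ℂ) : ZMod p) = (charDegree (χ.1 : K → ℂ) : ZMod p) ∨
      (charDegree ((f (eK χ)).1 : C → ℂ) : ZMod p) = -(charDegree (χ.1 : K → ℂ) : ZMod p)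
    rcases hε with rfl | rfl
    · left
      rw [h1]
      simp
    · right
      rw [h1]
      simp

end Cfsg.Agent.Lib.helper82
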