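import Mathlib
import Cfsg.Agent.Lib.helper26.S4409Defs

/-!
# S4409, piece Q8LB (racer copy, prefixed name): an involution normalizing a quaternion group `Q`
and centralizing an element `q` of order 4 of `Q` centralizes `Q`, or `q⁻¹ * a` does.
-/

set_option autoImplicit false

namespace Cfsg.Agent.Lib.helper26.S4409

variable {G : Type*} [Group G]

/-- the map of `QuaternionGroup 2` determined by the images `u`, `w` of `a 1`, `xa 0` -/
def h82Psi (u w : QuaternionGroup 2) : QuaternionGroup 2 → QuaternionGroup 2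
  | QuaternionGroup.a i => u ^ i.val
  | QuaternionGroup.xa i => w * u ^ i.val

set_option maxRecDepth 100000 in
theorem h82_q8_dec : ∀ u w x : QuaternionGroup 2,
    (∀ y, h82Psi u w (h82Psi u w y) = y) → x * x ≠ 1 → h82Psi u w x = x →
    (∀ y₁ y₂, h82Psi u w (y₁ * y₂) = h82Psi u w y₁ * h82Psi u w y₂) →
    (∀ y, h82Psi u w y = y) ∨ (∀ y, h82Psi u w y = x * y * x⁻¹) := by
  decide

theorem h82_q8_hom (ψ : QuaternionGroup 2 →* QuaternionGroup 2) (hinv : ∀ y, ψ (ψ y) = y)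
    (x : QuaternionGroup 2) (hx : x * x ≠ 1) (hfix : ψ x = x) :
    (∀ y, ψ y = y) ∨ (∀ y, ψ y = x * y * x⁻¹) := by
  have hψ : ∀ y, ψ y = h82Psi (ψ (QuaternionGroup.a 1)) (ψ (QuaternionGroup.xa 0)) y := by
    intro y
    cases y with
    | a i =>
      show ψ (QuaternionGroup.a i) = ψ (QuaternionGroup.a 1) ^ i.val
      rw [← map_pow, QuaternionGroup.a_one_pow, ZMod.natCast_zmod_val]
    | xa i =>
      show ψ (QuaternionGroup.xa i) =
        ψ (QuaternionGroup.xa 0) * ψ (QuaternionGroup.a 1) ^ i.val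
      rw [← map_pow, ← map_mul, QuaternionGroup.a_one_pow, ZMod.natCast_zmod_val,
        QuaternionGroup.xa_mul_a, zero_add]
  have h1 := h82_q8_dec (ψ (QuaternionGroup.a 1)) (ψ (QuaternionGroup.xa 0)) x
    (fun y => by rw [← hψ, ← hψ, hinv]) hx (by rw [← hψ, hfix])
    (fun y₁ y₂ => by rw [← hψ, ← hψ, ← hψ, map_mul])
  rcases h1 with h | h
  · left; intro y; rw [hψ, h]
  · right; intro y; rw [hψ, h]

/-- Q8LB (racer copy of `q8lb`) -/
theorem h82_q8lb (Q : Subgroup G) (hQ : IsQ8 Q) (a : G) (ha : a ∈ Subgroup.normalizer (Q : Set G))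
    (ha2 : a * a = 1) (q : G) (hq : q ∈ Q) (hq2 : q * q ≠ 1) (hc : a * q = q * a) :
    a ∈ Subgroup.centralizer (Q : Set G) ∨ q⁻¹ * a ∈ Subgroup.centralizer (Q : Set G) := by
  obtain ⟨e⟩ := hQ
  have hmem : ∀ m : ↥Q, a * (m : G) * a⁻¹ ∈ Q :=
    fun m => (Subgroup.mem_normalizer_iff.1 ha m).1 m.2
  have hainv : a⁻¹ = a := inv_eq_of_mul_eq_one_right ha2
  let φ : ↥Q →* ↥Q :=
    { toFun := fun m => ⟨a * (m : G) * a⁻¹, hmem m⟩
      map_one' := Subtype.ext (by simp)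
      map_mul' := fun m n => Subtype.ext (by simp [mul_assoc]) }
  have hφ : ∀ m : ↥Q, ((φ m : ↥Q) : G) = a * (m : G) * a⁻¹ := fun m => rfl
  let ψ : QuaternionGroup 2 →* QuaternionGroup 2 :=
    e.toMonoidHom.comp (φ.comp e.symm.toMonoidHom)
  have hψ : ∀ y, ψ y = e (φ (e.symm y)) := fun y => rfl
  have hφφ : ∀ m, φ (φ m) = m := by
    intro m
    apply Subtype.ext
    rw [hφ, hφ, hainv]
    calc a * (a * (m : G) * a) * a = (a * a) * (m : G) * (a * a) := by group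
      _ = m := by rw [ha2, one_mul, mul_one]
  have hinv : ∀ y, ψ (ψ y) = y := by
    intro y
    rw [hψ, hψ, MulEquiv.symm_apply_apply, hφφ, MulEquiv.apply_symm_apply]
  have hfix : ψ (e ⟨q, hq⟩) = e ⟨q, hq⟩ := by
    rw [hψ, MulEquiv.symm_apply_apply]
    congr 1
    apply Subtype.ext
    rw [hφ]
    show a * q * a⁻¹ = q
    rw [hc, mul_inv_cancel_right]
  have hx : e ⟨q, hq⟩ * e ⟨q, hq⟩ ≠ 1 := by
    intro h
    rw [← map_mul] at h
    have h1 : (⟨q, hq⟩ : ↥Q) * ⟨q, hq⟩ = 1 := by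
      apply e.injective; rw [h, map_one]
    exact hq2 (congrArg Subtype.val h1)
  rcases h82_q8_hom ψ hinv _ hx hfix with h | h
  · left
    rw [Subgroup.mem_centralizer_iff]
    intro m hm
    have h1 := h (e ⟨m, hm⟩)
    rw [hψ, MulEquiv.symm_apply_apply] at h1
    have h2 : φ ⟨m, hm⟩ = ⟨m, hm⟩ := e.injective h1
    have h3 : a * m * a⁻¹ = m := congrArg Subtype.val h2
    exact (mul_inv_eq_iff_eq_mul.1 h3).symm
  · right
    rw [Subgroup.mem_centralizer_iff]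
    intro m hm
    have h1 := h (e ⟨m, hm⟩)
    rw [hψ, MulEquiv.symm_apply_apply, ← map_inv, ← map_mul, ← map_mul] at h1
    have h2 : φ ⟨m, hm⟩ = ⟨q, hq⟩ * ⟨m, hm⟩ * (⟨q, hq⟩ : ↥Q)⁻¹ := e.injective h1
    have h3 : a * m * a⁻¹ = q * m * q⁻¹ := congrArg Subtype.val h2
    have h4 : a * m = q * m * q⁻¹ * a := mul_inv_eq_iff_eq_mul.1 h3
    calc m * (q⁻¹ * a) = q⁻¹ * (q * m * q⁻¹ * a) := by group
      _ = q⁻¹ * (a * m) := by rw [h4]
      _ = q⁻¹ * a * m := by group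

end Cfsg.Agent.Lib.helper26.S4409
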