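import Mathlib
import Cfsg.Agent.Lib.helper26.S4409Defs

/-!
# S4409, piece Q8L, core form: the conclusions of Q8LA (`|X| ∣ 16`) and Q8LB are hypotheses.
-/

set_option autoImplicit false

namespace Cfsg.Agent.Lib.helper26.S4409

variable {G : Type*} [Group G]

theorem helper82_quat_invol :
    ∀ x : QuaternionGroup 2, x * x = 1 → x = 1 ∨ x = QuaternionGroup.a 2 := by
  decide

theorem helper82_card_mul_relIndex [Finite G] (H X : Subgroup G) (h : H ≤ X) :
    Nat.card ↥H * H.relIndex X = Nat.card ↥X := by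
  have h1 := Subgroup.card_mul_index H
  have h2 := Subgroup.card_mul_index X
  have h3 := Subgroup.relIndex_mul_index h
  have hpos : 0 < X.index := Nat.pos_of_ne_zero Subgroup.index_ne_zero_of_finite
  apply Nat.eq_of_mul_eq_mul_right hpos
  rw [mul_assoc, h3, h1, h2]

/-- Q8L, core form. -/
theorem helper82_q8l_core [Finite G] (X Q : Subgroup G) (hX : IsPGroup 2 ↥X) (hQX : Q ≤ X)
    (hn : X ≤ Subgroup.normalizer (Q : Set G)) (hQ : IsQ8 Q)
    (hC : X ⊓ Subgroup.centralizer (Q : Set G) ≤ Q)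
    (h16 : Nat.card ↥X ∣ 16)
    (hLB : ∀ a : G, a ∈ Subgroup.normalizer (Q : Set G) → a * a = 1 → ∀ q : G, q ∈ Q →
      q * q ≠ 1 → a * q = q * a →
      a ∈ Subgroup.centralizer (Q : Set G) ∨ q⁻¹ * a ∈ Subgroup.centralizer (Q : Set G)) :
    NoP X := by
  classical
  obtain ⟨e⟩ := hQ
  have hQ8 : Nat.card ↥Q = 8 := by
    rw [Nat.card_congr e.toEquiv, Nat.card_eq_fintype_card, QuaternionGroup.card]
  -- the unique involution of `Q`
  have hinv : ∀ m ∈ Q, m * m = 1 → m = 1 ∨ m = ((e.symm (QuaternionGroup.a 2) : ↥Q) : G) := by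
    intro m hm hmm
    have h1 : e ⟨m, hm⟩ * e ⟨m, hm⟩ = 1 := by
      rw [← map_mul]
      have h2 : (⟨m, hm⟩ : ↥Q) * ⟨m, hm⟩ = 1 := Subtype.ext hmm
      rw [h2, map_one]
    rcases helper82_quat_invol _ h1 with h3 | h3
    · left
      have h4 : (⟨m, hm⟩ : ↥Q) = 1 := by
        apply e.injective; rw [h3, map_one]
      exact congrArg Subtype.val h4
    · right
      have h4 : (⟨m, hm⟩ : ↥Q) = e.symm (QuaternionGroup.a 2) := by
        apply e.injective; rw [h3, MulEquiv.apply_symm_apply]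
      exact congrArg Subtype.val h4
  intro A hAX hAc hA8
  by_contra hncyc
  haveI : Fact (Nat.Prime 2) := ⟨Nat.prime_two⟩
  have hApg : IsPGroup 2 ↥A := hX.to_le hAX
  -- an involution of `A` outside `Q`
  have hex : ∃ a ∈ A, a * a = 1 ∧ a ∉ Q := by
    by_contra hno
    push_neg at hno
    apply hncyc
    refine Cfsg.Agent.Lib.helper59.isCyclic_of_comm_of_uniqueOrderP 8 ↥A hA8 hApg ?_
      (fun a b => hAc.is_comm.comm a b)
    have key : ∀ L : Subgroup ↥A, Nat.card ↥L = 2 → ∀ x : ↥A,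
        x ∈ L ↔ (x = 1 ∨ (x : G) = ((e.symm (QuaternionGroup.a 2) : ↥Q) : G)) := by
      intro L hL x
      obtain ⟨y, hy1, hyu⟩ := (Nat.card_eq_two_iff' (1 : ↥L)).1 hL
      have hy2 : y ^ 2 = 1 := by
        have := pow_card_eq_one' (G := ↥L) (x := y)
        rwa [hL] at this
      have hy3 : ((y : ↥A) : G) * ((y : ↥A) : G) = 1 := by
        have h5 := congrArg (fun t : ↥L => ((t : ↥A) : G)) hy2
        simpa [pow_two] using h5
      have hy4 : ((y : ↥A) : G) = ((e.symm (QuaternionGroup.a 2) : ↥Q) : G) := by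
        rcases hinv _ (hno _ (y : ↥A).2 hy3) hy3 with h6 | h6
        · exfalso
          apply hy1
          apply Subtype.ext
          apply Subtype.ext
          exact h6
        · exact h6
      constructor
      · intro hx
        by_cases hx1 : (⟨x, hx⟩ : ↥L) = 1
        · left
          exact congrArg Subtype.val hx1
        · right
          have h7 := hyu ⟨x, hx⟩ hx1
          rw [← hy4, ← h7]
      · rintro (rfl | hx)
        · exact L.one_mem
        · have h8 : x = (y : ↥A) := Subtype.ext (by rw [hx, hy4])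
          rw [h8]; exact y.2
    intro H K hH hK
    ext x
    rw [key H hH, key K hK]
  obtain ⟨a, haA, haa, haQ⟩ := hex
  -- an element of order 4 in `A ⊓ Q`
  have hex2 : ∃ q ∈ A ⊓ Q, q * q ≠ 1 := by
    by_contra hno
    push_neg at hno
    have hsub : ((A ⊓ Q : Subgroup G) : Set G) ⊆
        {1, ((e.symm (QuaternionGroup.a 2) : ↥Q) : G)} := by
      intro m hm
      have hm' : m ∈ A ⊓ Q := hm
      rcases hinv m hm'.2 (hno m hm') with h | h
      · left; exact h
      · right; exact h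
    have hle : Nat.card ↥(A ⊓ Q) ≤ 2 := by
      have h1 : Nat.card ↥(A ⊓ Q) = ((A ⊓ Q : Subgroup G) : Set G).ncard :=
        Nat.card_coe_set_eq ((A ⊓ Q : Subgroup G) : Set G)
      rw [h1]
      refine le_trans (Set.ncard_le_ncard hsub (Set.toFinite _)) ?_
      refine le_trans (Set.ncard_insert_le _ _) ?_
      rw [Set.ncard_singleton]
    have e1 := helper82_card_mul_relIndex A X hAX
    have e2 := helper82_card_mul_relIndex Q X hQX
    have e3 := helper82_card_mul_relIndex (A ⊓ Q) X (le_trans inf_le_left hAX)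
    have e4 : (A ⊓ Q).relIndex X ≤ A.relIndex X * Q.relIndex X := Subgroup.relIndex_inf_le
    rw [hA8] at e1
    rw [hQ8] at e2
    have hXpos : 0 < Nat.card ↥X := Nat.card_pos
    have hX16 : Nat.card ↥X ≤ 16 := Nat.le_of_dvd (by norm_num) h16
    have hrA : A.relIndex X ≤ 2 := by omega
    have hrQ : Q.relIndex X ≤ 2 := by omega
    have hr4 : (A ⊓ Q).relIndex X ≤ 4 := le_trans e4 (by nlinarith)
    have hX8 : 8 ≤ Nat.card ↥X := by
      have : 0 < A.relIndex X := by
        rcases Nat.eq_zero_or_pos (A.relIndex X) with h | h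
        · rw [h] at e1; omega
        · exact h
      omega
    -- `n * r = |X|`, `n ≤ 2`, `r ≤ 4`, `8 ≤ |X|`, and `r ≤ rA * rQ`
    have hn2 : Nat.card ↥(A ⊓ Q) * (A ⊓ Q).relIndex X ≤ 2 * (A ⊓ Q).relIndex X :=
      Nat.mul_le_mul_right _ hle
    have hrle : (A ⊓ Q).relIndex X ≤ A.relIndex X * Q.relIndex X := e4
    -- 8 rA = |X|, 8 rQ = |X|, so 64 rA rQ = |X|^2, and |X| = n r ≤ 2 r ≤ 2 rA rQ
    nlinarith
  obtain ⟨q, hq, hqq⟩ := hex2
  have haX : a ∈ X := hAX haA
  have hcomm : a * q = q * a := by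
    have h1 := hAc.is_comm.comm (⟨a, haA⟩ : ↥A) ⟨q, hq.1⟩
    exact congrArg Subtype.val h1
  rcases hLB a (hn haX) haa q hq.2 hqq hcomm with h | h
  · exact haQ (hC ⟨haX, h⟩)
  · have h1 : q⁻¹ * a ∈ Q := hC ⟨X.mul_mem (X.inv_mem (hQX hq.2)) haX, h⟩
    have h2 : q * (q⁻¹ * a) ∈ Q := Q.mul_mem hq.2 h1
    rw [mul_inv_cancel_left] at h2
    exact haQ h2

end Cfsg.Agent.Lib.helper26.S4409
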