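import Mathlib
import Cfsg.Agent.Lib.helper26.S4409Defs
import Cfsg.Agent.Lib.helper16.S4409_Q8LA
import Cfsg.Agent.Lib.helper82.S4409_Q8LB
import Cfsg.Agent.Lib.helper82.S4409_Q8Lcore

/-!
# S4409, piece Q8L: a 2-group `X` normalizing a quaternion subgroup `Q` of order 8 with
`C_X(Q) ≤ Q` has no abelian noncyclic subgroup of order 8.
-/

set_option autoImplicit false

namespace Cfsg.Agent.Lib.helper26.S4409

variable {G : Type*} [Group G]

theorem q8l [Finite G] (X Q : Subgroup G) (hX : IsPGroup 2 ↥X) (hQX : Q ≤ X)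
    (hn : X ≤ Subgroup.normalizer (Q : Set G)) (hQ : IsQ8 Q)
    (hC : X ⊓ Subgroup.centralizer (Q : Set G) ≤ Q) : NoP X :=
  helper82_q8l_core X Q hX hQX hn hQ hC (q8la X Q hX hQX hn hQ hC)
    (fun a ha ha2 q hq hq2 hc => h82_q8lb Q hQ a ha ha2 q hq hq2 hc)

end Cfsg.Agent.Lib.helper26.S4409
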