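import Mathlib
import Cfsg.Agent.Lib.helper3.GfDefs

/-!
# S4395, piece GOURSAT, core form: the VQ data of both covers and the IRRMATCH conclusion are
explicit hypotheses.
-/

set_option autoImplicit false
set_option linter.unusedSectionVars false

namespace Cfsg.Agent.Lib.helper3.Gf

section Side

variable {p q r : ℕ} {K : Type*} [Group K] [Finite K] {N P : Subgroup K} {y : K}
  {V : Type*} [AddCommGroup V] {T : V ≃+ V} {pr : ↥P → V}

theorem h82_gs_pr_one (hadd : ∀ u v : ↥P, pr (u * v) = pr u + pr v) : pr 1 = 0 := by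
  have h := hadd 1 1
  rw [mul_one] at h
  exact add_left_cancel (a := pr 1) (b := pr 1) (c := 0) (by rw [add_zero]; exact h.symm)

theorem h82_gs_fix (hI : Irr p q T) (v : V) (hv : T v = v) : v = 0 := by
  let W : AddSubgroup V :=
    { carrier := {w | T w = w}
      add_mem' := by
        intro a b ha hb
        show T (a + b) = a + b
        rw [map_add, show T a = a from ha, show T b = b from hb]
      zero_mem' := map_zero T
      neg_mem' := by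
        intro a ha
        show T (-a) = -a
        rw [map_neg, show T a = a from ha] }
  have hW : ∀ w, w ∈ W ↔ T w = w := fun w => Iff.rfl
  rcases hI.irr W (fun w hw => by rw [hW] at hw ⊢; rw [hw]; exact hw) with h | h
  · have h1 : v ∈ W := (hW v).2 hv
    rw [h] at h1
    exact AddSubgroup.mem_bot.1 h1
  · obtain ⟨v₀, hv₀⟩ := hI.ne
    have h1 : v₀ ∈ W := by rw [h]; exact AddSubgroup.mem_top _
    exact absurd ((hW v₀).1 h1) hv₀

theorem h82_gs_ypow (h : Cov p q r N P y) (hI : Irr p q T)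
    (hker : ∀ u : ↥P, pr u = 0 ↔ (u : K) ∈ N)
    (hT : ∀ (u : ↥P) (hu : y * (u : K) * y⁻¹ ∈ P), pr ⟨y * (u : K) * y⁻¹, hu⟩ = T (pr u)) :
    y ^ (q ^ r) ∈ N := by
  have hc : y * y ^ (q ^ r) * y⁻¹ = y ^ (q ^ r) := by
    rw [← pow_succ', pow_succ, mul_inv_cancel_right]
  have hmem : y * ((⟨y ^ (q ^ r), h.ord_mem⟩ : ↥P) : K) * y⁻¹ ∈ P := by
    show y * y ^ (q ^ r) * y⁻¹ ∈ P
    rw [hc]; exact h.ord_mem
  have h1 := hT ⟨y ^ (q ^ r), h.ord_mem⟩ hmem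
  have h2 : (⟨y * ((⟨y ^ (q ^ r), h.ord_mem⟩ : ↥P) : K) * y⁻¹, hmem⟩ : ↥P) =
      ⟨y ^ (q ^ r), h.ord_mem⟩ := Subtype.ext hc
  rw [h2] at h1
  exact (hker ⟨y ^ (q ^ r), h.ord_mem⟩).1 (h82_gs_fix hI _ h1.symm)

theorem h82_gs_ypow_dvd (h : Cov p q r N P y) (hI : Irr p q T)
    (hker : ∀ u : ↥P, pr u = 0 ↔ (u : K) ∈ N)
    (hT : ∀ (u : ↥P) (hu : y * (u : K) * y⁻¹ ∈ P), pr ⟨y * (u : K) * y⁻¹, hu⟩ = T (pr u))
    (k : ℕ) (hk : q ^ r ∣ k) : y ^ k ∈ N := by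
  obtain ⟨t, rfl⟩ := hk
  rw [pow_mul]
  exact N.pow_mem (h82_gs_ypow h hI hker hT) t

theorem h82_gs_conj (h : Cov p q r N P y)
    (hT : ∀ (u : ↥P) (hu : y * (u : K) * y⁻¹ ∈ P), pr ⟨y * (u : K) * y⁻¹, hu⟩ = T (pr u)) :
    ∀ (j : ℕ) (u : ↥P) (hu : y ^ j * (u : K) * (y ^ j)⁻¹ ∈ P),
      pr ⟨y ^ j * (u : K) * (y ^ j)⁻¹, hu⟩ = (⇑T)^[j] (pr u) := by
  intro j
  induction j with
  | zero =>
    intro u hu
    have e : (⟨y ^ 0 * (u : K) * (y ^ 0)⁻¹, hu⟩ : ↥P) = u := Subtype.ext (by simp)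
    rw [e]; rfl
  | succ j ih =>
    intro u hu
    have hu' : y ^ j * (u : K) * (y ^ j)⁻¹ ∈ P := h.P_normal.conj_mem _ u.2 _
    have e : y ^ (j + 1) * (u : K) * (y ^ (j + 1))⁻¹ =
        y * (y ^ j * (u : K) * (y ^ j)⁻¹) * y⁻¹ := by
      rw [pow_succ']; group
    have hm : y * ((⟨y ^ j * (u : K) * (y ^ j)⁻¹, hu'⟩ : ↥P) : K) * y⁻¹ ∈ P :=
      h.P_normal.conj_mem _ hu' _
    have e2 : (⟨y ^ (j + 1) * (u : K) * (y ^ (j + 1))⁻¹, hu⟩ : ↥P) =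
        ⟨y * ((⟨y ^ j * (u : K) * (y ^ j)⁻¹, hu'⟩ : ↥P) : K) * y⁻¹, hm⟩ := Subtype.ext e
    rw [e2, hT _ hm, ih u hu', Function.iterate_succ_apply']

theorem h82_gs_decomp (h : Cov p q r N P y) (k : K) :
    ∃ (u : ↥P) (j : ℕ), k = (u : K) * y ^ j := by
  have := h.P_normal
  have hk : k ∈ (↑(P ⊔ Subgroup.zpowers y) : Set K) := by
    rw [h.sup_top]; exact Set.mem_univ _
  rw [Subgroup.normal_mul] at hk
  obtain ⟨u, hu, z, hz, rfl⟩ := Set.mem_mul.1 hk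
  have hz' : z ∈ Submonoid.powers y := mem_powers_iff_mem_zpowers.2 hz
  obtain ⟨j, rfl⟩ := hz'
  exact ⟨⟨u, hu⟩, j, rfl⟩

end Side

theorem h82_gs_iter {V₁ V₂ : Type*} [AddCommGroup V₁] [AddCommGroup V₂] (T₁ : V₁ ≃+ V₁)
    (T₂ : V₂ ≃+ V₂) (m : ℕ) (ψ : V₁ ≃+ V₂) (hψ : ∀ v, ψ (T₁ v) = (⇑T₂)^[m] (ψ v)) (j : ℕ)
    (v : V₁) : ψ ((⇑T₁)^[j] v) = (⇑T₂)^[m * j] (ψ v) := by
  induction j with
  | zero => simp
  | succ j ih =>
    have e : m * (j + 1) = m + m * j := by ring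
    rw [Function.iterate_succ_apply', hψ, ih, e, Function.iterate_add_apply]

theorem h82_gs_nt (m Q i : ℕ) (hm : m ≠ 0) (hQ : 0 < Q) (hc : Nat.Coprime m Q) :
    ∃ j t : ℕ, m * j = i + Q * t := by
  by_cases h1 : Q = 1
  · subst h1
    refine ⟨i, m * i - i, ?_⟩
    have : i ≤ m * i := Nat.le_mul_of_pos_left i (Nat.pos_of_ne_zero hm)
    omega
  · have hQ1 : 1 < Q := by omega
    obtain ⟨j₀, -, hj₀⟩ := Nat.exists_mul_mod_eq_one_of_coprime hc hQ1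
    have h2 := Nat.div_add_mod (m * j₀) Q
    rw [hj₀] at h2
    refine ⟨j₀ * i, (m * j₀ / Q) * i, ?_⟩
    calc m * (j₀ * i) = (m * j₀) * i := by ring
      _ = (Q * (m * j₀ / Q) + 1) * i := by rw [h2]
      _ = i + Q * ((m * j₀ / Q) * i) := by ring

/-- GOURSAT, core form. -/
theorem h82_goursat_core (p q r : ℕ) [Fact p.Prime] [Fact q.Prime] {A B : Type*} [Group A]
    [Finite A] [Group B] [Finite B]
    (NA PA : Subgroup A) (yA : A) (NB PB : Subgroup B) (yB : B)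
    (hA : Cov p q r NA PA yA) (hB : Cov p q r NB PB yB)
    {VA VB : Type*} [AddCommGroup VA] [AddCommGroup VB] (TA : VA ≃+ VA) (TB : VB ≃+ VB)
    (prA : ↥PA → VA) (prB : ↥PB → VB) (hIA : Irr p q TA) (hIB : Irr p q TB)
    (hsA : Function.Surjective prA) (hsB : Function.Surjective prB)
    (haA : ∀ u v : ↥PA, prA (u * v) = prA u + prA v)
    (haB : ∀ u v : ↥PB, prB (u * v) = prB u + prB v)
    (hkA : ∀ u : ↥PA, prA u = 0 ↔ (u : A) ∈ NA) (hkB : ∀ u : ↥PB, prB u = 0 ↔ (u : B) ∈ NB)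
    (hTA : ∀ (u : ↥PA) (hu : yA * (u : A) * yA⁻¹ ∈ PA),
      prA ⟨yA * (u : A) * yA⁻¹, hu⟩ = TA (prA u))
    (hTB : ∀ (u : ↥PB) (hu : yB * (u : B) * yB⁻¹ ∈ PB),
      prB ⟨yB * (u : B) * yB⁻¹, hu⟩ = TB (prB u))
    (m : ℕ) (ψ : VA ≃+ VB) (hm : ¬ q ∣ m) (hψ : ∀ v : VA, ψ (TA v) = (⇑TB)^[m] (ψ v)) :
    ∃ F : Subgroup (A × B), (∀ a : A, ∃ b : B, (a, b) ∈ F) ∧ (∀ b : B, ∃ a : A, (a, b) ∈ F) ∧
      (∀ a : A, (a, (1 : B)) ∈ F ↔ a ∈ NA) ∧ (∀ b : B, ((1 : A), b) ∈ F ↔ b ∈ NB) := by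
  have hq : q.Prime := Fact.out
  have hm0 : m ≠ 0 := by
    rintro rfl
    exact hm (dvd_zero q)
  have hcop : Nat.Coprime (q ^ r) m :=
    Nat.Coprime.pow_left r ((Nat.Prime.coprime_iff_not_dvd hq).2 hm)
  have hQpos : 0 < q ^ r := pow_pos hq.pos r
  let S : Submonoid (A × B) :=
    { carrier := {ab | ∃ (u : ↥PA) (w : ↥PB) (j : ℕ), ab.1 = (u : A) * yA ^ j ∧
        ab.2 = (w : B) * yB ^ (m * j) ∧ ψ (prA u) = prB w}
      one_mem' := ⟨1, 1, 0, by simp, by simp, by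
        rw [h82_gs_pr_one haA, h82_gs_pr_one haB, map_zero]⟩
      mul_mem' := by
        rintro ⟨a, b⟩ ⟨a', b'⟩ ⟨u, w, j, ha, hb, he⟩ ⟨u', w', j', ha', hb', he'⟩
        have hcA : yA ^ j * (u' : A) * (yA ^ j)⁻¹ ∈ PA := hA.P_normal.conj_mem _ u'.2 _
        have hcB : yB ^ (m * j) * (w' : B) * (yB ^ (m * j))⁻¹ ∈ PB :=
          hB.P_normal.conj_mem _ w'.2 _
        refine ⟨u * ⟨_, hcA⟩, w * ⟨_, hcB⟩, j + j', ?_, ?_, ?_⟩
        · show a * a' = ((u : A) * (yA ^ j * (u' : A) * (yA ^ j)⁻¹)) * yA ^ (j + j')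
          have ha0 : a = (u : A) * yA ^ j := ha
          have ha0' : a' = (u' : A) * yA ^ j' := ha'
          rw [ha0, ha0', pow_add]; group
        · show b * b' = ((w : B) * (yB ^ (m * j) * (w' : B) * (yB ^ (m * j))⁻¹)) *
            yB ^ (m * (j + j'))
          have hb0 : b = (w : B) * yB ^ (m * j) := hb
          have hb0' : b' = (w' : B) * yB ^ (m * j') := hb'
          rw [hb0, hb0', mul_add, pow_add]; group
        · rw [haA, haB, map_add, h82_gs_conj hA hTA j u' hcA,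
            h82_gs_conj hB hTB (m * j) w' hcB, he, h82_gs_iter TA TB m ψ hψ, he'] }
  have hSmem : ∀ a b, (a, b) ∈ S ↔ ∃ (u : ↥PA) (w : ↥PB) (j : ℕ), a = (u : A) * yA ^ j ∧
        b = (w : B) * yB ^ (m * j) ∧ ψ (prA u) = prB w := fun a b => Iff.rfl
  let F : Subgroup (A × B) :=
    { toSubmonoid := S
      inv_mem' := by
        intro x hx
        have h1 : x⁻¹ = x ^ (orderOf x - 1) := by
          apply inv_eq_of_mul_eq_one_right
          rw [← pow_succ', Nat.sub_add_cancel (orderOf_pos x), pow_orderOf_eq_one]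
        rw [h1]
        exact S.pow_mem hx _ }
  have hFmem : ∀ a b, (a, b) ∈ F ↔ ∃ (u : ↥PA) (w : ↥PB) (j : ℕ), a = (u : A) * yA ^ j ∧
        b = (w : B) * yB ^ (m * j) ∧ ψ (prA u) = prB w := fun a b => Iff.rfl
  refine ⟨F, ?_, ?_, ?_, ?_⟩
  · intro a
    obtain ⟨u, j, rfl⟩ := h82_gs_decomp hA a
    obtain ⟨w, hw⟩ := hsB (ψ (prA u))
    exact ⟨(w : B) * yB ^ (m * j), (hFmem _ _).2 ⟨u, w, j, rfl, rfl, hw.symm⟩⟩
  · intro b
    obtain ⟨w, i, rfl⟩ := h82_gs_decomp hB b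
    obtain ⟨j, t, hjt⟩ := h82_gs_nt m (q ^ r) i hm0 hQpos hcop.symm
    have hn : yB ^ (q ^ r * t) ∈ NB :=
      h82_gs_ypow_dvd hB hIB hkB hTB _ (Dvd.intro _ rfl)
    have hn' : (yB ^ (q ^ r * t))⁻¹ ∈ PB := PB.inv_mem (hB.N_le_P hn)
    obtain ⟨u, hu⟩ := hsA (ψ.symm (prB (w * ⟨_, hn'⟩)))
    refine ⟨(u : A) * yA ^ j, (hFmem _ _).2 ⟨u, w * ⟨_, hn'⟩, j, rfl, ?_, ?_⟩⟩
    · show (w : B) * yB ^ i = ((w : B) * (yB ^ (q ^ r * t))⁻¹) * yB ^ (m * j)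
      rw [hjt, pow_add]; group
    · rw [hu, AddEquiv.apply_symm_apply]
  · intro a
    rw [hFmem]
    constructor
    · rintro ⟨u, w, j, ha, hb, he⟩
      have h0 : yB ^ (m * j) = (w : B)⁻¹ := eq_inv_of_mul_eq_one_right hb.symm
      have h1 : yB ^ (m * j) ∈ PB := by rw [h0]; exact PB.inv_mem w.2
      have h2 : q ^ r ∣ m * j := hB.ord_dvd _ h1
      have h3 : q ^ r ∣ j := Nat.Coprime.dvd_of_dvd_mul_left hcop h2
      have h4 : yA ^ j ∈ NA := h82_gs_ypow_dvd hA hIA hkA hTA _ h3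
      have h5 : yB ^ (m * j) ∈ NB := h82_gs_ypow_dvd hB hIB hkB hTB _ h2
      have h6 : (w : B) ∈ NB := by
        have h7 : (w : B) = (yB ^ (m * j))⁻¹ := eq_inv_of_mul_eq_one_left hb.symm
        rw [h7]; exact NB.inv_mem h5
      have h8 : prB w = 0 := (hkB w).2 h6
      have h9 : prA u = 0 := by
        rw [h8] at he
        exact ψ.map_eq_zero_iff.1 he
      rw [ha]
      exact NA.mul_mem ((hkA u).1 h9) h4
    · intro ha
      refine ⟨⟨a, hA.N_le_P ha⟩, 1, 0, by simp, by simp, ?_⟩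
      rw [(hkA ⟨a, hA.N_le_P ha⟩).2 ha, map_zero, h82_gs_pr_one haB]
  · intro b
    rw [hFmem]
    constructor
    · rintro ⟨u, w, j, ha, hb, he⟩
      have h0 : yA ^ j = (u : A)⁻¹ := eq_inv_of_mul_eq_one_right ha.symm
      have h1 : yA ^ j ∈ PA := by rw [h0]; exact PA.inv_mem u.2
      have h3 : q ^ r ∣ j := hA.ord_dvd _ h1
      have h2 : q ^ r ∣ m * j := Dvd.dvd.mul_left h3 m
      have h4 : yA ^ j ∈ NA := h82_gs_ypow_dvd hA hIA hkA hTA _ h3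
      have h5 : yB ^ (m * j) ∈ NB := h82_gs_ypow_dvd hB hIB hkB hTB _ h2
      have h6 : (u : A) ∈ NA := by
        have h7 : (u : A) = (yA ^ j)⁻¹ := eq_inv_of_mul_eq_one_left ha.symm
        rw [h7]; exact NA.inv_mem h4
      have h8 : prA u = 0 := (hkA u).2 h6
      have h9 : prB w = 0 := by
        rw [h8, map_zero] at he
        exact he.symm
      rw [hb]
      exact NB.mul_mem ((hkB w).1 h9) h5
    · intro hb
      refine ⟨1, ⟨b, hB.N_le_P hb⟩, 0, by simp, by simp, ?_⟩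
      rw [(hkB ⟨b, hB.N_le_P hb⟩).2 hb, h82_gs_pr_one haA, map_zero]

end Cfsg.Agent.Lib.helper3.Gf
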