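import Mathlib
import Cfsg.Agent.Lib.helper75.PQDefs
import Cfsg.Agent.Lib.helper75.PQTower
import Cfsg.Agent.Lib.helper66.S3B

/-!
# S4306 pieces B4 + B5 (helper82): orbit sums of weight vectors under `H` / `K`
-/

set_option autoImplicit false

namespace Cfsg.Agent.Lib.helper75.PQ

open Cfsg.Agent.Lib.helper66 (WtV Fx cw)
open scoped commutatorElement

section B
variable {Γ : Type*} [Group Γ] [Finite Γ] {F : Type*} [Field F] [IsAlgClosed F]
  {W : Type*} [AddCommGroup W] [Module F W] [FiniteDimensional F W]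
  {ρ : Γ →* Module.End F W} {K H S R : Subgroup Γ} {p q s r : ℕ}

/-- B4 (P1+, `K`-type): if no nontrivial element of `H` fixes the weight, then no weight vector
is fixed by `K`. -/
theorem Tower.no_fix_K (T : Tower ρ K H S R p q s r) (B : Subgroup Γ)
    (hHB : H ≤ Subgroup.normalizer (B : Set Γ)) (μ : Γ → F) (w : W) (hw : WtV ρ ⊤ B μ w)
    (hH : ∀ h ∈ H, h ≠ 1 → ¬ Fx B h μ) (hfix : ∀ k ∈ K, ρ k w = w) : False := by
  classical
  haveI := Fintype.ofFinite H
  have hne := Cfsg.Agent.Lib.helper66.orbit_sum_ne_zero ρ ⊤ B H hHB μ w hw hH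
  apply hne
  apply T.fpfW
  · intro k hk
    rw [map_sum]
    apply Finset.sum_congr rfl
    intro h _
    have e : k * (h : Γ) = (h : Γ) * ((h : Γ)⁻¹ * k * h) := by group
    rw [← Cfsg.Agent.Lib.helper66.rho_mul, e, Cfsg.Agent.Lib.helper66.rho_mul,
      hfix _ (Cfsg.Agent.Lib.helper66.conj_mem_of_normalizer' K h (T.HK h.2) k hk)]
  · intro h hh
    exact Cfsg.Agent.Lib.helper66.orbit_sum_fixed ρ H h hh w

/-- B5 (P1+, `H`-type). -/
theorem Tower.no_fix_H (T : Tower ρ K H S R p q s r) (B : Subgroup Γ)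
    (hKB : K ≤ Subgroup.normalizer (B : Set Γ)) (μ : Γ → F) (w : W) (hw : WtV ρ ⊤ B μ w)
    (hK : ∀ k ∈ K, k ≠ 1 → ¬ Fx B k μ) (hfix : ∀ h ∈ H, ρ h w = w) : False := by
  classical
  haveI := Fintype.ofFinite K
  have hne := Cfsg.Agent.Lib.helper66.orbit_sum_ne_zero ρ ⊤ B K hKB μ w hw hK
  apply hne
  apply T.fpfW
  · intro k hk
    exact Cfsg.Agent.Lib.helper66.orbit_sum_fixed ρ K k hk w
  · intro h hh
    exact Cfsg.Agent.Lib.helper66.orbit_sum_conj ρ K h (T.HK hh) w (hfix h hh)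

end B

end Cfsg.Agent.Lib.helper75.PQ
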