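import Mathlib
import Cfsg.Agent.Lib.helper75.PQDefs
import Cfsg.Agent.Lib.helper75.PQTower
import Cfsg.Agent.Lib.helper66.S3B

/-!
# S4306 (helper82): the norm argument for weights of an abelian invariant subgroup of `R`
-/

set_option autoImplicit false

namespace Cfsg.Agent.Lib.helper75.PQ

open Cfsg.Agent.Lib.helper66 (WtV Fx cw)
open scoped commutatorElement
open scoped IsMulCommutative

section B
variable {Γ : Type*} [Group Γ] [Finite Γ] {F : Type*} [Field F] [IsAlgClosed F]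
  {W : Type*} [AddCommGroup W] [Module F W] [FiniteDimensional F W]
  {ρ : Γ →* Module.End F W} {K H S R : Subgroup Γ} {p q s r : ℕ}

/-- Norm lemma: for a weight `μ` of an abelian invariant subgroup `B ≤ R` fixed by `H`, the
product of the values of `μ` at the `K`-conjugates of `b ∈ B` is a `q`-th root of unity. -/
theorem Tower.h82_norm (T : Tower ρ K H S R p q s r) (B : Subgroup Γ) (hBR : B ≤ R)
    (hab : ∀ b ∈ B, ∀ b' ∈ B, b * b' = b' * b)
    (hKB : K ≤ Subgroup.normalizer (B : Set Γ)) (hHB : H ≤ Subgroup.normalizer (B : Set Γ))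
    (μ : Γ → F) (w : W) (hw : WtV ρ ⊤ B μ w) (hH : ∀ h ∈ H, Fx B h μ)
    (b : Γ) (hb : b ∈ B) [Fintype K] :
    (∏ k : K, μ ((k : Γ) * b * (k : Γ)⁻¹)) ^ q = 1 := by
  classical
  haveI := Fintype.ofFinite H
  haveI : IsMulCommutative B := ⟨⟨fun x y => Subtype.ext (hab x x.2 y y.2)⟩⟩
  let μ' : B →* F :=
    { toFun := fun z => μ z
      map_one' := Cfsg.Agent.Lib.helper66.wt_one ρ ⊤ B μ w hw
      map_mul' := fun x y => Cfsg.Agent.Lib.helper66.wt_mul ρ ⊤ B μ w hw x y x.2 y.2 }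
  have hkb : ∀ k : K, (k : Γ) * b * (k : Γ)⁻¹ ∈ B := fun k =>
    Cfsg.Agent.Lib.helper66.conj_mem_of_normalizer B k (hKB k.2) b hb
  have hconj : ∀ (h : H) (k : K), (h : Γ) * k * b * ((h : Γ) * k)⁻¹ ∈ B := by
    intro h k
    have h2 := Cfsg.Agent.Lib.helper66.conj_mem_of_normalizer B h (hHB h.2) _ (hkb k)
    have e : (h : Γ) * k * b * ((h : Γ) * k)⁻¹ = h * (k * b * (k : Γ)⁻¹) * (h : Γ)⁻¹ := by
      group
    rw [e]; exact h2
  obtain ⟨Nm, hNm⟩ : ∃ Nm : B,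
      Nm = ∏ h : H, ∏ k : K, (⟨(h : Γ) * k * b * ((h : Γ) * k)⁻¹, hconj h k⟩ : B) := ⟨_, rfl⟩
  -- invariance under `H`
  have hNH : ∀ g (hg : g ∈ H),
      Cfsg.Agent.Lib.helper66.conjAut B g (hHB hg) Nm = Nm := by
    intro g hg
    rw [hNm, map_prod]
    apply Fintype.prod_equiv (Equiv.mulLeft (⟨g, hg⟩ : H))
    intro h
    rw [map_prod]
    apply Finset.prod_congr rfl
    intro k _
    apply Subtype.ext
    rw [Cfsg.Agent.Lib.helper66.conjAut_apply]
    show g * ((h : Γ) * k * b * ((h : Γ) * k)⁻¹) * g⁻¹ = (g * (h : Γ)) * k * b * ((g * (h : Γ)) * k)⁻¹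
    group
  -- invariance under `K`
  have hNK : ∀ g (hg : g ∈ K),
      Cfsg.Agent.Lib.helper66.conjAut B g (hKB hg) Nm = Nm := by
    intro g hg
    rw [hNm, map_prod]
    apply Finset.prod_congr rfl
    intro h _
    rw [map_prod]
    have hgh : (h : Γ)⁻¹ * g * h ∈ K :=
      Cfsg.Agent.Lib.helper66.conj_mem_of_normalizer' K h (T.HK h.2) g hg
    apply Fintype.prod_equiv (Equiv.mulLeft (⟨(h : Γ)⁻¹ * g * h, hgh⟩ : K))
    intro k
    apply Subtype.ext
    rw [Cfsg.Agent.Lib.helper66.conjAut_apply]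
    show g * ((h : Γ) * k * b * ((h : Γ) * k)⁻¹) * g⁻¹
      = (h : Γ) * ((h : Γ)⁻¹ * g * h * (k : Γ)) * b * ((h : Γ) * ((h : Γ)⁻¹ * g * h * (k : Γ)))⁻¹
    group
  have hN1 : Nm = 1 := by
    apply Subtype.ext
    apply T.fpfR _ (hBR Nm.2)
    · intro k hk
      have h1 := congrArg (Subtype.val) (hNK k hk)
      rw [Cfsg.Agent.Lib.helper66.conjAut_apply] at h1
      exact mul_inv_eq_iff_eq_mul.mp h1
    · intro h hh
      have h1 := congrArg (Subtype.val) (hNH h hh)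
      rw [Cfsg.Agent.Lib.helper66.conjAut_apply] at h1
      exact mul_inv_eq_iff_eq_mul.mp h1
  have h2 : μ' Nm = (∏ k : K, μ ((k : Γ) * b * (k : Γ)⁻¹)) ^ q := by
    rw [hNm, map_prod]
    have h3 : ∀ h : H, μ' (∏ k : K, (⟨(h : Γ) * k * b * ((h : Γ) * k)⁻¹, hconj h k⟩ : B))
        = ∏ k : K, μ ((k : Γ) * b * (k : Γ)⁻¹) := by
      intro h
      rw [map_prod]
      apply Finset.prod_congr rfl
      intro k _
      show μ ((h : Γ) * k * b * ((h : Γ) * k)⁻¹) = μ ((k : Γ) * b * (k : Γ)⁻¹)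
      have e : (h : Γ) * k * b * ((h : Γ) * k)⁻¹ = h * (k * b * (k : Γ)⁻¹) * (h : Γ)⁻¹ := by
        group
      rw [e]
      exact Cfsg.Agent.Lib.helper66.Fx_conj B μ h (hHB h.2) (hH h h.2) _ (hkb k)
    rw [Finset.prod_congr rfl (fun h _ => h3 h), Finset.prod_const, Finset.card_univ]
    congr 1
    rw [← Nat.card_eq_fintype_card, T.cardH]
  rw [← h2, hN1, map_one]

/-- A weight of an abelian invariant subgroup of `R` fixed by `K` and `H` is trivial
(helper82's own copy of piece B3, used for B6). -/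
theorem Tower.h82_wt_trivial (T : Tower ρ K H S R p q s r) (B : Subgroup Γ) (hBR : B ≤ R)
    (hab : ∀ b ∈ B, ∀ b' ∈ B, b * b' = b' * b)
    (hKB : K ≤ Subgroup.normalizer (B : Set Γ)) (hHB : H ≤ Subgroup.normalizer (B : Set Γ))
    (μ : Γ → F) (w : W) (hw : WtV ρ ⊤ B μ w)
    (hK : ∀ k ∈ K, Fx B k μ) (hH : ∀ h ∈ H, Fx B h μ) : ∀ b ∈ B, μ b = 1 := by
  classical
  intro b hb
  haveI := Fintype.ofFinite K
  have h1 := T.h82_norm B hBR hab hKB hHB μ w hw hH b hb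
  have h2 : ∏ k : K, μ ((k : Γ) * b * (k : Γ)⁻¹) = μ b ^ p := by
    rw [Finset.prod_congr rfl (fun (k : K) _ =>
      Cfsg.Agent.Lib.helper66.Fx_conj B μ k (hKB k.2) (hK k k.2) b hb),
      Finset.prod_const, Finset.card_univ]
    congr 1
    rw [← Nat.card_eq_fintype_card, T.cardK]
  rw [h2, ← pow_mul] at h1
  obtain ⟨n, hn⟩ := T.Rgrp ⟨b, hBR hb⟩
  have hn' : b ^ r ^ n = 1 := by
    have := congrArg Subtype.val hn
    simpa using this
  apply Cfsg.Agent.Lib.helper66.wt_eq_one_of_pow ρ ⊤ B μ w hw b hb (p * q) (r ^ n) h1 hn'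
  apply Nat.Coprime.pow_right
  apply Nat.Coprime.mul_left
  · exact (Nat.coprime_primes T.hp T.hr).mpr (Ne.symm T.hrp)
  · exact (Nat.coprime_primes T.hq T.hr).mpr (Ne.symm T.hrq)

end B

end Cfsg.Agent.Lib.helper75.PQ
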