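import Mathlib
import Cfsg.Agent.Lib.helper75.PQDefs
import Cfsg.Agent.Lib.helper75.PQTower
import Cfsg.Agent.Lib.helper66.S3B
import Cfsg.Agent.Lib.helper82.PQ_BNorm
import Cfsg.Agent.Lib.helper82.PQ_B45

/-!
# S4306 piece B6 (helper82): STAR — an abelian subgroup of `R` centralized by `K` and normalized
by `H` acts trivially on the fixed space of `K`
-/

set_option autoImplicit false

namespace Cfsg.Agent.Lib.helper75.PQ

open Cfsg.Agent.Lib.helper66 (WtV Fx cw)
open scoped commutatorElement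

section B
variable {Γ : Type*} [Group Γ] [Finite Γ] {F : Type*} [Field F] [IsAlgClosed F]
  {W : Type*} [AddCommGroup W] [Module F W] [FiniteDimensional F W]
  {ρ : Γ →* Module.End F W} {K H S R : Subgroup Γ} {p q s r : ℕ}

/-- B6 (STAR): an abelian subgroup of `R` centralized by `K` and normalized by `H` acts
trivially on the fixed space of `K`. -/
theorem Tower.star (T : Tower ρ K H S R p q s r) (B : Subgroup Γ) (hBR : B ≤ R)
    (hab : ∀ b ∈ B, ∀ b' ∈ B, b * b' = b' * b)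
    (hKB : ∀ b ∈ B, ∀ k ∈ K, k * b = b * k) (hHB : H ≤ Subgroup.normalizer (B : Set Γ)) :
    ∀ b ∈ B, ∀ w : W, (∀ k ∈ K, ρ k w = w) → ρ b w = w := by
  classical
  intro b hb w hw
  by_contra hne
  obtain ⟨M, hM⟩ : ∃ M : Submodule F W, ∀ x, x ∈ M ↔ ∀ k ∈ K, ρ k x = x :=
    ⟨{ carrier := {x | ∀ k ∈ K, ρ k x = x}
       add_mem' := fun {a b} ha hb k hk => by rw [map_add, ha k hk, hb k hk]
       zero_mem' := fun k _ => map_zero _
       smul_mem' := fun c x hx k hk => by rw [map_smul, hx k hk] }, fun x => Iff.rfl⟩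
  have hBM : ∀ z ∈ B, ∀ x ∈ M, ρ z x ∈ M := by
    intro z hz x hx
    rw [hM] at hx ⊢
    intro k hk
    rw [← Cfsg.Agent.Lib.helper66.rho_mul, hKB z hz k hk, Cfsg.Agent.Lib.helper66.rho_mul,
      hx k hk]
  have hcomm : ∀ z ∈ B, ∀ z' ∈ B, ∀ x ∈ M, ρ (z * z') x = ρ (z' * z) x := by
    intro z hz z' hz' x _
    rw [hab z hz z' hz']
  obtain ⟨n, hn⟩ := T.Rgrp ⟨b, hBR hb⟩
  have hn' : b ^ r ^ n = 1 := by
    have := congrArg Subtype.val hn
    simpa using this
  have hrF : ((r ^ n : ℕ) : F) ≠ 0 := by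
    rw [Nat.cast_pow]
    exact pow_ne_zero n T.rF
  obtain ⟨μ, w', hw'M, hw'0, hw'wt, hμb⟩ :=
    Cfsg.Agent.Lib.helper66.exists_joint_eigen ρ M B hBM hcomm b hb (r ^ n) hrF hn'
      ⟨w, (hM w).mpr hw, hne⟩
  have hwt : WtV ρ ⊤ B μ w' := ⟨Submodule.mem_top, hw'0, hw'wt⟩
  have hcj : ∀ k ∈ K, ∀ x ∈ B, k⁻¹ * x * k = x := by
    intro k hk x hx
    rw [mul_assoc, ← hKB x hx k hk]
    group
  have hcj' : ∀ k ∈ K, ∀ x ∈ B, k * x * k⁻¹ = x := by
    intro k hk x hx
    rw [hKB x hx k hk]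
    group
  have hKn : K ≤ Subgroup.normalizer (B : Set Γ) := by
    intro k hk
    apply Cfsg.Agent.Lib.helper66.mem_normalizer_of_conj
    · intro x hx
      rw [hcj' k hk x hx]
      exact hx
    · intro x hx
      rw [hcj k hk x hx]
      exact hx
  have hKfx : ∀ k ∈ K, Fx B k μ := by
    intro k hk z hz
    rw [hcj k hk z hz]
  by_cases hex : ∃ h ∈ H, h ≠ 1 ∧ Fx B h μ
  · obtain ⟨h, hh, hh1, hfx⟩ := hex
    have hHfx : ∀ h' ∈ H, Fx B h' μ := by
      intro h' hh'
      haveI : Fact q.Prime := ⟨T.hq⟩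
      have hz := zpowers_eq_top_of_prime_card (G := H) T.cardH (g := ⟨h, hh⟩)
        (by
          intro e
          apply hh1
          exact congrArg Subtype.val e)
      have hmem : (⟨h', hh'⟩ : H) ∈ Subgroup.zpowers (⟨h, hh⟩ : H) := by
        rw [hz]
        trivial
      rw [← mem_powers_iff_mem_zpowers] at hmem
      obtain ⟨m, hm⟩ := hmem
      have hm' : h ^ m = h' := by
        have := congrArg Subtype.val hm
        simpa using this
      rw [← hm']
      exact Cfsg.Agent.Lib.helper66.Fx_pow B μ h (hHB hh) hfx m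
    exact hμb (T.h82_wt_trivial B hBR hab hKn hHB μ w' hwt hKfx hHfx b hb)
  · apply T.no_fix_K B hHB μ w' hwt
    · intro h hh hh1 hfx
      exact hex ⟨h, hh, hh1, hfx⟩
    · exact (hM w').mp hw'M

end B

end Cfsg.Agent.Lib.helper75.PQ
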