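import Mathlib

/-!
# S2279, piece E (insurance copy by helper82): a Lucas-type non-divisibility of a binomial
coefficient.
-/

set_option autoImplicit false

namespace Cfsg.Agent.Lib.helper45.RU

/-- `binom(m, p^e) ≡ ⌊m / p^e⌋ (mod p)` (Lucas). -/
theorem h82_choose_pow_modEq (p : ℕ) (hp : p.Prime) (e : ℕ) :
    ∀ m : ℕ, m.choose (p ^ e) ≡ m / p ^ e [MOD p] := by
  haveI : Fact p.Prime := ⟨hp⟩
  induction e with
  | zero =>
    intro m
    simp [Nat.ModEq]
  | succ e ih =>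
    intro m
    have h1 := Choose.choose_modEq_choose_mod_mul_choose_div_nat (p := p) (n := m) (k := p ^ (e + 1))
    have h2 : p ^ (e + 1) % p = 0 := by
      rw [pow_succ]; exact Nat.mul_mod_left _ _
    have h3 : p ^ (e + 1) / p = p ^ e := by
      rw [pow_succ]; exact Nat.mul_div_cancel _ hp.pos
    rw [h2, h3, Nat.choose_zero_right, one_mul] at h1
    have h4 := ih (m / p)
    have h5 : m / p / p ^ e = m / p ^ (e + 1) := by
      rw [Nat.div_div_eq_div_mul, pow_succ, mul_comm]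
    rw [h5] at h4
    exact h1.trans h4

/-- E -/
theorem h82_choose_not_dvd (p : ℕ) (hp : p.Prime) (e n' : ℕ) (hn' : ¬ p ∣ n') :
    ¬ p ∣ (p ^ e * n' + p ^ e - 1).choose (p ^ e) := by
  intro hdvd
  apply hn'
  have hpos : 0 < p ^ e := pow_pos hp.pos e
  have h1 := h82_choose_pow_modEq p hp e (p ^ e * n' + p ^ e - 1)
  have h2 : (p ^ e * n' + p ^ e - 1) / p ^ e = n' := by
    have h3 : p ^ e * n' + p ^ e - 1 = p ^ e * n' + (p ^ e - 1) := by omega
    rw [h3, Nat.mul_add_div hpos, Nat.div_eq_of_lt (by omega), add_zero]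
  rw [h2] at h1
  have h4 : (p ^ e * n' + p ^ e - 1).choose (p ^ e) ≡ 0 [MOD p] :=
    (Nat.modEq_zero_iff_dvd).mpr hdvd
  exact (Nat.modEq_zero_iff_dvd).mp (h1.symm.trans h4)

end Cfsg.Agent.Lib.helper45.RU
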