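import Mathlib

/-!
# S2279, piece GD (insurance copy by helper82): a multiplicatively closed set containing `0` and
`c ^ (p ^ e)`, `c` a generator of the multiplicative group of a finite field, is everything.
-/

set_option autoImplicit false

namespace Cfsg.Agent.Lib.helper45.RU

variable {F : Type*} [Field F]

/-- GD -/
theorem h82_abs_GD [Fintype F] (c : F) (hc : ∀ a : F, a ≠ 0 → ∃ m : ℕ, 0 < m ∧ c ^ m = a)
    (p : ℕ) [Fact p.Prime] [CharP F p] (e : ℕ) (R : Set F) (h0 : (0 : F) ∈ R)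
    (hmul : ∀ x y, x ∈ R → y ∈ R → x * y ∈ R) (hw : c ^ (p ^ e) ∈ R) : ∀ x : F, x ∈ R := by
  have hpow : ∀ (w : F), w ∈ R → ∀ k : ℕ, w ^ (k + 1) ∈ R := by
    intro w hw k
    induction k with
    | zero => simpa using hw
    | succ k ih => rw [pow_succ]; exact hmul _ _ ih hw
  obtain ⟨f, _, hq⟩ := FiniteField.card F p
  have hcq : ∀ k : ℕ, c ^ ((Fintype.card F) ^ k) = c := by
    intro k
    induction k with
    | zero => simp
    | succ k ih => rw [pow_succ, pow_mul, ih, FiniteField.pow_card]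
  have hcR : c ∈ R := by
    have h1 : c = (c ^ (p ^ e)) ^ (p ^ (e * ((f : ℕ) - 1))) := by
      rw [← pow_mul, ← pow_add]
      have h2 : e + e * ((f : ℕ) - 1) = (f : ℕ) * e := by
        obtain ⟨g, hg⟩ : ∃ g, (f : ℕ) = g + 1 := ⟨(f : ℕ) - 1, by have := f.pos; omega⟩
        rw [hg]
        simp only [Nat.add_sub_cancel]
        ring
      rw [h2, pow_mul, ← hq]
      exact (hcq e).symm
    have hpos : 0 < p ^ (e * ((f : ℕ) - 1)) := pow_pos (Fact.out : p.Prime).pos _
    obtain ⟨k, hk⟩ : ∃ k, p ^ (e * ((f : ℕ) - 1)) = k + 1 :=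
      ⟨p ^ (e * ((f : ℕ) - 1)) - 1, by omega⟩
    rw [h1, hk]
    exact hpow _ hw k
  intro x
  by_cases hx : x = 0
  · rw [hx]; exact h0
  · obtain ⟨m, hm, rfl⟩ := hc x hx
    obtain ⟨k, rfl⟩ : ∃ k, m = k + 1 := ⟨m - 1, by omega⟩
    exact hpow c hcR k

end Cfsg.Agent.Lib.helper45.RU
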