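import Mathlib
import Cfsg.Agent.Lib.helper51.LevDefs

set_option autoImplicit false

namespace Cfsg.Agent.Lib.helper51.Lev

open Matrix

/-- Abstract core of CH2A: a quadratic endomorphism whose compression to `ker L` along `G x`
is again "quadratic with constant term one" is a scalar plus a rank one map. -/
theorem helper82_ch2_core {K V : Type*} [Field K] [AddCommGroup V] [Module K V]
    (G : V →ₗ[K] V) (L : V →ₗ[K] K) (s p s' : K)
    (hq : ∀ v, G (G v) = s • G v - p • v) (hp : p ≠ 1) (z : V)
    (hz : LinearIndependent K ![z, G z]) (hLx : L (z - G z) = 1)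
    (hbad : ∀ h, L h = 0 →
      G (G h - L (G h) • G (z - G z)) - L (G (G h - L (G h) • G (z - G z))) • G (z - G z)
        = s' • (G h - L (G h) • G (z - G z)) - h)
    (hv : ∃ v, v ∉ Submodule.span K {z, G z}) :
    ∃ (a : K) (e : V) (φ : V → K), ∀ v, G v - a • v = φ v • e := by
  set T : Submodule K V := Submodule.span K {z, G z} with hT
  set x : V := z - G z with hx
  have hzT : z ∈ T := Submodule.subset_span (by simp)
  have hgzT : G z ∈ T := Submodule.subset_span (by simp)
  have hGT : ∀ w ∈ T, G w ∈ T := by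
    intro w hw
    obtain ⟨c, d, rfl⟩ := Submodule.mem_span_pair.1 hw
    rw [map_add, map_smul, map_smul, hq z]
    exact T.add_mem (T.smul_mem _ hgzT)
      (T.smul_mem _ (T.sub_mem (T.smul_mem _ hgzT) (T.smul_mem _ hzT)))
  have hxT : x ∈ T := T.sub_mem hzT hgzT
  have hGxT : G x ∈ T := hGT x hxT
  have hGGxT : G (G x) ∈ T := hGT _ hGxT
  -- Step A
  have hA : ∀ h, L h = 0 → (s - s') • G h + (1 - p) • h ∈ T := by
    intro h hh
    have hb := hbad h hh
    set κ := L (G h) with hκ
    set κ' := L (G (G h - κ • G x)) with hκ'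
    have e1 : (s - s') • G h + (1 - p) • h = κ • G (G x) + κ' • G x - (s' * κ) • G x := by
      have e2 : G (G h - κ • G x) = s • G h - p • h - κ • G (G x) := by
        rw [map_sub, map_smul, hq h]
      rw [e2] at hb
      linear_combination (norm := module) hb
    rw [e1]
    exact T.sub_mem (T.add_mem (T.smul_mem _ hGGxT) (T.smul_mem _ hGxT)) (T.smul_mem _ hGxT)
  -- Step B
  have hB : ∀ v, (s - s') • G v + (1 - p) • v ∈ T := by
    intro v
    have h0 : L (v - L v • x) = 0 := by
      rw [map_sub, map_smul, hLx]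
      simp
    have h1 := hA _ h0
    have e1 : (s - s') • G v + (1 - p) • v
        = ((s - s') • G (v - L v • x) + (1 - p) • (v - L v • x))
          + L v • ((s - s') • G x + (1 - p) • x) := by
      rw [map_sub, map_smul]
      module
    rw [e1]
    exact T.add_mem h1 (T.smul_mem _ (T.add_mem (T.smul_mem _ hGxT) (T.smul_mem _ hxT)))
  obtain ⟨v₀, hv₀⟩ := hv
  have hp1 : (1 - p) ≠ 0 := sub_ne_zero.2 (Ne.symm hp)
  -- Step C
  have hss : s - s' ≠ 0 := by
    intro h0
    apply hv₀
    have h1 := hB v₀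
    rw [h0, zero_smul, zero_add] at h1
    have h2 := T.smul_mem (1 - p)⁻¹ h1
    rwa [inv_smul_smul₀ hp1] at h2
  -- Step D
  set a : K := (p - 1) / (s - s') with ha
  have hD : ∀ v, G v - a • v ∈ T := by
    intro v
    have h1 := T.smul_mem (s - s')⁻¹ (hB v)
    have e1 : (s - s')⁻¹ • ((s - s') • G v + (1 - p) • v) = G v - a • v := by
      rw [smul_add, inv_smul_smul₀ hss, smul_smul]
      have : (s - s')⁻¹ * (1 - p) = -a := by
        rw [ha]; field_simp; ring
      rw [this, neg_smul, sub_eq_add_neg]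
    rwa [e1] at h1
  -- Step E
  have hE : a ^ 2 - s * a + p = 0 := by
    by_contra hne
    apply hv₀
    have h1 : G v₀ - a • v₀ ∈ T := hD v₀
    have e1 : (a ^ 2 - s * a + p) • v₀
        = s • (G v₀ - a • v₀) - a • (G v₀ - a • v₀) - G (G v₀ - a • v₀) := by
      rw [map_sub, map_smul, hq v₀]
      module
    have h2 : (a ^ 2 - s * a + p) • v₀ ∈ T := by
      rw [e1]
      exact T.sub_mem (T.sub_mem (T.smul_mem _ h1) (T.smul_mem _ h1)) (hGT _ h1)
    have h3 := T.smul_mem (a ^ 2 - s * a + p)⁻¹ h2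
    rwa [inv_smul_smul₀ hne] at h3
  -- Step F
  have hF : ∀ v, ∃ c : K, G v - a • v = c • (G z - a • z) := by
    intro v
    obtain ⟨α, β, hαβ⟩ := Submodule.mem_span_pair.1 (hD v)
    have e1 : G (G v - a • v) - (s - a) • (G v - a • v) = 0 := by
      have : G (G v - a • v) - (s - a) • (G v - a • v) = (-(a ^ 2 - s * a + p)) • v := by
        rw [map_sub, map_smul, hq v]
        module
      rw [this, hE, neg_zero, zero_smul]
    rw [← hαβ, map_add, map_smul, map_smul, hq z] at e1
    have e2 : (-(β * p) - (s - a) * α) • z + (α + a * β) • G z = 0 := by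
      rw [← e1]
      module
    have h3 := (LinearIndependent.pair_iff.1 hz) _ _ e2
    refine ⟨β, ?_⟩
    have h4 : α = -(a * β) := by
      have := h3.2
      linear_combination this
    rw [← hαβ, h4]
    module
  choose φ hφ using hF
  exact ⟨a, G z - a • z, φ, hφ⟩

variable {K : Type*} [Field K]

/-- PIECE CH2A: for quadratic `g` (constant term `p ≠ 1`), `x = z - g z`, `lam = (1 + t, t)` on
`(z, g z)` with `t (1 - s + p) = 1 - p`: if the compression is of type `IsQ1` then `g` is
scalar plus rank one. -/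
theorem ch2_h3 {ι : Type} [Fintype ι] [DecidableEq ι] (h3 : 3 ≤ Fintype.card ι)
    (g : Matrix ι ι K) (hdet : g.det = 1) (hinv : IsUnit (g - 1)) (hns : NonScalar g) (s p : K)
    (hq : g * g = s • g - p • (1 : Matrix ι ι K)) (hp : p ≠ 1) (z : ι → K)
    (hz : LinearIndependent K ![z, g *ᵥ z]) (t : K) (ht : t * (1 - s + p) = 1 - p)
    (lam : ι → K) (hl0 : lam ⬝ᵥ z = 1 + t) (hl1 : lam ⬝ᵥ (g *ᵥ z) = t) (s' : K)
    (hbad : ∀ h, lam ⬝ᵥ h = 0 → Dt g (z - g *ᵥ z) lam (Dt g (z - g *ᵥ z) lam h) =
      s' • Dt g (z - g *ᵥ z) lam h - h) : IsR1 g := by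
  classical
  let G : (ι → K) →ₗ[K] (ι → K) := Matrix.mulVecLin g
  let L : (ι → K) →ₗ[K] K :=
    { toFun := fun v => lam ⬝ᵥ v
      map_add' := fun v w => dotProduct_add lam v w
      map_smul' := fun c v => by simp [dotProduct_smul] }
  have hG : ∀ v, G v = g *ᵥ v := fun v => rfl
  have hL : ∀ v, L v = lam ⬝ᵥ v := fun v => rfl
  have hq' : ∀ v, G (G v) = s • G v - p • v := by
    intro v
    rw [hG, hG, Matrix.mulVec_mulVec, hq, Matrix.sub_mulVec, Matrix.smul_mulVec, Matrix.smul_mulVec,
      Matrix.one_mulVec]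
  have hLx : L (z - G z) = 1 := by
    rw [map_sub, hL, hL, hG, hl0, hl1]
    ring
  have hv : ∃ v, v ∉ Submodule.span K {z, G z} := by
    by_contra hcon0
    have hcon : ∀ v, v ∈ Submodule.span K {z, G z} := not_exists_not.1 hcon0
    have htop : Submodule.span K ({z, G z} : Set (ι → K)) = ⊤ := by
      rw [eq_top_iff]
      intro v _
      exact hcon v
    have h1 : Module.finrank K (Submodule.span K ({z, G z} : Set (ι → K))) ≤ 2 := by
      have h2 := finrank_span_finset_le_card (R := K) ({z, G z} : Finset (ι → K))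
      have h3 : (({z, G z} : Finset (ι → K)) : Set (ι → K)) = {z, G z} := by
        simp
      rw [Set.finrank, h3] at h2
      exact h2.trans Finset.card_le_two
    rw [htop, finrank_top, Module.finrank_fintype_fun_eq_card] at h1
    omega
  obtain ⟨a, e, φ, hφ⟩ := helper82_ch2_core G L s p s' hq' hp z hz hLx (fun h hh => hbad h hh) hv
  refine ⟨a, e, fun j => φ (Pi.single j 1), ?_⟩
  ext i j
  have h1 := congrFun (hφ (Pi.single j 1)) i
  rw [hG] at h1
  simp only [Pi.sub_apply, Pi.smul_apply, smul_eq_mul, Matrix.mulVec_single_one] at h1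
  simp only [Matrix.add_apply, Matrix.smul_apply, smul_eq_mul, Matrix.vecMulVec_apply,
    Matrix.one_apply]
  have h2 : g i j = (g.col j) i := rfl
  rw [Pi.single_apply] at h1
  rw [h2]
  linear_combination h1

end Cfsg.Agent.Lib.helper51.Lev
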