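import Mathlib
import Cfsg.Prelude.Def_Solvable

set_option autoImplicit false
set_option linter.style.haveILetI false
set_option linter.unusedSectionVars false

namespace Cfsg.Agent.Lib.helper82

open scoped Pointwise commutatorElement

section

variable {G : Type*} [Group G] [Finite G] {p n : ℕ}

/-- A group of order `p * n` with `n < p` has a normal subgroup of order `p`. -/
theorem exists_normal_of_card_eq_prime_mul (hp : p.Prime) (hnp : n < p)
    (hcard : Nat.card G = p * n) :
    ∃ P : Subgroup G, P.Normal ∧ Nat.card P = p ∧ P.index = n := by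
  haveI : Fact p.Prime := ⟨hp⟩
  have hn0 : 0 < n := by
    rcases Nat.eq_zero_or_pos n with h | h
    · rw [h, mul_zero] at hcard
      exact absurd hcard Nat.card_pos.ne'
    · exact h
  have hcop : ¬ p ∣ n := fun h => absurd (Nat.le_of_dvd hn0 h) (by omega)
  obtain ⟨P⟩ := (Sylow.nonempty : Nonempty (Sylow p G))
  have hPcard : Nat.card P = p := by
    rw [P.card_eq_multiplicity, hcard, Nat.factorization_mul hp.ne_zero hn0.ne']
    simp [hp.factorization_self, Nat.factorization_eq_zero_of_not_dvd hcop]
  have hPidx : (P : Subgroup G).index = n := by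
    have h1 := (P : Subgroup G).card_mul_index
    rw [hPcard, hcard] at h1
    exact Nat.eq_of_mul_eq_mul_left hp.pos h1
  have h1 : Nat.card (Sylow p G) ≡ 1 [MOD p] := card_sylow_modEq_one p G
  have h2 : Nat.card (Sylow p G) ∣ n := hPidx ▸ P.card_dvd_index
  have h3 : Nat.card (Sylow p G) ≤ n := Nat.le_of_dvd hn0 h2
  have h4 : Nat.card (Sylow p G) = 1 := by
    have h5 : Nat.card (Sylow p G) % p = 1 % p := h1
    rw [Nat.mod_eq_of_lt (by omega), Nat.mod_eq_of_lt hp.one_lt] at h5
    exact h5
  haveI : Subsingleton (Sylow p G) := (Nat.card_eq_one_iff_unique.mp h4).1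
  exact ⟨P, P.normal_of_subsingleton, hPcard, hPidx⟩

/-- In a group of order `p * n` in which every abelian subgroup has index at least `n`,
a subgroup of order `p` is self-centralizing. -/
theorem mem_of_commute_of_abelian_bound (hp : p.Prime) (hcard : Nat.card G = p * n)
    (hab : ∀ B : Subgroup G, (∀ a ∈ B, ∀ b ∈ B, a * b = b * a) → n ≤ B.index)
    (P : Subgroup G) (hP : Nat.card P = p) (c : G) (hc : ∀ x ∈ P, c * x = x * c) : c ∈ P := by
  haveI : Fact p.Prime := ⟨hp⟩
  by_contra hcP
  haveI : IsCyclic P := isCyclic_of_prime_card hP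
  have hPcomm : ∀ a ∈ P, ∀ b ∈ P, a * b = b * a := fun a ha b hb => setLike_mul_comm ha hb
  let S : Set G := (P : Set G) ∪ {c}
  have hS : ∀ x ∈ S, ∀ y ∈ S, x * y = y * x := by
    rintro x (hx | hx) y (hy | hy)
    · exact hPcomm x hx y hy
    · rw [Set.mem_singleton_iff] at hy; subst hy; exact (hc x hx).symm
    · rw [Set.mem_singleton_iff] at hx; subst hx; exact hc y hy
    · rw [Set.mem_singleton_iff] at hx hy; subst hx; subst hy; rfl
  have hBc : IsMulCommutative (Subgroup.closure S) := Subgroup.isMulCommutative_closure hS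
  have hB : ∀ a ∈ Subgroup.closure S, ∀ b ∈ Subgroup.closure S, a * b = b * a :=
    fun a ha b hb => setLike_mul_comm ha hb
  have hPB : P ≤ Subgroup.closure S := fun x hx => Subgroup.subset_closure (Or.inl hx)
  have hcB : c ∈ Subgroup.closure S := Subgroup.subset_closure (Or.inr rfl)
  have h1 : Nat.card P ∣ Nat.card (Subgroup.closure S) := Subgroup.card_dvd_of_le hPB
  have h2 : Nat.card P ≠ Nat.card (Subgroup.closure S) := by
    intro h
    have := Subgroup.eq_of_le_of_card_ge hPB h.ge
    exact hcP (this ▸ hcB)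
  have h3 : 2 * p ≤ Nat.card (Subgroup.closure S) := by
    obtain ⟨k, hk⟩ := h1
    rw [hP] at hk h2
    have hk0 : k ≠ 0 := by
      rintro rfl
      rw [mul_zero] at hk
      exact absurd hk Nat.card_pos.ne'
    have hk1 : k ≠ 1 := by
      rintro rfl
      rw [mul_one] at hk
      exact h2 hk.symm
    rw [hk]
    have : 2 ≤ k := by omega
    nlinarith
  have h4 := (Subgroup.closure S).card_mul_index
  have h5 := hab _ hB
  rw [hcard] at h4
  have hn0 : 0 < n := by
    rcases Nat.eq_zero_or_pos n with h | h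
    · rw [h, mul_zero] at hcard
      exact absurd hcard Nat.card_pos.ne'
    · exact h
  have hp0 := hp.pos
  nlinarith [Nat.mul_le_mul h3 h5]

/-- A complement to a self-centralizing normal subgroup of prime order is a Frobenius
complement with that subgroup as kernel. -/
theorem frobenius_of_complement (hp : p.Prime) (P K : Subgroup G) [hPn : P.Normal]
    (hP : Nat.card P = p) (hcent : ∀ c : G, (∀ x ∈ P, c * x = x * c) → c ∈ P)
    (hPK : P.IsComplement' K) (hK1 : K ≠ ⊥) :
    Cfsg.IsFrobeniusComplement K ∧ Cfsg.frobeniusKernel K = (P : Set G) := by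
  haveI : Fact p.Prime := ⟨hp⟩
  have hdisj : ∀ x, x ∈ P → x ∈ K → x = 1 := by
    intro x hxP hxK
    have := hPK.disjoint
    rw [Subgroup.disjoint_def] at this
    exact this hxP hxK
  -- a nontrivial element of P generates P
  have hgen : ∀ x ∈ P, x ≠ 1 → ∀ k : G, k * x = x * k → k ∈ P := by
    intro x hx hx1 k hk
    apply hcent
    intro y hy
    have hmem : (⟨y, hy⟩ : P) ∈ Subgroup.zpowers (⟨x, hx⟩ : P) :=
      mem_zpowers_of_prime_card hP (by simpa using hx1)
    obtain ⟨m, hm⟩ := Subgroup.mem_zpowers_iff.mp hmem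
    have hy' : y = x ^ m := by
      have := congrArg Subtype.val hm
      simpa using this.symm
    rw [hy']
    exact (Commute.zpow_right (show Commute k x from hk) m).eq
  -- factorization
  have hfac : ∀ g : G, ∃ x ∈ P, ∃ k ∈ K, g = x * k := by
    intro g
    have htop : P ⊔ K = ⊤ := hPK.sup_eq_top
    have hg : g ∈ P ⊔ K := htop ▸ Subgroup.mem_top g
    rw [Subgroup.mem_sup_of_normal_left] at hg
    obtain ⟨x, hx, k, hk, rfl⟩ := hg
    exact ⟨x, hx, k, hk, rfl⟩
  have hKP : K ≠ ⊤ := by
    rintro rfl
    have : P = ⊥ := by simpa using hPK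
    rw [this, Subgroup.card_bot] at hP
    exact hp.one_lt.ne hP
  refine ⟨⟨hK1, hKP, ?_⟩, ?_⟩
  · intro g hg
    rw [eq_bot_iff]
    rintro h ⟨hhK', hh'⟩
    have hhK : h ∈ K := hhK'
    have hh : h ∈ MulAut.conj g • K := hh'
    clear hhK' hh'
    rw [Subgroup.mem_bot]
    obtain ⟨x, hx, k₀, hk₀, rfl⟩ := hfac g
    have hx1 : x ≠ 1 := by
      rintro rfl
      exact hg (by simpa using hk₀)
    rw [Subgroup.mem_pointwise_smul_iff_inv_smul_mem] at hh
    simp only [MulAut.smul_def, MulAut.conj_inv_apply] at hh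
    -- k' := k₀ * ((x*k₀)⁻¹ * h * (x*k₀)) * k₀⁻¹ = x⁻¹ * h * x ∈ K
    have hk' : x⁻¹ * h * x ∈ K := by
      have := K.mul_mem (K.mul_mem hk₀ hh) (K.inv_mem hk₀)
      have he : k₀ * ((x * k₀)⁻¹ * h * (x * k₀)) * k₀⁻¹ = x⁻¹ * h * x := by group
      rwa [he] at this
    have hcomm : h⁻¹ * (x⁻¹ * h * x) = 1 := by
      apply hdisj
      · have h1 : h⁻¹ * (x⁻¹ * h * x) = (h⁻¹ * x⁻¹ * h⁻¹⁻¹) * x := by group
        rw [h1]
        exact P.mul_mem (hPn.conj_mem _ (P.inv_mem hx) _) hx
      · exact K.mul_mem (K.inv_mem hhK) hk'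
    have hhx : h * x = x * h := by
      have : x⁻¹ * h * x = h := by
        have := congrArg (fun t => h * t) hcomm
        simpa [mul_assoc] using this
      calc h * x = x * (x⁻¹ * h * x) := by group
        _ = x * h := by rw [this]
    exact hdisj h (hgen x hx hx1 h hhx) hhK
  · ext x
    simp only [Cfsg.frobeniusKernel, Set.mem_ofPred_eq, SetLike.mem_coe]
    constructor
    · rintro (rfl | hx)
      · exact P.one_mem
      · by_contra hxP
        obtain ⟨y, hy, k, hk, rfl⟩ := hfac x
        have hk1 : k ≠ 1 := by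
          rintro rfl
          exact hxP (by simpa using hy)
        -- ψ : P → P, g ↦ g * (k * g⁻¹ * k⁻¹) is injective hence surjective
        let ψ : P → P := fun g => ⟨g * (k * (g : G)⁻¹ * k⁻¹),
          P.mul_mem g.2 (hPn.conj_mem _ (P.inv_mem g.2) _)⟩
        have hinj : Function.Injective ψ := by
          intro g g' hgg
          have h1 : (g : G) * (k * (g : G)⁻¹ * k⁻¹) = (g' : G) * (k * (g' : G)⁻¹ * k⁻¹) :=
            congrArg Subtype.val hgg
          have h2 : k * ((g' : G)⁻¹ * g) = ((g' : G)⁻¹ * g) * k := by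
            have : ((g' : G)⁻¹ * g) = k * ((g' : G)⁻¹ * g) * k⁻¹ := by
              calc ((g' : G)⁻¹ * g) = (g' : G)⁻¹ * ((g : G) * (k * (g : G)⁻¹ * k⁻¹)) * (k * g * k⁻¹) := by group
                _ = (g' : G)⁻¹ * ((g' : G) * (k * (g' : G)⁻¹ * k⁻¹)) * (k * g * k⁻¹) := by rw [h1]
                _ = k * ((g' : G)⁻¹ * g) * k⁻¹ := by group
            calc k * ((g' : G)⁻¹ * g) = (k * ((g' : G)⁻¹ * g) * k⁻¹) * k := by group
              _ = ((g' : G)⁻¹ * g) * k := by rw [← this]
          by_contra hne
          have hu1 : ((g' : G)⁻¹ * g) ≠ 1 := by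
            intro h
            apply hne
            apply Subtype.ext
            have := congrArg (fun t => (g' : G) * t) h
            simpa using this
          have hkP := hgen _ (P.mul_mem (P.inv_mem g'.2) g.2) hu1 k h2
          exact hk1 (hdisj k hkP hk)
        have hsurj : Function.Surjective ψ := Finite.injective_iff_surjective.mp hinj
        obtain ⟨g, hg⟩ := hsurj ⟨y, hy⟩
        have hg' : (g : G) * (k * (g : G)⁻¹ * k⁻¹) = y := congrArg Subtype.val hg
        apply hx (g : G)
        rw [Subgroup.mem_pointwise_smul_iff_inv_smul_mem]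
        simp only [MulAut.smul_def, MulAut.conj_inv_apply]
        have : (g : G)⁻¹ * (y * k) * g = k := by
          rw [← hg']; group
        rw [this]; exact hk
    · intro hx
      by_cases hx1 : x = 1
      · exact Or.inl hx1
      · right
        intro g hxg
        rw [Subgroup.mem_pointwise_smul_iff_inv_smul_mem] at hxg
        simp only [MulAut.smul_def, MulAut.conj_inv_apply] at hxg
        have h1 : g⁻¹ * x * g ∈ P := by
          have := hPn.conj_mem x hx g⁻¹
          simpa using this
        have h2 := hdisj _ h1 hxg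
        apply hx1
        have := congrArg (fun t => g * t * g⁻¹) h2
        simpa [mul_assoc] using this

theorem mulAut_comm_of_isCyclic {P : Type*} [Group P] [IsCyclic P] (σ τ : MulAut P) :
    σ * τ = τ * σ := by
  obtain ⟨m₁, h₁⟩ := MonoidHom.map_cyclic σ.toMonoidHom
  obtain ⟨m₂, h₂⟩ := MonoidHom.map_cyclic τ.toMonoidHom
  ext y
  have e1 : ∀ z, σ z = z ^ m₁ := h₁
  have e2 : ∀ z, τ z = z ^ m₂ := h₂
  simp only [MulAut.mul_apply]
  rw [e2 y, e1 y, e1, e2, ← zpow_mul, ← zpow_mul, mul_comm]

/-- If a normal cyclic subgroup is self-centralizing, the quotient by it is abelian. -/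
theorem commutator_le_of_cyclic_self_centralizing (P : Subgroup G) [P.Normal] [IsCyclic P]
    (hcent : ∀ c : G, (∀ x ∈ P, c * x = x * c) → c ∈ P) : commutator G ≤ P := by
  rw [commutator_def, Subgroup.commutator_le]
  intro g _ h _
  apply hcent
  intro x hx
  have h1 : (MulAut.conjNormal (H := P) ⁅g, h⁆) = 1 := by
    rw [commutatorElement_def, map_mul, map_mul, map_mul, map_inv, map_inv]
    rw [mulAut_comm_of_isCyclic (MulAut.conjNormal g) (MulAut.conjNormal h)]
    group
  have h2 := congrArg (fun σ : MulAut P => ((σ ⟨x, hx⟩ : P) : G)) h1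
  simp only [MulAut.conjNormal_apply, MulAut.one_apply] at h2
  calc ⁅g, h⁆ * x = (⁅g, h⁆ * x * ⁅g, h⁆⁻¹) * ⁅g, h⁆ := by group
    _ = x * ⁅g, h⁆ := by rw [h2]

/-- A group of order `p * n` with an irreducible representation of degree `n` (encoded by the
two numerical consequences) is not perfect. -/
theorem commutator_ne_top_of_card_eq_prime_mul (hp : p.Prime) (hcard : Nat.card G = p * n)
    (hsq : n ^ 2 ≤ p * n)
    (hab : ∀ B : Subgroup G, (∀ a ∈ B, ∀ b ∈ B, a * b = b * a) → n ≤ B.index) :
    commutator G ≠ ⊤ := by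
  haveI : Fact p.Prime := ⟨hp⟩
  have hn0 : 0 < n := by
    rcases Nat.eq_zero_or_pos n with h | h
    · rw [h, mul_zero] at hcard
      exact absurd hcard Nat.card_pos.ne'
    · exact h
  have hnp : n ≤ p := by nlinarith
  have hnontriv : Nontrivial G := by
    apply Finite.one_lt_card_iff_nontrivial.mp
    rw [hcard]
    have := hp.one_lt
    nlinarith
  have habel : (∀ a b : G, a * b = b * a) → commutator G ≠ ⊤ := by
    intro hc htop
    have h1 : commutator G = ⊥ := by
      rw [commutator_def, Subgroup.commutator_eq_bot_iff_le_centralizer]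
      intro x _
      rw [Subgroup.mem_centralizer_iff]
      intro y _
      exact hc y x
    rw [h1] at htop
    exact bot_ne_top htop
  have hne : n ≠ p := by
    intro h
    have hc2 : Nat.card G = p ^ 2 := by rw [hcard, h]; ring
    have hcomm := IsPGroup.isMulCommutative_of_card_eq_prime_sq hc2
    have h1 := hab ⊤ (fun a _ b _ => hcomm.is_comm.comm a b)
    rw [Subgroup.index_top] at h1
    have : n = 1 := by omega
    rw [this] at h
    exact hp.one_lt.ne h
  have hlt : n < p := lt_of_le_of_ne hnp hne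
  by_cases hn1 : n = 1
  · rw [hn1, mul_one] at hcard
    haveI : IsCyclic G := isCyclic_of_prime_card hcard
    exact habel (fun a b => (IsCyclic.isMulCommutative (α := G)).is_comm.comm a b)
  · obtain ⟨P, hPn, hP, hPidx⟩ := exists_normal_of_card_eq_prime_mul hp hlt hcard
    have hcent := mem_of_commute_of_abelian_bound hp hcard hab P hP
    haveI : IsCyclic P := isCyclic_of_prime_card hP
    have hle := commutator_le_of_cyclic_self_centralizing P hcent
    intro htop
    rw [htop, top_le_iff] at hle
    rw [hle, Subgroup.index_top] at hPidx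
    exact hn1 hPidx.symm

end

end Cfsg.Agent.Lib.helper82
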