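import Mathlib

/-!
# S6002, piece B5E: ring lemmas on `1 + a * b` for anticommuting involutions `a`, `b`.
-/

set_option autoImplicit false

namespace Cfsg.Agent.Lib.helper82.S6e

variable {A : Type*} [Ring A]

theorem u_mul_left (a b : A) (ha : a * a = 1) (hb : b * b = 1) (hab : b * a = -(a * b)) :
    (1 + a * b) * a = (-b) * (1 + a * b) := by
  have haa' : ∀ w : A, a * (a * w) = w := fun w => by rw [← mul_assoc, ha, one_mul]
  have hbb' : ∀ w : A, b * (b * w) = w := fun w => by rw [← mul_assoc, hb, one_mul]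
  have hba' : ∀ w : A, b * (a * w) = -(a * (b * w)) := fun w => by
    rw [← mul_assoc, hab, neg_mul, mul_assoc]
  simp only [add_mul, mul_add, mul_one, one_mul, mul_assoc, neg_mul, mul_neg, neg_neg, hab, hba',
    ha, haa', hb, hbb']
  abel

theorem u_mul_right (a b : A) (ha : a * a = 1) (hb : b * b = 1) (hab : b * a = -(a * b)) :
    (1 + a * b) * b = a * (1 + a * b) := by
  have haa' : ∀ w : A, a * (a * w) = w := fun w => by rw [← mul_assoc, ha, one_mul]
  have hbb' : ∀ w : A, b * (b * w) = w := fun w => by rw [← mul_assoc, hb, one_mul]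
  simp only [add_mul, mul_add, mul_one, one_mul, mul_assoc, neg_mul, mul_neg, neg_neg, hab,
    ha, haa', hb, hbb']
  abel

theorem u_comm (a b c : A) (hca : c * a = -(a * c)) (hcb : c * b = -(b * c)) :
    (1 + a * b) * c = c * (1 + a * b) := by
  have hca' : ∀ w : A, c * (a * w) = -(a * (c * w)) := fun w => by
    rw [← mul_assoc, hca, neg_mul, mul_assoc]
  simp only [add_mul, mul_add, mul_one, one_mul, mul_assoc, neg_mul, mul_neg, neg_neg, hca, hca',
    hcb]

theorem u_comm_neg (a b c : A) (hca : c * a = -(a * c)) (hcb : c * b = -(b * c)) :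
    (1 + a * b) * (-c) = (-c) * (1 + a * b) := by
  rw [mul_neg, neg_mul, u_comm a b c hca hcb]

theorem u_mul_v (a b : A) (ha : a * a = 1) (hb : b * b = 1) (hab : b * a = -(a * b)) :
    (1 + a * b) * (1 - a * b) = 2 := by
  have haa' : ∀ w : A, a * (a * w) = w := fun w => by rw [← mul_assoc, ha, one_mul]
  have hba' : ∀ w : A, b * (a * w) = -(a * (b * w)) := fun w => by
    rw [← mul_assoc, hab, neg_mul, mul_assoc]
  simp only [add_mul, mul_sub, mul_one, one_mul, mul_assoc, neg_mul, mul_neg, neg_neg, hab, hba',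
    ha, haa', hb]
  abel_nf
  norm_num

theorem v_mul_u (a b : A) (ha : a * a = 1) (hb : b * b = 1) (hab : b * a = -(a * b)) :
    (1 - a * b) * (1 + a * b) = 2 := by
  have haa' : ∀ w : A, a * (a * w) = w := fun w => by rw [← mul_assoc, ha, one_mul]
  have hba' : ∀ w : A, b * (a * w) = -(a * (b * w)) := fun w => by
    rw [← mul_assoc, hab, neg_mul, mul_assoc]
  simp only [sub_mul, mul_add, mul_one, one_mul, mul_assoc, neg_mul, mul_neg, neg_neg, hab, hba',
    ha, haa', hb]
  abel_nf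
  norm_num

theorem ab_sq (a b : A) (ha : a * a = 1) (hb : b * b = 1) (hab : b * a = -(a * b)) :
    (a * b) * (a * b) = -1 := by
  have haa' : ∀ w : A, a * (a * w) = w := fun w => by rw [← mul_assoc, ha, one_mul]
  have hba' : ∀ w : A, b * (a * w) = -(a * (b * w)) := fun w => by
    rw [← mul_assoc, hab, neg_mul, mul_assoc]
  simp only [mul_assoc, neg_mul, mul_neg, neg_neg, hab, hba', ha, haa', hb, mul_one]

/-- the fifth involution `e = a b c d` of a frame -/
theorem frame_five (a b c d : A) (ha : a * a = 1) (hb : b * b = 1) (hc : c * c = 1)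
    (hd : d * d = 1) (hba : b * a = -(a * b)) (hca : c * a = -(a * c)) (hda : d * a = -(a * d))
    (hcb : c * b = -(b * c)) (hdb : d * b = -(b * d)) (hdc : d * c = -(c * d)) :
    (a * b * c * d) * (a * b * c * d) = 1 ∧
    (a * b * c * d) * a = -(a * (a * b * c * d)) ∧
    (a * b * c * d) * b = -(b * (a * b * c * d)) ∧
    (a * b * c * d) * c = -(c * (a * b * c * d)) ∧
    (a * b * c * d) * d = -(d * (a * b * c * d)) := by
  have haa' : ∀ w : A, a * (a * w) = w := fun w => by rw [← mul_assoc, ha, one_mul]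
  have hbb' : ∀ w : A, b * (b * w) = w := fun w => by rw [← mul_assoc, hb, one_mul]
  have hcc' : ∀ w : A, c * (c * w) = w := fun w => by rw [← mul_assoc, hc, one_mul]
  have hdd' : ∀ w : A, d * (d * w) = w := fun w => by rw [← mul_assoc, hd, one_mul]
  have hba' : ∀ w : A, b * (a * w) = -(a * (b * w)) := fun w => by
    rw [← mul_assoc, hba, neg_mul, mul_assoc]
  have hca' : ∀ w : A, c * (a * w) = -(a * (c * w)) := fun w => by
    rw [← mul_assoc, hca, neg_mul, mul_assoc]
  have hda' : ∀ w : A, d * (a * w) = -(a * (d * w)) := fun w => by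
    rw [← mul_assoc, hda, neg_mul, mul_assoc]
  have hcb' : ∀ w : A, c * (b * w) = -(b * (c * w)) := fun w => by
    rw [← mul_assoc, hcb, neg_mul, mul_assoc]
  have hdb' : ∀ w : A, d * (b * w) = -(b * (d * w)) := fun w => by
    rw [← mul_assoc, hdb, neg_mul, mul_assoc]
  have hdc' : ∀ w : A, d * (c * w) = -(c * (d * w)) := fun w => by
    rw [← mul_assoc, hdc, neg_mul, mul_assoc]
  refine ⟨?_, ?_, ?_, ?_, ?_⟩ <;>
    simp only [mul_assoc, neg_mul, mul_neg, neg_neg, mul_one, ha, hb, hc, hd, haa', hbb', hcc',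
      hdd', hba, hca, hda, hcb, hdb, hdc, hba', hca', hda', hcb', hdb', hdc']

/-- moving an element through four factors -/
theorem chain4 (u1 u2 u3 u4 x x3 x2 x1 x0 : A) (h4 : u4 * x = x3 * u4) (h3 : u3 * x3 = x2 * u3)
    (h2 : u2 * x2 = x1 * u2) (h1 : u1 * x1 = x0 * u1) :
    (u1 * u2 * u3 * u4) * x = x0 * (u1 * u2 * u3 * u4) := by
  calc u1 * u2 * u3 * u4 * x = u1 * u2 * u3 * (u4 * x) := by simp only [mul_assoc]
    _ = u1 * u2 * (u3 * x3) * u4 := by rw [h4]; simp only [mul_assoc]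
    _ = u1 * (u2 * x2) * u3 * u4 := by rw [h3]; simp only [mul_assoc]
    _ = (u1 * x1) * u2 * u3 * u4 := by rw [h2]; simp only [mul_assoc]
    _ = x0 * (u1 * u2 * u3 * u4) := by rw [h1]; simp only [mul_assoc]

theorem pair_step (w w' P P' k : A) (hk : ∀ x : A, k * x = x * k) (hP : P * P' = k)
    (hw : w * w' = 2) : (w * P) * (P' * w') = 2 * k := by
  calc (w * P) * (P' * w') = w * (P * P') * w' := by simp only [mul_assoc]
    _ = w * k * w' := by rw [hP]
    _ = k * (w * w') := by rw [← hk w, mul_assoc]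
    _ = k * 2 := by rw [hw]
    _ = 2 * k := hk 2

/-- product of four pairs with `u_i * v_i = 2` -/
theorem prod_pairs (u1 u2 u3 u4 v1 v2 v3 v4 : A) (h1 : u1 * v1 = 2) (h2 : u2 * v2 = 2)
    (h3 : u3 * v3 = 2) (h4 : u4 * v4 = 2) :
    (u1 * u2 * u3 * u4) * (v4 * v3 * v2 * v1) = 16 := by
  have c2 : ∀ x : A, (2 : A) * x = x * 2 := fun x => (Commute.ofNat_left 2 x).eq
  have c4 : ∀ x : A, (2 * 2 : A) * x = x * (2 * 2) := fun x => by
    rw [mul_assoc, c2 x, ← mul_assoc, c2 x, mul_assoc]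
  have c8 : ∀ x : A, (2 * (2 * 2) : A) * x = x * (2 * (2 * 2)) := fun x => by
    rw [mul_assoc, c4 x, ← mul_assoc, c2 x, mul_assoc]
  have i2 := pair_step u3 v3 u4 v4 2 c2 h4 h3
  have i3 := pair_step u2 v2 (u3 * u4) (v4 * v3) (2 * 2) c4 i2 h2
  have i4 := pair_step u1 v1 (u2 * (u3 * u4)) (v4 * v3 * v2) (2 * (2 * 2)) c8 i3 h1
  rw [show u1 * u2 * u3 * u4 = u1 * (u2 * (u3 * u4)) by simp only [mul_assoc], i4]
  norm_num

end Cfsg.Agent.Lib.helper82.S6e
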