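/-
S5977A piece ROT1 (helper82; architect helper59): a rotation with determinant `1` and spinor sign `-1`
commuting with `x`, built from two orthogonal nonsingular eigenvectors of `x` with the same eigenvalue.
-/
import Mathlib
import Cfsg.Prelude.Def_Classical
import Cfsg.Prelude.Def_GeometricClasses
import Cfsg.Agent.Lib.helper49.WittIso
import Cfsg.Agent.Lib.helper53.SfoBINREP

set_option autoImplicit false

namespace Cfsg.Agent.Lib.helper59.Sfk

open Matrix Cfsg.Geo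
open Cfsg.Agent.Lib.helper49 (detHom spinorSign)

/-- The reflection in an eigenvector of an isometry commutes with it. -/
theorem helper82_refl_comm_eig {F : Type*} [Field F] {ι : Type} [Fintype ι] [DecidableEq ι]
    (Q : QuadraticForm F (ι → F)) (g : ↥(Cfsg.isometryGroup F (⇑Q))) (z : ι → F) (c : F)
    (hc : c ≠ 0) (hz : Q z ≠ 0)
    (hgz : ((g : GL ι F) : Matrix ι ι F) *ᵥ z = c • z) :
    Cfsg.Agent.Lib.helper49.reflG Q z hz * g = g * Cfsg.Agent.Lib.helper49.reflG Q z hz := by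
  have hgz0 : Q (((g : GL ι F) : Matrix ι ι F) *ᵥ z) ≠ 0 := by
    rw [Cfsg.Agent.Lib.helper49.isometry_apply (⇑Q) g z]
    exact hz
  have h1 := Cfsg.Agent.Lib.helper49.refl_conj Q g z hz hgz0
  have h2 : Cfsg.Agent.Lib.helper49.reflG Q (((g : GL ι F) : Matrix ι ι F) *ᵥ z) hgz0
      = Cfsg.Agent.Lib.helper49.reflG Q z hz := by
    apply Subtype.ext
    apply Units.ext
    rw [Cfsg.Agent.Lib.helper49.reflG_val, Cfsg.Agent.Lib.helper49.reflG_val, hgz,
      Cfsg.Agent.Lib.helper49.refl_smul Q z c hc]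
  rw [h2] at h1
  rw [mul_inv_eq_iff_eq_mul] at h1
  exact h1.symm

/-- ROT1 -/
theorem sfk_rot_one {F : Type*} [Field F] [Fintype F] {ι : Type} [Fintype ι] [DecidableEq ι]
    (h2 : (2 : F) ≠ 0) (Q : QuadraticForm F (ι → F))
    (hQ : (QuadraticMap.polarBilin Q).Nondegenerate)
    (x : GL ι F) (hx : x ∈ Cfsg.isometryGroup F (⇑Q)) (u w : ι → F) (c : F)
    (hu : (x : Matrix ι ι F) *ᵥ u = c • u) (hw : (x : Matrix ι ι F) *ᵥ w = c • w)
    (huw : QuadraticMap.polar (⇑Q) u w = 0) (hQu : Q u ≠ 0) (hQw : Q w ≠ 0) :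
    ∃ r : ↥(Cfsg.isometryGroup F (⇑Q)),
      ((r : GL ι F) : Matrix ι ι F) * (x : Matrix ι ι F) =
        (x : Matrix ι ι F) * ((r : GL ι F) : Matrix ι ι F) ∧
      detHom (⇑Q) r = 1 ∧ spinorSign (⇑Q) r = -1 := by
  classical
  have hchar : ringChar F ≠ 2 := by
    intro h
    apply h2
    have := CharP.cast_eq_zero F (ringChar F)
    rw [h] at this
    exact_mod_cast this
  obtain ⟨ν, hν⟩ := FiniteField.exists_nonsquare hchar
  have hν0 : ν ≠ 0 := by
    rintro rfl
    exact hν IsSquare.zero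
  obtain ⟨s, t, hst⟩ :=
    Cfsg.Agent.Lib.helper24.sfo_bin_rep h2 (Q u) (Q w) (ν * Q u) hQu hQw
  have hQv : Q (s • u + t • w) = ν * Q u := by
    rw [QuadraticMap.map_add Q (s • u) (t • w), QuadraticMap.map_smul, QuadraticMap.map_smul,
      QuadraticMap.polar_smul_left, QuadraticMap.polar_smul_right, huw]
    simp only [smul_eq_mul, mul_zero, add_zero]
    rw [← hst]
    ring
  have hQv0 : Q (s • u + t • w) ≠ 0 := by
    rw [hQv]
    exact mul_ne_zero hν0 hQu
  have hc : c ≠ 0 := by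
    rintro rfl
    apply hQu
    have h1 : Q ((x : Matrix ι ι F) *ᵥ u) = Q u :=
      (Cfsg.Agent.Lib.helper49.mem_isometryGroup_iff (⇑Q) x).1 hx u
    rw [← h1, hu, zero_smul, QuadraticMap.map_zero]
  have hxv : (x : Matrix ι ι F) *ᵥ (s • u + t • w) = c • (s • u + t • w) := by
    rw [Matrix.mulVec_add, Matrix.mulVec_smul, Matrix.mulVec_smul, hu, hw, smul_add,
      smul_comm s c u, smul_comm t c w]
  have hcu := helper82_refl_comm_eig Q ⟨x, hx⟩ u c hc hQu hu
  have hcv := helper82_refl_comm_eig Q ⟨x, hx⟩ (s • u + t • w) c hc hQv0 hxv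
  refine ⟨Cfsg.Agent.Lib.helper49.reflG Q u hQu *
    Cfsg.Agent.Lib.helper49.reflG Q (s • u + t • w) hQv0, ?_, ?_, ?_⟩
  · have hcomm : Cfsg.Agent.Lib.helper49.reflG Q u hQu *
        Cfsg.Agent.Lib.helper49.reflG Q (s • u + t • w) hQv0 * (⟨x, hx⟩ : ↥(Cfsg.isometryGroup F (⇑Q)))
        = (⟨x, hx⟩ : ↥(Cfsg.isometryGroup F (⇑Q))) * (Cfsg.Agent.Lib.helper49.reflG Q u hQu *
        Cfsg.Agent.Lib.helper49.reflG Q (s • u + t • w) hQv0) := by
      rw [mul_assoc, hcv, ← mul_assoc, hcu, mul_assoc]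
    have h3 := congrArg (fun r : ↥(Cfsg.isometryGroup F (⇑Q)) => ((r : GL ι F) : Matrix ι ι F)) hcomm
    simpa only [Subgroup.coe_mul, Units.val_mul] using h3
  · rw [map_mul, Cfsg.Agent.Lib.helper49.detHom_reflG, Cfsg.Agent.Lib.helper49.detHom_reflG]
    simp
  · rw [map_mul]
    have hsu := Cfsg.Agent.Lib.helper49.spinorSign_refl h2 Q u hQu
    have hsv := Cfsg.Agent.Lib.helper49.spinorSign_refl h2 Q (s • u + t • w) hQv0
    have hiff := Cfsg.Agent.Lib.helper49.isSquare_mul_iff h2 hν0 hQu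
    by_cases hsq : IsSquare (Q u)
    · have hnv : ¬ IsSquare (Q (s • u + t • w)) := by
        rw [hQv]
        intro h
        exact hν ((hiff.1 h).2 hsq)
      rw [hsu.1 hsq, hsv.2 hnv]
      simp
    · have hv' : IsSquare (Q (s • u + t • w)) := by
        rw [hQv]
        exact hiff.2 ⟨fun h => absurd h hν, fun h => absurd h hsq⟩
      rw [hsu.2 hsq, hsv.1 hv']
      simp

end Cfsg.Agent.Lib.helper59.Sfk
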