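import Mathlib
import Cfsg.Prelude.Def_Characters
import Cfsg.Prelude.Def_Blocks
import Cfsg.Prelude.Def_Solvable
import Cfsg.Prelude.Def_CaseTheorems
import Cfsg.Agent.Lib.helper82.Clifford
import Cfsg.Agent.Lib.helper82.Ito
import Cfsg.Agent.Lib.helper82.CharQuot
import Cfsg.Agent.Lib.helper21.MultChar
import Cfsg.Agent.Lib.helper81.CharOrtho

/-!
# S4471, piece C1 (helper82): Clifford with `e = 1` for the abelian normal subgroup `A`.
-/

set_option autoImplicit false

namespace Cfsg.Agent.Lib.helper68.BL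

open Cfsg
open scoped ComplexConjugate Matrix

universe u

/-- the sum of the first `p` powers of a `p`-th root of unity -/
theorem helper82_root_sum (p : ℕ) (η : ℂ) (hη : η ^ p = 1) :
    ∑ k ∈ Finset.range p, η ^ k = if η = 1 then (p : ℂ) else 0 := by
  split_ifs with h
  · subst h; simp
  · rw [geom_sum_eq h p, hη, sub_self, zero_div]

/-- C1 : `χ|A` is a multiplicity-free sum of `n = χ(1)` linear characters (Clifford with `e = 1`);
`T` = inertia group of one of them, of index `n`; its normal core fixes all of them. -/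
theorem clifford_mult_free {G : Type u} [Group G] [Finite G] (χ : IrrCharacter G) (p : ℕ)
    (hp : p.Prime) (hn2 : charDegree (χ : G → ℂ) < 2 * p) (hnp : charDegree (χ : G → ℂ) ≠ p)
    (A : Subgroup G) [hAn : A.Normal] (hA : ∀ a ∈ A, ∀ b ∈ A, a * b = b * a)
    (z : G) (hzA : z ∈ A) (hzp : z ^ p = 1) (ω : ℂ) (hω1 : ω ≠ 1) (hωp : ω ^ p = 1)
    (hval : ∀ k : ℕ, (χ : G → ℂ) (z ^ k) = ((charDegree (χ : G → ℂ) : ℂ) - p) + p * ω ^ k) :
    ∃ (Λ : Finset (IrrCharacter A)) (T : Subgroup G), Λ.card = charDegree (χ : G → ℂ) ∧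
      T.index = charDegree (χ : G → ℂ) ∧
      (∀ a : A, (χ : G → ℂ) a = ∑ φ ∈ Λ, (φ : A → ℂ) a) ∧
      (∀ g ∈ T.normalCore, ∀ φ ∈ Λ, ∀ a : A,
        (φ : A → ℂ) ⟨g * a * g⁻¹, hAn.conj_mem a a.2 g⟩ = (φ : A → ℂ) a) := by
  classical
  haveI : Fintype G := Fintype.ofFinite G
  haveI : Fintype A := Fintype.ofFinite A
  haveI : Fintype (IrrCharacter A) := Fintype.ofFinite _
  obtain ⟨θ, hθ, e, he, he0⟩ := helper82.exists_constituent_restrict A χ.2
  have hdec := helper82.clifford_decomp A χ.2 hθ e he he0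
  have hAc : ∀ a b : A, a * b = b * a := fun a b => Subtype.ext (hA a a.2 b b.2)
  have hlin : ∀ φ : IrrCharacter A, (φ : A → ℂ) 1 = 1 :=
    fun φ => helper82.irr_one_of_commutative hAc φ.2
  have hmul : ∀ φ : IrrCharacter A, ∀ x y : A,
      (φ : A → ℂ) (x * y) = (φ : A → ℂ) x * (φ : A → ℂ) y :=
    fun φ x y => helper21.mc_linear_mul φ (hlin φ) x y
  -- the degree
  have hdeg : (charDegree (χ : G → ℂ) : ℂ) = e * ((helper82.conjOrbit A θ).card : ℂ) := by
    have h1 := hdec 1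
    rw [Finset.sum_congr rfl (fun φ _ => hlin φ), Finset.sum_const, nsmul_eq_mul, mul_one] at h1
    rw [← helper81.irr_one_eq_charDegree χ]
    exact h1
  have hdegN : charDegree (χ : G → ℂ) = e * (helper82.conjOrbit A θ).card := by
    exact_mod_cast hdeg
  -- the element `z` of `A`
  have hzpow : ∀ k : ℕ, (((⟨z, hzA⟩ : A) ^ k : A) : G) = z ^ k := fun k => by simp
  have hφpow : ∀ φ : IrrCharacter A, ∀ k : ℕ,
      (φ : A → ℂ) ((⟨z, hzA⟩ : A) ^ k) = ((φ : A → ℂ) ⟨z, hzA⟩) ^ k := by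
    intro φ k
    induction k with
    | zero => rw [pow_zero, pow_zero, hlin φ]
    | succ k ih => rw [pow_succ, hmul, ih, pow_succ]
  have hφp : ∀ φ : IrrCharacter A, ((φ : A → ℂ) ⟨z, hzA⟩) ^ p = 1 := by
    intro φ
    rw [← hφpow]
    have h1 : (⟨z, hzA⟩ : A) ^ p = 1 := Subtype.ext (by rw [hzpow, hzp]; rfl)
    rw [h1, hlin]
  have hω0 : ω ≠ 0 := by
    intro h0
    rw [h0, zero_pow hp.ne_zero] at hωp
    exact zero_ne_one hωp
  -- the sum `Σ_{k<p} ω⁻ᵏ χ(zᵏ)` computed in two ways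
  have hS1 : ∑ k ∈ Finset.range p, (ω⁻¹) ^ k * (χ : G → ℂ) (z ^ k) = (p : ℂ) * p := by
    have h1 : ∀ k ∈ Finset.range p, (ω⁻¹) ^ k * (χ : G → ℂ) (z ^ k)
        = ((charDegree (χ : G → ℂ) : ℂ) - p) * (ω⁻¹) ^ k + p := by
      intro k _
      rw [hval k]
      have h2 : (ω⁻¹) ^ k * ω ^ k = 1 := by rw [← mul_pow, inv_mul_cancel₀ hω0, one_pow]
      linear_combination (p : ℂ) * h2
    have h3 : (ω⁻¹) ^ p = 1 := by rw [inv_pow, hωp, inv_one]
    have h4 : ω⁻¹ ≠ 1 := fun h => hω1 (inv_eq_one.mp h)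
    rw [Finset.sum_congr rfl h1, Finset.sum_add_distrib, ← Finset.mul_sum,
      helper82_root_sum p ω⁻¹ h3, if_neg h4, mul_zero, zero_add, Finset.sum_const,
      Finset.card_range, nsmul_eq_mul]
  have hS2 : ∑ k ∈ Finset.range p, (ω⁻¹) ^ k * (χ : G → ℂ) (z ^ k)
      = (e : ℂ) * ((p : ℂ) * (((helper82.conjOrbit A θ).filter
          (fun φ : IrrCharacter A => (φ : A → ℂ) ⟨z, hzA⟩ = ω)).card : ℂ)) := by
    have h1 : ∀ k ∈ Finset.range p, (ω⁻¹) ^ k * (χ : G → ℂ) (z ^ k)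
        = (e : ℂ) * ∑ φ ∈ helper82.conjOrbit A θ, (ω⁻¹ * (φ : A → ℂ) ⟨z, hzA⟩) ^ k := by
      intro k _
      have h2 := hdec ((⟨z, hzA⟩ : A) ^ k)
      rw [hzpow] at h2
      rw [h2, Finset.mul_sum, Finset.mul_sum, Finset.mul_sum]
      refine Finset.sum_congr rfl fun φ _ => ?_
      rw [hφpow, mul_pow]
      ring
    rw [Finset.sum_congr rfl h1, ← Finset.mul_sum, Finset.sum_comm]
    congr 1
    have h3 : ∀ φ ∈ helper82.conjOrbit A θ,
        ∑ k ∈ Finset.range p, (ω⁻¹ * (φ : A → ℂ) ⟨z, hzA⟩) ^ k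
        = if (φ : A → ℂ) ⟨z, hzA⟩ = ω then (p : ℂ) else 0 := by
      intro φ _
      have h4 : (ω⁻¹ * (φ : A → ℂ) ⟨z, hzA⟩) ^ p = 1 := by
        rw [mul_pow, inv_pow, hωp, hφp, inv_one, one_mul]
      rw [helper82_root_sum p _ h4]
      have h5 : (ω⁻¹ * (φ : A → ℂ) ⟨z, hzA⟩ = 1) ↔ ((φ : A → ℂ) ⟨z, hzA⟩ = ω) := by
        constructor
        · intro h
          have h6 : ω * (ω⁻¹ * (φ : A → ℂ) ⟨z, hzA⟩) = ω * 1 := by rw [h]
          rw [← mul_assoc, mul_inv_cancel₀ hω0, one_mul, mul_one] at h6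
          exact h6
        · intro h
          rw [h, inv_mul_cancel₀ hω0]
      simp only [h5]
    rw [Finset.sum_congr rfl h3, Finset.sum_ite, Finset.sum_const_zero, add_zero,
      Finset.sum_const, nsmul_eq_mul, mul_comm]
  -- hence `p = e * m`
  have hpm : p = e * ((helper82.conjOrbit A θ).filter
      (fun φ : IrrCharacter A => (φ : A → ℂ) ⟨z, hzA⟩ = ω)).card := by
    have h1 : (p : ℂ) * p = (e : ℂ) * ((p : ℂ) * (((helper82.conjOrbit A θ).filter
          (fun φ : IrrCharacter A => (φ : A → ℂ) ⟨z, hzA⟩ = ω)).card : ℂ)) := by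
      rw [← hS1, hS2]
    have hp0 : (p : ℂ) ≠ 0 := Nat.cast_ne_zero.mpr hp.ne_zero
    have h2 : (p : ℂ) = (e : ℂ) * (((helper82.conjOrbit A θ).filter
          (fun φ : IrrCharacter A => (φ : A → ℂ) ⟨z, hzA⟩ = ω)).card : ℂ) := by
      apply mul_left_cancel₀ hp0
      rw [h1]
      ring
    exact_mod_cast h2
  have he1 : e = 1 := by
    have hdvd : e ∣ p := Dvd.intro _ hpm.symm
    rcases (Nat.dvd_prime hp).mp hdvd with h | h
    · exact h
    · exfalso
      rw [h] at hdegN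
      have hpos := helper81.irr_charDegree_pos χ
      have hO1 : (helper82.conjOrbit A θ).card = 1 := by
        have h1 : (helper82.conjOrbit A θ).card < 2 := by
          by_contra hc
          have hc' : 2 ≤ (helper82.conjOrbit A θ).card := by omega
          have h2 : p * 2 ≤ p * (helper82.conjOrbit A θ).card := Nat.mul_le_mul_left p hc'
          omega
        have h2 : (helper82.conjOrbit A θ).card ≠ 0 := by
          intro h0
          rw [h0] at hdegN
          omega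
        omega
      rw [hO1] at hdegN
      omega
  rw [he1] at hdegN hdec
  refine ⟨helper82.conjOrbit A θ, helper82.inertia A θ, ?_, ?_, ?_, ?_⟩
  · omega
  · rw [← helper82.card_conjOrbit A hθ]
    omega
  · intro a
    have h1 := hdec a
    rw [Nat.cast_one, one_mul] at h1
    exact h1
  · intro g hg φ hφ a
    obtain ⟨x, hx⟩ := (helper82.mem_conjOrbit A θ φ).mp hφ
    have hgT : x⁻¹ * g * x ∈ helper82.inertia A θ := by
      have h1 : x⁻¹ * g * x⁻¹⁻¹ ∈ (helper82.inertia A θ).normalCore :=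
        (Subgroup.normalCore_normal _).conj_mem g hg x⁻¹
      rw [inv_inv] at h1
      exact Subgroup.normalCore_le _ h1
    have hgφ : g ∈ helper82.inertia A (φ : A → ℂ) := by
      rw [helper82.mem_inertia, hx, ← helper82.cconj_mul]
      have h2 : g * x = x * (x⁻¹ * g * x) := by group
      rw [h2, helper82.cconj_mul, (helper82.mem_inertia A θ _).mp hgT]
    exact (helper82.mem_inertia_iff A (φ : A → ℂ) g).mp hgφ a

end Cfsg.Agent.Lib.helper68.BL
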