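import Cfsg.Agent.Lib.helper82.SixN3Core
import Cfsg.Agent.Lib.helper48.SixN1
import Cfsg.Agent.Lib.helper91.SixN2

/-!
# S4291 piece N3 (helper82): `six_of_sl25`, exact skeleton statement
-/

set_option autoImplicit false

namespace Cfsg.Agent.Lib.helper82

open Cfsg.Agent.Lib.helper7.Six

-- PIECE N3 (assembly of the nonsolvable case; uses N1, N2)
theorem six_of_sl25 {G : Type*} [Group G] [Finite G]
    (hUI : ∀ s t : G, s ≠ 1 → t ≠ 1 → s ^ 2 = 1 → t ^ 2 = 1 → s = t)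
    (hodd : ∀ (p : ℕ) [Fact p.Prime], p ≠ 2 → ∀ P : Subgroup G, IsPGroup p P → IsCyclic P)
    (S : Subgroup G) (hSn : S.Normal) (e : S ≃* Matrix.SpecialLinearGroup (Fin 2) (ZMod 5)) :
    ∃ N : Subgroup G, N.Normal ∧ ZS N ∧ SixQ N :=
  six_of_sl25_of hUI hodd S (Cfsg.Agent.Lib.helper48.sl25_aut_hom S hSn e)
    (fun c hc k hck => Cfsg.Agent.Lib.helper91.sl25_cent_two hUI S e c hc k hck)

end Cfsg.Agent.Lib.helper82
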