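import Cfsg.Agent.Lib.helper82.SixU4Core
import Cfsg.Agent.Lib.helper72.SixU1
import Cfsg.Agent.Lib.helper72.SixU3
import Cfsg.Agent.Lib.helper33.SixU2a
import Cfsg.Agent.Lib.helper33.SixU2b

/-!
# S4291 piece U4 (helper82): `six_unique`, exact skeleton statement
-/

set_option autoImplicit false

namespace Cfsg.Agent.Lib.helper82

open Cfsg.Agent.Lib.helper7.Six

-- PIECE U4 (assembly of uniqueness; uses U1, U2a, U2b, U3)
theorem six_unique {G : Type*} [Group G] [Finite G]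
    (hpg : ∀ P : Subgroup G, IsPGroup 2 P →
      IsCyclic P ∨ ∃ n : ℕ, Nonempty (P ≃* QuaternionGroup (2 ^ n)))
    (N₁ N₂ : Subgroup G) (h₁n : N₁.Normal) (h₂n : N₂.Normal) (h₁z : ZS N₁) (h₂z : ZS N₂)
    (h₁ : SixQ N₁) (h₂ : SixQ N₂) : N₁ = N₂ :=
  six_unique_of (fun _ _ f N hN => Cfsg.Agent.Lib.helper72.zs_noV4_map f N hN)
    Cfsg.Agent.Lib.helper33.a4_normal_noV4 Cfsg.Agent.Lib.helper33.s4_normal_noV4
    Cfsg.Agent.Lib.helper33.a5_normal_noV4 Cfsg.Agent.Lib.helper33.s5_normal_noV4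
    (fun f₁ f₂ h₁ h₂ => Cfsg.Agent.Lib.helper72.v4_unique hpg f₁ f₂ h₁ h₂)
    N₁ N₂ h₁n h₂n h₁z h₂z h₁ h₂

end Cfsg.Agent.Lib.helper82
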