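import Mathlib
import Cfsg.Agent.Lib.helper75.PQDefs
import Cfsg.Agent.Lib.helper75.PQTower
import Cfsg.Agent.Lib.helper66.S3B
import Cfsg.Agent.Lib.helper82.PQ_BNorm

/-!
# S4306 piece B7 (helper82): the norm argument along the `K`-orbit of a weight fixed by `H`
-/

set_option autoImplicit false

namespace Cfsg.Agent.Lib.helper75.PQ

open Cfsg.Agent.Lib.helper66 (WtV Fx cw)
open scoped commutatorElement

section B
variable {Γ : Type*} [Group Γ] [Finite Γ] {F : Type*} [Field F] [IsAlgClosed F]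
  {W : Type*} [AddCommGroup W] [Module F W] [FiniteDimensional F W]
  {ρ : Γ →* Module.End F W} {K H S R : Subgroup Γ} {p q s r : ℕ}

/-- B7 (N, norm argument): for a weight fixed by `H`, an element on which all the other
`K`-conjugates of the weight are trivial has trivial weight value. -/
theorem Tower.norm_orbit (T : Tower ρ K H S R p q s r) (B : Subgroup Γ) (hBR : B ≤ R)
    (hab : ∀ b ∈ B, ∀ b' ∈ B, b * b' = b' * b)
    (hKB : K ≤ Subgroup.normalizer (B : Set Γ)) (hHB : H ≤ Subgroup.normalizer (B : Set Γ))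
    (μ : Γ → F) (w : W) (hw : WtV ρ ⊤ B μ w) (hH : ∀ h ∈ H, Fx B h μ)
    (b : Γ) (hb : b ∈ B) (hb1 : ∀ k ∈ K, k ≠ 1 → cw μ k b = 1) : μ b = 1 := by
  classical
  haveI := Fintype.ofFinite K
  have h1 := T.h82_norm B hBR hab hKB hHB μ w hw hH b hb
  have h2 : ∏ k : K, μ ((k : Γ) * b * (k : Γ)⁻¹) = μ b := by
    rw [Finset.prod_eq_single (1 : K)]
    · simp
    · intro k _ hk1
      have h3 := hb1 (k : Γ)⁻¹ (K.inv_mem k.2) (by
        intro h
        apply hk1
        apply Subtype.ext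
        simpa using h)
      rw [Cfsg.Agent.Lib.helper66.cw_apply, inv_inv] at h3
      exact h3
    · intro h
      exact absurd (Finset.mem_univ _) h
  rw [h2] at h1
  obtain ⟨n, hn⟩ := T.Rgrp ⟨b, hBR hb⟩
  have hn' : b ^ r ^ n = 1 := by
    have := congrArg Subtype.val hn
    simpa using this
  apply Cfsg.Agent.Lib.helper66.wt_eq_one_of_pow ρ ⊤ B μ w hw b hb q (r ^ n) h1 hn'
  apply Nat.Coprime.pow_right
  exact (Nat.coprime_primes T.hq T.hr).mpr (Ne.symm T.hrq)

end B

end Cfsg.Agent.Lib.helper75.PQ
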