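/-
S6000 piece B5S (helper82; architect helper89): elements of order 5 of `SL_4(F)` are conjugate to
powers of each other when `|F|` has order 4 modulo 5.  Adapted from the landed S6002 piece
(helper91.S6eB5Score); the "no `Z5 × Z5`" statement is transported from `Fin 2 ⊕ Fin 2` to `Fin 4`.
-/
import Mathlib
import Cfsg.Agent.Lib.helper89.S60Defs
import Cfsg.Agent.Lib.helper57.S6eB5C
import Cfsg.Agent.Lib.helper3.PGroupNormal

set_option autoImplicit false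

namespace Cfsg.Agent.Lib.helper89.S60

open Matrix Cfsg Cfsg.Geo

/-- No `Z5 × Z5` among the `4 × 4` matrices: the landed `s6_five_comm`, transported to `Fin 4`. -/
theorem helper82_s60_five_comm {F : Type*} [Field F] [Fintype F]
    (h4 : orderOf ((Fintype.card F : ℕ) : ZMod 5) = 4) (a b : Matrix (Fin 4) (Fin 4) F) (ha : a ^ 5 = 1)
    (hb : b ^ 5 = 1) (ha1 : a ≠ 1) (hab : a * b = b * a) : ∃ k : ℕ, b = a ^ k := by
  let e : Fin 4 ≃ Fin 2 ⊕ Fin 2 := (finCongr (show 4 = 2 + 2 by norm_num)).trans finSumFinEquiv.symm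
  let φ : Matrix (Fin 4) (Fin 4) F ≃ₐ[F] Matrix (Fin 2 ⊕ Fin 2) (Fin 2 ⊕ Fin 2) F :=
    Matrix.reindexAlgEquiv F F e
  obtain ⟨k, hk⟩ := Cfsg.Agent.Lib.helper24.s6_five_comm h4 (φ a) (φ b)
    (by rw [← map_pow, ha, map_one]) (by rw [← map_pow, hb, map_one])
    (fun h => ha1 (φ.injective (by rw [h, map_one])))
    (by rw [← map_mul, ← map_mul, hab])
  refine ⟨k, φ.injective ?_⟩
  rw [hk, map_pow]

/-- B5S -/
theorem s60_five_conj {F : Type*} [Field F] [Fintype F]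
    (h4 : orderOf ((Fintype.card F : ℕ) : ZMod 5) = 4) (x h : GL (Fin 4) F) (hx : x ∈ specialLinear (Fin 4) F)
    (hh : h ∈ specialLinear (Fin 4) F) (hx5 : x ^ 5 = 1) (hx1 : x ≠ 1) (hh5 : h ^ 5 = 1) (hh1 : h ≠ 1) :
    ∃ g ∈ specialLinear (Fin 4) F, ∃ k : ℕ, g⁻¹ * x * g = h ^ k := by
  classical
  have hB5C : ∀ (a b : Matrix (Fin 4) (Fin 4) F), a ^ 5 = 1 → b ^ 5 = 1 → a ≠ 1 → a * b = b * a →
      ∃ k : ℕ, b = a ^ k := fun a b ha hb ha1 hab => helper82_s60_five_comm h4 a b ha hb ha1 hab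
  have : Fact (Nat.Prime 5) := ⟨by norm_num⟩
  set S : Subgroup (GL (Fin 4) F) := specialLinear (Fin 4) F with hSdef
  let mat : ↥S →* Matrix (Fin 4) (Fin 4) F := (Units.coeHom (Matrix (Fin 4) (Fin 4) F)).comp S.subtype
  have mat_inj : Function.Injective mat := by
    intro a b hab
    exact Subtype.ext (Units.ext hab)
  let hS : ↥S := ⟨h, hh⟩
  let xS : ↥S := ⟨x, hx⟩
  have hS5 : hS ^ 5 = 1 := Subtype.ext hh5
  have hS1 : hS ≠ 1 := fun e => hh1 (congrArg Subtype.val e)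
  have xS5 : xS ^ 5 = 1 := Subtype.ext hx5
  have xS1 : xS ≠ 1 := fun e => hx1 (congrArg Subtype.val e)
  have hPg : ∀ w : ↥S, w ^ 5 = 1 → IsPGroup 5 ↥(Subgroup.zpowers w) := by
    intro w hw y
    refine ⟨1, ?_⟩
    obtain ⟨y, n, rfl⟩ := y
    apply Subtype.ext
    change (w ^ n) ^ 5 ^ 1 = 1
    rw [pow_one, ← zpow_natCast, ← _root_.zpow_mul, mul_comm, _root_.zpow_mul, zpow_natCast, hw, _root_.one_zpow]
  obtain ⟨P, hP⟩ := (hPg hS hS5).exists_le_sylow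
  obtain ⟨Q, hQ⟩ := (hPg xS xS5).exists_le_sylow
  obtain ⟨g, hg⟩ := MulAction.exists_smul_eq ↥S Q P
  have hhP : hS ∈ (P : Subgroup ↥S) := hP (Subgroup.mem_zpowers hS)
  have hxQ : xS ∈ (Q : Subgroup ↥S) := hQ (Subgroup.mem_zpowers xS)
  have hx'P : g * xS * g⁻¹ ∈ (P : Subgroup ↥S) := by
    rw [← hg, Sylow.coe_subgroup_smul]
    exact ⟨xS, hxQ, rfl⟩
  have hPne : (⊤ : Subgroup ↥(P : Subgroup ↥S)) ≠ ⊥ := by
    intro e
    have h1 : (⟨hS, hhP⟩ : ↥(P : Subgroup ↥S)) ∈ (⊥ : Subgroup ↥(P : Subgroup ↥S)) :=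
      e ▸ Subgroup.mem_top _
    rw [Subgroup.mem_bot] at h1
    exact hS1 (congrArg Subtype.val h1)
  obtain ⟨zP, -, hzc, hz1, hz5⟩ :=
    Cfsg.Agent.Lib.helper3.exists_central_of_normal_ne_bot P.isPGroup' ⊤ hPne
  have hz1' : (zP : ↥S) ≠ 1 := fun e => hz1 (Subtype.ext e)
  have hz5' : (zP : ↥S) ^ 5 = 1 := by
    have h1 := congrArg Subtype.val hz5
    simpa using h1
  have hzcomm : ∀ w ∈ (P : Subgroup ↥S), (zP : ↥S) * w = w * (zP : ↥S) := by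
    intro w hw
    have h1 := Subgroup.mem_center_iff.mp hzc ⟨w, hw⟩
    exact (congrArg Subtype.val h1).symm
  have hmat1 : ∀ w : ↥S, w ≠ 1 → mat w ≠ 1 := fun w hw e => hw (mat_inj (by rw [e, map_one]))
  have hmat5 : ∀ w : ↥S, w ^ 5 = 1 → mat w ^ 5 = 1 := fun w hw => by
    rw [← map_pow, hw, map_one]
  obtain ⟨k, hk⟩ := hB5C (mat hS) (mat (zP : ↥S)) (hmat5 _ hS5) (hmat5 _ hz5') (hmat1 _ hS1)
    (by rw [← map_mul, ← map_mul, hzcomm hS hhP])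
  have hx'5 : (g * xS * g⁻¹) ^ 5 = 1 := by
    rw [conj_pow, xS5]
    group
  obtain ⟨j, hj⟩ := hB5C (mat (zP : ↥S)) (mat (g * xS * g⁻¹)) (hmat5 _ hz5') (hmat5 _ hx'5)
    (hmat1 _ hz1') (by rw [← map_mul, ← map_mul, hzcomm _ hx'P])
  have hfin : g * xS * g⁻¹ = hS ^ (k * j) := by
    apply mat_inj
    rw [hj, hk, map_pow, pow_mul]
  refine ⟨((g⁻¹ : ↥S) : GL (Fin 4) F), (g⁻¹ : ↥S).2, k * j, ?_⟩
  have h1 := congrArg Subtype.val hfin
  simpa using h1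

end Cfsg.Agent.Lib.helper89.S60
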