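import Mathlib
import Cfsg.Prelude.Def_Characters
import Cfsg.Agent.Lib.helper4.RepBasic
import Cfsg.Agent.Lib.helper4.Induction
import Cfsg.Agent.Lib.helper82.CharInt
import Cfsg.Agent.Lib.helper82.CharDeg
import Cfsg.Agent.Lib.helper82.CharSums
import Cfsg.Agent.Lib.helper82.CharQuot

/-!
# Imprimitivity from a permuted commuting family of operators (helper82)

`exists_induced_of_permuted_family`: let `ρ` be an irreducible complex representation of the
finite group `G`, and `T` a finite set of pairwise commuting endomorphisms which is stable under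
conjugation by `ρ(G)` and centralized by `ρ(M)`.  If some member of `T` is not a scalar, then
the character of `ρ` is induced from a proper subgroup containing `M`.
-/

set_option autoImplicit false
set_option linter.style.haveILetI false
set_option linter.unusedSectionVars false

namespace Cfsg.Agent.Lib.helper82

open Module Cfsg
open Cfsg.Agent.Lib
open scoped ComplexConjugate

universe u

section JointEigen

variable {V : Type*} [AddCommGroup V] [Module ℂ V] [FiniteDimensional ℂ V]

/-- Joint eigenspace of a set of endomorphisms for a choice of eigenvalues. -/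
def jointEig (T : Set (End ℂ V)) (α : End ℂ V → ℂ) : Submodule ℂ V :=
  ⨅ A ∈ T, End.eigenspace A (α A)

theorem mem_jointEig (T : Set (End ℂ V)) (α : End ℂ V → ℂ) (v : V) :
    v ∈ jointEig T α ↔ ∀ A ∈ T, A v = α A • v := by
  unfold jointEig
  simp only [Submodule.mem_iInf, End.mem_eigenspace_iff]

/-- A finite commuting family of endomorphisms of a nonzero space has a joint eigenvector. -/
theorem exists_jointEig_ne_bot [Nontrivial V] (s : Finset (End ℂ V))
    (hcomm : ∀ A ∈ s, ∀ B ∈ s, A * B = B * A) :
    ∃ α : End ℂ V → ℂ, jointEig (s : Set (End ℂ V)) α ≠ ⊥ := by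
  classical
  induction s using Finset.induction_on with
  | empty =>
    refine ⟨fun _ => 0, ?_⟩
    have : jointEig ((∅ : Finset (End ℂ V)) : Set (End ℂ V)) (fun _ => 0) = ⊤ := by
      rw [eq_top_iff]
      intro v _
      rw [mem_jointEig]
      intro A hA
      simp at hA
    rw [this]
    exact top_ne_bot
  | insert B s hB ih =>
    obtain ⟨α, hα⟩ := ih (fun A hA C hC =>
      hcomm A (Finset.mem_insert_of_mem hA) C (Finset.mem_insert_of_mem hC))
    have hmaps : ∀ v ∈ jointEig (s : Set (End ℂ V)) α, B v ∈ jointEig (s : Set (End ℂ V)) α := by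
      intro v hv
      rw [mem_jointEig] at hv ⊢
      intro A hA
      have h1 : A * B = B * A :=
        hcomm A (Finset.mem_insert_of_mem (Finset.mem_coe.mp hA)) B (Finset.mem_insert_self B s)
      have h2 : A (B v) = (A * B) v := rfl
      rw [h2, h1, Module.End.mul_apply, hv A hA, map_smul]
    haveI : Nontrivial ↥(jointEig (s : Set (End ℂ V)) α) :=
      (Submodule.nontrivial_iff_ne_bot).mpr hα
    obtain ⟨μ, hμ⟩ := Module.End.exists_eigenvalue (B.restrict hmaps)
    obtain ⟨u, hu⟩ := hμ.exists_hasEigenvector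
    refine ⟨Function.update α B μ, ?_⟩
    rw [Submodule.ne_bot_iff]
    refine ⟨(u : V), ?_, ?_⟩
    · rw [mem_jointEig]
      intro A hA
      rcases Finset.mem_insert.mp (Finset.mem_coe.mp hA) with rfl | hA'
      · rw [Function.update_self]
        have h3 := hu.apply_eq_smul
        have h4 := congrArg Subtype.val h3
        exact h4
      · have hne : A ≠ B := fun h => hB (h ▸ hA')
        rw [Function.update_of_ne hne]
        exact (mem_jointEig _ _ _).mp u.2 A (Finset.mem_coe.mpr hA')
    · intro h0
      exact hu.2 (Subtype.ext h0)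

/-- The dimensions of finitely many members of an independent family add up to at most the
dimension of the space. -/
theorem sum_finrank_le_of_iSupIndep {ι : Type*} (p : ι → Submodule ℂ V) (hp : iSupIndep p)
    (s : Finset ι) : ∑ i ∈ s, finrank ℂ ↥(p i) ≤ finrank ℂ V := by
  classical
  have key : ∑ i ∈ s, finrank ℂ ↥(p i) = finrank ℂ ↥(s.sup p) := by
    induction s using Finset.induction_on with
    | empty => rw [Finset.sum_empty, Finset.sup_empty, finrank_bot]
    | insert a s ha ih =>
      rw [Finset.sum_insert ha, Finset.sup_insert, ih]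
      have hdisj : Disjoint (p a) (s.sup p) := by
        refine (hp a).mono_right ?_
        apply Finset.sup_le
        intro j hj
        have hja : j ≠ a := fun h => ha (h ▸ hj)
        exact le_iSup₂_of_le j hja le_rfl
      have h1 := Submodule.finrank_sup_add_finrank_inf_eq (p a) (s.sup p)
      rw [hdisj.eq_bot, finrank_bot, add_zero] at h1
      exact h1.symm
  rw [key]
  exact Submodule.finrank_le _

end JointEigen

section Criterion

variable {G : Type u} [Group G] [Fintype G]

/-- A character containing the irreducible character `χ` and of degree at most `χ(1)` is `χ`. -/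
theorem char_eq_irr_of_degree_le {Ψ χ : G → ℂ} (hΨ : IsCharacter G Ψ)
    (hχ : IsIrrCharacter G χ) (hne : classInner Ψ χ ≠ 0) (a b : ℕ) (hΨ1 : Ψ 1 = a)
    (hχ1 : χ 1 = b) (hab : a ≤ b) : Ψ = χ := by
  classical
  haveI : Fintype (IrrCharacter G) := Fintype.ofFinite _
  obtain ⟨n, hn, hdec, hdeg⟩ := exists_nat_decomp hΨ
  set χ' : IrrCharacter G := ⟨χ, hχ⟩ with hχ'
  have hnχ : n χ' ≠ 0 := by
    intro h0
    apply hne
    have h1 := hn χ'
    rw [h0] at h1
    simpa using h1
  have hχdeg : χ 1 = (charDegree χ : ℂ) := irr_one_eq χ'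
  have hb : b = charDegree χ := by
    have h1 : (b : ℂ) = (charDegree χ : ℂ) := by rw [← hχ1, hχdeg]
    exact_mod_cast h1
  have hsum : ∑ ψ : IrrCharacter G, n ψ * charDegree (ψ : G → ℂ) = a := by
    have h1 : ((∑ ψ : IrrCharacter G, n ψ * charDegree (ψ : G → ℂ) : ℕ) : ℂ) = (a : ℂ) := by
      rw [← hdeg, hΨ1]
    exact_mod_cast h1
  have hpos : 0 < charDegree χ := irr_charDegree_pos χ'
  have hle : n χ' * charDegree χ ≤ a := by
    rw [← hsum]
    exact Finset.single_le_sum (f := fun ψ : IrrCharacter G => n ψ * charDegree (ψ : G → ℂ))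
      (fun _ _ => Nat.zero_le _) (Finset.mem_univ χ')
  have hnχ1 : n χ' = 1 := by
    have h1 : 1 ≤ n χ' := Nat.pos_of_ne_zero hnχ
    by_contra h2
    have h3 : 2 ≤ n χ' := by omega
    have h4 : 2 * charDegree χ ≤ n χ' * charDegree χ := Nat.mul_le_mul_right _ h3
    omega
  have hzero : ∀ ψ : IrrCharacter G, ψ ≠ χ' → n ψ = 0 := by
    intro ψ hψ
    by_contra h0
    have h3 : n χ' * charDegree (χ' : G → ℂ) + n ψ * charDegree (ψ : G → ℂ) ≤
        ∑ ψ : IrrCharacter G, n ψ * charDegree (ψ : G → ℂ) := by
      have h4 := Finset.sum_le_sum_of_subset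
        (f := fun ψ : IrrCharacter G => n ψ * charDegree (ψ : G → ℂ))
        (Finset.subset_univ {χ', ψ})
      rwa [Finset.sum_pair (Ne.symm hψ)] at h4
    have h4 : 0 < n ψ * charDegree (ψ : G → ℂ) :=
      Nat.mul_pos (Nat.pos_of_ne_zero h0) (irr_charDegree_pos ψ)
    rw [hsum, hnχ1] at h3
    have h5 : charDegree (χ' : G → ℂ) = charDegree χ := rfl
    omega
  funext x
  rw [hdec x, Finset.sum_eq_single χ']
  · rw [hnχ1]
    simp [hχ']
  · intro ψ _ hψ
    rw [hzero ψ hψ]
    simp
  · intro h
    exact absurd (Finset.mem_univ _) h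

/-- The norm of a character of nonzero degree is nonzero. -/
theorem classInner_self_ne_zero {κ : G → ℂ} (h1 : κ 1 ≠ 0) : classInner κ κ ≠ 0 := by
  unfold classInner
  have hG : (Nat.card G : ℂ) ≠ 0 := by exact_mod_cast Nat.card_pos.ne'
  refine mul_ne_zero (inv_ne_zero hG) ?_
  have h2 : ∑ g : G, κ g * conj (κ g) = ((∑ g : G, Complex.normSq (κ g) : ℝ) : ℂ) := by
    rw [Complex.ofReal_sum]
    exact Finset.sum_congr rfl (fun g _ => Complex.mul_conj (κ g))
  rw [h2]
  have h3 : 0 < ∑ g : G, Complex.normSq (κ g) := by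
    apply Finset.sum_pos'
    · intro g _
      exact Complex.normSq_nonneg _
    · exact ⟨1, Finset.mem_univ _, Complex.normSq_pos.mpr h1⟩
  exact_mod_cast h3.ne'

end Criterion

section Main

variable {G : Type u} [Group G] [Fintype G]
variable {V : Type*} [AddCommGroup V] [Module ℂ V] [FiniteDimensional ℂ V]

/-- Imprimitivity from a commuting family of operators permuted by the group. -/
theorem exists_induced_of_permuted_family (ρ : Representation ℂ G V) [hirr : ρ.IsIrreducible]
    (T : Set (End ℂ V)) (hfin : T.Finite) (hcomm : ∀ A ∈ T, ∀ B ∈ T, A * B = B * A)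
    (hperm : ∀ g : G, ∀ A ∈ T, ρ g * A * ρ g⁻¹ ∈ T)
    (M : Subgroup G) (hM : ∀ m ∈ M, ∀ A ∈ T, ρ m * A = A * ρ m)
    (hns : ∃ A ∈ T, ∀ c : ℂ, A ≠ c • (1 : End ℂ V)) :
    ∃ S : Subgroup G, M ≤ S ∧ S ≠ ⊤ ∧ ∃ κ : S → ℂ, IsCharacter S κ ∧
      indFun S κ = ρ.character := by
  classical
  haveI : Nontrivial V := nontrivial_of_irreducible ρ
  obtain ⟨α, hα⟩ : ∃ α : End ℂ V → ℂ, jointEig T α ≠ ⊥ := by
    have h := exists_jointEig_ne_bot hfin.toFinset (fun A hA B hB =>
      hcomm A (hfin.mem_toFinset.mp hA) B (hfin.mem_toFinset.mp hB))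
    rwa [Set.Finite.coe_toFinset] at h
  have hρinv : ∀ g : G, ρ g⁻¹ * ρ g = 1 := fun g => by
    rw [← map_mul, inv_mul_cancel, map_one]
  have hρinv' : ∀ g : G, ρ g * ρ g⁻¹ = 1 := fun g => by
    rw [← map_mul, mul_inv_cancel, map_one]
  have hia : ∀ (g : G) (w : V), ρ g⁻¹ (ρ g w) = w := fun g w => by
    have h1 : ρ g⁻¹ (ρ g w) = (ρ g⁻¹ * ρ g) w := rfl
    rw [h1, hρinv]; rfl
  have hia' : ∀ (g : G) (w : V), ρ g (ρ g⁻¹ w) = w := fun g w => by
    have h1 : ρ g (ρ g⁻¹ w) = (ρ g * ρ g⁻¹) w := rfl
    rw [h1, hρinv']; rfl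
  have hinj : ∀ g : G, Function.Injective (ρ g) := by
    intro g x y hxy
    have h1 := congrArg (ρ g⁻¹) hxy
    rwa [hia, hia] at h1
  -- the translated eigenvalue functions
  obtain ⟨αg, hαg⟩ : ∃ αg : G → End ℂ V → ℂ, ∀ g A, αg g A = α (ρ g⁻¹ * A * ρ g) :=
    ⟨fun g A => α (ρ g⁻¹ * A * ρ g), fun _ _ => rfl⟩
  have htrans : ∀ (g : G) (v : V), v ∈ jointEig T α ↔ ρ g v ∈ jointEig T (αg g) := by
    intro g v
    rw [mem_jointEig, mem_jointEig]
    constructor
    · intro hv B hB
      have hA : ρ g⁻¹ * B * ρ g ∈ T := by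
        have h1 := hperm g⁻¹ B hB
        rwa [inv_inv] at h1
      have h1 := hv _ hA
      have h2 : B (ρ g v) = ρ g ((ρ g⁻¹ * B * ρ g) v) := by
        have h3 : ρ g * (ρ g⁻¹ * B * ρ g) = B * ρ g := by
          rw [← mul_assoc, ← mul_assoc, hρinv', one_mul]
        calc B (ρ g v) = (B * ρ g) v := rfl
          _ = (ρ g * (ρ g⁻¹ * B * ρ g)) v := by rw [h3]
          _ = ρ g ((ρ g⁻¹ * B * ρ g) v) := rfl
      rw [h2, h1, map_smul, hαg]
    · intro hv A hA
      have hB : ρ g * A * ρ g⁻¹ ∈ T := hperm g A hA
      have h1 := hv _ hB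
      have h3 : αg g (ρ g * A * ρ g⁻¹) = α A := by
        rw [hαg]
        congr 1
        rw [← mul_assoc, ← mul_assoc, hρinv, one_mul, mul_assoc, hρinv, mul_one]
      rw [h3] at h1
      have h2 : (ρ g * A * ρ g⁻¹) (ρ g v) = ρ g (A v) := by
        have h4 : (ρ g * A * ρ g⁻¹) (ρ g v) = ρ g (A (ρ g⁻¹ (ρ g v))) := rfl
        rw [h4, hia]
      rw [h2] at h1
      apply hinj g
      rw [h1, map_smul]
  -- the stabilizer
  let S : Subgroup G :=
    { carrier := {g | ∀ v : V, v ∈ jointEig T α ↔ ρ g v ∈ jointEig T α}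
      one_mem' := by
        intro v
        rw [map_one]
        rfl
      mul_mem' := by
        intro a b ha hb v
        rw [map_mul, Module.End.mul_apply]
        exact (hb v).trans (ha (ρ b v))
      inv_mem' := by
        intro a ha v
        have h1 := ha (ρ a⁻¹ v)
        rw [hia' a v] at h1
        exact h1.symm }
  have hSmem : ∀ g : G, g ∈ S ↔ ∀ v : V, v ∈ jointEig T α ↔ ρ g v ∈ jointEig T α :=
    fun _ => Iff.rfl
  have hMS : M ≤ S := by
    intro m hm
    rw [hSmem]
    intro v
    rw [mem_jointEig, mem_jointEig]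
    constructor
    · intro hv A hA
      have h1 : A (ρ m v) = (A * ρ m) v := rfl
      rw [h1, ← hM m hm A hA, Module.End.mul_apply, hv A hA, map_smul]
    · intro hv A hA
      have h1 := hv A hA
      have h2 : A (ρ m v) = (A * ρ m) v := rfl
      rw [h2, ← hM m hm A hA, Module.End.mul_apply] at h1
      apply hinj m
      rw [h1, map_smul]
  have hStop : S ≠ ⊤ := by
    intro hS
    have hstab : ∀ g : G, ∀ v ∈ jointEig T α, ρ g v ∈ jointEig T α := by
      intro g v hv
      have hg : g ∈ S := by rw [hS]; trivial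
      exact ((hSmem g).mp hg v).mp hv
    rcases ((helper4.isIrreducible_iff ρ).mp hirr).2 (jointEig T α) hstab with h | h
    · exact hα h
    · obtain ⟨A, hA, hAns⟩ := hns
      apply hAns (α A)
      ext v
      have hv : v ∈ jointEig T α := by rw [h]; trivial
      have h1 := (mem_jointEig T α v).mp hv A hA
      rw [h1]
      simp
  refine ⟨S, hMS, hStop, ?_⟩
  -- the character of the block
  let ρS : Representation ℂ S V := compRep S.subtype ρ
  let W : Subrepresentation ρS :=
    { toSubmodule := jointEig T α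
      apply_mem_toSubmodule := by
        intro s v hv
        exact ((hSmem s.1).mp s.2 v).mp hv }
  have hκ : IsCharacter S W.toRepresentation.character := helper4.isCharacter_of_rep _
  refine ⟨W.toRepresentation.character, hκ, ?_⟩
  have hχirr : IsIrrCharacter G ρ.character := helper4.isIrrCharacter_of_rep ρ
  have hχcl : IsClassFunction G ρ.character := helper4.isClassFunction_of_isIrrCharacter hχirr
  -- Frobenius reciprocity and a complement
  haveI : NeZero (Nat.card S : ℂ) := ⟨by exact_mod_cast Nat.card_pos.ne'⟩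
  obtain ⟨W', hW'⟩ := helper4.exists_isCompl_subrep ρS W
  have hκ' : IsCharacter S W'.toRepresentation.character := helper4.isCharacter_of_rep _
  have hres : (fun s : S => ρ.character s) =
      W.toRepresentation.character + W'.toRepresentation.character := by
    funext s
    exact helper4.char_eq_add_of_isCompl ρS W W' hW' s
  have hk1 : W.toRepresentation.character 1 = (finrank ℂ ↥(jointEig T α) : ℂ) := by
    rw [Representation.char_one]
  have hkpos : 0 < finrank ℂ ↥(jointEig T α) := by
    rw [Module.finrank_pos_iff]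
    exact (Submodule.nontrivial_iff_ne_bot).mpr hα
  have hne : classInner (indFun S W.toRepresentation.character) ρ.character ≠ 0 := by
    rw [helper4.frobenius_reciprocity S _ hχcl, hres, helper4.classInner_add_right]
    obtain ⟨n1, hn1⟩ := helper4.exists_nat_classInner hκ hκ
    obtain ⟨n2, hn2⟩ := helper4.exists_nat_classInner hκ hκ'
    have hn1ne : n1 ≠ 0 := by
      intro h0
      have h1 : classInner W.toRepresentation.character W.toRepresentation.character ≠ 0 := by
        apply classInner_self_ne_zero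
        rw [hk1]
        exact_mod_cast hkpos.ne'
      apply h1
      rw [hn1, h0]
      simp
    rw [hn1, hn2]
    have h2 : 0 < n1 + n2 := by omega
    exact_mod_cast h2.ne'
  -- the dimension count
  have hfr : ∀ g : G, finrank ℂ ↥(jointEig T α) ≤ finrank ℂ ↥(jointEig T (αg g)) := by
    intro g
    exact LinearMap.finrank_le_finrank_of_injective
      (f := (ρ g).restrict (p := jointEig T α) (q := jointEig T (αg g))
        (fun v hv => (htrans g v).mp hv))
      (fun x y hxy => Subtype.ext (hinj g (congrArg Subtype.val hxy)))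
  have hindep : iSupIndep fun χ : T → ℂ => ⨅ i : T, (i.1 : End ℂ V).maxGenEigenspace (χ i) :=
    Module.End.independent_iInf_maxGenEigenspace_of_forall_mapsTo
      (fun i : T => (i.1 : End ℂ V))
      (fun i j φ => Module.End.mapsTo_maxGenEigenspace_of_comm
        (show Commute (j.1 : End ℂ V) (i.1 : End ℂ V) from hcomm j.1 j.2 i.1 i.2) φ)
  obtain ⟨χg, hχg⟩ : ∃ χg : G → (T → ℂ), ∀ g i, χg g i = αg g i.1 :=
    ⟨fun g i => αg g i.1, fun _ _ => rfl⟩
  have hle : ∀ g : G, jointEig T (αg g) ≤
      ⨅ i : T, (i.1 : End ℂ V).maxGenEigenspace (χg g i) := by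
    intro g v hv
    rw [Submodule.mem_iInf]
    intro i
    apply Module.End.eigenspace_le_maxGenEigenspace
    rw [End.mem_eigenspace_iff, hχg]
    exact (mem_jointEig _ _ _).mp hv i.1 i.2
  have hfr' : ∀ g : G, finrank ℂ ↥(jointEig T α) ≤
      finrank ℂ ↥(⨅ i : T, (i.1 : End ℂ V).maxGenEigenspace (χg g i)) :=
    fun g => (hfr g).trans (Submodule.finrank_mono (hle g))
  have hsumle := sum_finrank_le_of_iSupIndep _ hindep (Finset.univ.image χg)
  have hfiber : ∀ χ : T → ℂ, (Finset.univ.filter (fun g : G => χg g = χ)).card ≤ Nat.card S := by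
    intro χ
    by_cases hex : ∃ g₁ : G, χg g₁ = χ
    · obtain ⟨g₁, hg₁⟩ := hex
      have hmap : ∀ g ∈ Finset.univ.filter (fun g : G => χg g = χ),
          g₁⁻¹ * g ∈ Finset.univ.filter (fun x : G => x ∈ S) := by
        intro g hg
        rw [Finset.mem_filter] at hg ⊢
        refine ⟨Finset.mem_univ _, ?_⟩
        rw [hSmem]
        intro v
        have heq : jointEig T (αg g) = jointEig T (αg g₁) := by
          ext w
          rw [mem_jointEig, mem_jointEig]
          have h1 : ∀ A ∈ T, αg g A = αg g₁ A := by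
            intro A hA
            have h2 := congrFun (hg.2.trans hg₁.symm) ⟨A, hA⟩
            rwa [hχg, hχg] at h2
          constructor
          · intro hw A hA
            rw [← h1 A hA]; exact hw A hA
          · intro hw A hA
            rw [h1 A hA]; exact hw A hA
        rw [htrans g v, heq, htrans g₁ (ρ (g₁⁻¹ * g) v), map_mul, Module.End.mul_apply, hia']
      have hinj' : Set.InjOn (fun g : G => g₁⁻¹ * g)
          (Finset.univ.filter (fun g : G => χg g = χ) : Set G) := by
        intro x _ y _ hxy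
        exact mul_left_cancel hxy
      have h1 := Finset.card_le_card_of_injOn _ hmap hinj'
      have h2 : (Finset.univ.filter (fun x : G => x ∈ S)).card = Nat.card S := by
        rw [Nat.card_eq_fintype_card, Fintype.card_subtype]
      rwa [h2] at h1
    · push Not at hex
      have h1 : Finset.univ.filter (fun g : G => χg g = χ) = ∅ := by
        apply Finset.filter_eq_empty_iff.mpr
        intro g _
        exact hex g
      rw [h1]
      simp
  have hcount : Fintype.card G * finrank ℂ ↥(jointEig T α) ≤ Nat.card S * finrank ℂ V := by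
    calc Fintype.card G * finrank ℂ ↥(jointEig T α)
        = ∑ _g : G, finrank ℂ ↥(jointEig T α) := by
          rw [Finset.sum_const, Finset.card_univ, smul_eq_mul]
      _ ≤ ∑ g : G, finrank ℂ ↥(⨅ i : T, (i.1 : End ℂ V).maxGenEigenspace (χg g i)) :=
          Finset.sum_le_sum (fun g _ => hfr' g)
      _ = ∑ χ ∈ Finset.univ.image χg, (Finset.univ.filter (fun g : G => χg g = χ)).card •
            finrank ℂ ↥(⨅ i : T, (i.1 : End ℂ V).maxGenEigenspace (χ i)) :=
          Finset.sum_comp (fun χ : T → ℂ =>
            finrank ℂ ↥(⨅ i : T, (i.1 : End ℂ V).maxGenEigenspace (χ i))) χg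
      _ ≤ ∑ χ ∈ Finset.univ.image χg, Nat.card S *
            finrank ℂ ↥(⨅ i : T, (i.1 : End ℂ V).maxGenEigenspace (χ i)) := by
          apply Finset.sum_le_sum
          intro χ _
          rw [smul_eq_mul]
          exact Nat.mul_le_mul_right _ (hfiber χ)
      _ = Nat.card S * ∑ χ ∈ Finset.univ.image χg,
            finrank ℂ ↥(⨅ i : T, (i.1 : End ℂ V).maxGenEigenspace (χ i)) := by
          rw [Finset.mul_sum]
      _ ≤ Nat.card S * finrank ℂ V := Nat.mul_le_mul_left _ hsumle
  have hdeg : S.index * finrank ℂ ↥(jointEig T α) ≤ finrank ℂ V := by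
    have h1 : Nat.card S * S.index = Fintype.card G := by
      rw [Subgroup.card_mul_index, Nat.card_eq_fintype_card]
    have h2 : Nat.card S * (S.index * finrank ℂ ↥(jointEig T α)) ≤ Nat.card S * finrank ℂ V := by
      rw [← mul_assoc, h1]
      exact hcount
    exact Nat.le_of_mul_le_mul_left h2 Nat.card_pos
  apply char_eq_irr_of_degree_le (helper4.isCharacter_indFun S hκ) hχirr hne
    (S.index * finrank ℂ ↥(jointEig T α)) (finrank ℂ V) _ _ hdeg
  · rw [helper4.indFun_one, hk1]
    push_cast
    rfl
  · rw [Representation.char_one]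

end Main

end Cfsg.Agent.Lib.helper82
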