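import Mathlib
import Cfsg.Prelude.Def_Characters
import Cfsg.Prelude.Def_CharExt
import Cfsg.Agent.Lib.helper82.GlaubOver
import Cfsg.Agent.Lib.helper82.GlaubSub
import Cfsg.Agent.Lib.helper82.CharQuot
import Cfsg.Agent.Lib.helper82.Clifford
import Cfsg.Agent.Lib.helper82.CliffordCorr
import Cfsg.Agent.Lib.helper82.RelGlaub1
import Cfsg.Agent.Lib.helper19.CoprimeOver
import Cfsg.Agent.Lib.helper19.CanonExt
import Cfsg.Agent.Lib.helper19.DetChar

/-!
# Invariant characters over invariant characters: the Hall case and tools (helper82)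

* `exists_coprime_split` : `o = o₁ o₂` with `o₁ ∣ k ^ j` and `(o₂, k) = 1`.
* `isSolvable_quot_of_comap`, `isSolvable_quot_of_surjective` : solvability of quotients along
  homomorphisms.
* `exists_irr_deflation` : deflation of an irreducible character along a surjective homomorphism.
* `detChar_of_hom` : the determinantal character of a linear character.
* `exists_inv_linear_extension` : a `G`-invariant linear character of `N ⊴ G` of order prime to
  `|G : N|` has a canonical extension, invariant under all automorphisms fixing it.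
* `exists_inv_over_of_hall` : `N ≤ G` normal in `Γ`, `(|G|, |Γ : G|) = 1`, `Γ/G` or `G/N` solvable:
  every `Γ`-invariant `θ ∈ Irr(N)` lies under a `Γ`-invariant irreducible character of `G`.
-/

set_option autoImplicit false
set_option linter.style.haveILetI false
set_option linter.unusedSectionVars false

namespace Cfsg.Agent.Lib.helper82

open Module Cfsg
open Cfsg.Agent.Lib
open scoped ComplexConjugate

universe u

section NT

/-- Split `o` into a part dividing a power of `k` and a part prime to `k`. -/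
theorem exists_coprime_split (k : ℕ) :
    ∀ o : ℕ, 0 < o → ∃ o₁ o₂ j : ℕ, o = o₁ * o₂ ∧ o₁ ∣ k ^ j ∧ Nat.Coprime o₂ k := by
  intro o
  induction o using Nat.strong_induction_on with
  | _ o ih =>
    intro ho
    by_cases hc : Nat.Coprime o k
    · exact ⟨1, o, 0, (one_mul o).symm, by simp, hc⟩
    · have hd1 : Nat.gcd o k ≠ 1 := hc
      have hd0 : 0 < Nat.gcd o k := Nat.gcd_pos_of_pos_left k ho
      obtain ⟨o', ho'⟩ := Nat.gcd_dvd_left o k
      have ho'pos : 0 < o' := by
        rcases Nat.eq_zero_or_pos o' with h | h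
        · rw [h, mul_zero] at ho'; omega
        · exact h
      have hlt : o' < o := by
        have h2 : 2 ≤ Nat.gcd o k := by omega
        nlinarith
      obtain ⟨a, b, j, hab, ha, hb⟩ := ih o' hlt ho'pos
      refine ⟨Nat.gcd o k * a, b, j + 1, ?_, ?_, hb⟩
      · calc o = Nat.gcd o k * o' := ho'
          _ = Nat.gcd o k * (a * b) := by rw [hab]
          _ = Nat.gcd o k * a * b := by ring
      · rw [pow_succ']
        exact Nat.mul_dvd_mul (Nat.gcd_dvd_right o k) ha

end NT

section Solv

variable {A B : Type*} [Group A] [Group B]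

/-- Solvability of `A/M` from that of `B/K` when `M` is the full preimage of `K`. -/
theorem isSolvable_quot_of_comap (f : A →* B) (M : Subgroup A) [M.Normal] (K : Subgroup B)
    [K.Normal] (h : ∀ a, a ∈ M ↔ f a ∈ K) (hs : Group.IsSolvable (B ⧸ K)) :
    Group.IsSolvable (A ⧸ M) := by
  haveI := hs
  have hinj : Function.Injective (QuotientGroup.map M K f (fun a ha => (h a).mp ha)) := by
    rw [injective_iff_map_eq_one]
    intro q hq
    obtain ⟨a, rfl⟩ := QuotientGroup.mk_surjective q
    have h1 : ((f a : B) : B ⧸ K) = 1 := hq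
    rw [QuotientGroup.eq_one_iff] at h1 ⊢
    exact (h a).mpr h1
  exact Group.isSolvable_of_isSolvable_injective hinj

/-- Solvability of `B/K` from that of `A/M` along a surjection mapping `M` into `K`. -/
theorem isSolvable_quot_of_surjective (f : A →* B) (hf : Function.Surjective f) (M : Subgroup A)
    [M.Normal] (K : Subgroup B) [K.Normal] (h : ∀ a, a ∈ M → f a ∈ K)
    (hs : Group.IsSolvable (A ⧸ M)) : Group.IsSolvable (B ⧸ K) := by
  haveI := hs
  have hsurj : Function.Surjective (QuotientGroup.map M K f (fun a ha => h a ha)) := by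
    intro y
    obtain ⟨b, rfl⟩ := QuotientGroup.mk_surjective y
    obtain ⟨a, rfl⟩ := hf b
    exact ⟨(a : A ⧸ M), rfl⟩
  exact Group.isSolvable_of_surjective hsurj

end Solv

section Defl

/-- Deflation of an irreducible character along a surjective homomorphism. -/
theorem exists_irr_deflation {A B : Type u} [Group A] [Group B] [Finite A] (f : A →* B)
    (hf : Function.Surjective f) {χ : A → ℂ} (hχ : IsIrrCharacter A χ)
    (hker : ∀ x ∈ f.ker, χ x = χ 1) :
    ∃ ψ : B → ℂ, IsIrrCharacter B ψ ∧ ∀ a : A, ψ (f a) = χ a := by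
  obtain ⟨ψ₀, hψ₀, hψ₀eq⟩ := isIrrCharacter_deflation f.ker hχ hker
  let e := QuotientGroup.quotientKerEquivOfSurjective f hf
  refine ⟨fun b => ψ₀ (e.symm b), isIrrCharacter_comp_surj e.symm.toMonoidHom e.symm.surjective hψ₀,
    fun a => ?_⟩
  have h1 : e.symm (f a) = (a : A ⧸ f.ker) := by
    rw [MulEquiv.symm_apply_eq]
    rfl
  show ψ₀ (e.symm (f a)) = χ a
  rw [h1, hψ₀eq]

end Defl

section Det

variable {G : Type u} [Group G] [Finite G]

/-- The determinantal character of a linear character is the character itself. -/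
theorem detChar_of_hom (f : G →* ℂˣ) : detChar (fun g => (f g : ℂ)) = fun g => (f g : ℂ) := by
  have h1 : (homRep f).character = fun g => (f g : ℂ) := funext (homRep_character f)
  rw [← h1, helper19.detChar_character]
  funext g
  rw [h1]
  simp only [homRep, MonoidHom.coe_comp, Function.comp_apply, Units.coeHom_apply,
    RingHom.toMonoidHom_eq_coe, MonoidHom.coe_coe]
  rw [Algebra.algebraMap_eq_smul_one, LinearMap.det_smul, map_one, mul_one]
  simp

/-- The canonical extension of an invariant linear character of order prime to the index; it is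
invariant under every automorphism fixing the character. -/
theorem exists_inv_linear_extension (N : Subgroup G) [hN : N.Normal] (μ : N →* ℂˣ)
    (hμG : ∀ (g : G) (n : N), μ ⟨g * n * g⁻¹, hN.conj_mem (n : G) n.2 g⟩ = μ n)
    (r : ℕ) (hr : μ ^ r = 1) (hcop : N.index.Coprime r) :
    ∃ lam : G →* ℂˣ, (∀ n : N, lam n = μ n) ∧
      ∀ α : MulAut G, ∀ hα : (∀ n ∈ N, α n ∈ N),
        (∀ n : N, μ ⟨α n, hα n n.2⟩ = μ n) → ∀ g, lam (α g) = lam g := by
  classical
  have hϑirr : IsIrrCharacter N (fun n => (μ n : ℂ)) := isIrrCharacter_of_hom μ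
  have hdetμ : detOrder (fun n : N => (μ n : ℂ)) = orderOf μ :=
    helper19.detOrder_eq_orderOf μ (fun g => congrFun (detChar_of_hom μ) g)
  have hdvd : detOrder (fun n : N => (μ n : ℂ)) ∣ r := by
    rw [hdetμ]
    exact orderOf_dvd_of_pow_eq_one hr
  have hcop' : Nat.Coprime N.index (detOrder (fun n : N => (μ n : ℂ)) * 1) := by
    rw [mul_one]
    exact Nat.Coprime.coprime_dvd_right hdvd hcop
  obtain ⟨χ, ⟨hirr, hext, hdet⟩, huniq⟩ := helper19.exists_canonical_extension N
    (fun n => (μ n : ℂ)) hϑirr (fun g n => by rw [hμG g n]) 1 (by simp) hcop'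
  have hχc := helper4.isCharacter_of_isIrrCharacter hirr
  have hχ1 : χ 1 = 1 := by
    have h1 := hext 1
    simpa using h1
  obtain ⟨lam, hlam⟩ := exists_hom_of_linear hχc hχ1
  refine ⟨lam, fun n => ?_, fun α hα hαμ g => ?_⟩
  · apply Units.ext
    rw [← hlam, hext]
  · have h1 : (fun g => χ (α g)) = χ := by
      apply huniq _ (isIrrCharacter_comp_aut α hirr)
      · intro n
        have h2 := hext ⟨α (n : G), hα n n.2⟩
        show χ (α (n : G)) = _
        rw [h2, hαμ n]
      · have h3 : detChar (fun g => χ (α g)) = fun g => detChar χ (α g) :=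
          helper19.detChar_comp (α : G ≃* G).toMonoidHom hχc
        have h4 : detOrder (fun g => χ (α g)) = detOrder χ := by
          unfold detOrder
          rw [h3]
          apply orderOf_eq_orderOf_iff.mpr
          intro n
          constructor
          · intro h
            funext g
            have := congrFun h (α⁻¹ g)
            simpa using this
          · intro h
            funext g
            have := congrFun h (α g)
            simpa using this
        rw [h4, hdet]
        exact Nat.Coprime.coprime_dvd_right hdvd hcop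
    apply Units.ext
    rw [← hlam, ← hlam]
    exact congrFun h1 g

end Det

section Hall

variable {Γ : Type u} [Group Γ] [Finite Γ]

/-- The Hall case: `N ≤ G` normal in `Γ` with `(|G|, |Γ : G|) = 1` and `Γ/G` or `G/N` solvable. -/
theorem exists_inv_over_of_hall (G N : Subgroup Γ) [hG : G.Normal] [hN : N.Normal]
    [Fintype G] [Fintype N] (hNG : N ≤ G) (hcop : (Nat.card G).Coprime G.index)
    (hsolv : Group.IsSolvable (Γ ⧸ G) ∨ Group.IsSolvable (G ⧸ N.subgroupOf G))
    (θ : IrrCharacter N)
    (hinv : ∀ (x : Γ) (n : N),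
      (θ : N → ℂ) ⟨x * n * x⁻¹, hN.conj_mem n n.2 x⟩ = (θ : N → ℂ) n) :
    ∃ χ : IrrCharacter G, classInner (fun n : N => (χ : G → ℂ) ⟨n, hNG n.2⟩) (θ : N → ℂ) ≠ 0 ∧
      ∀ (x : Γ) (g : G), (χ : G → ℂ) ⟨x * g * x⁻¹, hG.conj_mem g g.2 x⟩ = (χ : G → ℂ) g := by
  classical
  obtain ⟨S, hS⟩ := Subgroup.exists_right_complement'_of_coprime hcop
  have hScard : Nat.card S = G.index := by
    have h1 := hS.card_mul_card
    have h2 := G.card_mul_index
    exact Nat.eq_of_mul_eq_mul_left Nat.card_pos (h1.trans h2.symm)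
  have hcopS : (Nat.card G).Coprime (Nat.card S) := by rw [hScard]; exact hcop
  have hnorm : ∀ s ∈ S, ∀ g ∈ G, s * g * s⁻¹ ∈ G := fun s _ g hg => hG.conj_mem g hg s
  have hNnormal : ∀ g ∈ G, ∀ n ∈ N, g * n * g⁻¹ ∈ N := fun g _ n hn => hN.conj_mem n hn g
  have hNS : ∀ s ∈ S, ∀ n ∈ N, s * n * s⁻¹ ∈ N := fun s _ n hn => hN.conj_mem n hn s
  have hinvS : ∀ s ∈ S, ∀ g g' : N, (g' : Γ) = s * g * s⁻¹ →
      (θ : N → ℂ) g' = (θ : N → ℂ) g := by
    intro s _ g g' h
    rw [← hinv s g]
    exact congrArg _ (Subtype.ext h)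
  have key : ∃ χ : IrrCharacter G,
      classInner (fun n : N => (χ : G → ℂ) ⟨n, hNG n.2⟩) (θ : N → ℂ) ≠ 0 ∧
      (∀ s ∈ S, ∀ g g' : G, (g' : Γ) = s * g * s⁻¹ → (χ : G → ℂ) g' = (χ : G → ℂ) g) := by
    rcases hsolv with h1 | h2
    · have hSsolv : Group.IsSolvable S := by
        haveI := h1
        have hinj : Function.Injective ((QuotientGroup.mk' G).comp S.subtype) := by
          rw [injective_iff_map_eq_one]
          intro s hs
          have h3 : (s : Γ) ∈ G := by
            have h5 : ((s : Γ) : Γ ⧸ G) = 1 := hs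
            rwa [QuotientGroup.eq_one_iff] at h5
          have h4 : (s : Γ) ∈ G ⊓ S := Subgroup.mem_inf.mpr ⟨h3, s.2⟩
          rw [hS.disjoint.eq_bot, Subgroup.mem_bot] at h4
          exact Subtype.ext h4
        exact Group.isSolvable_of_isSolvable_injective hinj
      exact exists_inv_over_internal G S N hnorm hNG hNnormal hNS hcopS hSsolv θ hinvS
    · exact helper19.exists_invariant_over G S N hnorm hNG hNS
        (Nat.Coprime.coprime_dvd_left (Subgroup.relIndex_dvd_card N G) hcopS) h2 θ hinvS
  obtain ⟨χ, hχ1, hχS⟩ := key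
  refine ⟨χ, hχ1, fun x g => ?_⟩
  have hx : x ∈ ((S ⊔ G : Subgroup Γ) : Set Γ) := by
    rw [sup_comm, hS.sup_eq_top]; trivial
  rw [Subgroup.mul_normal] at hx
  obtain ⟨s, hs, g₀, hg₀, rfl⟩ := Set.mem_mul.mp hx
  have hcl := helper4.isClassFunction_of_isIrrCharacter χ.2
  have h1 := hχS s hs ⟨g₀ * g * g₀⁻¹, G.mul_mem (G.mul_mem hg₀ g.2) (G.inv_mem hg₀)⟩
    ⟨s * g₀ * g * (s * g₀)⁻¹, hG.conj_mem g g.2 _⟩ (by
      show s * g₀ * (g : Γ) * (s * g₀)⁻¹ = s * (g₀ * (g : Γ) * g₀⁻¹) * s⁻¹
      group)
  rw [h1]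
  exact hcl g ⟨g₀, hg₀⟩

end Hall

end Cfsg.Agent.Lib.helper82
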