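import Mathlib
import Cfsg.Agent.Lib.helper2.BFDefs
import Cfsg.Agent.Lib.helper82.BFA1

/-!
# S4503, piece B5a (`supp_orth`), insurance copy under the name `helper82_supp_orth`

`mu p x ψ` supported on the coset `a₀ H`, `c ∉ H`, `mp ≡ c (mod p)`, `k` commuting with `x` and
`k ^ mp = k`:  `Σ_{i<p} ψ(x^i k) conj ψ((x^i k)^mp) = 0`.
-/

set_option autoImplicit false

open Cfsg Cfsg.Agent.Lib.helper20.D1E
open scoped ComplexConjugate

namespace Cfsg.Agent.Lib.helper2.BF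

variable {G : Type*} [Group G] [Fintype G]

/-- B5a (same statement as `supp_orth` of the skeleton). -/
theorem helper82_supp_orth (p : ℕ) [Fact p.Prime] (x : G) (hxp : x ^ p = 1)
    (H : Subgroup (ZMod p)ˣ)
    (ψ : G → ℂ) (hψ : IsCharacter G ψ) (a₀ : (ZMod p)ˣ) (m : ℕ)
    (hmu : OrbitMu p x H ψ a₀ m) (c : (ZMod p)ˣ) (hc : c ∉ H) (mp : ℕ)
    (hmc : (mp : ZMod p) = (c : ZMod p)) (k : G) (hk : Commute x k) (hkm : k ^ mp = k) :
    ∑ i ∈ Finset.range p, ψ (x ^ i * k) * conj (ψ ((x ^ i * k) ^ mp)) = 0 := by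
  classical
  have hp : p.Prime := Fact.out
  have hz := Cfsg.Agent.Lib.helper83.D1E.zeta_prim p
  have hzp : zeta p ^ p = 1 := Cfsg.Agent.Lib.helper83.D1E.zeta_pow_p p
  have hz0 : zeta p ≠ 0 := Cfsg.Agent.Lib.helper83.D1E.zeta_ne_zero p
  have hzn : ‖zeta p‖ = 1 := Complex.norm_eq_one_of_pow_eq_one hzp hp.ne_zero
  have hzc : ∀ n : ℕ, conj (zeta p ^ n) = (zeta p ^ n)⁻¹ := by
    intro n
    rw [map_pow, ← Complex.inv_eq_conj hzn, inv_pow]
  obtain ⟨τ, hτ0, hτ⟩ := mu_twist p x hxp ψ hψ k hk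
  have hsupp : ∀ b : ZMod p, τ b ≠ 0 →
      ∃ h ∈ H, b = (a₀ : ZMod p) * ((h : (ZMod p)ˣ) : ZMod p) := by
    intro b hb
    by_contra hcon
    apply hb
    apply hτ0
    rw [hmu b]
    exact Set.indicator_of_notMem (s := {b : ZMod p | ∃ h ∈ H,
      b = (a₀ : ZMod p) * ((h : (ZMod p)ˣ) : ZMod p)}) hcon (fun _ => (m : ℂ))
  have hpow : ∀ i : ℕ, (x ^ i * k) ^ mp = x ^ (i * mp) * k := by
    intro i
    rw [(hk.pow_left i).mul_pow, ← pow_mul, hkm]
  have hterm : ∀ i ∈ Finset.range p, ψ (x ^ i * k) * conj (ψ ((x ^ i * k) ^ mp))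
      = ∑ b : ZMod p, ∑ b' : ZMod p, τ b * conj (τ b') *
          (zeta p ^ b.val * (zeta p ^ (b'.val * mp))⁻¹) ^ i := by
    intro i _
    rw [hpow i, hτ i, hτ (i * mp), map_sum, Finset.sum_mul_sum]
    refine Finset.sum_congr rfl fun b _ => Finset.sum_congr rfl fun b' _ => ?_
    rw [map_mul, hzc, mul_pow, inv_pow, ← pow_mul, ← pow_mul]
    rw [show b'.val * (i * mp) = b'.val * mp * i by ring]
    ring
  rw [Finset.sum_congr rfl hterm, Finset.sum_comm]
  refine Finset.sum_eq_zero fun b _ => ?_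
  rw [Finset.sum_comm]
  refine Finset.sum_eq_zero fun b' _ => ?_
  rw [← Finset.mul_sum]
  by_cases hb : τ b = 0
  · rw [hb, zero_mul, zero_mul]
  by_cases hb' : τ b' = 0
  · rw [hb', map_zero, mul_zero, zero_mul]
  obtain ⟨h, hh, hbh⟩ := hsupp b hb
  obtain ⟨h', hh', hbh'⟩ := hsupp b' hb'
  set w : ℂ := zeta p ^ b.val * (zeta p ^ (b'.val * mp))⁻¹ with hw
  have hwp : w ^ p = 1 := by
    rw [hw, mul_pow, inv_pow, ← pow_mul, ← pow_mul, mul_comm b.val, mul_comm (b'.val * mp),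
      pow_mul, pow_mul, hzp, one_pow, one_pow, inv_one, mul_one]
  have hw1 : w ≠ 1 := by
    intro h1
    apply hc
    have h2 : zeta p ^ b.val = zeta p ^ (b'.val * mp) := by
      have h3 : w * zeta p ^ (b'.val * mp) = zeta p ^ (b'.val * mp) := by rw [h1, one_mul]
      rw [hw, mul_assoc, inv_mul_cancel₀ (pow_ne_zero _ hz0), mul_one] at h3
      exact h3
    rw [pow_eq_pow_mod (b'.val * mp) hzp] at h2
    have h4 : b.val = (b'.val * mp) % p :=
      hz.pow_inj (ZMod.val_lt b) (Nat.mod_lt _ hp.pos) h2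
    have h5 : b = b' * (c : ZMod p) := by
      have h6 : ((b.val : ℕ) : ZMod p) = (((b'.val * mp) % p : ℕ) : ZMod p) := by rw [h4]
      rw [ZMod.natCast_mod, Nat.cast_mul, ZMod.natCast_zmod_val, ZMod.natCast_zmod_val, hmc] at h6
      exact h6
    rw [hbh, hbh'] at h5
    have h7 : a₀ * h = a₀ * (h' * c) := by
      apply Units.ext
      rw [Units.val_mul, Units.val_mul, Units.val_mul, ← mul_assoc]
      exact h5
    have h8 : c = h'⁻¹ * h := by
      rw [mul_left_cancel h7, inv_mul_cancel_left]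
    rw [h8]
    exact H.mul_mem (H.inv_mem hh') hh
  rw [geom_sum_eq hw1, hwp, sub_self, zero_div, mul_zero]

end Cfsg.Agent.Lib.helper2.BF
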