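import Mathlib
import Cfsg.Agent.Lib.helper2.BGDefs
import Cfsg.Agent.Lib.helper82.CharQuot
import Cfsg.Agent.Lib.helper81.CharOrtho

/-!
# S4504 piece R, sub-piece R1 (`R_p_ge_five`), helper82 insurance copy

`p = 2 χ(1) + 1` is an odd prime; if `p = 3` then `χ` is a faithful linear character, so `G`
is abelian and a subgroup of order `3` is normal.
-/

set_option autoImplicit false

open Cfsg

namespace Cfsg.Agent.Lib.helper2.BG

universe u

/-- R1 (V0): `p ≥ 5`. -/
theorem helper82_R_p_ge_five {G : Type u} [Group G] [Finite G] (p : ℕ) [Fact p.Prime]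
    (hdiv : p ∣ Nat.card G) (hsq : ¬ p ^ 2 ∣ Nat.card G)
    (hnn : ∀ H : Subgroup G, H.Normal → Nat.card H ≠ p) (χ : G → ℂ)
    (hχ : Cfsg.IsCharacter G χ) (hfaith : ∀ g : G, χ g = χ 1 → g = 1)
    (hdeg : 2 * Cfsg.charDegree χ + 1 = p) : 5 ≤ p := by
  have hp : p.Prime := Fact.out
  by_contra hlt
  have h2 := hp.two_le
  have hd1 : Cfsg.charDegree χ = 1 := by omega
  have hχ1 : χ 1 = 1 := by
    rw [Cfsg.Agent.Lib.helper81.isCharacter_one_eq_charDegree hχ, hd1, Nat.cast_one]
  obtain ⟨f, hf⟩ := Cfsg.Agent.Lib.helper82.exists_hom_of_linear hχ hχ1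
  have hcomm : ∀ a b : G, a * b = b * a := by
    intro a b
    have h1 : a * b * a⁻¹ * b⁻¹ = 1 := by
      apply hfaith
      rw [hf, hf 1]
      congr 1
      rw [map_mul, map_mul, map_mul, map_inv, map_inv, map_one]
      rw [mul_comm (f a) (f b), mul_inv_cancel_right, mul_inv_cancel]
    calc a * b = a * b * a⁻¹ * b⁻¹ * b * a := by group
      _ = b * a := by rw [h1, one_mul]
  obtain ⟨x, hxo⟩ := exists_prime_orderOf_dvd_card' p hdiv
  have hn : (Subgroup.zpowers x).Normal := by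
    refine ⟨fun n hn g => ?_⟩
    have : g * n * g⁻¹ = n := by
      rw [hcomm g n, mul_inv_cancel_right]
    rw [this]
    exact hn
  exact hnn (Subgroup.zpowers x) hn (by rw [Nat.card_zpowers, hxo])

end Cfsg.Agent.Lib.helper2.BG
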