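import Mathlib
import Cfsg.Agent.Lib.helper2.BGDefs
import Cfsg.Agent.Lib.helper2.BFMain
import Cfsg.Agent.Lib.helper92.BFC5
import Cfsg.Agent.Lib.helper4.CharDecomp

/-!
# S4504 piece R, sub-piece R3 (`R_res_irr`), helper82 insurance copy

The restriction of the faithful character `χ` of degree `(p-1)/2` to the normal closure `Γ` of
an element `x` of order `p` is irreducible: otherwise every irreducible constituent `ψ` of `χ|Γ`
has `2 ψ(1) + 1 < p`, so `Good p Γ ψ` (S4503, `bf_irr`), and the subgroup generated by the
elements of order `p` is a normal subgroup of order `p`.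
-/

set_option autoImplicit false

open Cfsg

namespace Cfsg.Agent.Lib.helper2.BG

open Cfsg.Agent.Lib.helper2.BF Cfsg.Agent.Lib.helper92.BF

universe u

/-- Degrees of the members of a list of irreducible characters against the degree of the sum,
with the length of the list. -/
theorem helper82_list_degree {K : Type*} [Group K] [Fintype K] (l : List (IrrCharacter K)) :
    ∃ N : ℕ, (l.map Subtype.val).sum 1 = (N : ℂ) ∧ l.length ≤ N ∧
      ∀ ψ ∈ l, charDegree (ψ : K → ℂ) + l.length ≤ N + 1 := by
  induction l with
  | nil => exact ⟨0, by simp, by simp, by simp⟩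
  | cons a l ih =>
    obtain ⟨N, hN, hlen, hle⟩ := ih
    obtain ⟨n, hn0, hn⟩ := Cfsg.Agent.Lib.helper4.exists_pos_nat_degree a.2
    have hdeg : charDegree (a : K → ℂ) = n := by
      unfold charDegree
      rw [hn, Complex.natCast_re, Nat.floor_natCast]
    refine ⟨n + N, ?_, ?_, ?_⟩
    · rw [List.map_cons, List.sum_cons, Pi.add_apply, hN, hn, Nat.cast_add]
    · rw [List.length_cons]
      omega
    · intro ψ hψ
      rw [List.length_cons]
      rcases List.mem_cons.mp hψ with rfl | hψ
      · omega
      · have := hle ψ hψ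
        omega

/-- R3 (V1): the restriction of `χ` to the normal closure of `x` is irreducible. -/
theorem helper82_R_res_irr {G : Type u} [Group G] [Finite G] (p : ℕ) [Fact p.Prime]
    (hdiv : p ∣ Nat.card G) (hsq : ¬ p ^ 2 ∣ Nat.card G)
    (hnn : ∀ H : Subgroup G, H.Normal → Nat.card H ≠ p) (χ : G → ℂ)
    (hχ : Cfsg.IsCharacter G χ) (hfaith : ∀ g : G, χ g = χ 1 → g = 1)
    (hdeg : 2 * Cfsg.charDegree χ + 1 = p) (x : G) (hx : orderOf x = p) :
    Cfsg.IsIrrCharacter ↥(Subgroup.normalClosure ({x} : Set G)) (fun g => χ (g : G)) := by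
  classical
  have hp : p.Prime := Fact.out
  haveI : Fintype G := Fintype.ofFinite G
  have key : ∀ Γ : Subgroup G, Γ = Subgroup.normalClosure ({x} : Set G) →
      Cfsg.IsIrrCharacter ↥Γ (fun g => χ (g : G)) := by
    intro Γ hΓ
    have hΓn : Γ.Normal := by rw [hΓ]; exact Subgroup.normalClosure_normal
    haveI : Fintype Γ := Fintype.ofFinite Γ
    have hxΓ : x ∈ Γ := by
      rw [hΓ]; exact Subgroup.subset_normalClosure (Set.mem_singleton x)
    have hχΓ : IsCharacter Γ (fun g : Γ => χ (g : G)) :=
      Cfsg.Agent.Lib.helper4.isCharacter_restrict Γ hχ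
    obtain ⟨l, hl⟩ := Cfsg.Agent.Lib.helper4.exists_irr_list_of_isCharacter hχΓ
    obtain ⟨N, hN, hlen, hle⟩ := helper82_list_degree l
    have hχ1 : χ 1 = (l.map Subtype.val).sum (1 : Γ) := congrFun hl 1
    have hdegχ : charDegree χ = N := by
      unfold charDegree
      rw [hχ1, hN, Complex.natCast_re, Nat.floor_natCast]
    have hordΓ : ∀ y : G, orderOf y = p → y ∈ Γ :=
      fun y hy => helper92_mem_of_order p hp hsq Γ x hxΓ hx y hy
    have hdivΓ : p ∣ Nat.card Γ := by
      rw [← hx]; exact Subgroup.orderOf_dvd_natCard Γ hxΓ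
    have hsqΓ : ¬ p ^ 2 ∣ Nat.card Γ :=
      fun h => hsq (h.trans (Subgroup.card_subgroup_dvd_card Γ))
    by_cases hlen2 : 2 ≤ l.length
    · exfalso
      have hgood : ∀ ψ ∈ l, Good p Γ (ψ : Γ → ℂ) := by
        intro ψ hψ
        have h1 := hle ψ hψ
        exact bf_irr (Nat.card Γ) Γ rfl p hp hdivΓ hsqΓ ψ.1 ψ.2 (by omega)
      obtain ⟨D, hD⟩ : ∃ D : Subgroup G, D = Subgroup.normalClosure {y : G | orderOf y = p} :=
        ⟨_, rfl⟩
      have hDn : D.Normal := by
        rw [hD]; exact Subgroup.normalClosure_normal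
      have hDΓ : D ≤ Γ := by
        rw [hD]; exact Subgroup.normalClosure_le_normal (fun z hz => hordΓ z hz)
      have hreg : ∀ y ∈ D, ¬ p ∣ orderOf y → y = 1 := by
        intro y hy hyp
        apply hfaith
        have hyΓ : y ∈ Γ := hDΓ hy
        have h1 : χ y = (l.map Subtype.val).sum (⟨y, hyΓ⟩ : Γ) := congrFun hl ⟨y, hyΓ⟩
        have h3 : (l.map Subtype.val).sum (⟨y, hyΓ⟩ : Γ) = (l.map Subtype.val).sum (1 : Γ) := by
          apply helper92_list_sum_eval
          intro ψ hψ
          obtain ⟨M, hMn, ⟨z, hzM, hzo⟩, hM⟩ := hgood ψ hψ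
          haveI := hMn
          have hDM : D ≤ M.map Γ.subtype := by
            rw [hD, Subgroup.normalClosure, Subgroup.closure_le]
            intro w hw
            obtain ⟨v, hv, hwv⟩ := Group.mem_conjugatesOfSet_iff.mp hw
            have hvo : orderOf v = p := hv
            have hwo : orderOf w = p := by
              obtain ⟨c, hc⟩ := isConj_iff.mp hwv
              rw [← hc]
              have := MulEquiv.orderOf_eq (MulAut.conj c) v
              rw [MulAut.conj_apply] at this
              rw [this, hvo]
            have hwΓ : w ∈ Γ := hordΓ w hwo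
            have hwM : (⟨w, hwΓ⟩ : Γ) ∈ M :=
              helper92_mem_of_order p hp hsqΓ M z hzM hzo ⟨w, hwΓ⟩
                (by rw [Subgroup.orderOf_mk]; exact hwo)
            exact ⟨⟨w, hwΓ⟩, hwM, rfl⟩
          obtain ⟨m, hmM, hmy⟩ := hDM hy
          have hm : m = ⟨y, hyΓ⟩ := Subtype.ext hmy
          rw [← hm]
          refine hM m hmM ?_
          have hmy' : (m : G) = y := hmy
          rw [← Subgroup.orderOf_coe, hmy']
          exact hyp
        rw [h1, h3, hχ1]
      -- `D` is a `p`-group
      have hDp : IsPGroup p D := by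
        intro g
        have ho : orderOf (g : G) ≠ 0 := (orderOf_pos (g : G)).ne'
        obtain ⟨e, m, hm, hem⟩ := Nat.exists_eq_pow_mul_and_not_dvd ho p hp.ne_one
        refine ⟨e, ?_⟩
        have h1 : ((g : G) ^ p ^ e) = 1 := by
          apply hreg _ (D.pow_mem g.2 _)
          have hpe : p ^ e ≠ 0 := pow_ne_zero _ hp.pos.ne'
          rw [orderOf_pow_of_dvd hpe (by rw [hem]; exact dvd_mul_right _ _), hem,
            Nat.mul_div_cancel_left _ (Nat.pos_of_ne_zero hpe)]
          exact hm
        exact Subtype.ext (by simpa using h1)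
      obtain ⟨n, hn⟩ := IsPGroup.iff_card.mp hDp
      have hxD : x ∈ D := by
        rw [hD]
        exact Subgroup.subset_normalClosure hx
      have hn1 : n = 1 := by
        have h1 : p ^ n ∣ Nat.card G := by
          rw [← hn]
          exact Subgroup.card_subgroup_dvd_card D
        have h2 : n ≤ 1 := by
          by_contra h
          have h' : 2 ≤ n := by omega
          exact hsq ((pow_dvd_pow p h').trans h1)
        have h3 : n ≠ 0 := by
          rintro rfl
          rw [pow_zero] at hn
          have hbot : D = ⊥ := Subgroup.card_eq_one.mp hn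
          rw [hbot, Subgroup.mem_bot] at hxD
          rw [hxD, orderOf_one] at hx
          exact hp.one_lt.ne hx
        omega
      rw [hn1, pow_one] at hn
      exact hnn D hDn hn
    · have hlen1 : l.length = 1 := by
        have h0 : l.length ≠ 0 := by
          intro h0
          rw [List.length_eq_zero_iff] at h0
          rw [h0] at hN
          have hN0 : N = 0 := by
            have : ((0 : ℕ) : ℂ) = (N : ℂ) := by simpa using hN
            exact_mod_cast this.symm
          rw [hdegχ, hN0] at hdeg
          have := hp.one_lt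
          omega
        omega
      obtain ⟨ψ, rfl⟩ := List.length_eq_one_iff.mp hlen1
      have hψ : (fun g : Γ => χ (g : G)) = ψ.1 := by
        rw [hl]
        simp
      rw [hψ]
      exact ψ.2
  exact key _ rfl

end Cfsg.Agent.Lib.helper2.BG
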