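import Mathlib
import Cfsg.Prelude.Def_Characters
import Cfsg.Prelude.Def_Blocks
import Cfsg.Prelude.Def_Solvable
import Cfsg.Prelude.Def_CaseTheorems
import Cfsg.Agent.Lib.helper82.CharQuot
import Cfsg.Agent.Lib.helper4.CharDecomp
import Cfsg.Agent.Lib.helper81.CharOrtho
import Cfsg.Agent.Lib.helper83.CharBasic
import Cfsg.Agent.Lib.helper68.BGJcore

/-!
# S4471, piece Z (insurance copy by helper82): a special central element of a nonabelian
`p`-group with a faithful character of degree `< 2p`.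
-/

set_option autoImplicit false

namespace Cfsg.Agent.Lib.helper68.BL

open Cfsg
open scoped ComplexConjugate Matrix

universe u

/-- A nontrivial normal subgroup of a finite `p`-group contains a central element of order `p`. -/
theorem helper82_normal_central_order_p {P : Type u} [Group P] [Finite P] (p : ℕ) [Fact p.Prime]
    (hP : IsPGroup p P) (H : Subgroup P) [H.Normal] (hH : H ≠ ⊥) :
    ∃ z : P, z ∈ H ∧ z ∈ Subgroup.center P ∧ orderOf z = p := by
  classical
  have hp : p.Prime := Fact.out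
  have hP' : IsPGroup p (ConjAct P) := hP.of_equiv ConjAct.toConjAct
  have h1 := hP'.card_modEq_card_fixedPoints (α := H)
  have h2 : p ∣ Nat.card H := by
    rcases (hP.to_subgroup H).card_eq_or_dvd with h | h
    · exact absurd (Subgroup.card_eq_one.mp h) hH
    · exact h
  have h3 : p ∣ Nat.card (MulAction.fixedPoints (ConjAct P) H) :=
    (Nat.modEq_zero_iff_dvd).mp (h1.symm.trans ((Nat.modEq_zero_iff_dvd).mpr h2))
  -- the subgroup `K = H ⊓ Z(P)` has the fixed points as underlying set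
  have hK : Nat.card (MulAction.fixedPoints (ConjAct P) H)
      = Nat.card ↥(H ⊓ Subgroup.center P) := by
    refine Nat.card_congr ⟨fun x => ⟨(x.1 : P), ?_⟩, fun y => ⟨⟨(y : P), (Subgroup.mem_inf.mp y.2).1⟩, ?_⟩,
      fun x => rfl, fun y => rfl⟩
    · refine Subgroup.mem_inf.mpr ⟨x.1.2, ?_⟩
      rw [Subgroup.mem_center_iff]
      intro g
      have h4 := x.2 (ConjAct.toConjAct g)
      have h5 := congrArg (Subtype.val : H → P) h4
      rw [ConjAct.Subgroup.val_conj_smul, ConjAct.toConjAct_smul] at h5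
      have h6 : g * (x.1 : P) * g⁻¹ * g = (x.1 : P) * g := by rw [h5]
      rw [← h6]; group
    · intro g
      apply Subtype.ext
      rw [ConjAct.Subgroup.val_conj_smul, ConjAct.smul_def]
      have h4 := (Subgroup.mem_center_iff.mp (Subgroup.mem_inf.mp y.2).2) (ConjAct.ofConjAct g)
      show ConjAct.ofConjAct g * (y : P) * (ConjAct.ofConjAct g)⁻¹ = (y : P)
      rw [h4, mul_inv_cancel_right]
  rw [hK] at h3
  obtain ⟨x, hx⟩ := exists_prime_orderOf_dvd_card' (G := ↥(H ⊓ Subgroup.center P)) p h3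
  refine ⟨(x : P), (Subgroup.mem_inf.mp x.2).1, (Subgroup.mem_inf.mp x.2).2, ?_⟩
  rw [Subgroup.orderOf_coe]; exact hx

/-- evaluation of a list sum of irreducible characters -/
theorem helper82_irr_list_sum_apply {P : Type u} [Group P] (l : List (IrrCharacter P)) (g : P) :
    (l.map Subtype.val).sum g = (l.map (fun ψ : IrrCharacter P => (ψ : P → ℂ) g)).sum := by
  induction l with
  | nil => simp
  | cons a l ih =>
    rw [List.map_cons, List.sum_cons, Pi.add_apply, ih, List.map_cons, List.sum_cons]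

/-- Z : a nonabelian `p`-group with a faithful character `Θ` of degree `< 2p` has an element `z`
(in `Z(P) ∩ P'`, of order `p`) with `Θ(z^k) = (Θ(1) - p) + p ω^k`, `ω ≠ 1` a `p`-th root of unity. -/
theorem helper82_pgroup_z {P : Type u} [Group P] [Finite P] (p : ℕ) [Fact p.Prime]
    (hP : IsPGroup p P)
    (Θ : P → ℂ) (hΘ : IsCharacter P Θ) (hfaith : ∀ g : P, Θ g = Θ 1 → g = 1)
    (hdeg : charDegree Θ < 2 * p) (hna : ∃ x y : P, x * y ≠ y * x) :
    ∃ z : P, z ^ p = 1 ∧ ∃ ω : ℂ, ω ^ p = 1 ∧ ω ≠ 1 ∧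
      ∀ k : ℕ, Θ (z ^ k) = ((charDegree Θ : ℂ) - p) + p * ω ^ k := by
  classical
  have hp : p.Prime := Fact.out
  haveI : Fintype P := Fintype.ofFinite P
  obtain ⟨l, hl⟩ := helper4.exists_irr_list_of_isCharacter hΘ
  have hval : ∀ g : P, Θ g = (l.map (fun ψ : IrrCharacter P => (ψ : P → ℂ) g)).sum := by
    intro g
    rw [hl]
    exact helper82_irr_list_sum_apply l g
  -- commutators
  have hcm : ∀ x y : P, x * y * x⁻¹ * y⁻¹ ∈ commutator P := by
    intro x y
    rw [commutator_def]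
    have h1 := Subgroup.commutator_mem_commutator (Subgroup.mem_top x) (Subgroup.mem_top y)
    rwa [commutatorElement_def] at h1
  have hcomm_eq : ∀ x y : P, x * y * x⁻¹ * y⁻¹ = 1 → x * y = y * x := by
    intro x y h
    calc x * y = (x * y * x⁻¹ * y⁻¹) * (y * x) := by group
      _ = y * x := by rw [h, one_mul]
  -- degrees are powers of `p`
  have hdegs : ∀ ψ : IrrCharacter P, ∃ b : ℕ, charDegree (ψ : P → ℂ) = p ^ b := by
    intro ψ
    obtain ⟨a, ha⟩ := IsPGroup.iff_card.mp hP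
    have h1 := helper81.irr_degree_dvd_card ψ
    rw [ha] at h1
    obtain ⟨b, _, hb⟩ := (Nat.dvd_prime_pow hp).mp h1
    exact ⟨b, hb⟩
  have hsumdeg : charDegree Θ
      = (l.map (fun ψ : IrrCharacter P => charDegree (ψ : P → ℂ))).sum := by
    have h1 := hval 1
    rw [helper81.isCharacter_one_eq_charDegree hΘ] at h1
    have h2 : (l.map (fun ψ : IrrCharacter P => (ψ : P → ℂ) 1))
        = l.map (fun ψ : IrrCharacter P => ((charDegree (ψ : P → ℂ) : ℕ) : ℂ)) :=
      List.map_congr_left (fun ψ _ => helper81.irr_one_eq_charDegree ψ)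
    have h3 : (l.map (fun ψ : IrrCharacter P => ((charDegree (ψ : P → ℂ) : ℕ) : ℂ))).sum
        = (((l.map (fun ψ : IrrCharacter P => charDegree (ψ : P → ℂ))).sum : ℕ) : ℂ) := by
      rw [Nat.cast_list_sum, List.map_map]
      rfl
    rw [h2, h3] at h1
    exact_mod_cast h1
  -- a nonlinear constituent
  have hex : ∃ ψ₀ ∈ l, charDegree ((ψ₀ : IrrCharacter P) : P → ℂ) ≠ 1 := by
    by_contra hcon
    push Not at hcon
    obtain ⟨x, y, hxy⟩ := hna
    apply hxy
    have h1 : Θ (x * y * x⁻¹ * y⁻¹) = Θ 1 := by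
      rw [hval, hval]
      congr 1
      apply List.map_congr_left
      intro ψ hψ
      have h2 : (ψ : P → ℂ) 1 = 1 := by
        rw [helper81.irr_one_eq_charDegree, hcon ψ hψ, Nat.cast_one]
      exact helper82.linear_commutator (helper83.isCharacter_of_irr ψ.2) h2 _ (hcm x y)
    exact hcomm_eq x y (hfaith _ h1)
  obtain ⟨ψ₀, hψ₀l, hψ₀⟩ := hex
  have hperm : l.Perm (ψ₀ :: l.erase ψ₀) := List.perm_cons_erase hψ₀l
  have hval' : ∀ g : P, Θ g = (ψ₀ : P → ℂ) g
      + ((l.erase ψ₀).map (fun ψ : IrrCharacter P => (ψ : P → ℂ) g)).sum := by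
    intro g
    rw [hval g, (hperm.map _).sum_eq, List.map_cons, List.sum_cons]
  have hsum' : charDegree Θ = charDegree (ψ₀ : P → ℂ)
      + ((l.erase ψ₀).map (fun ψ : IrrCharacter P => charDegree (ψ : P → ℂ))).sum := by
    rw [hsumdeg, (hperm.map _).sum_eq, List.map_cons, List.sum_cons]
  -- the degree of `ψ₀` is `p`
  obtain ⟨b, hb⟩ := hdegs ψ₀
  have hb1 : b = 1 := by
    rcases b with _ | _ | b
    · exfalso
      apply hψ₀
      rw [hb, pow_zero]
    · rfl
    · exfalso
      have h1 : p ^ 2 ≤ p ^ (b + 1 + 1) := Nat.pow_le_pow_right hp.pos (by omega)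
      have h2 : 2 * p ≤ p ^ 2 := by
        rw [sq]; exact Nat.mul_le_mul_right p hp.two_le
      omega
  rw [hb1, pow_one] at hb
  -- the other constituents are linear
  have hlin : ∀ ψ ∈ l.erase ψ₀, charDegree ((ψ : IrrCharacter P) : P → ℂ) = 1 := by
    intro ψ hψ
    obtain ⟨c, hc⟩ := hdegs ψ
    have h1 : charDegree (ψ : P → ℂ)
        ≤ ((l.erase ψ₀).map (fun ψ : IrrCharacter P => charDegree (ψ : P → ℂ))).sum :=
      List.le_sum_of_mem (List.mem_map_of_mem hψ)
    rcases c with _ | c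
    · rw [hc, pow_zero]
    · exfalso
      have h2 : p ≤ p ^ (c + 1) := Nat.le_self_pow (by omega) p
      omega
  have hcount : ((l.erase ψ₀).map (fun ψ : IrrCharacter P => charDegree (ψ : P → ℂ))).sum
      = (l.erase ψ₀).length := by
    rw [List.map_congr_left hlin]
    simp
  -- the element `z`
  have hcomm : commutator P ≠ ⊥ := by
    intro h0
    obtain ⟨x, y, hxy⟩ := hna
    apply hxy
    have h1 := hcm x y
    rw [h0, Subgroup.mem_bot] at h1
    exact hcomm_eq x y h1
  obtain ⟨z, hzH, hzc, hzo⟩ := helper82_normal_central_order_p p hP (commutator P) hcomm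
  have hzp : z ^ p = 1 := by rw [← hzo]; exact pow_orderOf_eq_one z
  have hzkH : ∀ k : ℕ, z ^ k ∈ commutator P := fun k => (commutator P).pow_mem hzH k
  obtain ⟨μ, -, hμ⟩ := Cfsg.Agent.Lib.helper2.BG.helper68_central_scalar ψ₀ z hzc
    (by rw [hzo]; exact hp.pos)
  have hψ₀1 : (ψ₀ : P → ℂ) 1 = (p : ℂ) := by
    rw [helper81.irr_one_eq_charDegree, hb]
  have hψ₀k : ∀ k : ℕ, (ψ₀ : P → ℂ) (z ^ k) = (p : ℂ) * μ ^ k := by
    intro k
    induction k with
    | zero => rw [pow_zero, pow_zero, hψ₀1, mul_one]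
    | succ k ih => rw [pow_succ, hμ, ih, pow_succ]; ring
  have hp0 : (p : ℂ) ≠ 0 := Nat.cast_ne_zero.mpr hp.ne_zero
  have hμp : μ ^ p = 1 := by
    have h1 := hψ₀k p
    rw [hzp, hψ₀1] at h1
    have h2 : (p : ℂ) * 1 = (p : ℂ) * μ ^ p := by rw [mul_one]; exact h1
    exact (mul_left_cancel₀ hp0 h2).symm
  have hkey : ∀ k : ℕ, Θ (z ^ k) = ((charDegree Θ : ℂ) - p) + p * μ ^ k := by
    intro k
    rw [hval' (z ^ k), hψ₀k k]
    have h1 : ((l.erase ψ₀).map (fun ψ : IrrCharacter P => (ψ : P → ℂ) (z ^ k)))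
        = (l.erase ψ₀).map (fun _ : IrrCharacter P => (1 : ℂ)) := by
      apply List.map_congr_left
      intro ψ hψ
      have h2 : (ψ : P → ℂ) 1 = 1 := by
        rw [helper81.irr_one_eq_charDegree, hlin ψ hψ, Nat.cast_one]
      rw [helper82.linear_commutator (helper83.isCharacter_of_irr ψ.2) h2 _ (hzkH k), h2]
    have h3 : ((l.erase ψ₀).map (fun _ : IrrCharacter P => (1 : ℂ))).sum
        = ((l.erase ψ₀).length : ℂ) := by
      simp
    have h4 : (charDegree Θ : ℂ) = (p : ℂ) + ((l.erase ψ₀).length : ℂ) := by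
      rw [hsum', hb, hcount]; push_cast; ring
    rw [h1, h3, h4]
    ring
  refine ⟨z, hzp, μ, hμp, ?_, hkey⟩
  intro hμ1
  have h1 := hkey 1
  rw [hμ1, pow_one, pow_one, mul_one, sub_add_cancel,
    ← helper81.isCharacter_one_eq_charDegree hΘ] at h1
  have h2 := hfaith z h1
  rw [h2, orderOf_one] at hzo
  exact hp.one_lt.ne hzo

end Cfsg.Agent.Lib.helper68.BL
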