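import Mathlib
import Cfsg.Prelude.Def_Characters
import Cfsg.Prelude.Def_Blocks
import Cfsg.Agent.Lib.helper84.BrDefs
import Cfsg.Agent.Lib.helper81.CharOrtho
import Cfsg.Agent.Lib.helper80.BlockIdem
import Cfsg.Agent.Lib.helper66.BrSING

/-!
# S0997 piece T4 (`eta_deg`)

If the set `B'` misses `Y`, the generalized character `η = Σ_{χ ∈ X ∩ B'} δ_χ χ` vanishes on the
`q`-singular elements; orthogonality with `θ ∈ Y` of degree `g₀` then gives
`η(1) g₀ = ε e |Syl_p| |X ∩ B'|`.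
-/

set_option autoImplicit false

namespace Cfsg.Agent.Lib.helper82.BU

open Cfsg Cfsg.Agent.Lib.helper81 Cfsg.Agent.Lib.helper84.Br
open scoped ComplexConjugate

universe u

variable {G : Type u} [Group G] [Fintype G]

variable {p : ℕ} [Fact p.Prime] {P : Sylow p G} {e : ℕ}

/-- T4 : if `B'` misses `Y`, then `η = Σ_{χ ∈ X ∩ B'} δ_χ χ` vanishes on the `q`-singular elements
and `⟨η, θ⟩ = 0` gives `η(1) g₀ = ε e |Syl_p| |X ∩ B'|`. -/
theorem eta_deg (hP : Nat.card P = p)
    (hC : Subgroup.centralizer ((P : Subgroup G) : Set G) = (P : Subgroup G))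
    (D : Data G p P e) (q g₀ : ℕ)
    (θ : IrrCharacter G) (hθ : θ ∈ D.Y) (hθd : charDegree (θ : G → ℂ) = g₀)
    (hpsum : psum (P : Subgroup G) (θ : G → ℂ) = -(D.ε : ℂ) * (e : ℂ))
    (hvan : ∀ g : G, g ≠ 1 → ¬ p ∣ orderOf g → ¬ q ∣ orderOf g → (θ : G → ℂ) g = 0)
    (B' : Set (IrrCharacter G)) [DecidablePred (· ∈ B')]
    (hYB : ∀ θ' ∈ D.Y, θ' ∉ B')
    (hrel : ∀ x : G, x ∈ (P : Subgroup G) → x ≠ 1 → ∀ y : G, q ∣ orderOf y →
      ∑ χ ∈ D.X.filter (· ∈ B'), (D.δ χ : ℂ) * conj ((χ : G → ℂ) y) +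
        ∑ θ ∈ D.Y.filter (· ∈ B'), (θ : G → ℂ) x * conj ((θ : G → ℂ) y) = 0) :
    (∑ χ ∈ D.X.filter (· ∈ B'), D.δ χ * (charDegree (χ : G → ℂ) : ℤ)) * (g₀ : ℤ) =
      D.ε * (e : ℤ) * (Nat.card (Sylow p G) : ℤ) * ((D.X.filter (· ∈ B')).card : ℤ) := by
  classical
  have hp : p.Prime := Fact.out
  set S : Finset (IrrCharacter G) := D.X.filter (· ∈ B') with hS
  have hSX : ∀ χ ∈ S, χ ∈ D.X := fun χ hχ => (Finset.mem_filter.mp hχ).1
  -- a non-identity element of `P`
  have hx0 : ∃ x : G, x ∈ (P : Subgroup G) ∧ x ≠ 1 := by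
    by_contra hcon
    have hcon' : ∀ x ∈ (P : Subgroup G), x = 1 :=
      fun x hx => by_contra (fun h => hcon ⟨x, hx, h⟩)
    have hbot : (P : Subgroup G) = ⊥ := (Subgroup.eq_bot_iff_forall _).mpr hcon'
    have h1 : Nat.card (P : Subgroup G) = 1 := by rw [hbot]; exact Subgroup.card_bot
    have h2 : Nat.card (P : Subgroup G) = p := hP
    rw [h1] at h2
    exact hp.one_lt.ne h2
  obtain ⟨x₀, hx₀, hx₀1⟩ := hx0
  have hYf : D.Y.filter (· ∈ B') = ∅ := by
    rw [Finset.filter_eq_empty_iff]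
    exact fun θ' hθ' => hYB θ' hθ'
  set η : G → ℂ := fun g => ∑ χ ∈ S, (D.δ χ : ℂ) * (χ : G → ℂ) g with hη
  -- `η` vanishes on `q`-singular elements
  have hηsing : ∀ y : G, q ∣ orderOf y → η y = 0 := by
    intro y hy
    have h := hrel x₀ hx₀ hx₀1 y hy
    rw [hYf, Finset.sum_empty, add_zero] at h
    have h2 := congrArg (starRingEnd ℂ) h
    rw [map_sum, map_zero] at h2
    rw [← h2]
    refine Finset.sum_congr rfl (fun χ _ => ?_)
    rw [map_mul, Complex.conj_conj, map_intCast]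
  -- `η` on `P ∖ 1`
  have hηP : ∀ x : G, x ∈ (P : Subgroup G) → x ≠ 1 → η x = (S.card : ℂ) := by
    intro x hx hx1
    have h1 : ∀ χ ∈ S, (D.δ χ : ℂ) * (χ : G → ℂ) x = 1 := by
      intro χ hχ
      rw [D.val_X χ (hSX χ hχ) x hx hx1]
      rcases D.δ_sq χ (hSX χ hχ) with h | h <;> rw [h] <;> norm_num
    simp only [hη]
    rw [Finset.sum_congr rfl h1, Finset.sum_const, nsmul_eq_mul, mul_one]
  -- orthogonality
  set F : G → ℂ := fun g => η g * conj ((θ : G → ℂ) g) with hF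
  have horth : ∑ g : G, F g = 0 := by
    simp only [hF, hη, Finset.sum_mul]
    rw [Finset.sum_comm]
    apply Finset.sum_eq_zero
    intro χ hχ
    have hne : χ ≠ θ := by
      rintro rfl
      exact (Finset.disjoint_left.mp D.disj (hSX χ hχ)) hθ
    have h1 := Cfsg.Agent.Lib.helper80.irr_sum_mul_conj χ θ
    rw [if_neg hne] at h1
    calc ∑ g : G, (D.δ χ : ℂ) * (χ : G → ℂ) g * conj ((θ : G → ℂ) g)
        = (D.δ χ : ℂ) * ∑ g : G, (χ : G → ℂ) g * conj ((θ : G → ℂ) g) := by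
          rw [Finset.mul_sum]
          exact Finset.sum_congr rfl (fun g _ => by ring)
      _ = 0 := by rw [h1, mul_zero]
  -- `F` is a class function
  have hFcls : IsClassFunction G F := by
    intro g h
    simp only [hF, hη]
    rw [irr_classFun θ g h]
    congr 1
    exact Finset.sum_congr rfl (fun χ _ => by rw [irr_classFun χ g h])
  -- splitting
  have hsplit : ∀ g : G, F g = (if g = 1 then F 1 else 0) + (if p ∣ orderOf g then F g else 0) := by
    intro g
    by_cases hg1 : g = 1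
    · subst hg1
      have : ¬ p ∣ orderOf (1 : G) := by
        rw [orderOf_one]
        exact fun h => hp.one_lt.ne' (Nat.dvd_one.mp h)
      rw [if_pos rfl, if_neg this, add_zero]
    · by_cases hgp : p ∣ orderOf g
      · rw [if_neg hg1, if_pos hgp, zero_add]
      · rw [if_neg hg1, if_neg hgp, add_zero]
        by_cases hgq : q ∣ orderOf g
        · simp only [hF]
          rw [hηsing g hgq, zero_mul]
        · simp only [hF]
          rw [hvan g hg1 hgp hgq, map_zero, mul_zero]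
  have hsing := Cfsg.Agent.Lib.helper66.Br.psing_sum (P := P) hP hC F hFcls
  have hps : psum (P : Subgroup G) F = (S.card : ℂ) * (-(D.ε : ℂ) * (e : ℂ)) := by
    have h1 : psum (P : Subgroup G) F
        = (S.card : ℂ) * conj (psum (P : Subgroup G) (θ : G → ℂ)) := by
      unfold psum
      rw [map_sum, Finset.mul_sum]
      refine Finset.sum_congr rfl (fun g _ => ?_)
      by_cases hg : g ∈ (P : Subgroup G) ∧ g ≠ 1
      · rw [if_pos hg, if_pos hg]
        simp only [hF]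
        rw [hηP g hg.1 hg.2]
      · rw [if_neg hg, if_neg hg, map_zero, mul_zero]
    rw [h1, hpsum]
    rw [map_mul, map_neg, map_intCast, Complex.conj_natCast]
  have hF1 : F 1 = (∑ χ ∈ S, (D.δ χ : ℂ) * (charDegree (χ : G → ℂ) : ℂ)) * (g₀ : ℂ) := by
    simp only [hF, hη]
    rw [irr_one_eq_charDegree θ, hθd, Complex.conj_natCast]
    congr 1
    exact Finset.sum_congr rfl (fun χ _ => by rw [irr_one_eq_charDegree χ])
  have hmain : (∑ χ ∈ S, (D.δ χ : ℂ) * (charDegree (χ : G → ℂ) : ℂ)) * (g₀ : ℂ)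
      + (Nat.card (Sylow p G) : ℂ) * ((S.card : ℂ) * (-(D.ε : ℂ) * (e : ℂ))) = 0 := by
    have hsum : ∑ g : G, F g = F 1 + ∑ g : G, (if p ∣ orderOf g then F g else 0) := by
      calc ∑ g : G, F g
          = ∑ g : G, ((if g = 1 then F 1 else 0) + (if p ∣ orderOf g then F g else 0)) :=
            Finset.sum_congr rfl (fun g _ => hsplit g)
        _ = F 1 + ∑ g : G, (if p ∣ orderOf g then F g else 0) := by
            rw [Finset.sum_add_distrib, Finset.sum_ite_eq' Finset.univ (1 : G) (fun _ => F 1),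
              if_pos (Finset.mem_univ _)]
    rw [← hF1, ← hps, ← hsing, ← hsum, horth]
  have hfin : ((∑ χ ∈ S, D.δ χ * (charDegree (χ : G → ℂ) : ℤ)) * (g₀ : ℤ) : ℂ) =
      ((D.ε * (e : ℤ) * (Nat.card (Sylow p G) : ℤ) * (S.card : ℤ) : ℤ) : ℂ) := by
    push_cast
    linear_combination hmain
  exact_mod_cast hfin

end Cfsg.Agent.Lib.helper82.BU
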