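import Mathlib
import Cfsg.Prelude.Def_Characters
import Cfsg.Agent.Lib.helper4.RepBasic
import Cfsg.Agent.Lib.helper4.Induction
import Cfsg.Agent.Lib.helper82.CharInt
import Cfsg.Agent.Lib.helper82.CharDeg
import Cfsg.Agent.Lib.helper82.CharSums
import Cfsg.Agent.Lib.helper82.CharQuot

/-!
# The block idempotent of an induced irreducible representation (helper82)

`exists_block_idempotent`: if the character of the irreducible representation `ρ` of `G` is
induced from the irreducible character `ϑ` of the subgroup `H`, there is an idempotent `e`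
commuting with `ρ(H)` such that `e ρ(g) e = 0` for `g ∉ H` (the projection on the block of
imprimitivity stabilized by `H`).
-/

set_option autoImplicit false
set_option linter.style.haveILetI false
set_option linter.unusedSectionVars false

namespace Cfsg.Agent.Lib.helper82

open Module Cfsg
open Cfsg.Agent.Lib
open scoped ComplexConjugate

universe u

section LinAlg

variable {V : Type*} [AddCommGroup V] [Module ℂ V] [FiniteDimensional ℂ V]

/-- The rank of an idempotent is its trace. -/
theorem finrank_range_of_idem (P : End ℂ V) (hP : P * P = P) :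
    (finrank ℂ ↥(LinearMap.range P) : ℂ) = LinearMap.trace ℂ V P := by
  have h : IsIdempotentElem P := hP
  exact (LinearMap.IsProj.trace (LinearMap.IsIdempotentElem.isProj_range _ h)).symm

/-- Subadditivity of the dimension over a finite supremum. -/
theorem finrank_finset_sup_le {ι : Type*} (p : ι → Submodule ℂ V) (s : Finset ι) :
    finrank ℂ ↥(s.sup p) ≤ ∑ i ∈ s, finrank ℂ ↥(p i) := by
  classical
  induction s using Finset.induction_on with
  | empty => rw [Finset.sup_empty, finrank_bot, Finset.sum_empty]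
  | insert a s ha ih =>
    rw [Finset.sup_insert, Finset.sum_insert ha]
    exact (Submodule.finrank_add_le_finrank_add_finrank _ _).trans (Nat.add_le_add_left ih _)

end LinAlg

section Ortho

variable {H : Type*} [Group H] [Fintype H]
variable {W : Type*} [AddCommGroup W] [Module ℂ W] [FiniteDimensional ℂ W]
variable {V : Type*} [AddCommGroup V] [Module ℂ V] [FiniteDimensional ℂ V]

/-- Generalized orthogonality relation. -/
theorem sum_char_inv_mul_char (σ : Representation ℂ H W) [σ.IsIrreducible] (x : H) :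
    ∑ h : H, σ.character h⁻¹ * σ.character (x * h) =
      ((Nat.card H : ℂ) / (finrank ℂ W : ℂ)) * σ.character x := by
  have h1 := sum_char_inv_smul_rep σ
  have h2 := congrArg (fun B => LinearMap.trace ℂ W (σ x * B)) h1
  simp only [Finset.mul_sum, mul_smul_comm, map_sum, map_smul, smul_eq_mul, mul_one] at h2
  have hx : σ.character x = LinearMap.trace ℂ W (σ x) := rfl
  rw [hx, ← h2]
  refine Finset.sum_congr rfl (fun h _ => ?_)
  congr 1
  show LinearMap.trace ℂ W (σ (x * h)) = _
  rw [map_mul]

/-- The class sum weighted by an (inverse) character commutes with any representation. -/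
theorem sum_char_smul_comm (σ : Representation ℂ H W) (ρ' : Representation ℂ H V) (k : H) :
    (∑ h : H, σ.character h⁻¹ • ρ' h) * ρ' k = ρ' k * (∑ h : H, σ.character h⁻¹ • ρ' h) := by
  rw [Finset.sum_mul, Finset.mul_sum]
  rw [← Equiv.sum_comp (MulAut.conj k⁻¹).toEquiv (fun g => ρ' k * σ.character g⁻¹ • ρ' g)]
  refine Finset.sum_congr rfl (fun g _ => ?_)
  simp only [MulEquiv.toEquiv_eq_coe, MulEquiv.coe_toEquiv, MulAut.conj_apply, inv_inv]
  have h1 : (k⁻¹ * g * k)⁻¹ = k⁻¹ * g⁻¹ * k⁻¹⁻¹ := by group
  rw [h1, Representation.char_conj, smul_mul_assoc, mul_smul_comm, ← map_mul, ← map_mul]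
  congr 2
  group

end Ortho

section Blocks

variable {G : Type u} [Group G] [Fintype G]
variable {V : Type*} [AddCommGroup V] [Module ℂ V] [FiniteDimensional ℂ V]

/-- The block idempotent of an induced irreducible representation. -/
theorem exists_block_idempotent (ρ : Representation ℂ G V) [hirr : ρ.IsIrreducible]
    (H : Subgroup G) (ϑ : H → ℂ) (hϑ : IsIrrCharacter H ϑ) (hind : indFun H ϑ = ρ.character) :
    ∃ e : End ℂ V, e * e = e ∧ e ≠ 0 ∧ (∀ h ∈ H, ρ h * e = e * ρ h) ∧
      ∀ g : G, g ∉ H → e * ρ g * e = 0 := by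
  classical
  haveI : Fintype H := Fintype.ofFinite H
  haveI : Fintype (G ⧸ H) := Fintype.ofFinite _
  obtain ⟨m, σ, hσ, rfl⟩ := hϑ
  haveI := hσ
  have hm : 0 < m := by
    have h1 := finrank_pos_of_irreducible σ
    simpa using h1
  have hm0 : (m : ℂ) ≠ 0 := by exact_mod_cast hm.ne'
  have hH0 : (Nat.card H : ℂ) ≠ 0 := by exact_mod_cast Nat.card_pos.ne'
  have hfr : (finrank ℂ (Fin m → ℂ) : ℂ) = m := by simp
  have hχirr : IsIrrCharacter G ρ.character := helper4.isIrrCharacter_of_rep ρ
  have hχcl : IsClassFunction G ρ.character := helper4.isClassFunction_of_isIrrCharacter hχirr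
  have hρinv : ∀ g : G, ρ g⁻¹ * ρ g = 1 := fun g => by
    rw [← map_mul, inv_mul_cancel, map_one]
  have hρinv' : ∀ g : G, ρ g * ρ g⁻¹ = 1 := fun g => by
    rw [← map_mul, mul_inv_cancel, map_one]
  let ρH : Representation ℂ H V := compRep H.subtype ρ
  have hρH : ∀ h : H, ρH h = ρ (h : G) := fun _ => rfl
  obtain ⟨A, hA⟩ : ∃ A : End ℂ V, A = ∑ h : H, σ.character h⁻¹ • ρH h := ⟨_, rfl⟩
  have hAcomm : ∀ k : H, A * ρH k = ρH k * A := by
    intro k
    rw [hA]
    exact sum_char_smul_comm σ ρH k
  have hAA : A * A = ((Nat.card H : ℂ) / (m : ℂ)) • A := by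
    rw [hA, Finset.sum_mul]
    have h1 : ∀ h : H, (σ.character h⁻¹ • ρH h) * ∑ h' : H, σ.character h'⁻¹ • ρH h' =
        ∑ k : H, (σ.character h⁻¹ * σ.character (k⁻¹ * h)) • ρH k := by
      intro h
      rw [Finset.mul_sum]
      rw [← Equiv.sum_comp (Equiv.mulLeft h⁻¹)
        (fun h' : H => (σ.character h⁻¹ • ρH h) * (σ.character h'⁻¹ • ρH h'))]
      refine Finset.sum_congr rfl (fun k _ => ?_)
      simp only [Equiv.coe_mulLeft]
      rw [smul_mul_smul_comm, ← map_mul, mul_inv_cancel_left, mul_inv_rev, inv_inv]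
    simp only [h1]
    rw [Finset.sum_comm, Finset.smul_sum]
    refine Finset.sum_congr rfl (fun k _ => ?_)
    rw [← Finset.sum_smul, smul_smul]
    congr 1
    have h2 := sum_char_inv_mul_char σ k⁻¹
    rw [hfr] at h2
    exact h2
  have hres1 : classInner (fun h : H => ρ.character h) σ.character = 1 := by
    have h1 := helper4.frobenius_reciprocity H σ.character hχcl
    rw [hind, helper4.classInner_irr_self hχirr] at h1
    rw [← helper4.classInner_conj_symm σ.character (fun h : H => ρ.character h), ← h1]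
    simp
  have htrA : LinearMap.trace ℂ V A = (Nat.card H : ℂ) := by
    rw [hA, map_sum]
    have h1 : ∀ h : H, LinearMap.trace ℂ V (σ.character h⁻¹ • ρH h) =
        ρ.character h * conj (σ.character h) := by
      intro h
      rw [map_smul, smul_eq_mul, char_inv, mul_comm]
      rfl
    simp only [h1]
    have h2 := hres1
    unfold classInner at h2
    have h3 : (Nat.card H : ℂ) * ((Nat.card H : ℂ)⁻¹ *
        ∑ h : H, ρ.character h * conj (σ.character h)) = (Nat.card H : ℂ) * 1 := by rw [h2]
    rw [← mul_assoc, mul_inv_cancel₀ hH0, one_mul, mul_one] at h3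
    exact h3
  obtain ⟨e, he⟩ : ∃ e : End ℂ V, e = ((m : ℂ) / (Nat.card H : ℂ)) • A := ⟨_, rfl⟩
  have hee : e * e = e := by
    rw [he, smul_mul_smul_comm, hAA, smul_smul]
    congr 1
    field_simp
  have htre : LinearMap.trace ℂ V e = (m : ℂ) := by
    rw [he, map_smul, htrA, smul_eq_mul]
    field_simp
  have hecomm : ∀ h ∈ H, ρ h * e = e * ρ h := by
    intro h hh
    have h1 := hAcomm ⟨h, hh⟩
    rw [hρH] at h1
    rw [he, mul_smul_comm, smul_mul_assoc, h1]
  have he0 : e ≠ 0 := by
    intro h0
    rw [h0, map_zero] at htre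
    exact hm0 htre.symm
  refine ⟨e, hee, he0, hecomm, ?_⟩
  -- the conjugates of `e`
  obtain ⟨P, hP⟩ : ∃ P : G → End ℂ V, ∀ g, P g = ρ g * e * ρ g⁻¹ := ⟨_, fun _ => rfl⟩
  have hPP : ∀ g, P g * P g = P g := by
    intro g
    rw [hP]
    calc ρ g * e * ρ g⁻¹ * (ρ g * e * ρ g⁻¹) = ρ g * e * (ρ g⁻¹ * ρ g) * e * ρ g⁻¹ := by
          simp only [mul_assoc]
      _ = ρ g * e * ρ g⁻¹ := by rw [hρinv, mul_one, mul_assoc (ρ g), hee]
  have htrP : ∀ g, LinearMap.trace ℂ V (P g) = (m : ℂ) := by
    intro g
    rw [hP, LinearMap.trace_mul_comm, ← mul_assoc, hρinv, one_mul, htre]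
  have hPH : ∀ g : G, ∀ h ∈ H, P (g * h) = P g := by
    intro g h hh
    rw [hP, hP, map_mul, mul_inv_rev, map_mul]
    calc ρ g * ρ h * e * (ρ h⁻¹ * ρ g⁻¹) = ρ g * (ρ h * e) * ρ h⁻¹ * ρ g⁻¹ := by
          simp only [mul_assoc]
      _ = ρ g * e * ρ g⁻¹ := by
          rw [hecomm h hh]
          simp only [mul_assoc]
          rw [← mul_assoc (ρ h), hρinv', one_mul]
  -- Schur: the sum of all conjugates is `|H|`
  have hsum : ∑ g : G, P g = (Nat.card H : ℂ) • (1 : End ℂ V) := by
    have hcomm : ∀ x : G, (∑ g : G, P g) * ρ x = ρ x * ∑ g : G, P g := by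
      intro x
      rw [Finset.sum_mul, Finset.mul_sum]
      rw [← Equiv.sum_comp (Equiv.mulLeft x) (fun g => P g * ρ x)]
      refine Finset.sum_congr rfl (fun g _ => ?_)
      simp only [Equiv.coe_mulLeft]
      rw [hP, hP, map_mul, mul_inv_rev, map_mul]
      simp only [mul_assoc]
      rw [hρinv, mul_one]
    have h1 := schur_scalar_trace ρ _ hcomm
    rw [h1]
    congr 1
    rw [map_sum]
    simp only [htrP]
    rw [Finset.sum_const, Finset.card_univ, nsmul_eq_mul]
    have h2 : (finrank ℂ V : ℂ) = (H.index : ℂ) * (m : ℂ) := by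
      have h3 := helper4.indFun_one H σ.character
      rw [hind, Representation.char_one, Representation.char_one, hfr] at h3
      exact h3
    rw [h2]
    have h4 : (Fintype.card G : ℂ) = (Nat.card H : ℂ) * (H.index : ℂ) := by
      rw [← Nat.card_eq_fintype_card]
      exact_mod_cast (H.card_mul_index).symm
    have hidx : (H.index : ℂ) ≠ 0 := by
      exact_mod_cast Subgroup.index_ne_zero_of_finite
    rw [h4]
    field_simp
  have hn : finrank ℂ V = H.index * m := by
    have h3 := helper4.indFun_one H σ.character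
    rw [hind, Representation.char_one, Representation.char_one, hfr] at h3
    exact_mod_cast h3
  -- `1 - e` in terms of the other conjugates
  have hPe : ∀ g ∈ H, P g = e := by
    intro g hg
    rw [hP, hecomm g hg, mul_assoc, hρinv', mul_one]
  have hsum2 : ∑ g ∈ Finset.univ.filter (fun g : G => g ∉ H), P g =
      (Nat.card H : ℂ) • ((1 : End ℂ V) - e) := by
    have h1 : ∑ g ∈ Finset.univ.filter (fun g : G => g ∈ H), P g = (Nat.card H : ℂ) • e := by
      rw [Finset.sum_congr rfl (fun g hg => hPe g (Finset.mem_filter.mp hg).2), Finset.sum_const,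
        ← Nat.cast_smul_eq_nsmul ℂ]
      congr 2
      rw [Nat.card_eq_fintype_card, Fintype.card_subtype]
    have h2 := Finset.sum_filter_add_sum_filter_not Finset.univ (fun g : G => g ∈ H) P
    rw [h1, hsum] at h2
    rw [smul_sub, ← h2]
    abel
  -- the span of the other blocks
  obtain ⟨s, hs⟩ : ∃ s : Finset (G ⧸ H), s = Finset.univ.filter
      (fun c : G ⧸ H => c ≠ QuotientGroup.mk (1 : G)) := ⟨_, rfl⟩
  obtain ⟨U, hU⟩ : ∃ U : Submodule ℂ V,
      U = s.sup (fun c : G ⧸ H => LinearMap.range (P c.out)) := ⟨_, rfl⟩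
  have hrank : ∀ g, finrank ℂ ↥(LinearMap.range (P g)) = m := by
    intro g
    have h1 := finrank_range_of_idem (P g) (hPP g)
    rw [htrP] at h1
    exact_mod_cast h1
  have hUle : finrank ℂ ↥U ≤ (H.index - 1) * m := by
    rw [hU]
    refine (finrank_finset_sup_le _ s).trans ?_
    simp only [hrank]
    rw [Finset.sum_const, smul_eq_mul]
    apply Nat.mul_le_mul_right
    rw [hs, Finset.filter_ne', Finset.card_erase_of_mem (Finset.mem_univ _), Finset.card_univ,
      Subgroup.index, Nat.card_eq_fintype_card]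
  have hPU : ∀ g : G, g ∉ H → LinearMap.range (P g) ≤ U := by
    intro g hg
    have hmem : (QuotientGroup.mk g : G ⧸ H) ∈ s := by
      rw [hs, Finset.mem_filter]
      refine ⟨Finset.mem_univ _, fun h => hg ?_⟩
      have h1 := QuotientGroup.eq.mp h
      have h2 : g⁻¹ ∈ H := by simpa using h1
      simpa using H.inv_mem h2
    have hout : P (QuotientGroup.mk g : G ⧸ H).out = P g := by
      have h1 : (QuotientGroup.mk (QuotientGroup.mk g : G ⧸ H).out : G ⧸ H) = QuotientGroup.mk g :=
        QuotientGroup.out_eq' _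
      have h2 : g⁻¹ * (QuotientGroup.mk g : G ⧸ H).out ∈ H := QuotientGroup.eq.mp h1.symm
      have h3 : (QuotientGroup.mk g : G ⧸ H).out = g * (g⁻¹ * (QuotientGroup.mk g : G ⧸ H).out) := by
        group
      rw [h3]
      exact hPH g _ h2
    rw [hU, ← hout]
    exact Finset.le_sup (f := fun c : G ⧸ H => LinearMap.range (P c.out)) hmem
  have hone_e : ((1 : End ℂ V) - e) * ((1 : End ℂ V) - e) = (1 : End ℂ V) - e := by
    rw [mul_sub, sub_mul, sub_mul, one_mul, mul_one, one_mul, hee]
    abel
  have hle : LinearMap.range ((1 : End ℂ V) - e) ≤ U := by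
    rintro v ⟨w, rfl⟩
    have h1 : ((1 : End ℂ V) - e) w = (Nat.card H : ℂ)⁻¹ •
        ∑ g ∈ Finset.univ.filter (fun g : G => g ∉ H), P g w := by
      have h2 := congrArg (fun B : End ℂ V => B w) hsum2
      simp only [LinearMap.sum_apply, LinearMap.smul_apply] at h2
      rw [h2, smul_smul, inv_mul_cancel₀ hH0, one_smul]
    rw [h1]
    refine U.smul_mem _ (U.sum_mem (fun g hg => ?_))
    exact hPU g (Finset.mem_filter.mp hg).2 (LinearMap.mem_range_self _ w)
  have hrk1 : finrank ℂ ↥(LinearMap.range ((1 : End ℂ V) - e)) + m = finrank ℂ V := by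
    have h1 := finrank_range_of_idem ((1 : End ℂ V) - e) hone_e
    rw [map_sub, LinearMap.trace_one, htre] at h1
    have h2 : ((finrank ℂ ↥(LinearMap.range ((1 : End ℂ V) - e)) + m : ℕ) : ℂ) =
        (finrank ℂ V : ℂ) := by
      push_cast
      rw [h1]
      ring
    exact_mod_cast h2
  have hUeq : LinearMap.range ((1 : End ℂ V) - e) = U := by
    apply Submodule.eq_of_le_of_finrank_le hle
    have hidx : 1 ≤ H.index := Nat.one_le_iff_ne_zero.mpr Subgroup.index_ne_zero_of_finite
    have h1 : (H.index - 1) * m + m = H.index * m := by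
      have h2 : H.index - 1 + 1 = H.index := Nat.sub_add_cancel hidx
      calc (H.index - 1) * m + m = (H.index - 1 + 1) * m := by ring
        _ = H.index * m := by rw [h2]
    omega
  intro g hg
  have h1 : e * P g = 0 := by
    ext v
    have h2 : P g v ∈ LinearMap.range ((1 : End ℂ V) - e) := by
      rw [hUeq]
      exact hPU g hg (LinearMap.mem_range_self _ v)
    obtain ⟨w, hw⟩ := h2
    have h3 : (e * P g) v = e (P g v) := rfl
    rw [h3, ← hw]
    have h4 : e (((1 : End ℂ V) - e) w) = (e * ((1 : End ℂ V) - e)) w := rfl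
    rw [h4, mul_sub, mul_one, hee, sub_self]
    rfl
  rw [hP] at h1
  calc e * ρ g * e = e * (ρ g * e * ρ g⁻¹) * ρ g := by
        simp only [mul_assoc]
        rw [hρinv, mul_one]
    _ = 0 := by rw [h1, zero_mul]

end Blocks

end Cfsg.Agent.Lib.helper82
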