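import Mathlib
import Cfsg.Prelude.Def_Characters
import Cfsg.Agent.Lib.helper4.RepBasic
import Cfsg.Agent.Lib.helper4.Induction
import Cfsg.Agent.Lib.helper82.CharInt
import Cfsg.Agent.Lib.helper82.Ramification
import Cfsg.Agent.Lib.helper82.BergerB
import Cfsg.Agent.Lib.helper82.BergerD

/-!
# The core of Berger's theorem (helper82)

`berger_core`: let `ρ` be an irreducible representation of `Γ = M H`, `M` normal, whose
character is induced from `H`, such that `M ∩ H` acts by scalars.  If a subgroup `D`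
normalized by `H` with `[D, D]` scalar, of exponent coprime to that of `M` modulo scalars,
does not centralize `M` modulo `H`, then the character of `ρ` is induced from a proper subgroup
containing `M`.
-/

set_option autoImplicit false
set_option linter.style.haveILetI false
set_option linter.unusedSectionVars false

namespace Cfsg.Agent.Lib.helper82

open Module Cfsg
open Cfsg.Agent.Lib
open scoped ComplexConjugate

universe u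

section ScalarComm

variable {V : Type*} [AddCommGroup V] [Module ℂ V]

/-- Two invertible operators which commute up to a scalar `μ`, and which have coprime powers
that are scalars, commute. -/
theorem bg_scalar_comm_eq_one [Nontrivial (End ℂ V)] {X Y : End ℂ V} {μ ν ν' : ℂ} {P Q : ℕ}
    (hPQ : Nat.Coprime P Q) (hXY : X * Y = μ • (Y * X)) (hX : X ^ P = ν • (1 : End ℂ V))
    (hY : Y ^ Q = ν' • (1 : End ℂ V)) (hXu : IsUnit X) (hYu : IsUnit Y) : μ = 1 := by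
  have hXn : ∀ n : ℕ, X ^ n * Y = μ ^ n • (Y * X ^ n) := by
    intro n
    induction n with
    | zero => simp
    | succ n ih =>
      calc X ^ (n + 1) * Y = X ^ n * (X * Y) := by rw [pow_succ, mul_assoc]
        _ = μ • (X ^ n * Y * X) := by rw [hXY, mul_smul_comm, mul_assoc]
        _ = μ ^ (n + 1) • (Y * X ^ (n + 1)) := by
          rw [ih, smul_mul_assoc, smul_smul, mul_assoc, ← pow_succ, ← pow_succ']
  have hYn : ∀ n : ℕ, X * Y ^ n = μ ^ n • (Y ^ n * X) := by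
    intro n
    induction n with
    | zero => simp
    | succ n ih =>
      calc X * Y ^ (n + 1) = X * Y ^ n * Y := by rw [pow_succ, mul_assoc]
        _ = μ ^ n • (Y ^ n * (X * Y)) := by rw [ih, smul_mul_assoc, mul_assoc]
        _ = μ ^ (n + 1) • (Y ^ (n + 1) * X) := by
          rw [hXY, mul_smul_comm, smul_smul, ← mul_assoc, ← pow_succ, ← pow_succ]
  have hY0 : Y ≠ 0 := hYu.ne_zero
  have hX0 : X ≠ 0 := hXu.ne_zero
  have hν : ν ≠ 0 := by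
    intro h0
    have h1 : IsUnit (X ^ P) := hXu.pow P
    rw [hX, h0, zero_smul] at h1
    exact not_isUnit_zero h1
  have hν' : ν' ≠ 0 := by
    intro h0
    have h1 : IsUnit (Y ^ Q) := hYu.pow Q
    rw [hY, h0, zero_smul] at h1
    exact not_isUnit_zero h1
  have hP1 : μ ^ P = 1 := by
    have h1 := hXn P
    rw [hX, smul_mul_assoc, one_mul, mul_smul_comm, mul_one, smul_smul] at h1
    have h2 : ν = μ ^ P * ν := smul_left_injective ℂ hY0 h1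
    have h3 : (μ ^ P - 1) * ν = 0 := by linear_combination -h2
    rcases mul_eq_zero.mp h3 with h4 | h4
    · exact sub_eq_zero.mp h4
    · exact absurd h4 hν
  have hQ1 : μ ^ Q = 1 := by
    have h1 := hYn Q
    rw [hY, mul_smul_comm, mul_one, smul_mul_assoc, one_mul, smul_smul] at h1
    have h2 : ν' = μ ^ Q * ν' := smul_left_injective ℂ hX0 h1
    have h3 : (μ ^ Q - 1) * ν' = 0 := by linear_combination -h2
    rcases mul_eq_zero.mp h3 with h4 | h4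
    · exact sub_eq_zero.mp h4
    · exact absurd h4 hν'
  have h : μ ^ Nat.gcd P Q = 1 := pow_gcd_eq_one.mpr ⟨hP1, hQ1⟩
  rw [Nat.Coprime.gcd_eq_one hPQ, pow_one] at h
  exact h

end ScalarComm

section Avg

variable {Γ : Type u} [Group Γ] [Fintype Γ]
variable {V : Type*} [AddCommGroup V] [Module ℂ V] [FiniteDimensional ℂ V]
variable (ρ : Representation ℂ Γ V) (M : Subgroup Γ) [Fintype M]

theorem bg_inv_mul (g : Γ) : ρ g⁻¹ * ρ g = 1 := by rw [← map_mul, inv_mul_cancel, map_one]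

theorem bg_mul_inv (g : Γ) : ρ g * ρ g⁻¹ = 1 := by rw [← map_mul, mul_inv_cancel, map_one]

theorem bg_inv_mul_cancel_left (g : Γ) (Y : End ℂ V) : ρ g⁻¹ * (ρ g * Y) = Y := by
  rw [← mul_assoc, bg_inv_mul, one_mul]

theorem bg_mul_inv_cancel_left (g : Γ) (Y : End ℂ V) : ρ g * (ρ g⁻¹ * Y) = Y := by
  rw [← mul_assoc, bg_mul_inv, one_mul]

theorem bg_isUnit (g : Γ) : IsUnit (ρ g) :=
  ⟨⟨ρ g, ρ g⁻¹, bg_mul_inv ρ g, bg_inv_mul ρ g⟩, rfl⟩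

theorem bg_rep_inv_congr (m₁ m₂ : Γ) (h : ρ m₁ = ρ m₂) : ρ m₁⁻¹ = ρ m₂⁻¹ := by
  calc ρ m₁⁻¹ = ρ m₁⁻¹ * (ρ m₂ * ρ m₂⁻¹) := by rw [bg_mul_inv, mul_one]
    _ = ρ m₁⁻¹ * ρ m₁ * ρ m₂⁻¹ := by rw [← h, mul_assoc]
    _ = ρ m₂⁻¹ := by rw [bg_inv_mul, one_mul]

theorem bg_comm_mem [hn : M.Normal] (d y : Γ) (hy : y ∈ M) : d * y * d⁻¹ * y⁻¹ ∈ M :=
  M.mul_mem (hn.conj_mem y hy d) (M.inv_mem hy)

/-- The `M`-average (without normalization) of an operator. -/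
noncomputable def bgAvg (B : End ℂ V) : End ℂ V :=
  ∑ x : M, ρ (x : Γ) * B * ρ (x : Γ)⁻¹

theorem bgAvg_comm (B : End ℂ V) (m : Γ) (hm : m ∈ M) :
    ρ m * bgAvg ρ M B = bgAvg ρ M B * ρ m := by
  unfold bgAvg
  rw [Finset.mul_sum, Finset.sum_mul]
  rw [← Equiv.sum_comp (Equiv.mulLeft (⟨m, hm⟩ : M))
    (fun x : M => ρ (x : Γ) * B * ρ (x : Γ)⁻¹ * ρ m)]
  refine Finset.sum_congr rfl (fun x _ => ?_)
  simp only [Equiv.coe_mulLeft, Subgroup.coe_mul]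
  rw [mul_inv_rev, map_mul, map_mul]
  simp only [mul_assoc]
  rw [bg_inv_mul, mul_one]

theorem bgAvg_conj [M.Normal] (B : End ℂ V) (g : Γ) :
    ρ g * bgAvg ρ M B * ρ g⁻¹ = bgAvg ρ M (ρ g * B * ρ g⁻¹) := by
  unfold bgAvg
  rw [Finset.mul_sum, Finset.sum_mul]
  rw [← Equiv.sum_comp (MulAut.conjNormal g : M ≃* M).toEquiv
    (fun x : M => ρ (x : Γ) * (ρ g * B * ρ g⁻¹) * ρ (x : Γ)⁻¹)]
  refine Finset.sum_congr rfl (fun x _ => ?_)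
  simp only [MulEquiv.toEquiv_eq_coe, MulEquiv.coe_toEquiv, MulAut.conjNormal_apply]
  have h1 : (g * (x : Γ) * g⁻¹)⁻¹ = g * (x : Γ)⁻¹ * g⁻¹ := by group
  rw [h1]
  simp only [map_mul, mul_assoc, bg_inv_mul_cancel_left]

theorem bgAvg_mul_rep (B : End ℂ V) (m : Γ) (hm : m ∈ M) :
    bgAvg ρ M (B * ρ m) = bgAvg ρ M (ρ m * B) := by
  unfold bgAvg
  rw [← Equiv.sum_comp (Equiv.mulRight (⟨m, hm⟩ : M))
    (fun x : M => ρ (x : Γ) * (B * ρ m) * ρ (x : Γ)⁻¹)]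
  refine Finset.sum_congr rfl (fun x _ => ?_)
  simp only [Equiv.coe_mulRight, Subgroup.coe_mul]
  rw [mul_inv_rev]
  simp only [map_mul, mul_assoc, bg_mul_inv_cancel_left]

theorem bgAvg_mul_of_comm (B X : End ℂ V) (hX : ∀ x ∈ M, ρ x * X = X * ρ x) :
    bgAvg ρ M B * X = bgAvg ρ M (B * X) := by
  unfold bgAvg
  rw [Finset.sum_mul]
  refine Finset.sum_congr rfl (fun x _ => ?_)
  rw [mul_assoc, hX _ (M.inv_mem x.2)]
  simp only [mul_assoc]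

theorem bgAvg_smul (c : ℂ) (B : End ℂ V) : bgAvg ρ M (c • B) = c • bgAvg ρ M B := by
  unfold bgAvg
  rw [Finset.smul_sum]
  refine Finset.sum_congr rfl (fun x _ => ?_)
  rw [mul_smul_comm, smul_mul_assoc]

variable (H : Subgroup Γ) (e : End ℂ V)

theorem e_mul_bgAvg (hee : e * e = e) (hzero : ∀ g : Γ, g ∉ H → e * ρ g * e = 0)
    (hscal : ∀ x ∈ M, x ∈ H → x ∈ scalarSubgroup ρ) (m : Γ) (hm : m ∈ M) :
    e * bgAvg ρ M (ρ m * e) = (Nat.card {z : M // (z : Γ) ∈ H} : ℂ) • (e * ρ m) := by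
  classical
  unfold bgAvg
  rw [Finset.mul_sum]
  have hsum : ∑ x : M, e * (ρ (x : Γ) * (ρ m * e) * ρ (x : Γ)⁻¹) =
      ∑ z : M, (if (z : Γ) ∈ H then e * ρ m else 0) := by
    rw [← Equiv.sum_comp (Equiv.mulRight (⟨m, hm⟩ : M)⁻¹)
      (fun x : M => e * (ρ (x : Γ) * (ρ m * e) * ρ (x : Γ)⁻¹))]
    refine Finset.sum_congr rfl (fun z _ => ?_)
    simp only [Equiv.coe_mulRight, Subgroup.coe_mul, Subgroup.coe_inv]
    have h2 : ((z : Γ) * m⁻¹)⁻¹ = m * (z : Γ)⁻¹ := by group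
    rw [h2]
    split_ifs with hz
    · obtain ⟨c, hc⟩ := hscal _ z.2 hz
      have hcomm : ∀ X : End ℂ V, ρ (z : Γ) * X = X * ρ (z : Γ) := by
        intro X
        rw [hc, smul_mul_assoc, one_mul, mul_smul_comm, mul_one]
      have h3 : ρ ((z : Γ) * m⁻¹) * (ρ m * e) * ρ (m * (z : Γ)⁻¹) =
          ρ (z : Γ) * (e * ρ m) * ρ (z : Γ)⁻¹ := by
        simp only [map_mul, mul_assoc, bg_inv_mul_cancel_left]
      rw [h3, hcomm, mul_assoc (e * ρ m), bg_mul_inv, mul_one, ← mul_assoc, hee]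
    · have h3 : e * (ρ ((z : Γ) * m⁻¹) * (ρ m * e) * ρ (m * (z : Γ)⁻¹)) =
          (e * ρ (z : Γ) * e) * ρ (m * (z : Γ)⁻¹) := by
        simp only [map_mul, mul_assoc, bg_inv_mul_cancel_left]
      rw [h3, hzero _ hz, zero_mul]
  rw [hsum, Finset.sum_ite, Finset.sum_const, Finset.sum_const_zero, add_zero,
    ← Nat.cast_smul_eq_nsmul ℂ]
  congr 2
  rw [Nat.card_eq_fintype_card, Fintype.card_subtype]

theorem bgAvg_mul_e (hee : e * e = e) (hzero : ∀ g : Γ, g ∉ H → e * ρ g * e = 0)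
    (hscal : ∀ x ∈ M, x ∈ H → x ∈ scalarSubgroup ρ) (m : Γ) :
    bgAvg ρ M (ρ m * e) * e = (Nat.card {z : M // (z : Γ) ∈ H} : ℂ) • (ρ m * e) := by
  classical
  unfold bgAvg
  rw [Finset.sum_mul]
  have hsum : ∑ x : M, ρ (x : Γ) * (ρ m * e) * ρ (x : Γ)⁻¹ * e =
      ∑ z : M, (if (z : Γ) ∈ H then ρ m * e else 0) := by
    refine Finset.sum_congr rfl (fun z _ => ?_)
    split_ifs with hz
    · obtain ⟨c, hc⟩ := hscal _ z.2 hz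
      have hcomm : ∀ X : End ℂ V, ρ (z : Γ) * X = X * ρ (z : Γ) := by
        intro X
        rw [hc, smul_mul_assoc, one_mul, mul_smul_comm, mul_one]
      rw [hcomm, mul_assoc (ρ m * e), bg_mul_inv, mul_one, mul_assoc, hee]
    · have hz' : (z : Γ)⁻¹ ∉ H := fun h => hz (by simpa using H.inv_mem h)
      calc ρ (z : Γ) * (ρ m * e) * ρ (z : Γ)⁻¹ * e
          = ρ (z : Γ) * ρ m * (e * ρ (z : Γ)⁻¹ * e) := by simp only [mul_assoc]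
        _ = 0 := by rw [hzero _ hz', mul_zero]
  rw [hsum, Finset.sum_ite, Finset.sum_const, Finset.sum_const_zero, add_zero,
    ← Nat.cast_smul_eq_nsmul ℂ]
  congr 2
  rw [Nat.card_eq_fintype_card, Fintype.card_subtype]

/-- The averaged translate of the block idempotent. -/
noncomputable def bgR (m : Γ) : End ℂ V := bgAvg ρ M (ρ m⁻¹ * e)

theorem bgR_comm (m' : Γ) (m : Γ) (hm : m ∈ M) :
    ρ m * bgR ρ M e m' = bgR ρ M e m' * ρ m := bgAvg_comm ρ M _ m hm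

theorem bgR_congr (m₁ m₂ : Γ) (h : ρ m₁ = ρ m₂) : bgR ρ M e m₁ = bgR ρ M e m₂ := by
  unfold bgR
  rw [bg_rep_inv_congr ρ m₁ m₂ h]

theorem bgR_mul (hee : e * e = e) (hzero : ∀ g : Γ, g ∉ H → e * ρ g * e = 0)
    (hscal : ∀ x ∈ M, x ∈ H → x ∈ scalarSubgroup ρ) (m m' : Γ) (hm' : m' ∈ M) :
    bgR ρ M e m * bgR ρ M e m' =
      (Nat.card {z : M // (z : Γ) ∈ H} : ℂ) • bgR ρ M e (m * m') := by
  unfold bgR
  rw [bgAvg_mul_of_comm ρ M _ _ (fun x hx => bgAvg_comm ρ M _ x hx)]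
  rw [mul_assoc (ρ m⁻¹) e, e_mul_bgAvg ρ M H e hee hzero hscal m'⁻¹ (M.inv_mem hm')]
  rw [mul_smul_comm, bgAvg_smul, ← mul_assoc, bgAvg_mul_rep ρ M _ _ (M.inv_mem hm'),
    ← mul_assoc, ← map_mul, mul_inv_rev]

theorem bgR_conj [M.Normal] (hecomm : ∀ h ∈ H, ρ h * e = e * ρ h) (h : Γ) (hh : h ∈ H)
    (m : Γ) : ρ h * bgR ρ M e m * ρ h⁻¹ = bgR ρ M e (h * m * h⁻¹) := by
  unfold bgR
  rw [bgAvg_conj]
  congr 1
  have h1 : (h * m * h⁻¹)⁻¹ = h * m⁻¹ * h⁻¹ := by group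
  rw [h1]
  calc ρ h * (ρ m⁻¹ * e) * ρ h⁻¹ = ρ h * ρ m⁻¹ * (e * ρ h⁻¹) := by simp only [mul_assoc]
    _ = ρ h * ρ m⁻¹ * (ρ h⁻¹ * e) := by rw [hecomm _ (H.inv_mem hh)]
    _ = ρ (h * m⁻¹ * h⁻¹) * e := by
      rw [map_mul, map_mul]
      simp only [mul_assoc]

/-- The Weil-type operator attached to `d`. -/
noncomputable def bgT (d : Γ) : End ℂ V :=
  ∑ y : M, bgR ρ M e (d * (y : Γ) * d⁻¹ * (y : Γ)⁻¹)

theorem bgT_comm (d : Γ) (m : Γ) (hm : m ∈ M) :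
    ρ m * bgT ρ M e d = bgT ρ M e d * ρ m := by
  unfold bgT
  rw [Finset.mul_sum, Finset.sum_mul]
  exact Finset.sum_congr rfl (fun y _ => bgR_comm ρ M e _ m hm)

theorem bgT_conj [M.Normal] (hecomm : ∀ h ∈ H, ρ h * e = e * ρ h) (h : Γ) (hh : h ∈ H)
    (d : Γ) : ρ h * bgT ρ M e d * ρ h⁻¹ = bgT ρ M e (h * d * h⁻¹) := by
  unfold bgT
  rw [Finset.mul_sum, Finset.sum_mul]
  rw [← Equiv.sum_comp (MulAut.conjNormal h : M ≃* M).toEquiv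
    (fun y : M => bgR ρ M e (h * d * h⁻¹ * (y : Γ) * (h * d * h⁻¹)⁻¹ * (y : Γ)⁻¹))]
  refine Finset.sum_congr rfl (fun y _ => ?_)
  simp only [MulEquiv.toEquiv_eq_coe, MulEquiv.coe_toEquiv, MulAut.conjNormal_apply]
  rw [bgR_conj ρ M H e hecomm h hh]
  congr 1
  group

theorem bgT_mul_bgR [M.Normal] (hee : e * e = e) (hzero : ∀ g : Γ, g ∉ H → e * ρ g * e = 0)
    (hscal : ∀ x ∈ M, x ∈ H → x ∈ scalarSubgroup ρ) (d m : Γ) (hm : m ∈ M) :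
    bgT ρ M e d * bgR ρ M e m = bgR ρ M e (d * m * d⁻¹) * bgT ρ M e d := by
  unfold bgT
  rw [Finset.sum_mul, Finset.mul_sum]
  rw [← Equiv.sum_comp (Equiv.mulLeft (⟨m, hm⟩ : M)⁻¹)
    (fun y : M => bgR ρ M e (d * m * d⁻¹) * bgR ρ M e (d * (y : Γ) * d⁻¹ * (y : Γ)⁻¹))]
  refine Finset.sum_congr rfl (fun y _ => ?_)
  simp only [Equiv.coe_mulLeft, Subgroup.coe_mul, Subgroup.coe_inv]
  rw [bgR_mul ρ M H e hee hzero hscal _ _ hm,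
    bgR_mul ρ M H e hee hzero hscal _ _
      (bg_comm_mem M d (m⁻¹ * (y : Γ)) (M.mul_mem (M.inv_mem hm) y.2))]
  congr 2
  group

theorem bgT_comm_of_scalar [M.Normal] (hee : e * e = e)
    (hzero : ∀ g : Γ, g ∉ H → e * ρ g * e = 0)
    (hscal : ∀ x ∈ M, x ∈ H → x ∈ scalarSubgroup ρ) (d d' : Γ)
    (hdd : d * d' * d⁻¹ * d'⁻¹ ∈ scalarSubgroup ρ) :
    bgT ρ M e d * bgT ρ M e d' = bgT ρ M e d' * bgT ρ M e d := by
  have hstep : ∀ y : M, bgT ρ M e d * bgR ρ M e (d' * (y : Γ) * d'⁻¹ * (y : Γ)⁻¹) =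
      bgR ρ M e (d * (d' * (y : Γ) * d'⁻¹ * (y : Γ)⁻¹) * d⁻¹) * bgT ρ M e d := fun y =>
    bgT_mul_bgR ρ M H e hee hzero hscal d _ (bg_comm_mem M d' y y.2)
  have hT' : bgT ρ M e d' = ∑ y : M, bgR ρ M e (d' * (y : Γ) * d'⁻¹ * (y : Γ)⁻¹) := rfl
  have hT'' : bgT ρ M e (d * d' * d⁻¹) =
      ∑ y : M, bgR ρ M e (d * (d' * (y : Γ) * d'⁻¹ * (y : Γ)⁻¹) * d⁻¹) := by
    unfold bgT
    rw [← Equiv.sum_comp (MulAut.conjNormal d : M ≃* M).toEquiv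
      (fun y : M => bgR ρ M e (d * d' * d⁻¹ * (y : Γ) * (d * d' * d⁻¹)⁻¹ * (y : Γ)⁻¹))]
    refine Finset.sum_congr rfl (fun y _ => ?_)
    simp only [MulEquiv.toEquiv_eq_coe, MulEquiv.coe_toEquiv, MulAut.conjNormal_apply]
    congr 1
    group
  have h1 : bgT ρ M e d * bgT ρ M e d' = bgT ρ M e (d * d' * d⁻¹) * bgT ρ M e d := by
    rw [hT'', hT', Finset.mul_sum, Finset.sum_mul]
    exact Finset.sum_congr rfl (fun y _ => hstep y)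
  have h2 : bgT ρ M e (d * d' * d⁻¹) = bgT ρ M e d' := by
    unfold bgT
    refine Finset.sum_congr rfl (fun y _ => ?_)
    apply bgR_congr
    obtain ⟨c, hc⟩ := hdd
    have hcomm : ∀ X : End ℂ V, ρ (d * d' * d⁻¹ * d'⁻¹) * X = X * ρ (d * d' * d⁻¹ * d'⁻¹) := by
      intro X
      rw [hc, smul_mul_assoc, one_mul, mul_smul_comm, mul_one]
    have h3 : d * d' * d⁻¹ * (y : Γ) * (d * d' * d⁻¹)⁻¹ * (y : Γ)⁻¹ =
        (d * d' * d⁻¹ * d'⁻¹) * (d' * (y : Γ) * d'⁻¹) * (d * d' * d⁻¹ * d'⁻¹)⁻¹ * (y : Γ)⁻¹ := by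
      group
    calc ρ (d * d' * d⁻¹ * (y : Γ) * (d * d' * d⁻¹)⁻¹ * (y : Γ)⁻¹)
        = ρ (d * d' * d⁻¹ * d'⁻¹) * ρ (d' * (y : Γ) * d'⁻¹) * ρ (d * d' * d⁻¹ * d'⁻¹)⁻¹ *
            ρ (y : Γ)⁻¹ := by
          rw [h3, map_mul, map_mul, map_mul]
      _ = ρ (d' * (y : Γ) * d'⁻¹) * ρ (y : Γ)⁻¹ := by
          rw [hcomm, mul_assoc (ρ (d' * (y : Γ) * d'⁻¹)), bg_mul_inv, mul_one]
      _ = ρ (d' * (y : Γ) * d'⁻¹ * (y : Γ)⁻¹) := by rw [← map_mul]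
  rw [h1, h2]

theorem bgT_not_scalar [M.Normal] (he0 : e ≠ 0) (hee : e * e = e)
    (hzero : ∀ g : Γ, g ∉ H → e * ρ g * e = 0)
    (hscal : ∀ x ∈ M, x ∈ H → x ∈ scalarSubgroup ρ)
    (P Q : ℕ) (hPQ : Nat.Coprime P Q) (d : Γ)
    (hP : ∀ m ∈ M, m ^ P ∈ scalarSubgroup ρ) (hQ : d ^ Q ∈ scalarSubgroup ρ)
    (y₀ : Γ) (hy₀ : y₀ ∈ M) (hne : d * y₀ * d⁻¹ * y₀⁻¹ ∉ H) (α : ℂ) :
    bgT ρ M e d ≠ α • (1 : End ℂ V) := by
  classical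
  intro hα
  haveI : Nontrivial (End ℂ V) := ⟨⟨e, 0, he0⟩⟩
  have hkey : ∀ y : M, d * y₀ * d⁻¹ * y₀⁻¹ * (d * (y : Γ) * d⁻¹ * (y : Γ)⁻¹)⁻¹ ∈ H →
      ρ (d * y₀ * d⁻¹ * y₀⁻¹ * (d * (y : Γ) * d⁻¹ * (y : Γ)⁻¹)⁻¹) = 1 := by
    intro y hyH
    have haM : d * y₀ * d⁻¹ * y₀⁻¹ * (d * (y : Γ) * d⁻¹ * (y : Γ)⁻¹)⁻¹ ∈ M :=
      M.mul_mem (bg_comm_mem M d y₀ hy₀) (M.inv_mem (bg_comm_mem M d y y.2))
    obtain ⟨μ, hμ⟩ := hscal _ haM hyH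
    have hc'M : y₀⁻¹ * (y : Γ) ∈ M := M.mul_mem (M.inv_mem hy₀) y.2
    have hu : d⁻¹ * (y₀⁻¹ * (y : Γ)) * d * (y₀⁻¹ * (y : Γ))⁻¹ =
        (d * y₀)⁻¹ * (d * y₀ * d⁻¹ * y₀⁻¹ * (d * (y : Γ) * d⁻¹ * (y : Γ)⁻¹)⁻¹) * (d * y₀) := by
      group
    have hρu : ρ (d⁻¹ * (y₀⁻¹ * (y : Γ)) * d * (y₀⁻¹ * (y : Γ))⁻¹) = μ • (1 : End ℂ V) := by
      rw [hu, map_mul, map_mul, hμ, mul_smul_comm, mul_one, smul_mul_assoc, bg_inv_mul]
    have hXY : ρ (y₀⁻¹ * (y : Γ)) * ρ d = μ • (ρ d * ρ (y₀⁻¹ * (y : Γ))) := by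
      have h1 : y₀⁻¹ * (y : Γ) * d =
          d * (d⁻¹ * (y₀⁻¹ * (y : Γ)) * d * (y₀⁻¹ * (y : Γ))⁻¹) * (y₀⁻¹ * (y : Γ)) := by group
      rw [← map_mul, h1, map_mul, map_mul, hρu, mul_smul_comm, mul_one, smul_mul_assoc]
    obtain ⟨ν, hν⟩ := hP _ hc'M
    obtain ⟨ν', hν'⟩ := hQ
    have hμ1 : μ = 1 := bg_scalar_comm_eq_one hPQ hXY (by rw [← map_pow]; exact hν)
      (by rw [← map_pow]; exact hν') (bg_isUnit ρ _) (bg_isUnit ρ _)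
    rw [hμ, hμ1, one_smul]
  have h1 : bgT ρ M e d * e = (Nat.card {z : M // (z : Γ) ∈ H} : ℂ) •
      ∑ y : M, ρ (d * (y : Γ) * d⁻¹ * (y : Γ)⁻¹)⁻¹ * e := by
    unfold bgT
    rw [Finset.sum_mul, Finset.smul_sum]
    refine Finset.sum_congr rfl (fun y _ => ?_)
    exact bgAvg_mul_e ρ M H e hee hzero hscal _
  have h2 : e * ρ (d * y₀ * d⁻¹ * y₀⁻¹) * (bgT ρ M e d * e) =
      (Nat.card {z : M // (z : Γ) ∈ H} : ℂ) • ∑ y : M,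
        (if d * y₀ * d⁻¹ * y₀⁻¹ * (d * (y : Γ) * d⁻¹ * (y : Γ)⁻¹)⁻¹ ∈ H then e else 0) := by
    rw [h1, mul_smul_comm, Finset.mul_sum]
    congr 1
    refine Finset.sum_congr rfl (fun y _ => ?_)
    have h3 : e * ρ (d * y₀ * d⁻¹ * y₀⁻¹) * (ρ (d * (y : Γ) * d⁻¹ * (y : Γ)⁻¹)⁻¹ * e) =
        e * ρ (d * y₀ * d⁻¹ * y₀⁻¹ * (d * (y : Γ) * d⁻¹ * (y : Γ)⁻¹)⁻¹) * e := by
      rw [map_mul ρ (d * y₀ * d⁻¹ * y₀⁻¹) ((d * (y : Γ) * d⁻¹ * (y : Γ)⁻¹)⁻¹)]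
      rw [mul_assoc e, mul_assoc e, mul_assoc (ρ (d * y₀ * d⁻¹ * y₀⁻¹))]
    rw [h3]
    split_ifs with hy
    · rw [hkey y hy, mul_one, hee]
    · exact hzero _ hy
  have h4 : e * ρ (d * y₀ * d⁻¹ * y₀⁻¹) * (bgT ρ M e d * e) = 0 := by
    rw [hα, smul_mul_assoc, one_mul, mul_smul_comm, hzero _ hne, smul_zero]
  rw [h4, Finset.sum_ite, Finset.sum_const, Finset.sum_const_zero, add_zero,
    ← Nat.cast_smul_eq_nsmul ℂ, smul_smul] at h2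
  have hc : (Nat.card {z : M // (z : Γ) ∈ H} : ℂ) ≠ 0 := by
    haveI : Nonempty {z : M // (z : Γ) ∈ H} := ⟨⟨1, by simp⟩⟩
    exact_mod_cast Nat.card_pos.ne'
  have hY : ((Finset.univ.filter (fun y : M =>
      d * y₀ * d⁻¹ * y₀⁻¹ * (d * (y : Γ) * d⁻¹ * (y : Γ)⁻¹)⁻¹ ∈ H)).card : ℂ) ≠ 0 := by
    have hmem : (⟨y₀, hy₀⟩ : M) ∈ Finset.univ.filter (fun y : M =>
        d * y₀ * d⁻¹ * y₀⁻¹ * (d * (y : Γ) * d⁻¹ * (y : Γ)⁻¹)⁻¹ ∈ H) := by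
      rw [Finset.mem_filter]
      refine ⟨Finset.mem_univ _, ?_⟩
      show d * y₀ * d⁻¹ * y₀⁻¹ * (d * y₀ * d⁻¹ * y₀⁻¹)⁻¹ ∈ H
      rw [mul_inv_cancel]
      exact H.one_mem
    exact_mod_cast (Finset.card_pos.mpr ⟨_, hmem⟩).ne'
  rcases smul_eq_zero.mp h2.symm with h5 | h5
  · exact (mul_ne_zero hc hY) h5
  · exact he0 h5

end Avg

section Core

variable {Γ : Type u} [Group Γ] [Fintype Γ]
variable {V : Type*} [AddCommGroup V] [Module ℂ V] [FiniteDimensional ℂ V]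

/-- **The core of Berger's theorem.** -/
theorem berger_core (ρ : Representation ℂ Γ V) [ρ.IsIrreducible] (M H D : Subgroup Γ)
    [M.Normal] (hMH : ∀ g : Γ, ∃ m ∈ M, ∃ h ∈ H, g = m * h)
    (hscal : ∀ x ∈ M, x ∈ H → x ∈ scalarSubgroup ρ)
    (hDnorm : ∀ h ∈ H, ∀ d ∈ D, h * d * h⁻¹ ∈ D)
    (hDD : ∀ d ∈ D, ∀ d' ∈ D, d * d' * d⁻¹ * d'⁻¹ ∈ scalarSubgroup ρ)
    (P Q : ℕ) (hPQ : Nat.Coprime P Q)
    (hP : ∀ m ∈ M, m ^ P ∈ scalarSubgroup ρ) (hQ : ∀ d ∈ D, d ^ Q ∈ scalarSubgroup ρ)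
    (hne : ∃ d ∈ D, ∃ y ∈ M, d * y * d⁻¹ * y⁻¹ ∉ H)
    (ϑ : H → ℂ) (hϑ : IsIrrCharacter H ϑ) (hind : indFun H ϑ = ρ.character) :
    ∃ S : Subgroup Γ, M ≤ S ∧ S ≠ ⊤ ∧ ∃ κ : S → ℂ, IsCharacter S κ ∧
      indFun S κ = ρ.character := by
  classical
  haveI : Fintype M := Fintype.ofFinite M
  obtain ⟨e, hee, he0, hecomm, hzero⟩ := exists_block_idempotent ρ H ϑ hϑ hind
  refine exists_induced_of_permuted_family ρ (Set.range (fun d : D => bgT ρ M e (d : Γ)))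
    (Set.finite_range _) ?_ ?_ M ?_ ?_
  · rintro A ⟨d, rfl⟩ B ⟨d', rfl⟩
    exact bgT_comm_of_scalar ρ M H e hee hzero hscal _ _ (hDD _ d.2 _ d'.2)
  · rintro g A ⟨d, rfl⟩
    obtain ⟨m, hm, h, hh, rfl⟩ := hMH g
    refine ⟨⟨h * d * h⁻¹, hDnorm h hh d d.2⟩, ?_⟩
    show bgT ρ M e (h * d * h⁻¹) = ρ (m * h) * bgT ρ M e d * ρ (m * h)⁻¹
    have h1 := bgT_comm ρ M e (h * d * h⁻¹) m hm
    rw [mul_inv_rev, map_mul, map_mul]
    calc bgT ρ M e (h * d * h⁻¹)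
        = bgT ρ M e (h * d * h⁻¹) * (ρ m * ρ m⁻¹) := by rw [bg_mul_inv, mul_one]
      _ = ρ m * bgT ρ M e (h * d * h⁻¹) * ρ m⁻¹ := by
          rw [← mul_assoc (bgT ρ M e (h * d * h⁻¹)) (ρ m) (ρ m⁻¹), ← h1]
      _ = ρ m * (ρ h * bgT ρ M e d * ρ h⁻¹) * ρ m⁻¹ := by
          rw [bgT_conj ρ M H e hecomm h hh]
      _ = ρ m * ρ h * bgT ρ M e d * (ρ h⁻¹ * ρ m⁻¹) := by simp only [mul_assoc]
  · rintro m hm A ⟨d, rfl⟩
    exact bgT_comm ρ M e d m hm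
  · obtain ⟨d, hd, y, hy, hne'⟩ := hne
    exact ⟨_, ⟨⟨d, hd⟩, rfl⟩, fun c =>
      bgT_not_scalar ρ M H e he0 hee hzero hscal P Q hPQ d hP (hQ d hd) y hy hne' c⟩

end Core

end Cfsg.Agent.Lib.helper82
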