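import Mathlib
import Cfsg.Prelude.Def_Characters
import Cfsg.Prelude.Def_Blocks
import Cfsg.Agent.Lib.helper82.Isaacs1132A
import Cfsg.Agent.Lib.helper82.Isaacs1132B

/-!
# Isaacs, Theorem 11.32 (helper82)

`isaacs_11_32` : `L ≤ H < G` with `L ⊴ G`, `H` maximal, `G/L` solvable, `ϑ ∈ Irr(H)` with `ϑ_L`
and `ϑ^G` irreducible: for some `M ⊴ G` containing `L`, `(ϑ^G)_M` is not homogeneous.
-/

set_option autoImplicit false
set_option linter.style.haveILetI false
set_option linter.unusedSectionVars false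

namespace Cfsg.Agent.Lib.helper82

open Module Cfsg
open Cfsg.Agent.Lib
open scoped ComplexConjugate

universe u

section Main

variable {G : Type u} [Group G] [Fintype G]

/-- The case of a normal maximal subgroup. -/
theorem isaacs_11_32_normal (H : Subgroup G) [H.Normal] (hH : H ≠ ⊤) (ϑ : H → ℂ)
    (hϑ : IsIrrCharacter H ϑ) (hind : IsIrrCharacter G (indFun H ϑ))
    (hhom : ∃ (φ : H → ℂ) (e : ℕ), IsIrrCharacter H φ ∧
      (fun m : H => indFun H ϑ m) = (e : ℂ) • φ) : False := by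
  classical
  obtain ⟨φ, e, hφ, hχH⟩ := hhom
  have hfrob := helper4.frobenius_reciprocity H ϑ (helper4.isClassFunction_of_isIrrCharacter hind)
  rw [helper4.classInner_irr_self hind, hχH, helper4.classInner_smul_right] at hfrob
  have hϑφ : ϑ = φ := by
    by_contra hne
    rw [helper4.classInner_irr_ne hϑ hφ hne, mul_zero] at hfrob
    exact one_ne_zero hfrob
  subst hϑφ
  rw [helper4.classInner_irr_self hϑ, mul_one, Complex.conj_natCast] at hfrob
  have h1 : indFun H ϑ 1 = ϑ 1 := by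
    have h0 := congrFun hχH 1
    simp only [Pi.smul_apply, smul_eq_mul, ← hfrob, one_mul] at h0
    exact h0
  rw [helper4.indFun_one] at h1
  have hϑ1 : ϑ 1 ≠ 0 := irr_one_ne_zero hϑ
  have h2 : (H.index : ℂ) = 1 := mul_right_cancel₀ hϑ1 (h1.trans (one_mul _).symm)
  have h3 : H.index = 1 := by exact_mod_cast h2
  exact hH (Subgroup.index_eq_one.mp h3)

/-- The case of a non-normal maximal subgroup, given the group-theoretic configuration. -/
theorem isaacs_11_32_aux (L H K M N : Subgroup G) [hLn : L.Normal] [hKn : K.Normal]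
    [hMn : M.Normal] [hNn : N.Normal] (p q a b : ℕ)
    (hLH : L ≤ H) (hLK : L ≤ K) (hKH : K ≤ H) (hKM : K ≤ M) (hMN : M ≤ N) (hMH : M ⊔ H = ⊤)
    (hMHK : M ⊓ H = K) (hp : p.Prime) (hq : q.Prime) (hpq : p ≠ q)
    (hMc : Nat.card M = p ^ a * Nat.card K) (hNc : Nat.card N = q ^ b * Nat.card M)
    (hAK : N ⊓ H ≠ K) (hx : ∀ c ∈ H, c ∉ K → ∃ x ∈ M, x * c * x⁻¹ ∉ H)
    (ϑ : H → ℂ) (hϑ : IsIrrCharacter H ϑ)
    (hϑL : IsIrrCharacter L (fun x : L => ϑ ⟨x, hLH x.2⟩))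
    (hind : IsIrrCharacter G (indFun H ϑ))
    (hhomK : ∃ (φ : K → ℂ) (e : ℕ), IsIrrCharacter K φ ∧
      (fun m : K => indFun H ϑ m) = (e : ℂ) • φ)
    (hhomM : ∃ (φ : M → ℂ) (e : ℕ), IsIrrCharacter M φ ∧
      (fun m : M => indFun H ϑ m) = (e : ℂ) • φ)
    (hhomN : ∃ (φ : N → ℂ) (e : ℕ), IsIrrCharacter N φ ∧
      (fun m : N => indFun H ϑ m) = (e : ℂ) • φ) : False := by
  classical
  have hχcl : IsClassFunction G (indFun H ϑ) := helper4.isClassFunction_of_isIrrCharacter hind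
  have hχ1 : indFun H ϑ 1 ≠ 0 := irr_one_ne_zero hind
  have hϑchar : IsCharacter H ϑ := helper4.isCharacter_of_isIrrCharacter hϑ
  have hG0 : (Nat.card G : ℂ) ≠ 0 := by exact_mod_cast Nat.card_pos.ne'
  have hH0 : (Nat.card H : ℂ) ≠ 0 := by exact_mod_cast Nat.card_pos.ne'
  have hK0 : (Nat.card K : ℂ) ≠ 0 := by exact_mod_cast Nat.card_pos.ne'
  have hM0 : (Nat.card M : ℂ) ≠ 0 := by exact_mod_cast Nat.card_pos.ne'
  have hN0 : (Nat.card N : ℂ) ≠ 0 := by exact_mod_cast Nat.card_pos.ne'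
  have hAH : H ⊓ N ≤ H := inf_le_left
  have hAN : H ⊓ N ≤ N := inf_le_right
  have hKA : K ≤ H ⊓ N := le_inf hKH (hKM.trans hMN)
  -- irreducible restrictions
  have hϑK : IsIrrCharacter K (fun x : K => ϑ ⟨x, hKH x.2⟩) :=
    isIrrCharacter_restrict_of_le L K hLK hKH ϑ hϑchar hϑL
  have hϑA : IsIrrCharacter ↥(H ⊓ N) (fun x : ↥(H ⊓ N) => ϑ ⟨x, hAH x.2⟩) :=
    isIrrCharacter_restrict_of_le L (H ⊓ N) (hLK.trans hKA) hAH ϑ hϑchar hϑL
  -- orders
  have hc1 : Nat.card G * Nat.card K = Nat.card H * Nat.card M := by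
    have h := card_mul_card_inf H M
    rw [sup_comm, hMH, Subgroup.index_top, one_mul, inf_comm, hMHK] at h
    exact h
  have hHN : H ⊔ N = ⊤ := by
    rw [eq_top_iff, ← hMH]
    exact sup_le (hMN.trans le_sup_right) le_sup_left
  have hc2 : Nat.card G * Nat.card ↥(H ⊓ N) = Nat.card H * Nat.card N := by
    have h := card_mul_card_inf H N
    rw [hHN, Subgroup.index_top, one_mul] at h
    exact h
  have hidx : H.index = p ^ a := by
    have h1 := H.card_mul_index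
    have h2 : Nat.card H * (H.index * Nat.card K) = Nat.card H * (p ^ a * Nat.card K) := by
      rw [← mul_assoc, h1, hc1, hMc]
    exact Nat.eq_of_mul_eq_mul_right Nat.card_pos (Nat.eq_of_mul_eq_mul_left Nat.card_pos h2)
  have hidxA : H.index * Nat.card ↥(H ⊓ N) = Nat.card N := by
    have h1 := H.card_mul_index
    have h2 : Nat.card H * (H.index * Nat.card ↥(H ⊓ N)) = Nat.card H * Nat.card N := by
      rw [← mul_assoc, h1, hc2]
    exact Nat.eq_of_mul_eq_mul_left Nat.card_pos h2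
  -- the three restriction formulas
  have hmk1 : classInner (fun s : K => indFun H ϑ s) (fun s : K => indFun H ϑ s) =
      (H.index : ℂ) *
        classInner (fun b : K => ϑ ⟨b, hKH b.2⟩) (fun b : K => indFun H ϑ b) := by
    have h := classInner_indFun_restrict_normal K H K (inf_eq_right.mpr hKH) hKH ϑ (indFun H ϑ)
      hχcl
    have h1 : (Nat.card G : ℂ) = (Nat.card H : ℂ) * (H.index : ℂ) := by
      exact_mod_cast H.card_mul_index.symm
    rw [h1] at h
    have h2 : (Nat.card K : ℂ) * (Nat.card H : ℂ) *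
        classInner (fun s : K => indFun H ϑ s) (fun s : K => indFun H ϑ s) =
        (Nat.card K : ℂ) * (Nat.card H : ℂ) * ((H.index : ℂ) *
          classInner (fun b : K => ϑ ⟨b, hKH b.2⟩) (fun b : K => indFun H ϑ b)) := by
      rw [h]; ring
    exact mul_left_cancel₀ (mul_ne_zero hK0 hH0) h2
  have hmk2 : classInner (fun s : M => indFun H ϑ s) (fun s : M => indFun H ϑ s) =
      classInner (fun b : K => ϑ ⟨b, hKH b.2⟩) (fun b : K => indFun H ϑ b) := by
    have h := classInner_indFun_restrict_normal M H K (by rw [inf_comm]; exact hMHK) hKH ϑ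
      (indFun H ϑ) hχcl
    have h1 : (Nat.card G : ℂ) * (Nat.card K : ℂ) = (Nat.card M : ℂ) * (Nat.card H : ℂ) := by
      have : Nat.card G * Nat.card K = Nat.card M * Nat.card H := by rw [hc1, mul_comm]
      exact_mod_cast this
    rw [h1] at h
    exact mul_left_cancel₀ (mul_ne_zero hM0 hH0) h
  have hmk3 : classInner (fun s : N => indFun H ϑ s) (fun s : N => indFun H ϑ s) =
      classInner (fun b : ↥(H ⊓ N) => ϑ ⟨b, hAH b.2⟩) (fun b : ↥(H ⊓ N) => indFun H ϑ b) := by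
    have h := classInner_indFun_restrict_normal N H (H ⊓ N) rfl hAH ϑ (indFun H ϑ) hχcl
    have h1 : (Nat.card G : ℂ) * (Nat.card ↥(H ⊓ N) : ℂ) =
        (Nat.card N : ℂ) * (Nat.card H : ℂ) := by
      have : Nat.card G * Nat.card ↥(H ⊓ N) = Nat.card N * Nat.card H := by rw [hc2, mul_comm]
      exact_mod_cast this
    rw [h1] at h
    exact mul_left_cancel₀ (mul_ne_zero hN0 hH0) h
  -- Step K
  obtain ⟨φK, eK, hφK, hχK⟩ := hhomK
  have heK0 : (eK : ℂ) ≠ 0 := by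
    intro h0
    have h1 := congrFun hχK 1
    simp only [Pi.smul_apply, smul_eq_mul, h0, zero_mul] at h1
    exact hχ1 h1
  have hKϑφ : (fun x : K => ϑ ⟨x, hKH x.2⟩) = φK ∧ (eK : ℂ) = (H.index : ℂ) := by
    have h := hmk1
    rw [hχK, helper4.classInner_smul_left, helper4.classInner_smul_right,
      helper4.classInner_smul_right, helper4.classInner_irr_self hφK, Complex.conj_natCast] at h
    by_cases hne : (fun x : K => ϑ ⟨x, hKH x.2⟩) = φK
    · refine ⟨hne, ?_⟩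
      rw [hne, helper4.classInner_irr_self hφK] at h
      have h2 : (eK : ℂ) * (eK : ℂ) = (eK : ℂ) * (H.index : ℂ) := by linear_combination h
      exact mul_left_cancel₀ heK0 h2
    · exfalso
      rw [helper4.classInner_irr_ne hϑK hφK hne] at h
      simp at h
      exact heK0 (by exact_mod_cast h)
  obtain ⟨hϑφK, heK⟩ := hKϑφ
  have hinnK : classInner (fun b : K => ϑ ⟨b, hKH b.2⟩) (fun b : K => indFun H ϑ b) =
      (H.index : ℂ) := by
    rw [hχK, helper4.classInner_smul_right, ← hϑφK, helper4.classInner_irr_self hϑK, heK,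
      Complex.conj_natCast, mul_one]
  -- Step M
  obtain ⟨η, c, hη, hχM⟩ := hhomM
  have hcc : c * c = H.index := by
    have h := hmk2
    rw [hinnK, hχM, helper4.classInner_smul_left, helper4.classInner_smul_right,
      helper4.classInner_irr_self hη, Complex.conj_natCast, mul_one] at h
    exact_mod_cast h
  have hc0 : c ≠ 0 := by
    rintro rfl
    rw [hidx] at hcc
    exact (pow_ne_zero a hp.ne_zero) (by simpa using hcc.symm)
  have hcC0 : (c : ℂ) ≠ 0 := by exact_mod_cast hc0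
  have hχMv : ∀ x : M, indFun H ϑ x = (c : ℂ) * η x := fun x => congrFun hχM x
  -- Step N
  obtain ⟨η', e', hη', hχN⟩ := hhomN
  have he'0 : (e' : ℂ) ≠ 0 := by
    intro h0
    have h1 := congrFun hχN 1
    simp only [Pi.smul_apply, smul_eq_mul, h0, zero_mul] at h1
    exact hχ1 h1
  have hχNv : ∀ x : N, indFun H ϑ x = (e' : ℂ) * η' x := fun x => congrFun hχN x
  have hη'' : IsIrrCharacter ↥(M.subgroupOf N) (subRes M N η) := isIrrCharacter_subRes M N hMN hη
  obtain ⟨e'', he''⟩ := helper4.exists_nat_classInner_irr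
    (helper4.isCharacter_restrict (M.subgroupOf N) (helper4.isCharacter_of_isIrrCharacter hη'))
    hη''
  have hrel : ∀ x : ↥(M.subgroupOf N), (e' : ℂ) * η' x = (c : ℂ) * subRes M N η x := by
    intro x
    rw [subRes_apply, ← hχMv, ← hχNv]
  have hres : (fun x : ↥(M.subgroupOf N) => η' x) = ((c : ℂ) / (e' : ℂ)) • subRes M N η := by
    funext x
    rw [Pi.smul_apply, smul_eq_mul, div_mul_eq_mul_div, ← hrel x]
    field_simp
  have he''c : (e'' : ℂ) = (c : ℂ) / (e' : ℂ) := by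
    rw [← he'', hres, helper4.classInner_smul_left, helper4.classInner_irr_self hη'', mul_one]
  have hee : e'' * e' = c := by
    have h2 : (e'' : ℂ) * (e' : ℂ) = (c : ℂ) := by rw [he''c]; field_simp
    exact_mod_cast h2
  have hres' : ∀ x : ↥(M.subgroupOf N), η' x = (e'' : ℂ) * subRes M N η x := by
    intro x
    rw [he''c]
    exact congrFun hres x
  have hinvη : ∀ g : ↥N, cconj (M.subgroupOf N) g (subRes M N η) = subRes M N η := by
    intro g
    funext x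
    rw [cconj_apply, subRes_apply, subRes_apply]
    apply mul_left_cancel₀ hcC0
    rw [← hχMv, ← hχMv]
    show indFun H ϑ ((g : G)⁻¹ * ((x : ↥N) : G) * (g : G)) = indFun H ϑ ((x : ↥N) : G)
    have h1 := hχcl ((x : ↥N) : G) (g : G)⁻¹
    simpa using h1
  have hdvd : e'' ∣ (M.subgroupOf N).index :=
    ramification_dvd_index_of_invariant (M.subgroupOf N) hη'' hinvη hη' e'' hres'
  have hMNidx : (M.subgroupOf N).index = q ^ b := by
    have h1 := (M.subgroupOf N).card_mul_index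
    have h2 : Nat.card ↥(M.subgroupOf N) = Nat.card M :=
      Nat.card_congr (Subgroup.subgroupOfEquivOfLe hMN).toEquiv
    rw [h2, hNc] at h1
    exact Nat.eq_of_mul_eq_mul_left Nat.card_pos (h1.trans (mul_comm _ _))
  have he''1 : e'' = 1 := by
    have hcop : Nat.Coprime (p ^ a) (q ^ b) :=
      Nat.Coprime.pow a b ((Nat.coprime_primes hp hq).mpr hpq)
    have h1 : e'' ∣ p ^ a := by
      rw [← hidx, ← hcc]
      exact Dvd.dvd.mul_right ⟨e', hee.symm⟩ c
    rw [hMNidx] at hdvd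
    exact (Nat.Coprime.coprime_dvd_left h1 hcop).eq_one_of_dvd hdvd
  have hec : e' = c := by rw [← hee, he''1, one_mul]
  rw [hec] at hχNv hχN
  -- Step A
  have hχA : (fun b : ↥(H ⊓ N) => indFun H ϑ b) =
      (c : ℂ) • (fun b : ↥(H ⊓ N) => η' ⟨b, hAN b.2⟩) := by
    funext b
    exact hχNv ⟨b, hAN b.2⟩
  have hinnA : classInner (fun b : ↥(H ⊓ N) => η' ⟨b, hAN b.2⟩)
      (fun b : ↥(H ⊓ N) => ϑ ⟨b, hAH b.2⟩) = (c : ℂ) := by
    have h := hmk3
    rw [hχN, helper4.classInner_smul_left, helper4.classInner_smul_right,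
      helper4.classInner_irr_self hη', Complex.conj_natCast, mul_one, hχA,
      helper4.classInner_smul_right, Complex.conj_natCast] at h
    have h1 : classInner (fun b : ↥(H ⊓ N) => ϑ ⟨b, hAH b.2⟩)
        (fun b : ↥(H ⊓ N) => η' ⟨b, hAN b.2⟩) = (c : ℂ) := (mul_left_cancel₀ hcC0 h).symm
    rw [← helper4.classInner_conj_symm, h1, Complex.conj_natCast]
  have hdeg : η' 1 = (c : ℂ) * ϑ 1 := by
    have h1 : indFun H ϑ 1 = (c : ℂ) * η' 1 := hχNv 1
    have h2 : indFun H ϑ 1 = (H.index : ℂ) * ϑ 1 := helper4.indFun_one H ϑ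
    have h3 : (H.index : ℂ) = (c : ℂ) * (c : ℂ) := by exact_mod_cast hcc.symm
    rw [h2, h3, mul_assoc] at h1
    exact (mul_left_cancel₀ hcC0 h1).symm
  have hη'A : (fun b : ↥(H ⊓ N) => η' ⟨b, hAN b.2⟩) =
      (c : ℂ) • (fun b : ↥(H ⊓ N) => ϑ ⟨b, hAH b.2⟩) :=
    eq_smul_of_classInner_of_degree
      (helper4.isCharacter_comp (Subgroup.inclusion hAN)
        (helper4.isCharacter_of_isIrrCharacter hη')) hϑA c hinnA hdeg
  -- norms
  have hnormN : ∑ n : N, η' n * conj (η' n) = (Nat.card N : ℂ) := sum_mul_conj_irr hη'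
  have hnormA : ∑ x : ↥(H ⊓ N), ϑ ⟨x, hAH x.2⟩ * conj (ϑ ⟨x, hAH x.2⟩) =
      (Nat.card ↥(H ⊓ N) : ℂ) := sum_mul_conj_irr hϑA
  have hnormK : ∑ x : K, ϑ ⟨x, hKH x.2⟩ * conj (ϑ ⟨x, hKH x.2⟩) = (Nat.card K : ℂ) :=
    sum_mul_conj_irr hϑK
  have hvan : ∀ n : N, (n : G) ∉ H ⊓ N → η' n = 0 := by
    have hkey : ∑ n : N, η' n * conj (η' n) =
        ∑ n : N, if (n : G) ∈ H ⊓ N then η' n * conj (η' n) else 0 := by
      rw [← sum_subgroup_le (H ⊓ N) N hAN (fun n => η' n * conj (η' n)), hnormN]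
      have h1 : ∀ x : ↥(H ⊓ N), η' ⟨x, hAN x.2⟩ = (c : ℂ) * ϑ ⟨x, hAH x.2⟩ :=
        fun x => congrFun hη'A x
      simp only [h1]
      have h2 : ∀ x : ↥(H ⊓ N), (c : ℂ) * ϑ ⟨x, hAH x.2⟩ * conj ((c : ℂ) * ϑ ⟨x, hAH x.2⟩) =
          (c : ℂ) * (c : ℂ) * (ϑ ⟨x, hAH x.2⟩ * conj (ϑ ⟨x, hAH x.2⟩)) := by
        intro x
        rw [map_mul, Complex.conj_natCast]
        ring
      simp only [h2]
      rw [← Finset.mul_sum, hnormA]
      have h3 : Nat.card N = c * c * Nat.card ↥(H ⊓ N) := by rw [hcc, hidxA]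
      exact_mod_cast h3
    exact eq_zero_of_sum_normSq_eq η' (fun n : N => (n : G) ∈ H ⊓ N) hkey
  have hϑvan : ∀ x : ↥(H ⊓ N), (x : G) ∉ K → ϑ ⟨x, hAH x.2⟩ = 0 := by
    intro x hxK
    obtain ⟨y, hyM, hyH⟩ := hx (x : G) (hAH x.2) hxK
    have hyN : y ∈ N := hMN hyM
    have hconjN : y * (x : G) * y⁻¹ ∈ N := hNn.conj_mem _ (hAN x.2) y
    have h1 : η' ⟨y * (x : G) * y⁻¹, hconjN⟩ = 0 :=
      hvan _ (fun h => hyH (Subgroup.mem_inf.mp h).1)
    have hη'cl : IsClassFunction N η' := helper4.isClassFunction_of_isIrrCharacter hη'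
    have h2 : η' ⟨y * (x : G) * y⁻¹, hconjN⟩ = η' ⟨x, hAN x.2⟩ :=
      hη'cl ⟨x, hAN x.2⟩ ⟨y, hyN⟩
    have h3 : η' ⟨x, hAN x.2⟩ = (c : ℂ) * ϑ ⟨x, hAH x.2⟩ := congrFun hη'A x
    rw [h2, h3] at h1
    exact (mul_eq_zero.mp h1).resolve_left hcC0
  have hcardAK : Nat.card ↥(H ⊓ N) = Nat.card K := by
    have h1 : ∑ x : ↥(H ⊓ N), ϑ ⟨x, hAH x.2⟩ * conj (ϑ ⟨x, hAH x.2⟩) =
        ∑ x : ↥(H ⊓ N), if (x : G) ∈ K then ϑ ⟨x, hAH x.2⟩ * conj (ϑ ⟨x, hAH x.2⟩) else 0 := by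
      refine Finset.sum_congr rfl fun x _ => ?_
      by_cases hxK : (x : G) ∈ K
      · rw [if_pos hxK]
      · rw [if_neg hxK, hϑvan x hxK, zero_mul]
    have h2 := sum_subgroup_le K (H ⊓ N) hKA
      (fun x : ↥(H ⊓ N) => ϑ ⟨x, hAH x.2⟩ * conj (ϑ ⟨x, hAH x.2⟩))
    have h3 : (Nat.card ↥(H ⊓ N) : ℂ) = (Nat.card K : ℂ) := by
      rw [← hnormA, h1, ← h2]
      exact hnormK
    exact_mod_cast h3
  apply hAK
  rw [inf_comm]
  exact (Subgroup.eq_of_le_of_card_ge hKA (le_of_eq hcardAK)).symm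

/-- **Isaacs, Theorem 11.32.** -/
theorem isaacs_11_32 (L H : Subgroup G) [hLn : L.Normal] (hLH : L ≤ H) (hmax : IsCoatom H)
    (hsolv : Group.IsSolvable (G ⧸ L)) (ϑ : H → ℂ) (hϑ : IsIrrCharacter H ϑ)
    (hϑL : IsIrrCharacter L (fun x : L => ϑ ⟨(x : G), hLH x.2⟩))
    (hind : IsIrrCharacter G (indFun H ϑ)) :
    ∃ M : Subgroup G, M.Normal ∧ L ≤ M ∧ ¬ ∃ (φ : M → ℂ) (e : ℕ), IsIrrCharacter M φ ∧
      (fun m : M => indFun H ϑ m) = (e : ℂ) • φ := by
  by_contra hcon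
  have hall : ∀ S : Subgroup G, S.Normal → L ≤ S → ∃ (φ : S → ℂ) (e : ℕ),
      IsIrrCharacter S φ ∧ (fun m : S => indFun H ϑ m) = (e : ℂ) • φ := by
    intro S hS hLS
    by_contra h
    exact hcon ⟨S, hS, hLS, h⟩
  by_cases hHn : H.Normal
  · exact isaacs_11_32_normal H hmax.1 ϑ hϑ hind (hall H hHn hLH)
  · obtain ⟨K, M, N, p, q, a, b, hKn, hMn, hNn, hLK, hKH, hKM, hMN, hMH, hMHK, hp, hq, hpq,
      hMc, hNc, hAK, hx⟩ := exists_maximal_config L H hLH hmax hsolv hHn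
    exact isaacs_11_32_aux L H K M N p q a b hLH hLK hKH hKM hMN hMH hMHK hp hq hpq hMc hNc hAK
      hx ϑ hϑ hϑL hind (hall K hKn hLK) (hall M hMn (hLK.trans hKM))
      (hall N hNn (hLK.trans (hKM.trans hMN)))

end Main

end Cfsg.Agent.Lib.helper82
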