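import Mathlib
import Cfsg.Prelude.Def_Characters
import Cfsg.Agent.Lib.helper4.RepBasic
import Cfsg.Agent.Lib.helper4.Induction
import Cfsg.Agent.Lib.helper4.InductionTI
import Cfsg.Agent.Lib.helper82.CharInt
import Cfsg.Agent.Lib.helper82.CharDeg
import Cfsg.Agent.Lib.helper82.CharSums
import Cfsg.Agent.Lib.helper82.CharQuot
import Cfsg.Agent.Lib.helper82.GlaubBasic
import Cfsg.Agent.Lib.helper82.Clifford
import Cfsg.Agent.Lib.helper82.CliffordCorr
import Cfsg.Agent.Lib.helper82.RelGlaub1
import Cfsg.Agent.Lib.helper82.Ramification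
import Cfsg.Agent.Lib.helper82.CoprimeExt1
import Cfsg.Agent.Lib.helper82.Isaacs1132A
import Cfsg.Agent.Lib.helper82.Isaacs1132B
import Cfsg.Agent.Lib.helper82.Isaacs1132C
import Cfsg.Agent.Lib.helper82.BergerA
import Cfsg.Agent.Lib.helper82.BergerC
import Cfsg.Agent.Lib.helper82.BergerD
import Cfsg.Agent.Lib.helper19.Gallagher
import Cfsg.Agent.Lib.helper19.IndInv

/-!
# Berger's theorem: quasi-primitive characters of solvable groups are primitive (helper82)

* `exists_irr_induced` : an irreducible character induced from a character of `H` is induced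
  from an irreducible character of `H`.
* `berger_stepA` : the Gallagher factor of an induced character in a central extension is
  induced.
* `berger_transfer` : homogeneity of restrictions passes to the Gallagher factor.
* `berger_aux`, `berger` : the theorem.
-/

set_option autoImplicit false
set_option linter.style.haveILetI false
set_option linter.unusedSectionVars false

namespace Cfsg.Agent.Lib.helper82

open Module Cfsg
open Cfsg.Agent.Lib
open scoped ComplexConjugate

universe u

section Induced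

variable {G : Type u} [Group G] [Fintype G]

/-- An irreducible character induced from a character of `H` is induced from an irreducible
character of `H`. -/
theorem exists_irr_induced (H : Subgroup G) {ϑ₁ : H → ℂ} (hϑ₁ : IsCharacter H ϑ₁) {χ : G → ℂ}
    (hχ : IsIrrCharacter G χ) (hind : indFun H ϑ₁ = χ) :
    ∃ ϑ : H → ℂ, IsIrrCharacter H ϑ ∧ indFun H ϑ = χ := by
  classical
  haveI : Fintype H := Fintype.ofFinite H
  haveI : Fintype (IrrCharacter H) := Fintype.ofFinite _
  have hχcl := helper4.isClassFunction_of_isIrrCharacter hχ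
  obtain ⟨N, hN1, hN2, hN3⟩ := exists_nat_decomp hϑ₁
  have hfrob := helper4.frobenius_reciprocity H ϑ₁ hχcl
  rw [hind, helper4.classInner_irr_self hχ] at hfrob
  have hϑ₁eq : ϑ₁ = ∑ ψ : IrrCharacter H, (N ψ : ℂ) • (ψ : H → ℂ) := by
    funext g
    rw [hN2 g, Finset.sum_apply]
    rfl
  have hsum : (1 : ℂ) =
      ∑ ψ : IrrCharacter H, (N ψ : ℂ) * classInner (ψ : H → ℂ) (fun h : H => χ h) := by
    rw [hfrob]
    conv_lhs => rw [hϑ₁eq]
    rw [helper4.classInner_sum_left]
    refine Finset.sum_congr rfl (fun ψ _ => ?_)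
    rw [helper4.classInner_smul_left]
  obtain ⟨ψ₁, -, hψ₁⟩ : ∃ ψ₁ ∈ (Finset.univ : Finset (IrrCharacter H)),
      (N ψ₁ : ℂ) * classInner (ψ₁ : H → ℂ) (fun h : H => χ h) ≠ 0 := by
    apply Finset.exists_ne_zero_of_sum_ne_zero
    rw [← hsum]
    exact one_ne_zero
  have hNψ₁ : N ψ₁ ≠ 0 := by
    intro h0
    apply hψ₁
    rw [h0, Nat.cast_zero, zero_mul]
  have hcψ₁ : classInner (ψ₁ : H → ℂ) (fun h : H => χ h) ≠ 0 :=
    fun h0 => hψ₁ (by rw [h0, mul_zero])
  refine ⟨ψ₁, ψ₁.2, ?_⟩
  have hchar : IsCharacter G (indFun H (ψ₁ : H → ℂ)) :=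
    helper4.isCharacter_indFun H (helper4.isCharacter_of_isIrrCharacter ψ₁.2)
  have hne : classInner (indFun H (ψ₁ : H → ℂ)) χ ≠ 0 := by
    rw [helper4.frobenius_reciprocity H _ hχcl]
    exact hcψ₁
  have hdeg1 : indFun H (ψ₁ : H → ℂ) 1 = ((H.index * charDegree (ψ₁ : H → ℂ) : ℕ) : ℂ) := by
    rw [helper4.indFun_one, irr_one_eq ψ₁]
    push_cast
    rfl
  have hdeg2 : χ 1 =
      ((H.index * ∑ ψ : IrrCharacter H, N ψ * charDegree (ψ : H → ℂ) : ℕ) : ℂ) := by
    rw [← hind, helper4.indFun_one, hN3]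
    push_cast
    rfl
  apply char_eq_irr_of_degree_le hchar hχ hne _ _ hdeg1 hdeg2
  apply Nat.mul_le_mul_left
  calc charDegree (ψ₁ : H → ℂ) ≤ N ψ₁ * charDegree (ψ₁ : H → ℂ) :=
        Nat.le_mul_of_pos_left _ (Nat.pos_of_ne_zero hNψ₁)
    _ ≤ ∑ ψ : IrrCharacter H, N ψ * charDegree (ψ : H → ℂ) :=
        Finset.single_le_sum (f := fun ψ : IrrCharacter H => N ψ * charDegree (ψ : H → ℂ))
          (fun _ _ => Nat.zero_le _) (Finset.mem_univ ψ₁)

end Induced

section StepA

variable {Γ G : Type u} [Group Γ] [Group G] [Fintype Γ] [Fintype G]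

/-- The Gallagher factor of an induced character is induced. -/
theorem berger_stepA (π : Γ →* G) (hπ : Function.Surjective π) (K H : Subgroup G)
    [hK : K.Normal] (hKH : K ≤ H) (ι : K →* Γ) (hι : ∀ n : K, π (ι n) = n)
    [hιn : ι.range.Normal] (τ : Γ → ℂ) (hτ : IsIrrCharacter Γ τ)
    (hτN : IsIrrCharacter ι.range (fun x : ι.range => τ x))
    {χ : G → ℂ} (hχ : IsIrrCharacter G χ) (e : ℂ) (he : ∀ n : K, χ n = e * τ (ι n))
    (ϑ : H → ℂ) (hϑ : IsIrrCharacter H ϑ) (hind : indFun H ϑ = χ) :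
    ∃ (β : Γ → ℂ) (β' : H.comap π → ℂ), IsIrrCharacter Γ β ∧ IsIrrCharacter (H.comap π) β' ∧
      indFun (H.comap π) β' = β ∧ (∀ a ∈ ι.range, ∀ g, β (a * g) = β g) ∧
      (fun x => χ (π x)) = τ * β := by
  classical
  haveI : Fintype ι.range := Fintype.ofFinite _
  haveI : Fintype (H.comap π) := Fintype.ofFinite _
  haveI : Fintype (ι.range.subgroupOf (H.comap π)) := Fintype.ofFinite _
  haveI : Fintype H := Fintype.ofFinite _
  haveI : Fintype K := Fintype.ofFinite _
  have hχcl := helper4.isClassFunction_of_isIrrCharacter hχ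
  have hτcl := helper4.isClassFunction_of_isIrrCharacter hτ
  have hLH : ι.range ≤ H.comap π := by
    rintro x ⟨n, rfl⟩
    show π (ι n) ∈ H
    rw [hι n]
    exact hKH n.2
  have hιinj : Function.Injective ι := by
    intro a b hab
    apply Subtype.ext
    rw [← hι a, ← hι b, hab]
  -- the character `φ` of `K`
  have hφ : IsIrrCharacter K (fun n : K => τ (ι n)) :=
    isIrrCharacter_comp_surj ι.rangeRestrict ι.rangeRestrict_surjective hτN
  have hχK : (fun n : K => χ n) = e • (fun n : K => τ (ι n)) := by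
    funext n
    exact he n
  have he0 : e ≠ 0 := by
    intro h0
    have h1 := he 1
    rw [h0, zero_mul] at h1
    exact irr_one_ne_zero hχ h1
  -- `τ` restricted to the preimage of `H`
  have hτHchar : IsCharacter (H.comap π) (fun x : H.comap π => τ x) :=
    helper4.isCharacter_restrict _ (helper4.isCharacter_of_isIrrCharacter hτ)
  have hτN' : IsIrrCharacter (ι.range.subgroupOf (H.comap π))
      (fun x : ι.range.subgroupOf (H.comap π) => τ ((x : H.comap π) : Γ)) :=
    isIrrCharacter_subRes ι.range (H.comap π) hLH hτN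
  have hτH : IsIrrCharacter (H.comap π) (fun x : H.comap π => τ x) :=
    isIrrCharacter_of_restrict (ι.range.subgroupOf (H.comap π)) hτHchar hτN'
  have hϑh : IsIrrCharacter (H.comap π) (fun x : H.comap π => ϑ ⟨π x, x.2⟩) :=
    isIrrCharacter_comp_surj (π.subgroupComap H)
      (π.subgroupComap_surjective_of_surjective H hπ) hϑ
  -- the nonvanishing inner product on `K`
  have hneK : classInner (fun b : K => ϑ ⟨b, hKH b.2⟩) (fun b : K => τ (ι b)) ≠ 0 := by
    have h1 := classInner_indFun_restrict_normal K H K (inf_eq_right.mpr hKH) hKH ϑ χ hχcl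
    rw [hind, hχK, helper4.classInner_smul_left, helper4.classInner_smul_right,
      helper4.classInner_irr_self hφ, helper4.classInner_smul_right] at h1
    intro h0
    rw [h0, mul_zero, mul_zero, mul_one] at h1
    have hK0 : (Nat.card K : ℂ) ≠ 0 := by exact_mod_cast Nat.card_pos.ne'
    have hH0 : (Nat.card H : ℂ) ≠ 0 := by exact_mod_cast Nat.card_pos.ne'
    have hce : (starRingEnd ℂ) e ≠ 0 := by
      intro h
      exact he0 ((map_eq_zero _).mp h)
    exact mul_ne_zero (mul_ne_zero hK0 hH0) (mul_ne_zero he0 hce) h1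
  -- transport to the preimage
  have hne : classInner
      (fun n : ι.range.subgroupOf (H.comap π) => ϑ ⟨π ((n : H.comap π) : Γ), (n : H.comap π).2⟩)
      (fun n : ι.range.subgroupOf (H.comap π) => τ ((n : H.comap π) : Γ)) ≠ 0 := by
    let E : K ≃* ι.range.subgroupOf (H.comap π) :=
      (MonoidHom.ofInjective hιinj).trans (Subgroup.subgroupOfEquivOfLe hLH).symm
    have hE : ∀ n : K, (((E n : ι.range.subgroupOf (H.comap π)) : H.comap π) : Γ) = ι n :=
      fun n => rfl
    have h1 := classInner_comp_equiv E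
      (fun n : ι.range.subgroupOf (H.comap π) =>
        ϑ ⟨π ((n : H.comap π) : Γ), (n : H.comap π).2⟩)
      (fun n : ι.range.subgroupOf (H.comap π) => τ ((n : H.comap π) : Γ))
    rw [← h1]
    have h2 : (fun h : K => ϑ ⟨π (((E h : ι.range.subgroupOf (H.comap π)) : H.comap π) : Γ),
        ((E h : ι.range.subgroupOf (H.comap π)) : H.comap π).2⟩) =
        fun b : K => ϑ ⟨b, hKH b.2⟩ := by
      funext h
      congr 1
      apply Subtype.ext
      show π (((E h : ι.range.subgroupOf (H.comap π)) : H.comap π) : Γ) = (h : G)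
      rw [hE, hι]
    have h3 : (fun h : K => τ (((E h : ι.range.subgroupOf (H.comap π)) : H.comap π) : Γ)) =
        fun b : K => τ (ι b) := by
      funext h
      rw [hE]
    rw [h2, h3]
    exact hneK
  obtain ⟨β', hβ', hβ'N, hprod⟩ := helper19.gallagher (ι.range.subgroupOf (H.comap π))
    (fun x : H.comap π => τ x) hτH hτN' _ hϑh hne
  have hβ'char := helper4.isCharacter_of_isIrrCharacter hβ'
  have hβ'coset := helper19.irr_trivial_coset (ι.range.subgroupOf (H.comap π)) β' hβ'char hβ'N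
  have hβcoset : ∀ a ∈ ι.range, ∀ g : Γ,
      indFun (H.comap π) β' (a * g) = indFun (H.comap π) β' g :=
    indFun_coset_of_trivial ι.range (H.comap π) hLH
      (fun a ha y => hβ'coset a (Subgroup.mem_subgroupOf.mpr ha) y)
  have hχπ : (fun x => χ (π x)) = τ * indFun (H.comap π) β' := by
    have h1 := indFun_comp_surj π hπ H ϑ
    rw [hind] at h1
    rw [← h1, hprod, mul_comm (fun x : H.comap π => τ x) β',
      helper19.indFun_mul_restrict (H.comap π) β' τ hτcl, mul_comm]
  have hβchar : IsCharacter Γ (indFun (H.comap π) β') :=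
    helper4.isCharacter_indFun _ hβ'char
  have hβirr : IsIrrCharacter Γ (indFun (H.comap π) β') := by
    apply helper4.isIrrCharacter_of_isCharacter_of_norm_one hβchar
    rw [← helper19.classInner_mul_of_trivial ι.range τ hτ hτN _ _ hβcoset hβcoset, ← hχπ]
    exact helper4.classInner_irr_self (isIrrCharacter_comp_surj π hπ hχ)
  exact ⟨_, β', hβirr, hβ', rfl, hβcoset, hχπ⟩

/-- Homogeneity of the restriction to a normal subgroup passes to the Gallagher factor. -/
theorem berger_transfer (π : Γ →* G) (A : Subgroup Γ) [hA : A.Normal]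
    (τ : Γ → ℂ) (hτ : IsIrrCharacter Γ τ) (hτA : IsIrrCharacter A (fun x : A => τ x))
    {χ : G → ℂ} (β : Γ → ℂ) (hβ : IsCharacter Γ β) (hβ1 : β 1 ≠ 0)
    (hβA : ∀ a ∈ A, ∀ g, β (a * g) = β g) (hprod : (fun x => χ (π x)) = τ * β)
    (X : Subgroup G) (hAX : ∀ a ∈ A, π a ∈ X) (κ : X → ℂ) (f : ℕ)
    (hκ : IsIrrCharacter X κ) (hχX : (fun x : X => χ x) = (f : ℂ) • κ)
    (hπX : Function.Surjective (π.subgroupComap X)) :
    ∃ (κ' : X.comap π → ℂ) (f' : ℕ), IsIrrCharacter (X.comap π) κ' ∧
      (fun x : X.comap π => β x) = (f' : ℂ) • κ' := by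
  classical
  haveI : Fintype A := Fintype.ofFinite _
  haveI : Fintype (X.comap π) := Fintype.ofFinite _
  haveI : Fintype (A.subgroupOf (X.comap π)) := Fintype.ofFinite _
  have hAX' : A ≤ X.comap π := fun a ha => hAX a ha
  have hτXchar : IsCharacter (X.comap π) (fun x : X.comap π => τ x) :=
    helper4.isCharacter_restrict _ (helper4.isCharacter_of_isIrrCharacter hτ)
  have hτA' : IsIrrCharacter (A.subgroupOf (X.comap π))
      (fun x : A.subgroupOf (X.comap π) => τ ((x : X.comap π) : Γ)) :=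
    isIrrCharacter_subRes A (X.comap π) hAX' hτA
  have hτX : IsIrrCharacter (X.comap π) (fun x : X.comap π => τ x) :=
    isIrrCharacter_of_restrict (A.subgroupOf (X.comap π)) hτXchar hτA'
  have hΨ : IsCharacter (X.comap π) (fun x : X.comap π => β x) :=
    helper4.isCharacter_restrict _ hβ
  have hΨcoset : ∀ a ∈ A.subgroupOf (X.comap π), ∀ g : X.comap π,
      (fun x : X.comap π => β x) (a * g) = (fun x : X.comap π => β x) g := by
    intro a ha g
    exact hβA a (Subgroup.mem_subgroupOf.mp ha) g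
  obtain ⟨β₀, hβ₀, n₀, hn₀, hn₀ne⟩ := exists_irr_constituent hΨ hβ1
  have hn₀c : (n₀ : ℂ) ≠ 0 := by exact_mod_cast hn₀ne
  have hβ₀A := irr_trivial_of_constituent (A.subgroupOf (X.comap π)) hΨcoset hβ₀
    (by rw [hn₀]; exact hn₀c)
  have hβ₀char := helper4.isCharacter_of_isIrrCharacter hβ₀
  have hτβ₀ : IsIrrCharacter (X.comap π) ((fun x : X.comap π => τ x) * β₀) :=
    helper19.isIrr_mul_of_trivial (A.subgroupOf (X.comap π)) _ hτX hτA' β₀ hβ₀ hβ₀A
  have hκh : IsIrrCharacter (X.comap π) (fun x : X.comap π => κ ⟨π x, x.2⟩) :=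
    isIrrCharacter_comp_surj (π.subgroupComap X) hπX hκ
  have h1 : (fun x : X.comap π => τ x) * (fun x : X.comap π => β x) =
      (f : ℂ) • (fun x : X.comap π => κ ⟨π x, x.2⟩) := by
    funext x
    have h2 := congrFun hprod (x : Γ)
    have h3 := congrFun hχX ⟨π x, x.2⟩
    simp only [Pi.mul_apply, Pi.smul_apply, smul_eq_mul] at h2 h3 ⊢
    rw [← h2, h3]
  have h2 := helper19.classInner_mul_of_trivial (A.subgroupOf (X.comap π))
    (fun x : X.comap π => τ x) hτX hτA' (fun x : X.comap π => β x) β₀ hΨcoset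
    (helper19.irr_trivial_coset (A.subgroupOf (X.comap π)) β₀ hβ₀char hβ₀A)
  rw [h1, hn₀, helper4.classInner_smul_left] at h2
  have hκeq : (fun x : X.comap π => κ ⟨π x, x.2⟩) = (fun x : X.comap π => τ x) * β₀ := by
    by_contra hne
    rw [helper4.classInner_irr_ne hκh hτβ₀ hne, mul_zero] at h2
    exact hn₀c h2.symm
  rw [hκeq, helper4.classInner_irr_self hτβ₀, mul_one] at h2
  have hτ1 : τ 1 ≠ 0 := irr_one_ne_zero hτ
  have hdeg : (fun x : X.comap π => β x) 1 = (n₀ : ℂ) * β₀ 1 := by
    have h3 := congrFun h1 1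
    rw [hκeq] at h3
    simp only [Pi.mul_apply, Pi.smul_apply, smul_eq_mul] at h3
    have h4 : τ ((1 : X.comap π) : Γ) = τ 1 := rfl
    rw [h4, h2] at h3
    have h5 : τ 1 * β ((1 : X.comap π) : Γ) = τ 1 * ((n₀ : ℂ) * β₀ 1) := by
      rw [h3]
      ring
    exact mul_left_cancel₀ hτ1 h5
  exact ⟨β₀, n₀, hβ₀, eq_smul_of_classInner_of_degree hΨ hβ₀ n₀ hn₀ hdeg⟩

end StepA

section Main

/-- Berger's theorem, inductive form: if `G/L` is solvable and the restrictions of `χ ∈ Irr(G)`
to the normal subgroups containing `L` are homogeneous, then `χ` is not induced from a proper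
subgroup containing `L`. -/
theorem berger_aux (n : ℕ) : ∀ (G : Type u) [Group G] [Fintype G] (L : Subgroup G) [L.Normal],
    L.index = n → Group.IsSolvable (G ⧸ L) → ∀ (χ : G → ℂ), IsIrrCharacter G χ →
    (∀ X : Subgroup G, X.Normal → L ≤ X → ∃ (κ : X → ℂ) (f : ℕ), IsIrrCharacter X κ ∧
      (fun x : X => χ x) = (f : ℂ) • κ) →
    ∀ (S : Subgroup G), L ≤ S → S ≠ ⊤ → ∀ (ψ : S → ℂ), IsCharacter S ψ → indFun S ψ ≠ χ := by
  induction n using Nat.strong_induction_on with
  | _ n ih =>
  intro G _ _ L _ hidx hsolv χ hχ hqp S hLS hS ψ hψ hindS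
  classical
  have hχcl := helper4.isClassFunction_of_isIrrCharacter hχ
  obtain ⟨H, hmax, hSH⟩ := (eq_top_or_exists_le_coatom S).resolve_left hS
  haveI : Fintype H := Fintype.ofFinite H
  have hLH : L ≤ H := hLS.trans hSH
  have hϑ₁char : IsCharacter H (indFun (S.subgroupOf H)
      (fun x => ψ ⟨(x : H), Subgroup.mem_subgroupOf.mp x.2⟩)) :=
    helper4.isCharacter_indFun _
      (helper4.isCharacter_comp (Subgroup.subgroupOfEquivOfLe hSH).toMonoidHom hψ)
  have hϑ₁ind := (helper4.indFun_trans S H hSH ψ).trans hindS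
  obtain ⟨ϑ, hϑ, hind⟩ := exists_irr_induced H hϑ₁char hχ hϑ₁ind
  by_cases hHn : H.Normal
  · haveI := hHn
    refine isaacs_11_32_normal H hmax.1 ϑ hϑ ?_ ?_
    · rw [hind]
      exact hχ
    · rw [hind]
      exact hqp H hHn hLH
  · obtain ⟨K, M, N, p, q, a, b, hKn, hMn, hNn, hLK, hKH, hKM, hMN, hMH, hMHK, hp, hq, hpq,
      hMcard, hNcard, hAK, hNcomm, hx⟩ := exists_maximal_config' L H hLH hmax hsolv hHn
    haveI := hKn
    haveI := hMn
    haveI := hNn
    obtain ⟨φ, e, hφ, hχK⟩ := hqp K hKn hLK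
    obtain ⟨d, σ, hσ, rfl⟩ := hφ
    haveI := hσ
    have he0 : (e : ℂ) ≠ 0 := by
      intro h0
      have h1 := congrFun hχK 1
      simp only [Pi.smul_apply, smul_eq_mul] at h1
      rw [h0, zero_mul] at h1
      exact irr_one_ne_zero hχ h1
    have hinv : ∀ g : G, cconj K g σ.character = σ.character := by
      intro g
      funext n
      rw [cconj_def]
      have h1 := congrFun hχK (MulAut.conjNormal g⁻¹ n)
      have h2 := congrFun hχK n
      simp only [Pi.smul_apply, smul_eq_mul] at h1 h2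
      have h3 : χ ((MulAut.conjNormal g⁻¹ n : K) : G) = χ (n : G) := by
        rw [MulAut.conjNormal_apply]
        exact hχcl n g⁻¹
      rw [h1, h2] at h3
      exact mul_left_cancel₀ he0 h3
    haveI : Fintype (extGroup K σ) := Fintype.ofFinite _
    have hd : 0 < d := by
      have := finrank_pos_of_irreducible σ
      simpa using this
    have hsurj := extProj_surjective K σ hd hinv
    have hτirr : (extRep K σ).IsIrreducible := by
      apply isIrreducible_of_compRep (extIncl K σ)
      have : compRep (extIncl K σ) (extRep K σ) = σ := by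
        ext n : 1
        exact extRep_extIncl K σ n
      rw [this]
      exact hσ
    have hτ : IsIrrCharacter (extGroup K σ) (extRep K σ).character :=
      helper4.isIrrCharacter_of_rep _
    have hτN : IsIrrCharacter (extIncl K σ).range
        (fun x : (extIncl K σ).range => (extRep K σ).character x) := by
      have hirr : (compRep (extIncl K σ).range.subtype (extRep K σ)).IsIrreducible := by
        apply isIrreducible_of_compRep (extIncl K σ).rangeRestrict
        have : compRep (extIncl K σ).rangeRestrict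
            (compRep (extIncl K σ).range.subtype (extRep K σ)) = σ := by
          ext n : 1
          exact extRep_extIncl K σ n
        rw [this]
        exact hσ
      haveI := hirr
      exact helper4.isIrrCharacter_of_rep (compRep (extIncl K σ).range.subtype (extRep K σ))
    have heτ : ∀ n : K, χ n = (e : ℂ) * (extRep K σ).character (extIncl K σ n) := by
      intro n
      have h1 := congrFun hχK n
      simp only [Pi.smul_apply, smul_eq_mul] at h1
      rw [h1]
      congr 1
    obtain ⟨β, β', hβ, hβ', hβind, hβcoset, hprod⟩ := berger_stepA (extProj K σ) hsurj K H hKH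
      (extIncl K σ) (fun n => rfl) (extRep K σ).character hτ hτN hχ (e : ℂ) heτ ϑ hϑ hind
    have hβ1 : β 1 ≠ 0 := irr_one_ne_zero hβ
    have hβchar := helper4.isCharacter_of_isIrrCharacter hβ
    obtain ⟨m, ρ, hρirr, rfl⟩ := hβ
    haveI := hρirr
    have hρι : ∀ n : K, ρ (extIncl K σ n) = 1 := by
      intro n
      apply rep_eq_one_of_char_eq
      have h1 := hβcoset (extIncl K σ n) ⟨n, rfl⟩ 1
      rw [mul_one] at h1
      rw [h1, Representation.char_one]
    have hscal := ext_rep_scalar K σ ρ hρι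
    -- the hypotheses of the core
    have hMH' : ∀ g : extGroup K σ, ∃ m' ∈ M.comap (extProj K σ),
        ∃ h ∈ H.comap (extProj K σ), g = m' * h := by
      intro g
      have h1 : extProj K σ g ∈ M ⊔ H := by
        rw [hMH]
        trivial
      obtain ⟨m', hm', h, hh, hmh⟩ := Subgroup.mem_sup_of_normal_left.mp h1
      obtain ⟨h', hh'⟩ := hsurj h
      refine ⟨g * h'⁻¹, ?_, h', ?_, by group⟩
      · show extProj K σ (g * h'⁻¹) ∈ M
        rw [map_mul, map_inv, hh', ← hmh, mul_inv_cancel_right]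
        exact hm'
      · show extProj K σ h' ∈ H
        rw [hh']
        exact hh
    have hscal' : ∀ x ∈ M.comap (extProj K σ), x ∈ H.comap (extProj K σ) →
        x ∈ scalarSubgroup ρ := by
      intro x hxM hxH
      apply hscal
      show extProj K σ x ∈ K
      exact hMHK.le (Subgroup.mem_inf.mpr ⟨hxM, hxH⟩)
    have hDnorm : ∀ h ∈ H.comap (extProj K σ), ∀ d' ∈ (N ⊓ H).comap (extProj K σ),
        h * d' * h⁻¹ ∈ (N ⊓ H).comap (extProj K σ) := by
      intro h hh d' hd'
      have hd'' : extProj K σ d' ∈ N ⊓ H := hd'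
      have hh' : extProj K σ h ∈ H := hh
      show extProj K σ (h * d' * h⁻¹) ∈ N ⊓ H
      rw [map_mul, map_mul, map_inv]
      exact Subgroup.mem_inf.mpr ⟨hNn.conj_mem _ (Subgroup.mem_inf.mp hd'').1 _,
        H.mul_mem (H.mul_mem hh' (Subgroup.mem_inf.mp hd'').2) (H.inv_mem hh')⟩
    have hDD : ∀ d₁ ∈ (N ⊓ H).comap (extProj K σ), ∀ d₂ ∈ (N ⊓ H).comap (extProj K σ),
        d₁ * d₂ * d₁⁻¹ * d₂⁻¹ ∈ scalarSubgroup ρ := by
      intro d₁ hd₁ d₂ hd₂
      have hd₁' : extProj K σ d₁ ∈ N ⊓ H := hd₁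
      have hd₂' : extProj K σ d₂ ∈ N ⊓ H := hd₂
      apply hscal
      show extProj K σ (d₁ * d₂ * d₁⁻¹ * d₂⁻¹) ∈ K
      rw [map_mul, map_mul, map_mul, map_inv, map_inv]
      exact hMHK.le (Subgroup.mem_inf.mpr
        ⟨hNcomm _ (Subgroup.mem_inf.mp hd₁').1 _ (Subgroup.mem_inf.mp hd₂').1,
          H.mul_mem (H.mul_mem (H.mul_mem (Subgroup.mem_inf.mp hd₁').2
            (Subgroup.mem_inf.mp hd₂').2) (H.inv_mem (Subgroup.mem_inf.mp hd₁').2))
            (H.inv_mem (Subgroup.mem_inf.mp hd₂').2)⟩)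
    have hcop : Nat.Coprime (p ^ a) (q ^ b) :=
      Nat.Coprime.pow _ _ ((Nat.coprime_primes hp hq).mpr hpq)
    have hP : ∀ m' ∈ M.comap (extProj K σ), m' ^ (p ^ a) ∈ scalarSubgroup ρ := by
      intro m' hm'
      apply hscal
      show extProj K σ (m' ^ (p ^ a)) ∈ K
      rw [map_pow]
      exact pow_mem_of_card K M hKM (p ^ a) hMcard _ hm'
    have hQ : ∀ d' ∈ (N ⊓ H).comap (extProj K σ), d' ^ (q ^ b) ∈ scalarSubgroup ρ := by
      intro d' hd'
      have hd'' : extProj K σ d' ∈ N ⊓ H := hd'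
      apply hscal
      show extProj K σ (d' ^ (q ^ b)) ∈ K
      rw [map_pow]
      exact hMHK.le (Subgroup.mem_inf.mpr
        ⟨pow_mem_of_card M N hMN (q ^ b) hNcard _ (Subgroup.mem_inf.mp hd'').1,
          H.pow_mem (Subgroup.mem_inf.mp hd'').2 _⟩)
    have hne : ∃ d' ∈ (N ⊓ H).comap (extProj K σ), ∃ y ∈ M.comap (extProj K σ),
        d' * y * d'⁻¹ * y⁻¹ ∉ H.comap (extProj K σ) := by
      have hlt : K < N ⊓ H := lt_of_le_of_ne (le_inf (hKM.trans hMN) hKH) (Ne.symm hAK)
      obtain ⟨d₀, hd₀, hd₀K⟩ := SetLike.exists_of_lt hlt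
      obtain ⟨x, hxM, hxc⟩ := hx d₀ (Subgroup.mem_inf.mp hd₀).2 hd₀K
      obtain ⟨d', hd'⟩ := hsurj d₀
      obtain ⟨y, hy⟩ := hsurj x
      refine ⟨d', ?_, y, ?_, ?_⟩
      · show extProj K σ d' ∈ N ⊓ H
        rw [hd']
        exact hd₀
      · show extProj K σ y ∈ M
        rw [hy]
        exact hxM
      · intro hcon
        have h1 : extProj K σ (d' * y * d'⁻¹ * y⁻¹) ∈ H := hcon
        rw [map_mul, map_mul, map_mul, map_inv, map_inv, hd', hy] at h1
        apply hxc
        have h2 := H.inv_mem (H.mul_mem (H.inv_mem (Subgroup.mem_inf.mp hd₀).2) h1)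
        have h3 : (d₀⁻¹ * (d₀ * x * d₀⁻¹ * x⁻¹))⁻¹ = x * d₀ * x⁻¹ := by group
        rwa [h3] at h2
    obtain ⟨S', hMS', hS'top, κ', hκ', hκ'ind⟩ := berger_core ρ (M.comap (extProj K σ))
      (H.comap (extProj K σ)) ((N ⊓ H).comap (extProj K σ)) hMH' hscal' hDnorm hDD (p ^ a)
      (q ^ b) hcop hP hQ hne β' hβ' hβind
    -- the induction hypothesis
    have hLM : L ≤ M := hLK.trans hKM
    have hLltM : L < M := by
      refine lt_of_le_not_ge hLM (fun hML => hmax.1 ?_)
      have h1 : M ≤ H := (hML.trans hLK).trans hKH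
      rw [← hMH]
      exact (sup_eq_right.mpr h1).symm
    have hidxlt : (M.comap (extProj K σ)).index < n := by
      rw [Subgroup.index_comap_of_surjective M hsurj, ← hidx]
      exact Subgroup.index_strictAnti hLltM
    have hsolvM : Group.IsSolvable (G ⧸ M) :=
      isSolvable_quot_of_surjective (MonoidHom.id G) Function.surjective_id L M
        (fun a ha => hLM ha) hsolv
    have hsolv' : Group.IsSolvable (extGroup K σ ⧸ M.comap (extProj K σ)) :=
      isSolvable_quot_of_comap (extProj K σ) (M.comap (extProj K σ)) M (fun a => Iff.rfl) hsolvM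
    have htransfer : ∀ X' : Subgroup (extGroup K σ), X'.Normal → M.comap (extProj K σ) ≤ X' →
        ∃ (κ₁ : X' → ℂ) (f : ℕ), IsIrrCharacter X' κ₁ ∧
          (fun x : X' => ρ.character x) = (f : ℂ) • κ₁ := by
      intro X' hX'n hMX'
      haveI : (X'.map (extProj K σ)).Normal := hX'n.map _ hsurj
      have hker : (extProj K σ).ker ≤ X' := by
        intro z hz
        apply hMX'
        show extProj K σ z ∈ M
        rw [MonoidHom.mem_ker.mp hz]
        exact M.one_mem
      have hXeq : (X'.map (extProj K σ)).comap (extProj K σ) = X' := by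
        rw [Subgroup.comap_map_eq]
        exact sup_eq_left.mpr hker
      have hMX : M ≤ X'.map (extProj K σ) := by
        intro m' hm'
        obtain ⟨m'', hm''⟩ := hsurj m'
        refine ⟨m'', hMX' ?_, hm''⟩
        show extProj K σ m'' ∈ M
        rw [hm'']
        exact hm'
      obtain ⟨κ₀, f, hκ₀, hχX⟩ := hqp (X'.map (extProj K σ)) inferInstance (hLM.trans hMX)
      have key : ∀ Y : Subgroup (extGroup K σ), Y = X' →
          (∃ (κ₁ : Y → ℂ) (f : ℕ), IsIrrCharacter Y κ₁ ∧
            (fun x : Y => ρ.character x) = (f : ℂ) • κ₁) →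
          ∃ (κ₁ : X' → ℂ) (f : ℕ), IsIrrCharacter X' κ₁ ∧
            (fun x : X' => ρ.character x) = (f : ℂ) • κ₁ := by
        rintro Y rfl h
        exact h
      refine key _ hXeq (berger_transfer (extProj K σ) (extIncl K σ).range
        (extRep K σ).character hτ hτN ρ.character hβchar hβ1 hβcoset hprod
        (X'.map (extProj K σ)) ?_ κ₀ f hκ₀ hχX
        ((extProj K σ).subgroupComap_surjective_of_surjective _ hsurj))
      rintro a ⟨k, rfl⟩
      apply hMX
      apply hKM
      exact k.2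
    exact ih _ hidxlt (extGroup K σ) (M.comap (extProj K σ)) rfl hsolv' ρ.character
      ⟨m, ρ, hρirr, rfl⟩ htransfer S' hMS' hS'top κ' hκ' hκ'ind

/-- **Berger's theorem**: a quasi-primitive irreducible character of a finite solvable group is
primitive. -/
theorem berger {G : Type u} [Group G] [Fintype G] [hs : Group.IsSolvable G] (χ : G → ℂ)
    (hχ : IsIrrCharacter G χ)
    (hqp : ∀ N : Subgroup G, N.Normal → ∃ (ϑ : N → ℂ) (e : ℕ), IsIrrCharacter N ϑ ∧
      (fun n : N => χ n) = (e : ℂ) • ϑ)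
    (K : Subgroup G) (hK : K ≠ ⊤) (ψ : K → ℂ) (hψ : IsCharacter K ψ) : indFun K ψ ≠ χ := by
  have hsolv : Group.IsSolvable (G ⧸ (⊥ : Subgroup G)) := inferInstance
  exact berger_aux _ G ⊥ rfl hsolv χ hχ (fun X hX _ => hqp X hX) K bot_le hK ψ hψ

end Main

end Cfsg.Agent.Lib.helper82
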