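import Mathlib
import Cfsg.Prelude.Def_Characters
import Cfsg.Prelude.Def_CharExt
import Cfsg.Agent.Lib.helper82.CoprimeExt1
import Cfsg.Agent.Lib.helper82.Isaacs1132A
import Cfsg.Agent.Lib.helper82.Isaacs1132B
import Cfsg.Agent.Lib.helper19.AbelianOver

/-!
# Invariant characters over an invariant linear character (helper82)

* `exists_inv_over_linear_quot` : the Hall case transported through a quotient `Γ/D`.
* `exists_inv_over_linear` : `N ≤ G` normal in `Γ`, `(|Γ : G|, |G : N|) = 1`, `Γ/G` or `G/N`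
  solvable, `μ` a `Γ`-invariant linear character of `N`: some `Γ`-invariant `β ∈ Irr(G)` has
  `β_N = β(1) μ`.
-/

set_option autoImplicit false
set_option linter.style.haveILetI false
set_option linter.unusedSectionVars false

namespace Cfsg.Agent.Lib.helper82

open Module Cfsg
open Cfsg.Agent.Lib
open scoped ComplexConjugate

universe u

section Quot

variable {Γ : Type u} [Group Γ] [Finite Γ]

/-- The Hall case through a quotient: `D ≤ N ≤ G` normal in `Γ`, `|G : D|` prime to `|Γ : G|`,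
`μ` a `Γ`-invariant linear character of `N` trivial on `D`. -/
theorem exists_inv_over_linear_quot (G N D : Subgroup Γ) [hG : G.Normal] [hN : N.Normal]
    [hD : D.Normal] [Fintype G] [Fintype N] (hNG : N ≤ G) (hDN : D ≤ N) (a : ℕ)
    (ha : Nat.card G = a * Nat.card D) (hcop : a.Coprime G.index)
    (hsolv : Group.IsSolvable (Γ ⧸ G) ∨ Group.IsSolvable (G ⧸ N.subgroupOf G)) (μ : N →* ℂˣ)
    (hμD : ∀ n : N, (n : Γ) ∈ D → μ n = 1)
    (hinv : ∀ (x : Γ) (n : N), μ ⟨x * n * x⁻¹, hN.conj_mem n n.2 x⟩ = μ n) :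
    ∃ β : G → ℂ, IsIrrCharacter G β ∧ (∀ n : N, β ⟨n, hNG n.2⟩ = β 1 * (μ n : ℂ)) ∧
      ∀ (x : Γ) (g : G), β ⟨x * g * x⁻¹, hG.conj_mem g g.2 x⟩ = β g := by
  classical
  have hfs : Function.Surjective (QuotientGroup.mk' D) := QuotientGroup.mk'_surjective D
  have hker : (QuotientGroup.mk' D).ker = D := QuotientGroup.ker_mk' D
  haveI hGb : (G.map (QuotientGroup.mk' D)).Normal := hG.map _ hfs
  haveI hNb : (N.map (QuotientGroup.mk' D)).Normal := hN.map _ hfs
  have hNGb : N.map (QuotientGroup.mk' D) ≤ G.map (QuotientGroup.mk' D) := Subgroup.map_mono hNG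
  letI : Fintype (Γ ⧸ D) := Fintype.ofFinite _
  letI : Fintype ↥(G.map (QuotientGroup.mk' D)) := Fintype.ofFinite _
  letI : Fintype ↥(N.map (QuotientGroup.mk' D)) := Fintype.ofFinite _
  -- order and index
  have hcomapG : (G.map (QuotientGroup.mk' D)).comap (QuotientGroup.mk' D) = G := by
    rw [Subgroup.comap_map_eq, hker]
    exact sup_eq_left.mpr (hDN.trans hNG)
  have hcardG : Nat.card ↥(G.map (QuotientGroup.mk' D)) = a := by
    have h1 := card_comap_mk' D (G.map (QuotientGroup.mk' D))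
    rw [hcomapG, ha] at h1
    exact (Nat.eq_of_mul_eq_mul_right Nat.card_pos h1).symm
  have hidxG : (G.map (QuotientGroup.mk' D)).index = G.index := by
    rw [← Subgroup.index_comap_of_surjective (G.map (QuotientGroup.mk' D)) hfs, hcomapG]
  have hcopb : (Nat.card ↥(G.map (QuotientGroup.mk' D))).Coprime
      (G.map (QuotientGroup.mk' D)).index := by
    rw [hcardG, hidxG]; exact hcop
  -- solvability
  have hsolvb : Group.IsSolvable ((Γ ⧸ D) ⧸ G.map (QuotientGroup.mk' D)) ∨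
      Group.IsSolvable (↥(G.map (QuotientGroup.mk' D)) ⧸
        (N.map (QuotientGroup.mk' D)).subgroupOf (G.map (QuotientGroup.mk' D))) := by
    rcases hsolv with h1 | h2
    · left
      exact isSolvable_quot_of_surjective (QuotientGroup.mk' D) hfs G _
        (fun x hx => Subgroup.mem_map_of_mem _ hx) h1
    · right
      exact isSolvable_quot_of_surjective ((QuotientGroup.mk' D).subgroupMap G)
        ((QuotientGroup.mk' D).subgroupMap_surjective G) (N.subgroupOf G) _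
        (fun x hx => by
          rw [Subgroup.mem_subgroupOf]
          exact Subgroup.mem_map_of_mem _ (Subgroup.mem_subgroupOf.mp hx)) h2
  -- the character on the quotient
  have hsN := (QuotientGroup.mk' D).subgroupMap_surjective N
  have hkerN : ((QuotientGroup.mk' D).subgroupMap N).ker ≤ μ.ker := by
    intro n hn
    rw [MonoidHom.mem_ker] at hn ⊢
    apply hμD
    have h1 : (QuotientGroup.mk' D) (n : Γ) = 1 := congrArg Subtype.val hn
    rw [← hker]
    exact h1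
  obtain ⟨μb, hμb⟩ : ∃ μb : ↥(N.map (QuotientGroup.mk' D)) →* ℂˣ,
      ∀ n : N, μb ((QuotientGroup.mk' D).subgroupMap N n) = μ n :=
    ⟨((QuotientGroup.mk' D).subgroupMap N).liftOfRightInverse (Function.surjInv hsN)
      (Function.rightInverse_surjInv hsN) ⟨μ, hkerN⟩,
      fun n => ((QuotientGroup.mk' D).subgroupMap N).liftOfRightInverse_comp_apply _ _
        ⟨μ, hkerN⟩ n⟩
  obtain ⟨θb, hθb⟩ : ∃ θb : IrrCharacter ↥(N.map (QuotientGroup.mk' D)),
      ∀ y, (θb : ↥(N.map (QuotientGroup.mk' D)) → ℂ) y = (μb y : ℂ) :=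
    ⟨⟨fun y => (μb y : ℂ), isIrrCharacter_of_hom μb⟩, fun y => rfl⟩
  have hinvb : ∀ (x : Γ ⧸ D) (n : ↥(N.map (QuotientGroup.mk' D))),
      (θb : ↥(N.map (QuotientGroup.mk' D)) → ℂ) ⟨x * n * x⁻¹, hNb.conj_mem n n.2 x⟩ =
        (θb : ↥(N.map (QuotientGroup.mk' D)) → ℂ) n := by
    intro x n
    obtain ⟨x, rfl⟩ := hfs x
    obtain ⟨n, rfl⟩ := hsN n
    have h1 : (⟨(QuotientGroup.mk' D) x * ((QuotientGroup.mk' D).subgroupMap N n : Γ ⧸ D) *
        ((QuotientGroup.mk' D) x)⁻¹, hNb.conj_mem _ ((QuotientGroup.mk' D).subgroupMap N n).2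
          ((QuotientGroup.mk' D) x)⟩ : ↥(N.map (QuotientGroup.mk' D))) =
        (QuotientGroup.mk' D).subgroupMap N ⟨x * n * x⁻¹, hN.conj_mem n n.2 x⟩ := by
      apply Subtype.ext
      show (QuotientGroup.mk' D) x * (QuotientGroup.mk' D) (n : Γ) * ((QuotientGroup.mk' D) x)⁻¹ =
        (QuotientGroup.mk' D) (x * n * x⁻¹)
      rw [map_mul, map_mul, map_inv]
    rw [hθb, hθb, h1, hμb, hμb, hinv]
  obtain ⟨χb, hχb1, hχbinv⟩ := exists_inv_over_of_hall (G.map (QuotientGroup.mk' D))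
    (N.map (QuotientGroup.mk' D)) hNGb hcopb hsolvb θb hinvb
  -- pointwise form
  obtain ⟨e, he⟩ := helper4.exists_nat_classInner_irr
    (isCharacter_restrict_le (N.map (QuotientGroup.mk' D)) (G.map (QuotientGroup.mk' D)) hNGb
      (helper4.isCharacter_of_isIrrCharacter χb.2)) θb.2
  have he0 : e ≠ 0 := by
    rintro rfl
    apply hχb1
    rw [he]
    simp
  have hT : G.map (QuotientGroup.mk' D) ≤ inertia (N.map (QuotientGroup.mk' D))
      (θb : ↥(N.map (QuotientGroup.mk' D)) → ℂ) := by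
    intro t _
    show cconj (N.map (QuotientGroup.mk' D)) t (θb : ↥(N.map (QuotientGroup.mk' D)) → ℂ) = _
    funext n
    rw [cconj_apply]
    have h1 := hinvb t⁻¹ n
    simpa using h1
  have hpt : ∀ n : ↥(N.map (QuotientGroup.mk' D)),
      (χb : ↥(G.map (QuotientGroup.mk' D)) → ℂ) ⟨n, hNGb n.2⟩ =
        (e : ℂ) * (θb : ↥(N.map (QuotientGroup.mk' D)) → ℂ) n :=
    clifford_invariant_rel (N.map (QuotientGroup.mk' D)) (G.map (QuotientGroup.mk' D)) hNGb θb.2
      hT χb.2 e he he0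
  have hχb1' : (χb : ↥(G.map (QuotientGroup.mk' D)) → ℂ) 1 = (e : ℂ) := by
    have h1 := hpt 1
    rw [hθb, map_one] at h1
    have h2 : (⟨((1 : ↥(N.map (QuotientGroup.mk' D))) : Γ ⧸ D),
        hNGb (1 : ↥(N.map (QuotientGroup.mk' D))).2⟩ : ↥(G.map (QuotientGroup.mk' D))) = 1 := rfl
    rw [h2] at h1
    simpa using h1
  refine ⟨fun g : G => (χb : ↥(G.map (QuotientGroup.mk' D)) → ℂ)
      ((QuotientGroup.mk' D).subgroupMap G g),
    isIrrCharacter_comp_surj ((QuotientGroup.mk' D).subgroupMap G)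
      ((QuotientGroup.mk' D).subgroupMap_surjective G) χb.2, fun n => ?_, fun x g => ?_⟩
  · show (χb : ↥(G.map (QuotientGroup.mk' D)) → ℂ)
        ((QuotientGroup.mk' D).subgroupMap G ⟨n, hNG n.2⟩) =
      (χb : ↥(G.map (QuotientGroup.mk' D)) → ℂ) ((QuotientGroup.mk' D).subgroupMap G 1) * _
    rw [map_one, hχb1']
    have h1 := hpt ((QuotientGroup.mk' D).subgroupMap N n)
    rw [hθb, hμb] at h1
    rw [← h1]
    rfl
  · show (χb : ↥(G.map (QuotientGroup.mk' D)) → ℂ)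
        ((QuotientGroup.mk' D).subgroupMap G ⟨x * g * x⁻¹, hG.conj_mem g g.2 x⟩) =
      (χb : ↥(G.map (QuotientGroup.mk' D)) → ℂ) ((QuotientGroup.mk' D).subgroupMap G g)
    rw [← hχbinv ((QuotientGroup.mk' D) x) ((QuotientGroup.mk' D).subgroupMap G g)]
    refine congrArg _ (Subtype.ext ?_)
    show (QuotientGroup.mk' D) (x * g * x⁻¹) =
      (QuotientGroup.mk' D) x * (QuotientGroup.mk' D) (g : Γ) * ((QuotientGroup.mk' D) x)⁻¹
    rw [map_mul, map_mul, map_inv]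

end Quot

section Linear

variable {Γ : Type u} [Group Γ] [Finite Γ]

/-- The linear case: `N ≤ G` normal in `Γ` with `(|Γ : G|, |G : N|) = 1`, `Γ/G` or `G/N` solvable,
and `μ` a `Γ`-invariant linear character of `N`. -/
theorem exists_inv_over_linear (G N : Subgroup Γ) [hG : G.Normal] [hN : N.Normal]
    [Fintype G] [Fintype N] (hNG : N ≤ G) (hcop : (G.index).Coprime (N.relIndex G))
    (hsolv : Group.IsSolvable (Γ ⧸ G) ∨ Group.IsSolvable (G ⧸ N.subgroupOf G)) (μ : N →* ℂˣ)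
    (hinv : ∀ (x : Γ) (n : N), μ ⟨x * n * x⁻¹, hN.conj_mem n n.2 x⟩ = μ n) :
    ∃ β : G → ℂ, IsIrrCharacter G β ∧ (∀ n : N, β ⟨n, hNG n.2⟩ = β 1 * (μ n : ℂ)) ∧
      ∀ (x : Γ) (g : G), β ⟨x * g * x⁻¹, hG.conj_mem g g.2 x⟩ = β g := by
  classical
  -- the order of `μ`
  have hμfin : μ ^ Nat.card N = 1 := by
    ext n
    rw [MonoidHom.pow_apply, ← map_pow, pow_card_eq_one', map_one, MonoidHom.one_apply]
  have ho : 0 < orderOf μ :=
    orderOf_pos_iff.mpr (isOfFinOrder_iff_pow_eq_one.mpr ⟨Nat.card N, Nat.card_pos, hμfin⟩)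
  obtain ⟨o₁, o₂, j, hoo, ho1, ho2⟩ := exists_coprime_split G.index (orderOf μ) ho
  have hco : Nat.Coprime o₁ o₂ :=
    Nat.Coprime.coprime_dvd_left ho1 (Nat.Coprime.pow_left j ho2.symm)
  have hcm : Nat.Coprime o₁ (N.relIndex G) :=
    Nat.Coprime.coprime_dvd_left ho1 (Nat.Coprime.pow_left j hcop)
  -- exponents
  obtain ⟨e₁, he₁a, he₁b⟩ := Nat.chineseRemainder hco 0 1
  obtain ⟨e₂, he₂a, he₂b⟩ := Nat.chineseRemainder hco 1 0
  have h12 : μ ^ e₁ * μ ^ e₂ = μ := by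
    have hmod : e₁ + e₂ ≡ 1 [MOD orderOf μ] := by
      rw [hoo]
      exact (Nat.modEq_and_modEq_iff_modEq_mul hco).mp
        ⟨by simpa using he₁a.add he₂a, by simpa using he₁b.add he₂b⟩
    calc μ ^ e₁ * μ ^ e₂ = μ ^ (e₁ + e₂) := (pow_add μ e₁ e₂).symm
      _ = μ ^ ((e₁ + e₂) % orderOf μ) := (pow_mod_orderOf μ (e₁ + e₂)).symm
      _ = μ ^ (1 % orderOf μ) := by
        rw [show (e₁ + e₂) % orderOf μ = 1 % orderOf μ from hmod]
      _ = μ ^ 1 := pow_mod_orderOf μ 1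
      _ = μ := pow_one μ
  have hμ₁o : (μ ^ e₁) ^ o₂ = 1 := by
    have hdvd : orderOf μ ∣ e₁ * o₂ := by
      rw [hoo]
      exact Nat.mul_dvd_mul ((Nat.modEq_zero_iff_dvd).mp he₁a) dvd_rfl
    exact (pow_mul μ e₁ o₂).symm.trans (orderOf_dvd_iff_pow_eq_one.mp hdvd)
  have hμ₂o : (μ ^ e₂) ^ o₁ = 1 := by
    have hdvd : orderOf μ ∣ e₂ * o₁ := by
      rw [hoo, mul_comm o₁ o₂]
      exact Nat.mul_dvd_mul ((Nat.modEq_zero_iff_dvd).mp he₂b) dvd_rfl
    exact (pow_mul μ e₂ o₁).symm.trans (orderOf_dvd_iff_pow_eq_one.mp hdvd)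
  have hinvpow : ∀ (e : ℕ) (x : Γ) (n : N),
      (μ ^ e) ⟨x * n * x⁻¹, hN.conj_mem n n.2 x⟩ = (μ ^ e) n := by
    intro e x n
    rw [MonoidHom.pow_apply, MonoidHom.pow_apply, hinv]
  -- the invariant linear extension of `μ ^ e₂`
  obtain ⟨μ₂', hμ₂'⟩ : ∃ μ₂' : ↥(N.subgroupOf G) →* ℂˣ,
      ∀ y : ↥(N.subgroupOf G), μ₂' y = (μ ^ e₂) ⟨((y : G) : Γ), Subgroup.mem_subgroupOf.mp y.2⟩ :=
    ⟨(μ ^ e₂).comp (Subgroup.subgroupOfEquivOfLe hNG).toMonoidHom, fun y => rfl⟩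
  have hμ₂'G : ∀ (g : ↥G) (n : ↥(N.subgroupOf G)),
      μ₂' ⟨g * n * g⁻¹, (inferInstance : (N.subgroupOf G).Normal).conj_mem (n : ↥G) n.2 g⟩ =
        μ₂' n := by
    intro g n
    rw [hμ₂', hμ₂']
    exact hinvpow e₂ (g : Γ) ⟨((n : G) : Γ), Subgroup.mem_subgroupOf.mp n.2⟩
  have hμ₂'o : μ₂' ^ o₁ = 1 := by
    ext y
    rw [MonoidHom.pow_apply, hμ₂', ← MonoidHom.pow_apply, hμ₂o, MonoidHom.one_apply,
      MonoidHom.one_apply]
  obtain ⟨lam, hlamN, hlaminv⟩ := exists_inv_linear_extension (N.subgroupOf G) μ₂' hμ₂'G o₁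
    hμ₂'o hcm.symm
  have hlamN' : ∀ n : N, lam ⟨n, hNG n.2⟩ = (μ ^ e₂) n := by
    intro n
    have h1 := hlamN ⟨⟨n, hNG n.2⟩, Subgroup.mem_subgroupOf.mpr n.2⟩
    rw [hμ₂'] at h1
    exact h1
  have hlamΓ : ∀ (x : Γ) (g : G), lam ⟨x * g * x⁻¹, hG.conj_mem g g.2 x⟩ = lam g := by
    intro x g
    have hα : ∀ n ∈ N.subgroupOf G, (MulAut.conjNormal x : MulAut ↥G) n ∈ N.subgroupOf G := by
      intro n hn
      rw [Subgroup.mem_subgroupOf] at hn ⊢
      rw [MulAut.conjNormal_apply]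
      exact hN.conj_mem _ hn x
    have h1 := hlaminv (MulAut.conjNormal x : MulAut ↥G) hα (fun n => by
      rw [hμ₂', hμ₂']
      have h2 := hinvpow e₂ x ⟨((n : G) : Γ), Subgroup.mem_subgroupOf.mp n.2⟩
      rw [← h2]
      refine congrArg _ (Subtype.ext ?_)
      show (((MulAut.conjNormal x : MulAut ↥G) (n : ↥G) : ↥G) : Γ) = x * ((n : G) : Γ) * x⁻¹
      rw [MulAut.conjNormal_apply]) g
    rw [← h1]
    refine congrArg _ (Subtype.ext ?_)
    show x * (g : Γ) * x⁻¹ = (((MulAut.conjNormal x : MulAut ↥G) g : ↥G) : Γ)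
    rw [MulAut.conjNormal_apply]
  -- the kernel of `μ ^ e₁`
  obtain ⟨D, hDdef⟩ : ∃ D : Subgroup Γ, D = (μ ^ e₁).ker.map N.subtype := ⟨_, rfl⟩
  have hDmem : ∀ n : N, (n : Γ) ∈ D ↔ (μ ^ e₁) n = 1 := by
    intro n
    rw [hDdef]
    constructor
    · rintro ⟨n', hn', h⟩
      have h1 : n' = n := Subtype.ext h
      rw [← h1]
      exact hn'
    · intro h
      exact ⟨n, h, rfl⟩
  have hDN : D ≤ N := by
    rw [hDdef]
    exact Subgroup.map_subtype_le _
  haveI hD : D.Normal := ⟨fun d hd x => by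
    have hdN : d ∈ N := hDN hd
    have h1 := (hDmem ⟨d, hdN⟩).mp hd
    exact (hDmem ⟨x * d * x⁻¹, hN.conj_mem d hdN x⟩).mpr
      ((hinvpow e₁ x ⟨d, hdN⟩).trans h1)⟩
  have hcardD : Nat.card D = Nat.card (μ ^ e₁).ker := by
    rw [hDdef]
    exact Subgroup.card_map_of_injective N.subtype_injective
  have ha : Nat.card G = N.relIndex G * Nat.card (μ ^ e₁).range * Nat.card D := by
    have h2 := (μ ^ e₁).ker.card_mul_index
    have h3 : (μ ^ e₁).ker.index = Nat.card (μ ^ e₁).range := Subgroup.index_ker _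
    have h4 : N.relIndex G * Nat.card N = Nat.card G := by
      have h5 := (N.subgroupOf G).index_mul_card
      rw [Nat.card_congr (Subgroup.subgroupOfEquivOfLe hNG).toEquiv] at h5
      exact h5
    rw [hcardD, ← h4, ← h2, h3]
    ring
  have hcopa : (N.relIndex G * Nat.card (μ ^ e₁).range).Coprime G.index := by
    apply Nat.Coprime.mul_left hcop.symm
    apply Nat.coprime_of_dvd
    intro p hp hpr hpk
    haveI : Fact p.Prime := ⟨hp⟩
    obtain ⟨y, hy⟩ := exists_prime_orderOf_dvd_card' p hpr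
    have hy1 : y ^ o₂ = 1 := by
      obtain ⟨y, n, rfl⟩ := y
      apply Subtype.ext
      show ((μ ^ e₁) n) ^ o₂ = 1
      rw [← MonoidHom.pow_apply, hμ₁o, MonoidHom.one_apply]
    have hpo : p ∣ o₂ := by
      rw [← hy]
      exact orderOf_dvd_of_pow_eq_one hy1
    exact (Nat.Prime.coprime_iff_not_dvd hp).mp (Nat.Coprime.coprime_dvd_left hpo ho2) hpk
  obtain ⟨β₁, hβ₁, hβ₁N, hβ₁inv⟩ := exists_inv_over_linear_quot G N D hNG hDN _ ha hcopa hsolv
    (μ ^ e₁) (fun n hn => (hDmem n).mp hn) (hinvpow e₁)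
  refine ⟨β₁ * (fun g => (lam g : ℂ)),
    helper19.isIrr_mul_linear β₁ (fun g => (lam g : ℂ)) hβ₁ (isIrrCharacter_of_hom lam) (by simp),
    fun n => ?_, fun x g => ?_⟩
  · have h1 : (μ n : ℂ) = ((μ ^ e₁) n : ℂ) * ((μ ^ e₂) n : ℂ) := by
      rw [← Units.val_mul, ← MonoidHom.mul_apply, h12]
    simp only [Pi.mul_apply]
    rw [hβ₁N n, hlamN' n, h1, map_one]
    simp
    ring
  · simp only [Pi.mul_apply]
    rw [hβ₁inv x g, hlamΓ x g]

end Linear

end Cfsg.Agent.Lib.helper82
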