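import Mathlib
import Cfsg.Prelude.Def_Characters
import Cfsg.Agent.Lib.helper82.CoprimeExt2
import Cfsg.Agent.Lib.helper82.Ramification
import Cfsg.Agent.Lib.helper82.CharInt
import Cfsg.Agent.Lib.helper19.Gallagher

/-!
# Invariant characters over invariant characters with coprime indices (helper82)

`exists_inv_over_general` (Isaacs 13.31): `N ≤ G` normal in `Γ`, `(|Γ : G|, |G : N|) = 1`, `Γ/G`
or `G/N` solvable; every `Γ`-invariant `θ ∈ Irr(N)` lies under a `Γ`-invariant irreducible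
character of `G`.

The proof passes to the central extension `extGroup N σ` of `Γ` in which `θ` extends, where
the question becomes one about a `Γ`-invariant linear character (`exists_inv_over_linear`).
-/

set_option autoImplicit false
set_option linter.style.haveILetI false
set_option linter.unusedSectionVars false

namespace Cfsg.Agent.Lib.helper82

open Module Cfsg
open Cfsg.Agent.Lib
open scoped ComplexConjugate

universe u

section ExtScalar

variable {Γ : Type u} [Group Γ] (N : Subgroup Γ) [hN : N.Normal] [Finite N] {d : ℕ}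
  (σ : Representation ℂ N (Fin d → ℂ))

theorem smul_rep_injective (hd : 0 < d) (n : N) {a b : ℂ} (h : a • σ n = b • σ n) : a = b := by
  have h1 : (a • σ n) * σ n⁻¹ = (b • σ n) * σ n⁻¹ := by rw [h]
  rw [smul_mul_assoc, smul_mul_assoc, ← map_mul, mul_inv_cancel, map_one] at h1
  have h2 := congrFun (congrArg (fun T : Module.End ℂ (Fin d → ℂ) => T (Pi.single ⟨0, hd⟩ 1)) h1)
    ⟨0, hd⟩
  simpa using h2

variable [σ.IsIrreducible]

/-- The scalar by which an element of the extension over `n ∈ N` differs from `σ n`. -/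
noncomputable def extScalar (x : extGroup N σ) (hx : x.1.1 ∈ N) : ℂ :=
  Classical.choose (ext_over_N N σ x hx)

theorem extScalar_spec (x : extGroup N σ) (hx : x.1.1 ∈ N) :
    (x.1.2 : Module.End ℂ (Fin d → ℂ)) = extScalar N σ x hx • σ ⟨x.1.1, hx⟩ :=
  Classical.choose_spec (ext_over_N N σ x hx)

theorem extScalar_eq (hd : 0 < d) (x : extGroup N σ) (hx : x.1.1 ∈ N) (c : ℂ)
    (h : (x.1.2 : Module.End ℂ (Fin d → ℂ)) = c • σ ⟨x.1.1, hx⟩) : extScalar N σ x hx = c :=
  smul_rep_injective N σ hd _ ((extScalar_spec N σ x hx).symm.trans h)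

theorem extScalar_one (hd : 0 < d) (h1 : (1 : extGroup N σ).1.1 ∈ N) :
    extScalar N σ 1 h1 = 1 := by
  apply extScalar_eq N σ hd
  have h2 : (⟨(1 : extGroup N σ).1.1, h1⟩ : N) = 1 := rfl
  rw [h2, map_one, one_smul]
  rfl

theorem extScalar_mul (hd : 0 < d) (x y : extGroup N σ) (hx : x.1.1 ∈ N) (hy : y.1.1 ∈ N)
    (hxy : (x * y).1.1 ∈ N) :
    extScalar N σ (x * y) hxy = extScalar N σ x hx * extScalar N σ y hy := by
  apply extScalar_eq N σ hd
  have h1 : (⟨(x * y).1.1, hxy⟩ : N) = ⟨x.1.1, hx⟩ * ⟨y.1.1, hy⟩ := rfl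
  have h2 : ((x * y).1.2 : Module.End ℂ (Fin d → ℂ)) =
      (x.1.2 : Module.End ℂ (Fin d → ℂ)) * (y.1.2 : Module.End ℂ (Fin d → ℂ)) := rfl
  rw [h1, map_mul, h2, extScalar_spec N σ x hx, extScalar_spec N σ y hy, smul_mul_smul_comm]

theorem extScalar_conj (hd : 0 < d) (γ x : extGroup N σ) (hx : x.1.1 ∈ N)
    (hx' : (γ * x * γ⁻¹).1.1 ∈ N) :
    extScalar N σ (γ * x * γ⁻¹) hx' = extScalar N σ x hx := by
  apply extScalar_eq N σ hd
  have h1 : (⟨(γ * x * γ⁻¹).1.1, hx'⟩ : N) = MulAut.conjNormal γ.1.1 ⟨x.1.1, hx⟩ := by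
    apply Subtype.ext
    rw [MulAut.conjNormal_apply]
    rfl
  have h2 : ((γ * x * γ⁻¹).1.2 : Module.End ℂ (Fin d → ℂ)) =
      (γ.1.2 : Module.End ℂ (Fin d → ℂ)) * (x.1.2 : Module.End ℂ (Fin d → ℂ)) *
        ((γ.1.2⁻¹ : (Module.End ℂ (Fin d → ℂ))ˣ) : Module.End ℂ (Fin d → ℂ)) := rfl
  have h3 := ((mem_extGroup N σ γ.1).mp γ.2).1 ⟨x.1.1, hx⟩
  rw [h1, h2, extScalar_spec N σ x hx, mul_smul_comm, smul_mul_assoc, h3, mul_assoc,
    Units.mul_inv, mul_one]

theorem extScalar_extIncl (hd : 0 < d) (x : extGroup N σ) (hx : x.1.1 ∈ N) (n : N)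
    (h : extIncl N σ n = x) : extScalar N σ x hx = 1 := by
  subst h
  apply extScalar_eq N σ hd
  have h1 : (⟨(extIncl N σ n).1.1, hx⟩ : N) = n := Subtype.ext rfl
  rw [h1, one_smul]
  exact extRep_extIncl N σ n

theorem extScalar_ker (x : extGroup N σ) (hx1 : x.1.1 = 1) (hx : x.1.1 ∈ N) :
    (x.1.2 : Module.End ℂ (Fin d → ℂ)) =
      extScalar N σ x hx • (1 : Module.End ℂ (Fin d → ℂ)) := by
  have h := extScalar_spec N σ x hx
  have h1 : (⟨x.1.1, hx⟩ : N) = 1 := Subtype.ext hx1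
  rw [h1, map_one] at h
  exact h

/-- The scalar as a linear character of the preimage of `N` in the extension. -/
noncomputable def extScalarHom (hd : 0 < d) : ↥(N.comap (extProj N σ)) →* ℂˣ :=
  MonoidHom.toHomUnits
    { toFun := fun x => extScalar N σ (x : extGroup N σ) (Subgroup.mem_comap.mp x.2)
      map_one' := extScalar_one N σ hd _
      map_mul' := fun x y => extScalar_mul N σ hd (x : extGroup N σ) (y : extGroup N σ) _ _ _ }

theorem extScalarHom_apply (hd : 0 < d) (x : ↥(N.comap (extProj N σ))) :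
    ((extScalarHom N σ hd x : ℂˣ) : ℂ) =
      extScalar N σ (x : extGroup N σ) (Subgroup.mem_comap.mp x.2) := rfl

end ExtScalar

section General

variable {Γ : Type u} [Group Γ] [Finite Γ]

/-- **Isaacs 13.31.** -/
theorem exists_inv_over_general (G N : Subgroup Γ) [hG : G.Normal] [hN : N.Normal]
    [Fintype G] [Fintype N] (hNG : N ≤ G) (hcop : (G.index).Coprime (N.relIndex G))
    (hsolv : Group.IsSolvable (Γ ⧸ G) ∨ Group.IsSolvable (G ⧸ N.subgroupOf G))
    (θ : IrrCharacter N)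
    (hinv : ∀ (x : Γ) (n : N),
      (θ : N → ℂ) ⟨x * n * x⁻¹, hN.conj_mem n n.2 x⟩ = (θ : N → ℂ) n) :
    ∃ χ : IrrCharacter G, classInner (fun n : N => (χ : G → ℂ) ⟨n, hNG n.2⟩) (θ : N → ℂ) ≠ 0 ∧
      ∀ (x : Γ) (g : G), (χ : G → ℂ) ⟨x * g * x⁻¹, hG.conj_mem g g.2 x⟩ = (χ : G → ℂ) g := by
  classical
  obtain ⟨θf, d, σ, hσ, rfl⟩ := θ
  haveI := hσ
  have hd : 0 < d := by
    have := finrank_pos_of_irreducible σ
    simpa using this
  have hθirr : IsIrrCharacter N σ.character := ⟨d, σ, hσ, rfl⟩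
  have hinv' : ∀ g : Γ, cconj N g σ.character = σ.character := by
    intro g
    funext n
    rw [cconj_apply]
    have h1 := hinv g⁻¹ n
    simpa using h1
  have hπs : Function.Surjective (extProj N σ) := extProj_surjective N σ hd hinv'
  letI : Fintype (extGroup N σ) := Fintype.ofFinite _
  letI : Fintype ↥(G.comap (extProj N σ)) := Fintype.ofFinite _
  letI : Fintype ↥(N.comap (extProj N σ)) := Fintype.ofFinite _
  have hNGh : N.comap (extProj N σ) ≤ G.comap (extProj N σ) := Subgroup.comap_mono hNG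
  have hidx : (G.comap (extProj N σ)).index = G.index :=
    Subgroup.index_comap_of_surjective G hπs
  have hrel : (N.comap (extProj N σ)).relIndex (G.comap (extProj N σ)) = N.relIndex G := by
    rw [Subgroup.relIndex_comap, Subgroup.map_comap_eq_self_of_surjective hπs]
  have hcoph : ((G.comap (extProj N σ)).index).Coprime
      ((N.comap (extProj N σ)).relIndex (G.comap (extProj N σ))) := by
    rw [hidx, hrel]; exact hcop
  have hsolvh : Group.IsSolvable (extGroup N σ ⧸ G.comap (extProj N σ)) ∨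
      Group.IsSolvable (↥(G.comap (extProj N σ)) ⧸
        (N.comap (extProj N σ)).subgroupOf (G.comap (extProj N σ))) := by
    rcases hsolv with h1 | h2
    · left
      exact isSolvable_quot_of_comap (extProj N σ) _ G (fun a => Iff.rfl) h1
    · right
      exact isSolvable_quot_of_comap ((extProj N σ).subgroupComap G) _ (N.subgroupOf G)
        (fun a => Iff.rfl) h2
  -- the linear character
  have hμinv : ∀ (γ : extGroup N σ) (x : ↥(N.comap (extProj N σ))),
      (extScalarHom N σ hd)⁻¹ ⟨γ * x * γ⁻¹,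
        (inferInstance : (N.comap (extProj N σ)).Normal).conj_mem x x.2 γ⟩ =
      (extScalarHom N σ hd)⁻¹ x := by
    intro γ x
    rw [MonoidHom.inv_apply, MonoidHom.inv_apply]
    refine congrArg _ (Units.ext ?_)
    exact extScalar_conj N σ hd γ (x : extGroup N σ) _ _
  obtain ⟨β, hβ, hβN, hβinv⟩ := exists_inv_over_linear (G.comap (extProj N σ))
    (N.comap (extProj N σ)) hNGh hcoph hsolvh (extScalarHom N σ hd)⁻¹ hμinv
  -- the character of the extension, restricted
  obtain ⟨τ, hτ⟩ : ∃ τ : extGroup N σ → ℂ, τ = (extRep N σ).character := ⟨_, rfl⟩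
  have hτcl : IsClassFunction (extGroup N σ) τ := by
    rw [hτ]; exact helper4.isClassFunction_char (extRep N σ)
  have hτchar : IsCharacter ↥(G.comap (extProj N σ)) (fun y => τ y) :=
    helper4.isCharacter_restrict (G.comap (extProj N σ)) (by rw [hτ]; exact ⟨d, extRep N σ, rfl⟩)
  have hτincl : ∀ n : N, τ (extIncl N σ n) = σ.character n := by
    intro n
    rw [hτ]
    show LinearMap.trace ℂ _ (extRep N σ (extIncl N σ n)) = LinearMap.trace ℂ _ (σ n)
    rw [extRep_extIncl]
  -- the copy of `N` inside the preimage of `G`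
  obtain ⟨N₁, hN₁⟩ : ∃ N₁ : Subgroup ↥(G.comap (extProj N σ)),
      N₁ = ((extIncl N σ).range).subgroupOf (G.comap (extProj N σ)) := ⟨_, rfl⟩
  letI : Fintype ↥N₁ := Fintype.ofFinite _
  have hN₁mem : ∀ y : ↥(G.comap (extProj N σ)), y ∈ N₁ →
      ∃ n : N, extIncl N σ n = (y : extGroup N σ) := by
    intro y hy
    rw [hN₁, Subgroup.mem_subgroupOf] at hy
    exact hy
  have hinclG : ∀ n : N, extIncl N σ n ∈ G.comap (extProj N σ) :=
    fun n => Subgroup.mem_comap.mpr (hNG n.2)
  have hinclN₁ : ∀ n : N, (⟨extIncl N σ n, hinclG n⟩ : ↥(G.comap (extProj N σ))) ∈ N₁ := by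
    intro n
    rw [hN₁, Subgroup.mem_subgroupOf]
    exact ⟨n, rfl⟩
  have hpmem : ∀ y : ↥N₁, (extProj N σ)
      (((y : ↥(G.comap (extProj N σ))) : extGroup N σ)) ∈ N := by
    intro y
    obtain ⟨n, hn⟩ := hN₁mem y y.2
    rw [← hn]
    exact n.2
  obtain ⟨p, hp⟩ : ∃ p : ↥N₁ →* ↥N, ∀ y : ↥N₁, ((p y : N) : Γ) =
      extProj N σ (((y : ↥(G.comap (extProj N σ))) : extGroup N σ)) :=
    ⟨((extProj N σ).comp ((G.comap (extProj N σ)).subtype.comp N₁.subtype)).codRestrict N hpmem,
      fun y => rfl⟩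
  have hps : Function.Surjective p := by
    intro n
    refine ⟨⟨⟨extIncl N σ n, hinclG n⟩, hinclN₁ n⟩, Subtype.ext ?_⟩
    rw [hp]
    rfl
  have hτN₁ : (fun y : ↥N₁ => τ (((y : ↥(G.comap (extProj N σ))) : extGroup N σ))) =
      fun y => σ.character (p y) := by
    funext y
    obtain ⟨n, hn⟩ := hN₁mem y y.2
    have h1 : p y = n := by
      apply Subtype.ext
      rw [hp, ← hn]
      rfl
    rw [h1, ← hn, hτincl]
  have hτN₁irr : IsIrrCharacter ↥N₁
      (fun y : ↥N₁ => (fun z : ↥(G.comap (extProj N σ)) => τ z) y) := by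
    show IsIrrCharacter ↥N₁
      (fun y : ↥N₁ => τ (((y : ↥(G.comap (extProj N σ))) : extGroup N σ)))
    rw [hτN₁]
    exact isIrrCharacter_comp_surj p hps hθirr
  have hτirr : IsIrrCharacter ↥(G.comap (extProj N σ)) (fun y => τ y) :=
    isIrrCharacter_of_restrict N₁ hτchar hτN₁irr
  -- `β` is trivial on the copy of `N`
  have hβN₁ : ∀ y ∈ N₁, β y = β 1 := by
    intro y hy
    obtain ⟨n, hn⟩ := hN₁mem y hy
    have hyN : (y : extGroup N σ) ∈ N.comap (extProj N σ) := by
      rw [← hn]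
      exact Subgroup.mem_comap.mpr n.2
    have h1 := hβN ⟨(y : extGroup N σ), hyN⟩
    have h2 : (extScalarHom N σ hd)⁻¹ ⟨(y : extGroup N σ), hyN⟩ = 1 := by
      rw [MonoidHom.inv_apply, inv_eq_one]
      apply Units.ext
      exact extScalar_extIncl N σ hd (y : extGroup N σ) _ n hn
    rw [h2] at h1
    simpa using h1
  have hχhirr : IsIrrCharacter ↥(G.comap (extProj N σ))
      ((fun y : ↥(G.comap (extProj N σ)) => τ y) * β) :=
    helper19.isIrr_mul_of_trivial N₁ (fun y : ↥(G.comap (extProj N σ)) => τ y)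
      hτirr hτN₁irr β hβ hβN₁
  have hτ1 : τ 1 = (d : ℂ) := by
    rw [hτ, Representation.char_one]
    simp
  have hker : ∀ y ∈ ((extProj N σ).subgroupComap G).ker,
      ((fun y : ↥(G.comap (extProj N σ)) => τ y) * β) y =
        ((fun y : ↥(G.comap (extProj N σ)) => τ y) * β) 1 := by
    intro y hy
    have hy1 : (y : extGroup N σ).1.1 = 1 := congrArg Subtype.val (MonoidHom.mem_ker.mp hy)
    have hyN' : (y : extGroup N σ).1.1 ∈ N := by
      rw [hy1]; exact N.one_mem
    have hyN : (y : extGroup N σ) ∈ N.comap (extProj N σ) := Subgroup.mem_comap.mpr hyN'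
    have hc := extScalar_ker N σ (y : extGroup N σ) hy1 hyN'
    have hτy : τ (y : extGroup N σ) = extScalar N σ (y : extGroup N σ) hyN' * (d : ℂ) := by
      rw [hτ]
      show LinearMap.trace ℂ _ (extRep N σ (y : extGroup N σ)) = _
      rw [extRep_apply, hc, map_smul, LinearMap.trace_one]
      simp
    have hβy := hβN ⟨(y : extGroup N σ), hyN⟩
    have hμy : (((extScalarHom N σ hd)⁻¹ ⟨(y : extGroup N σ), hyN⟩ : ℂˣ) : ℂ) =
        (extScalar N σ (y : extGroup N σ) hyN')⁻¹ := by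
      rw [MonoidHom.inv_apply, Units.val_inv_eq_inv_val]
      rfl
    have hc0 : extScalar N σ (y : extGroup N σ) hyN' ≠ 0 :=
      (extScalarHom N σ hd ⟨(y : extGroup N σ), hyN⟩).ne_zero
    have hβy' : β y = β 1 * (extScalar N σ (y : extGroup N σ) hyN')⁻¹ := by
      rw [← hμy]
      exact hβy
    show τ (y : extGroup N σ) * β y = τ ((1 : ↥(G.comap (extProj N σ))) : extGroup N σ) * β 1
    rw [hβy', hτy]
    have h1 : τ ((1 : ↥(G.comap (extProj N σ))) : extGroup N σ) = (d : ℂ) := hτ1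
    rw [h1]
    field_simp
  obtain ⟨χ, hχ, hχeq⟩ := exists_irr_deflation ((extProj N σ).subgroupComap G)
    ((extProj N σ).subgroupComap_surjective_of_surjective G hπs) hχhirr hker
  refine ⟨⟨χ, hχ⟩, ?_, ?_⟩
  · have hres : (fun n : N => χ ⟨n, hNG n.2⟩) = β 1 • σ.character := by
      funext n
      have h1 := hχeq ⟨extIncl N σ n, hinclG n⟩
      have h2 : (extProj N σ).subgroupComap G ⟨extIncl N σ n, hinclG n⟩ = ⟨n, hNG n.2⟩ :=
        Subtype.ext rfl
      rw [h2] at h1
      rw [h1]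
      show τ (extIncl N σ n) * β ⟨extIncl N σ n, hinclG n⟩ = β 1 * σ.character n
      rw [hβN₁ _ (hinclN₁ n), hτincl]
      ring
    show classInner (fun n : N => χ ⟨n, hNG n.2⟩) σ.character ≠ 0
    rw [hres, helper4.classInner_smul_left, helper4.classInner_irr_self hθirr, mul_one]
    exact irr_one_ne_zero hβ
  · intro x g
    obtain ⟨γ, rfl⟩ := hπs x
    obtain ⟨y, rfl⟩ := (extProj N σ).subgroupComap_surjective_of_surjective G hπs g
    have h1 : (⟨extProj N σ γ * ((extProj N σ).subgroupComap G y : Γ) * (extProj N σ γ)⁻¹,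
        hG.conj_mem _ ((extProj N σ).subgroupComap G y).2 _⟩ : ↥G) =
        (extProj N σ).subgroupComap G ⟨γ * y * γ⁻¹,
          (inferInstance : (G.comap (extProj N σ)).Normal).conj_mem y y.2 γ⟩ := by
      apply Subtype.ext
      show extProj N σ γ * extProj N σ (y : extGroup N σ) * (extProj N σ γ)⁻¹ =
        extProj N σ (γ * y * γ⁻¹)
      rw [map_mul, map_mul, map_inv]
    show χ ⟨extProj N σ γ * ((extProj N σ).subgroupComap G y : Γ) * (extProj N σ γ)⁻¹, _⟩ =
      χ ((extProj N σ).subgroupComap G y)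
    rw [h1, hχeq, hχeq]
    show τ (γ * (y : extGroup N σ) * γ⁻¹) * β ⟨γ * y * γ⁻¹, _⟩ = τ (y : extGroup N σ) * β y
    rw [hτcl, hβinv γ y]

end General

end Cfsg.Agent.Lib.helper82
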