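import Cfsg.Agent.Lib.helper20.D1EDefs
import Cfsg.Agent.Lib.helper81.CharOrtho

/-!
# Piece E2 of SP-E (defect-one project S4441 / S0960): block orthogonality on `P#`

`orth_singular`, `orth_regular` : the second orthogonality relation averaged over the
`p`-regular elements of `C_G(P)`, restricted to the principal block.
-/

set_option autoImplicit false

namespace Cfsg.Agent.Lib.helper82.D1E

open Cfsg Cfsg.Agent.Lib.helper84 Cfsg.Agent.Lib.helper20.D1E

section

variable {G : Type*} [Group G] [Fintype G]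

open Classical in
/-- Core of E2: averaging column orthogonality over the `p`-regular elements of `C_G(P)`. -/
theorem e2_core (p : ℕ) [Fact p.Prime] (M : Ideal AlgInt) (P : Sylow p G)
    [Fintype (PB M G)]
    (hin : ∀ χ : IrrCharacter G, χ ∈ principalBlock M G → ∀ z ∈ (P : Subgroup G), z ≠ 1 →
      ∀ y ∈ Subgroup.centralizer ((P : Subgroup G) : Set G), ¬ p ∣ orderOf y →
        (χ : G → ℂ) (z * y) = (χ : G → ℂ) z)
    (hout : ∀ χ : IrrCharacter G, χ ∉ principalBlock M G → ∀ z ∈ (P : Subgroup G), z ≠ 1 →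
      ∑ y : G, Set.indicator
        {y : G | y ∈ Subgroup.centralizer ((P : Subgroup G) : Set G) ∧ ¬ p ∣ orderOf y}
        (fun y => (χ : G → ℂ) (z * y)) y = 0)
    (z : G) (hz : z ∈ (P : Subgroup G)) (hz1 : z ≠ 1) (h : G)
    (hnc : ∀ y ∈ Subgroup.centralizer ((P : Subgroup G) : Set G), ¬ p ∣ orderOf y → y ≠ 1 →
      ¬ IsConj (z * y) h) :
    (Nat.card {c : G // c ∈ Subgroup.centralizer ((P : Subgroup G) : Set G) ∧
        ¬ p ∣ orderOf c} : ℂ) *
      ∑ i : PB M G, (i.1 : G → ℂ) z * (starRingEnd ℂ) ((i.1 : G → ℂ) h)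
    = if IsConj z h then (Nat.card (Subgroup.centralizer ({z} : Set G)) : ℂ) else 0 := by
  set Kf : Finset G := Finset.univ.filter
    (fun y : G => y ∈ Subgroup.centralizer ((P : Subgroup G) : Set G) ∧ ¬ p ∣ orderOf y) with hKf
  have hp : p.Prime := Fact.out
  have hK1 : (1 : G) ∈ Kf := by
    rw [hKf, Finset.mem_filter]
    refine ⟨Finset.mem_univ _, Subgroup.one_mem _, ?_⟩
    rw [orderOf_one]
    exact hp.one_lt.ne' ∘ Nat.dvd_one.mp
  have hcardK : Nat.card {c : G // c ∈ Subgroup.centralizer ((P : Subgroup G) : Set G) ∧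
      ¬ p ∣ orderOf c} = Kf.card := by
    rw [Nat.card_eq_fintype_card, Fintype.card_subtype]
  -- Step A
  have hA : ∑ y ∈ Kf, ∑ χ : IrrCharacter G,
      (χ : G → ℂ) (z * y) * (starRingEnd ℂ) ((χ : G → ℂ) h)
      = if IsConj z h then (Nat.card (Subgroup.centralizer ({z} : Set G)) : ℂ) else 0 := by
    rw [Finset.sum_congr rfl (fun y _ => Cfsg.Agent.Lib.helper81.irr_col_orth (z * y) h)]
    rw [Finset.sum_eq_single_of_mem 1 hK1]
    · rw [mul_one]
    · intro y hy hy1
      rw [hKf, Finset.mem_filter] at hy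
      exact if_neg (hnc y hy.2.1 hy.2.2 hy1)
  -- Step B
  have hB : ∀ χ : IrrCharacter G, ∑ y ∈ Kf, (χ : G → ℂ) (z * y)
      = if χ ∈ principalBlock M G then (Kf.card : ℂ) * (χ : G → ℂ) z else 0 := by
    intro χ
    split_ifs with hχ
    · rw [Finset.sum_congr rfl (fun y hy => ?_), Finset.sum_const, nsmul_eq_mul]
      rw [hKf, Finset.mem_filter] at hy
      exact hin χ hχ z hz hz1 y hy.2.1 hy.2.2
    · have h1 := hout χ hχ z hz hz1
      rw [hKf, Finset.sum_filter]
      refine Eq.trans (Finset.sum_congr rfl (fun y _ => ?_)) h1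
      rw [Set.indicator_apply]
      rfl
  have hC : ∑ y ∈ Kf, ∑ χ : IrrCharacter G,
      (χ : G → ℂ) (z * y) * (starRingEnd ℂ) ((χ : G → ℂ) h)
      = (Kf.card : ℂ) * ∑ i : PB M G, (i.1 : G → ℂ) z * (starRingEnd ℂ) ((i.1 : G → ℂ) h) := by
    rw [Finset.sum_comm]
    have h2 : ∀ χ : IrrCharacter G, ∑ y ∈ Kf,
        (χ : G → ℂ) (z * y) * (starRingEnd ℂ) ((χ : G → ℂ) h)
        = if χ ∈ principalBlock M G then
            (Kf.card : ℂ) * ((χ : G → ℂ) z * (starRingEnd ℂ) ((χ : G → ℂ) h)) else 0 := by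
      intro χ
      rw [← Finset.sum_mul, hB χ]
      split_ifs
      · ring
      · rw [zero_mul]
    rw [Finset.sum_congr rfl (fun χ _ => h2 χ), ← Finset.sum_filter, ← Finset.mul_sum]
    congr 1
    exact Finset.sum_subtype (Finset.univ.filter (fun χ : IrrCharacter G => χ ∈ principalBlock M G))
      (fun χ => by simp) (fun χ => (χ : G → ℂ) z * (starRingEnd ℂ) ((χ : G → ℂ) h))
  rw [hcardK, ← hC, hA]

theorem e2_order (p : ℕ) [Fact p.Prime] (P : Sylow p G) (hP : Nat.card P = p)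
    (x : G) (hx : x ∈ (P : Subgroup G)) (hx1 : x ≠ 1) : orderOf x = p := by
  have h1 : orderOf x ∣ p := hP ▸ Subgroup.orderOf_dvd_natCard _ hx
  rcases (Nat.dvd_prime Fact.out).mp h1 with h | h
  · exact absurd (orderOf_eq_one_iff.mp h) hx1
  · exact h

theorem e2_val_not_dvd (p : ℕ) [Fact p.Prime] (u : (ZMod p)ˣ) : ¬ p ∣ (u : ZMod p).val := by
  intro h
  have h0 : (((u : ZMod p).val : ℕ) : ZMod p) = 0 := (ZMod.natCast_eq_zero_iff _ _).mpr h
  rw [ZMod.natCast_zmod_val] at h0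
  exact u.ne_zero h0

theorem e2_order_conj (a c : G) : orderOf (c * a * c⁻¹) = orderOf a :=
  orderOf_injective (MulAut.conj c).toMonoidHom (MulAut.conj c).injective a

/-- `x^k` for `p ∤ k`: lies in `P`, has order `p`. -/
theorem e2_pow (p : ℕ) [Fact p.Prime] (P : Sylow p G) (hP : Nat.card P = p)
    (x : G) (hx : x ∈ (P : Subgroup G)) (hx1 : x ≠ 1) (k : ℕ) (hk : ¬ p ∣ k) :
    x ^ k ∈ (P : Subgroup G) ∧ x ^ k ≠ 1 ∧ orderOf (x ^ k) = p := by
  have hp : p.Prime := Fact.out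
  have ho := e2_order p P hP x hx hx1
  have h1 : orderOf (x ^ k) = p := by
    have hc : (orderOf x).Coprime k := by
      rw [ho]
      exact (Nat.Prime.coprime_iff_not_dvd hp).mpr hk
    rw [hc.orderOf_pow, ho]
  refine ⟨Subgroup.pow_mem _ hx k, ?_, h1⟩
  intro h
  rw [h, orderOf_one] at h1
  exact hp.one_lt.ne h1

/-- A `p`-regular element of `C_G(P)` times a nonidentity element of `P` has order `p * o(y)`. -/
theorem e2_order_mul (p : ℕ) [Fact p.Prime] (P : Sylow p G)
    (z : G) (hz : z ∈ (P : Subgroup G)) (hzo : orderOf z = p) (y : G)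
    (hy : y ∈ Subgroup.centralizer ((P : Subgroup G) : Set G)) (hpy : ¬ p ∣ orderOf y) :
    orderOf (z * y) = p * orderOf y := by
  have hp : p.Prime := Fact.out
  have hc : Commute z y := Subgroup.mem_centralizer_iff.mp hy z hz
  rw [hc.orderOf_mul_eq_mul_orderOf_of_coprime, hzo]
  rw [hzo]
  exact (Nat.Prime.coprime_iff_not_dvd hp).mpr hpy

theorem e2_card_ne_zero (p : ℕ) [Fact p.Prime] (P : Sylow p G) :
    (Nat.card {c : G // c ∈ Subgroup.centralizer ((P : Subgroup G) : Set G) ∧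
        ¬ p ∣ orderOf c} : ℂ) ≠ 0 := by
  have hp : p.Prime := Fact.out
  haveI : Nonempty {c : G // c ∈ Subgroup.centralizer ((P : Subgroup G) : Set G) ∧
      ¬ p ∣ orderOf c} :=
    ⟨⟨1, Subgroup.one_mem _, by rw [orderOf_one]; exact hp.one_lt.ne' ∘ Nat.dvd_one.mp⟩⟩
  exact_mod_cast (Nat.card_pos).ne'

/-- PIECE E2b : block orthogonality between `P#` and `p`-regular elements. -/
theorem orth_regular {G : Type*} [Group G] [Fintype G] (p : ℕ) [Fact p.Prime]
    (M : Ideal AlgInt) (P : Sylow p G) (hP : Nat.card P = p)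
    (x : G) (hx : x ∈ (P : Subgroup G)) (hx1 : x ≠ 1)
    [Fintype (PB M G)]
    (hin : ∀ χ : IrrCharacter G, χ ∈ principalBlock M G → ∀ z ∈ (P : Subgroup G), z ≠ 1 →
      ∀ y ∈ Subgroup.centralizer ((P : Subgroup G) : Set G), ¬ p ∣ orderOf y →
        (χ : G → ℂ) (z * y) = (χ : G → ℂ) z)
    (hout : ∀ χ : IrrCharacter G, χ ∉ principalBlock M G → ∀ z ∈ (P : Subgroup G), z ≠ 1 →
      ∑ y : G, Set.indicator
        {y : G | y ∈ Subgroup.centralizer ((P : Subgroup G) : Set G) ∧ ¬ p ∣ orderOf y}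
        (fun y => (χ : G → ℂ) (z * y)) y = 0)
    (u : (ZMod p)ˣ) (g : G) (hg : ¬ p ∣ orderOf g) :
    ∑ i : PB M G, (i.1 : G → ℂ) (x ^ (u : ZMod p).val) *
        (starRingEnd ℂ) ((i.1 : G → ℂ) g) = 0 := by
  classical
  obtain ⟨hzP, hz1, hzo⟩ := e2_pow p P hP x hx hx1 _ (e2_val_not_dvd p u)
  have hnc : ∀ y ∈ Subgroup.centralizer ((P : Subgroup G) : Set G), ¬ p ∣ orderOf y →
      ¬ IsConj (x ^ (u : ZMod p).val * y) g := by
    intro y hy hpy hc
    obtain ⟨c, hc⟩ := isConj_iff.mp hc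
    apply hg
    rw [← hc, e2_order_conj, e2_order_mul p P _ hzP hzo y hy hpy]
    exact dvd_mul_right _ _
  have key := e2_core p M P hin hout _ hzP hz1 g (fun y hy hpy _ => hnc y hy hpy)
  have h1 : ¬ IsConj (x ^ (u : ZMod p).val) g := by
    have := hnc 1 (Subgroup.one_mem _)
      (by rw [orderOf_one]; exact (Fact.out : p.Prime).one_lt.ne' ∘ Nat.dvd_one.mp)
    rwa [mul_one] at this
  rw [if_neg h1] at key
  rcases mul_eq_zero.mp key with h | h
  · exact absurd h (e2_card_ne_zero p P)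
  · exact h

/-- PIECE E2a : block orthogonality on `P#` (hypotheses `hin`, `hout`, `hcard` = E1a, E1b, GK1). -/
theorem orth_singular {G : Type*} [Group G] [Fintype G] (p : ℕ) [Fact p.Prime]
    (M : Ideal AlgInt) (P : Sylow p G) (hP : Nat.card P = p)
    (x : G) (hx : x ∈ (P : Subgroup G)) (hx1 : x ≠ 1)
    (H : Subgroup (ZMod p)ˣ)
    (hH : ∀ r : (ZMod p)ˣ, r ∈ H ↔ ∃ n : G, n * x * n⁻¹ = x ^ ((r : ZMod p).val))
    [Fintype (PB M G)]
    (hin : ∀ χ : IrrCharacter G, χ ∈ principalBlock M G → ∀ z ∈ (P : Subgroup G), z ≠ 1 →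
      ∀ y ∈ Subgroup.centralizer ((P : Subgroup G) : Set G), ¬ p ∣ orderOf y →
        (χ : G → ℂ) (z * y) = (χ : G → ℂ) z)
    (hout : ∀ χ : IrrCharacter G, χ ∉ principalBlock M G → ∀ z ∈ (P : Subgroup G), z ≠ 1 →
      ∑ y : G, Set.indicator
        {y : G | y ∈ Subgroup.centralizer ((P : Subgroup G) : Set G) ∧ ¬ p ∣ orderOf y}
        (fun y => (χ : G → ℂ) (z * y)) y = 0)
    (hcard : Nat.card (Subgroup.centralizer ((P : Subgroup G) : Set G)) =
      p * Nat.card {c : G // c ∈ Subgroup.centralizer ((P : Subgroup G) : Set G) ∧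
        ¬ p ∣ orderOf c})
    (u v : (ZMod p)ˣ) :
    (u * v⁻¹ ∈ H → ∑ i : PB M G, (i.1 : G → ℂ) (x ^ (u : ZMod p).val) *
        (starRingEnd ℂ) ((i.1 : G → ℂ) (x ^ (v : ZMod p).val)) = (p : ℂ)) ∧
    (u * v⁻¹ ∉ H → ∑ i : PB M G, (i.1 : G → ℂ) (x ^ (u : ZMod p).val) *
        (starRingEnd ℂ) ((i.1 : G → ℂ) (x ^ (v : ZMod p).val)) = 0) := by
  classical
  have hp : p.Prime := Fact.out
  have hxo := e2_order p P hP x hx hx1
  obtain ⟨hzP, hz1, hzo⟩ := e2_pow p P hP x hx hx1 _ (e2_val_not_dvd p u)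
  obtain ⟨hwP, hw1, hwo⟩ := e2_pow p P hP x hx hx1 _ (e2_val_not_dvd p v)
  -- powers of x only depend on the exponent mod p
  have hpow : ∀ a b : ℕ, ((a : ℕ) : ZMod p) = ((b : ℕ) : ZMod p) → x ^ a = x ^ b := by
    intro a b hab
    rw [pow_eq_pow_iff_modEq, hxo]
    exact (ZMod.natCast_eq_natCast_iff a b p).mp hab
  have hnc : ∀ y ∈ Subgroup.centralizer ((P : Subgroup G) : Set G), ¬ p ∣ orderOf y → y ≠ 1 →
      ¬ IsConj (x ^ (u : ZMod p).val * y) (x ^ (v : ZMod p).val) := by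
    intro y hy hpy hy1 hc
    obtain ⟨c, hc⟩ := isConj_iff.mp hc
    have h1 : orderOf (x ^ (u : ZMod p).val * y) = p := by
      rw [← e2_order_conj _ c, hc, hwo]
    rw [e2_order_mul p P _ hzP hzo y hy hpy] at h1
    have h2 : orderOf y = 1 := by
      have h3 : p * orderOf y = p * 1 := by rw [h1, mul_one]
      exact Nat.eq_of_mul_eq_mul_left hp.pos h3
    exact hy1 (orderOf_eq_one_iff.mp h2)
  have key := e2_core p M P hin hout _ hzP hz1 (x ^ (v : ZMod p).val) hnc
  -- conjugacy of the two powers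
  have hconj : IsConj (x ^ (u : ZMod p).val) (x ^ (v : ZMod p).val) ↔ u * v⁻¹ ∈ H := by
    rw [hH]
    constructor
    · intro hc
      obtain ⟨c, hc⟩ := isConj_iff.mp hc
      refine ⟨c⁻¹, ?_⟩
      have h1 : x = (x ^ (v : ZMod p).val) ^ ((v⁻¹ : (ZMod p)ˣ) : ZMod p).val := by
        rw [← pow_mul]
        conv_lhs => rw [← pow_one x]
        apply hpow
        push_cast
        rw [ZMod.natCast_zmod_val, ZMod.natCast_zmod_val]
        exact (mul_inv_cancel₀ v.ne_zero).symm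
      have h2 : c⁻¹ * x ^ (v : ZMod p).val * c⁻¹⁻¹ = x ^ (u : ZMod p).val := by
        rw [← hc]
        group
      calc c⁻¹ * x * c⁻¹⁻¹
          = c⁻¹ * (x ^ (v : ZMod p).val) ^ ((v⁻¹ : (ZMod p)ˣ) : ZMod p).val * c⁻¹⁻¹ := by
            rw [← h1]
        _ = (c⁻¹ * x ^ (v : ZMod p).val * c⁻¹⁻¹) ^ ((v⁻¹ : (ZMod p)ˣ) : ZMod p).val := by
            rw [conj_pow]
        _ = x ^ ((u * v⁻¹ : (ZMod p)ˣ) : ZMod p).val := by
            rw [h2, ← pow_mul]
            apply hpow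
            push_cast
            rw [ZMod.natCast_zmod_val, ZMod.natCast_zmod_val, ZMod.natCast_zmod_val]
    · rintro ⟨n, hn⟩
      refine (isConj_iff.mpr ⟨n, ?_⟩).symm
      calc n * x ^ (v : ZMod p).val * n⁻¹ = (n * x * n⁻¹) ^ (v : ZMod p).val := by
            rw [conj_pow]
        _ = x ^ (u : ZMod p).val := by
            rw [hn, ← pow_mul]
            apply hpow
            push_cast
            rw [ZMod.natCast_zmod_val, ZMod.natCast_zmod_val, ZMod.natCast_zmod_val]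
            exact inv_mul_cancel_right₀ v.ne_zero _
  -- the centralizer of a generator of P
  have hzp : Subgroup.zpowers (x ^ (u : ZMod p).val) = (P : Subgroup G) := by
    apply Subgroup.eq_of_le_of_card_ge
    · rw [Subgroup.zpowers_le]
      exact hzP
    · rw [Nat.card_zpowers, hzo, hP]
  have hcent : Subgroup.centralizer ({x ^ (u : ZMod p).val} : Set G)
      = Subgroup.centralizer ((P : Subgroup G) : Set G) := by
    ext g
    rw [Subgroup.mem_centralizer_iff, Subgroup.mem_centralizer_iff]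
    constructor
    · intro h w hw
      have hw' : w ∈ Subgroup.zpowers (x ^ (u : ZMod p).val) := by
        rw [hzp]
        exact hw
      obtain ⟨k, rfl⟩ := Subgroup.mem_zpowers_iff.mp hw'
      have hc : Commute (x ^ (u : ZMod p).val) g := h _ (Set.mem_singleton _)
      exact (hc.zpow_left k).eq
    · intro h w hw
      rw [Set.mem_singleton_iff] at hw
      subst hw
      exact h _ hzP
  rw [hcent, hcard] at key
  have hne := e2_card_ne_zero p P
  constructor
  · intro hr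
    rw [if_pos (hconj.mpr hr)] at key
    apply mul_left_cancel₀ hne
    rw [key]
    push_cast
    ring
  · intro hr
    rw [if_neg (fun hc => hr (hconj.mp hc))] at key
    rcases mul_eq_zero.mp key with h | h
    · exact absurd h hne
    · exact h

end

end Cfsg.Agent.Lib.helper82.D1E
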