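import Mathlib
import Cfsg.Prelude.Def_Characters
import Cfsg.Prelude.Def_Blocks
import Cfsg.Agent.Lib.helper82.DadeA
import Cfsg.Agent.Lib.helper82.CharQuot
import Cfsg.Agent.Lib.helper82.Ramification
import Cfsg.Agent.Lib.helper82.Clifford

/-!
# Dade's extension theorem (Isaacs 8.26) (helper82)

* `commutatorElement_central_mul` : `⁅c₁ a, c₂ b⁆ = ⁅a, b⁆` for central `c₁, c₂`.
* `sylow_commutator_inf_eq_bot` : `P' ∩ N = 1` when `P ∩ N` is central in `P` and all linear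
  characters of `P ∩ N` extend to `P`.
* `elementary_commutator_inf_eq_bot` : the same for `p`-elementary subgroups.
* `exists_hom_extension_of_disjoint` : a linear character of `D ≤ E` with `D ∩ E' = 1` extends
  to `E`.
* `dade_extension` : the extension theorem.
-/

set_option autoImplicit false
set_option linter.style.haveILetI false
set_option linter.unusedSectionVars false

namespace Cfsg.Agent.Lib.helper82

open Module Cfsg
open Cfsg.Agent.Lib
open scoped ComplexConjugate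
open scoped commutatorElement

universe u

section Comm

variable {H : Type*} [Group H]

theorem commutatorElement_central_mul_left (c a y : H) (h : ∀ g : H, g * c = c * g) :
    ⁅c * a, y⁆ = ⁅a, y⁆ := by
  rw [commutatorElement_def, commutatorElement_def]
  have h1 : (c * a)⁻¹ = a⁻¹ * c⁻¹ := mul_inv_rev c a
  have h2 : c⁻¹ * y⁻¹ = y⁻¹ * c⁻¹ := by
    rw [← mul_inv_rev, ← mul_inv_rev, h y]
  calc c * a * y * (c * a)⁻¹ * y⁻¹ = c * (a * y * a⁻¹) * (c⁻¹ * y⁻¹) := by rw [h1]; group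
    _ = c * (a * y * a⁻¹) * (y⁻¹ * c⁻¹) := by rw [h2]
    _ = c * (a * y * a⁻¹ * y⁻¹) * c⁻¹ := by group
    _ = (a * y * a⁻¹ * y⁻¹) * c * c⁻¹ := by rw [← h (a * y * a⁻¹ * y⁻¹)]
    _ = a * y * a⁻¹ * y⁻¹ := by group

theorem commutatorElement_central_mul (c₁ c₂ a b : H) (h₁ : ∀ g : H, g * c₁ = c₁ * g)
    (h₂ : ∀ g : H, g * c₂ = c₂ * g) : ⁅c₁ * a, c₂ * b⁆ = ⁅a, b⁆ := by
  rw [commutatorElement_central_mul_left c₁ a _ h₁, ← commutatorElement_inv,
    commutatorElement_central_mul_left c₂ b _ h₂, commutatorElement_inv]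

end Comm

section DadeExt

variable {G : Type u} [Group G] [Fintype G]

/-- If `P ∩ N` is central in `P` and every linear character of `P ∩ N` extends to `P`, then
`P' ∩ N = 1`. -/
theorem sylow_commutator_inf_eq_bot (p : ℕ) [Fact p.Prime] (N : Subgroup G) (P : Sylow p G)
    (hcent : ∀ x ∈ (P : Subgroup G) ⊓ N, ∀ y ∈ (P : Subgroup G), x * y = y * x)
    (hlin : ∀ lam : ↥((P : Subgroup G) ⊓ N) → ℂ, IsCharacter ↥((P : Subgroup G) ⊓ N) lam →
      lam 1 = 1 → ∃ μ : ↥(P : Subgroup G) → ℂ, IsCharacter ↥(P : Subgroup G) μ ∧ μ 1 = 1 ∧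
        ∀ x : ↥((P : Subgroup G) ⊓ N), μ ⟨(x : G), x.2.1⟩ = lam x) :
    ⁅(P : Subgroup G), (P : Subgroup G)⁆ ⊓ N = ⊥ := by
  rw [eq_bot_iff]
  intro x hx
  rw [Subgroup.mem_bot]
  by_contra hx1
  obtain ⟨hxc, hxN⟩ := hx
  rw [← Subgroup.map_subtype_commutator] at hxc
  obtain ⟨y, hy, rfl⟩ := hxc
  have hcomm : ∀ a b : ↥((P : Subgroup G) ⊓ N), a * b = b * a := fun a b =>
    Subtype.ext (hcent a.1 a.2 b.1 b.2.1)
  have hne : (⟨(y : G), y.2, hxN⟩ : ↥((P : Subgroup G) ⊓ N)) ≠ 1 := by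
    intro h
    apply hx1
    exact congrArg Subtype.val h
  obtain ⟨φ, hφ⟩ := exists_hom_apply_ne_one hcomm hne
  obtain ⟨μ, hμ, hμ1, hμr⟩ := hlin (fun a => (φ a : ℂ))
    (helper4.isCharacter_of_isIrrCharacter (isIrrCharacter_of_hom φ)) (by simp)
  have h1 := linear_commutator hμ hμ1 y hy
  have h2 := hμr ⟨(y : G), y.2, hxN⟩
  apply hφ
  have h3 : (φ ⟨(y : G), y.2, hxN⟩ : ℂ) = 1 := by
    rw [← h2]
    exact h1.trans hμ1
  exact Units.ext h3

/-- `E' ∩ N = 1` for `p`-elementary `E` when `P' ∩ N = 1` for a Sylow `p`-subgroup `P`. -/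
theorem elementary_commutator_inf_eq_bot (p : ℕ) [hp : Fact p.Prime] (N : Subgroup G)
    [hN : N.Normal] (P : Sylow p G)
    (hPN : ⁅(P : Subgroup G), (P : Subgroup G)⁆ ⊓ N = ⊥) (E : Subgroup G)
    (hE : IsElementary p E) : ⁅E, E⁆ ⊓ N = ⊥ := by
  classical
  obtain ⟨z, hz, -, j, hj⟩ := hE
  obtain ⟨Q⟩ : Nonempty (Sylow p ↥E) := inferInstance
  haveI hzn : (Subgroup.zpowers z).Normal := ⟨fun a ha g => by
    obtain ⟨i, rfl⟩ := Subgroup.mem_zpowers_iff.mp ha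
    have hc : g * z ^ i * g⁻¹ = z ^ i := by
      have := Subgroup.mem_center_iff.mp (zpow_mem hz i) g
      rw [this, mul_inv_cancel_right]
    rw [hc]
    exact zpow_mem (Subgroup.mem_zpowers z) i⟩
  have htop : Subgroup.zpowers z ⊔ (Q : Subgroup ↥E) = ⊤ := by
    rw [← Subgroup.index_eq_one]
    have h1 : (Subgroup.zpowers z ⊔ (Q : Subgroup ↥E)).index ∣ p ^ j :=
      hj ▸ Subgroup.index_dvd_of_le le_sup_left
    have h2 : (Subgroup.zpowers z ⊔ (Q : Subgroup ↥E)).index ∣ (Q : Subgroup ↥E).index :=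
      Subgroup.index_dvd_of_le le_sup_right
    obtain ⟨i, -, hi⟩ := (Nat.dvd_prime_pow hp.1).mp h1
    rw [hi] at h2 ⊢
    have h3 : ¬ p ∣ (Q : Subgroup ↥E).index := Q.not_dvd_index
    cases i with
    | zero => simp
    | succ i => exact absurd (dvd_trans (dvd_pow_self p (Nat.succ_ne_zero i)) h2) h3
  have hdec : ∀ e : ↥E, ∃ (i : ℤ) (q : ↥E), q ∈ (Q : Subgroup ↥E) ∧ e = z ^ i * q := by
    intro e
    have he : e ∈ ((Subgroup.zpowers z ⊔ (Q : Subgroup ↥E) : Subgroup ↥E) : Set ↥E) := by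
      rw [htop]; trivial
    rw [Subgroup.normal_mul] at he
    obtain ⟨a, ha, q, hq, rfl⟩ := Set.mem_mul.mp he
    obtain ⟨i, rfl⟩ := Subgroup.mem_zpowers_iff.mp ha
    exact ⟨i, q, hq, rfl⟩
  obtain ⟨P', hP'⟩ := (Q.2.map E.subtype).exists_le_sylow
  obtain ⟨g, hg⟩ := MulAction.exists_smul_eq G P' P
  have hconj : ∀ x : G, x ∈ (P' : Subgroup G) → g * x * g⁻¹ ∈ (P : Subgroup G) := by
    intro x hx
    rw [← hg, Sylow.coe_subgroup_smul]
    exact Subgroup.smul_mem_pointwise_smul x (MulAut.conj g) _ hx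
  have hle : ⁅E, E⁆ ≤
      (⁅(P : Subgroup G), (P : Subgroup G)⁆).comap (MulAut.conj g).toMonoidHom := by
    rw [Subgroup.commutator_le]
    intro a ha b hb
    obtain ⟨i, q1, hq1, ha'⟩ := hdec ⟨a, ha⟩
    obtain ⟨k, q2, hq2, hb'⟩ := hdec ⟨b, hb⟩
    have h1 : ⁅(⟨a, ha⟩ : ↥E), ⟨b, hb⟩⁆ = ⁅q1, q2⁆ := by
      rw [ha', hb']
      exact commutatorElement_central_mul _ _ _ _
        (Subgroup.mem_center_iff.mp (zpow_mem hz i)) (Subgroup.mem_center_iff.mp (zpow_mem hz k))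
    have h2 : ⁅a, b⁆ = ⁅(q1 : G), (q2 : G)⁆ := congrArg Subtype.val h1
    rw [Subgroup.mem_comap, h2]
    have h3 : (MulAut.conj g).toMonoidHom ⁅(q1 : G), (q2 : G)⁆ =
        ⁅g * (q1 : G) * g⁻¹, g * (q2 : G) * g⁻¹⁆ := by
      rw [map_commutatorElement]
      rfl
    rw [h3]
    exact Subgroup.commutator_mem_commutator (hconj _ (hP' ⟨q1, hq1, rfl⟩))
      (hconj _ (hP' ⟨q2, hq2, rfl⟩))
  rw [eq_bot_iff]
  intro x hx
  rw [Subgroup.mem_bot]
  have h1 : g * x * g⁻¹ ∈ ⁅(P : Subgroup G), (P : Subgroup G)⁆ ⊓ N :=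
    ⟨hle hx.1, hN.conj_mem x hx.2 g⟩
  rw [hPN, Subgroup.mem_bot] at h1
  have h2 : x = g⁻¹ * (g * x * g⁻¹) * g := by group
  rw [h2, h1]
  group

/-- A homomorphism `D → ℂˣ` on a subgroup `D ≤ E` meeting `E'` trivially extends to `E`. -/
theorem exists_hom_extension_of_disjoint (E D : Subgroup G) (hDE : D ≤ E)
    (hdisj : ∀ x ∈ ⁅E, E⁆, x ∈ D → x = 1) (f : ↥D →* ℂˣ) :
    ∃ F : ↥E →* ℂˣ, ∀ d : ↥D, F ⟨d, hDE d.2⟩ = f d := by
  classical
  let ι : ↥D →* Abelianization ↥E := (Abelianization.of).comp (Subgroup.inclusion hDE)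
  have hι : Function.Injective ι := by
    rw [injective_iff_map_eq_one]
    intro d hd
    have h1 : Subgroup.inclusion hDE d ∈ (Abelianization.of : ↥E →* Abelianization ↥E).ker := hd
    rw [Abelianization.ker_of] at h1
    have h2 : (d : G) ∈ ⁅E, E⁆ := by
      rw [← Subgroup.map_subtype_commutator]
      exact ⟨_, h1, rfl⟩
    exact Subtype.ext (hdisj _ h2 d.2)
  haveI : NeZero ((Monoid.exponent (Abelianization ↥E) : ℕ) : ℂ) :=
    ⟨by exact_mod_cast Monoid.exponent_ne_zero_of_finite⟩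
  let f' : ↥ι.range →* ℂˣ := f.comp (MonoidHom.ofInjective hι).symm.toMonoidHom
  obtain ⟨F, hF⟩ := MonoidHom.domRestrict_surjective (M := ℂ) ι.range f'
  refine ⟨F.comp Abelianization.of, fun d => ?_⟩
  have h3 : F (ι d) = f' ⟨ι d, d, rfl⟩ := by
    rw [← hF]
    rfl
  have h4 : (MonoidHom.ofInjective hι).symm ⟨ι d, d, rfl⟩ = d := by
    rw [MulEquiv.symm_apply_eq]
    rfl
  show F (ι d) = f d
  rw [h3]
  show f ((MonoidHom.ofInjective hι).symm ⟨ι d, d, rfl⟩) = f d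
  rw [h4]

/-- **Dade's extension theorem** (Isaacs 8.26). -/
theorem dade_extension (p : ℕ) [hp : Fact p.Prime] (N : Subgroup G) [hN : N.Normal]
    (k : ℕ) (hind : N.index = p ^ k) (P : Sylow p G)
    (hcent : ∀ x ∈ (P : Subgroup G) ⊓ N, ∀ y ∈ (P : Subgroup G), x * y = y * x)
    (hlin : ∀ lam : ↥((P : Subgroup G) ⊓ N) → ℂ, IsCharacter ↥((P : Subgroup G) ⊓ N) lam →
      lam 1 = 1 → ∃ μ : ↥(P : Subgroup G) → ℂ, IsCharacter ↥(P : Subgroup G) μ ∧ μ 1 = 1 ∧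
        ∀ x : ↥((P : Subgroup G) ⊓ N), μ ⟨(x : G), x.2.1⟩ = lam x)
    (ϑ : N → ℂ) (hϑ : IsIrrCharacter N ϑ)
    (hinv : ∀ (g : G) (n : N), ϑ ⟨g * n * g⁻¹, hN.conj_mem (n : G) n.2 g⟩ = ϑ n) :
    ∃ χ : G → ℂ, IsIrrCharacter G χ ∧ ∀ n : N, χ n = ϑ n := by
  classical
  obtain ⟨E, φ, hE, hEN, hφ, -, m, hpm, hm⟩ := dade_detect p N k hind ϑ hϑ hinv
  have hPN := sylow_commutator_inf_eq_bot p N P hcent hlin
  have hEc := elementary_commutator_inf_eq_bot p N P hPN E hE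
  have hDcomm : ∀ a b : ↥(E ⊓ N), a * b = b * a := by
    intro a b
    have h1 : ⁅(a : G), (b : G)⁆ ∈ ⁅E, E⁆ ⊓ N :=
      ⟨Subgroup.commutator_mem_commutator a.2.1 b.2.1,
        N.mul_mem (N.mul_mem (N.mul_mem a.2.2 b.2.2) (N.inv_mem a.2.2)) (N.inv_mem b.2.2)⟩
    rw [hEc, Subgroup.mem_bot, commutatorElement_eq_one_iff_mul_comm] at h1
    exact Subtype.ext h1
  have hφ1 : φ 1 = 1 := irr_one_of_commutative hDcomm hφ
  obtain ⟨f, hf⟩ := exists_hom_of_linear (helper4.isCharacter_of_isIrrCharacter hφ) hφ1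
  obtain ⟨F, hF⟩ := exists_hom_extension_of_disjoint E (E ⊓ N) inf_le_left (by
    intro x hx hxD
    have : x ∈ ⁅E, E⁆ ⊓ N := ⟨hx, hxD.2⟩
    rwa [hEc, Subgroup.mem_bot] at this) f
  set φh : ↥E → ℂ := fun e => (F e : ℂ) with hφh
  have hφhirr : IsIrrCharacter ↥E φh := isIrrCharacter_of_hom F
  have hφhD : ∀ d : ↥(E ⊓ N), φh ⟨d, d.2.1⟩ = φ d := by
    intro d
    rw [hf d, hφh]
    show ((F ⟨d, d.2.1⟩ : ℂˣ) : ℂ) = _
    rw [hF d]
  set Θ : G → ℂ := indFun N ϑ with hΘ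
  have hΘchar : IsCharacter G Θ :=
    helper4.isCharacter_indFun N (helper4.isCharacter_of_isIrrCharacter hϑ)
  have hinv' : ∀ g : G, cconj N g ϑ = ϑ := by
    intro g
    funext n
    rw [cconj_apply]
    have := hinv g⁻¹ n
    simpa using this
  have hN0 : (Nat.card N : ℂ) ≠ 0 := by exact_mod_cast Nat.card_pos.ne'
  have hΘN : ∀ n : N, Θ n = (N.index : ℂ) * ϑ n := by
    intro n
    rw [hΘ, indFun_apply_mem]
    simp only [hinv']
    rw [Finset.sum_const, Finset.card_univ, nsmul_eq_mul, ← Nat.card_eq_fintype_card,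
      ← N.card_mul_index]
    push_cast
    field_simp
  have hΘout : ∀ g : G, g ∉ N → Θ g = 0 := fun g hg => indFun_apply_not_mem N ϑ hg
  -- the inner product of `Θ_E` and the extension
  have hcard : Nat.card ↥E = N.index * Nat.card ↥(E ⊓ N) := by
    have h1 := card_mul_card_inf E N
    rw [hEN, Subgroup.index_top, one_mul, ← N.card_mul_index] at h1
    have h2 : Nat.card N * (N.index * Nat.card ↥(E ⊓ N)) = Nat.card N * Nat.card ↥E := by
      rw [← mul_assoc, h1, mul_comm]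
    exact (Nat.eq_of_mul_eq_mul_left Nat.card_pos h2).symm
  have hinner : classInner (fun e : ↥E => Θ e) φh = (m : ℂ) := by
    set f0 : G → ℂ := fun g => if h : g ∈ E then Θ g * conj (φh ⟨g, h⟩) else 0 with hf0
    have e1 : ∑ e : ↥E, Θ e * conj (φh e) = ∑ e : ↥E, f0 e := by
      refine Finset.sum_congr rfl fun e _ => ?_
      have hfe : f0 (e : G) = Θ e * conj (φh ⟨e, e.2⟩) := dif_pos e.2
      exact hfe.symm
    have e2 : ∑ d : ↥(E ⊓ N), f0 d =
        (N.index : ℂ) * ∑ d : ↥(E ⊓ N), ϑ ⟨(d : G), d.2.2⟩ * conj (φ d) := by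
      rw [Finset.mul_sum]
      refine Finset.sum_congr rfl fun d _ => ?_
      have hd1 : (d : G) ∈ E := d.2.1
      have hfd : f0 (d : G) = Θ d * conj (φh ⟨d, hd1⟩) := dif_pos hd1
      rw [hfd, hφhD d]
      have := hΘN ⟨(d : G), d.2.2⟩
      simp only at this
      rw [this]
      ring
    have e3 : ∑ e : ↥E, f0 e = ∑ d : ↥(E ⊓ N), f0 d := by
      rw [sum_subgroup E f0, sum_subgroup (E ⊓ N) f0]
      refine Finset.sum_congr rfl fun g _ => ?_
      by_cases hgE : g ∈ E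
      · by_cases hgN : g ∈ N
        · rw [if_pos hgE, if_pos (Subgroup.mem_inf.mpr ⟨hgE, hgN⟩)]
        · rw [if_pos hgE, if_neg (fun h : g ∈ E ⊓ N => hgN (Subgroup.mem_inf.mp h).2)]
          have hfg : f0 g = Θ g * conj (φh ⟨g, hgE⟩) := dif_pos hgE
          rw [hfg, hΘout g hgN, zero_mul]
      · rw [if_neg hgE, if_neg (fun h : g ∈ E ⊓ N => hgE (Subgroup.mem_inf.mp h).1)]
    rw [finsum_eq_sum_of_fintype] at hm
    have hD0 : (Nat.card ↥(E ⊓ N) : ℂ) ≠ 0 := by exact_mod_cast Nat.card_pos.ne'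
    have hI0 : (N.index : ℂ) ≠ 0 := by
      have : N.index ≠ 0 := by rw [hind]; exact pow_ne_zero _ hp.1.ne_zero
      exact_mod_cast this
    have e4 : ∑ d : ↥(E ⊓ N), ϑ ⟨(d : G), d.2.2⟩ * conj (φ d) =
        (Nat.card ↥(E ⊓ N) : ℂ) * m := by
      rw [← hm]
      field_simp
    unfold classInner
    rw [e1, e3, e2, e4, hcard]
    push_cast
    field_simp
  haveI : Fintype (IrrCharacter G) := Fintype.ofFinite _
  haveI : Fintype (IrrCharacter N) := Fintype.ofFinite _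
  obtain ⟨c, hc, hdec, -⟩ := exists_nat_decomp hΘchar
  have h5 : classInner (fun e : ↥E => Θ e) φh =
      ∑ ψ : IrrCharacter G, (c ψ : ℂ) * classInner (fun e : ↥E => (ψ : G → ℂ) e) φh := by
    rw [← helper45.classInner_sum_left]
    refine congrArg (fun F => classInner F φh) ?_
    funext e
    exact hdec e
  choose d hd using fun ψ : IrrCharacter G => helper4.exists_nat_classInner_irr
    (helper4.isCharacter_restrict E (helper4.isCharacter_of_isIrrCharacter ψ.2)) hφhirr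
  have h6 : m = ∑ ψ : IrrCharacter G, c ψ * d ψ := by
    have : (m : ℂ) = ((∑ ψ : IrrCharacter G, c ψ * d ψ : ℕ) : ℂ) := by
      rw [← hinner, h5]
      push_cast
      exact Finset.sum_congr rfl (fun ψ _ => by rw [hd ψ])
    exact_mod_cast this
  obtain ⟨ψ, hψ⟩ : ∃ ψ : IrrCharacter G, ¬ p ∣ c ψ * d ψ := by
    by_contra hcon
    push Not at hcon
    exact hpm (h6 ▸ Finset.dvd_sum (fun ψ _ => hcon ψ))
  have hpc : ¬ p ∣ c ψ := fun h => hψ (dvd_mul_of_dvd_left h _)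
  have hc0 : c ψ ≠ 0 := fun h => hpc (h ▸ dvd_zero p)
  have h7 : classInner (fun n : N => (ψ : G → ℂ) n) ϑ = (c ψ : ℂ) := by
    rw [← helper4.classInner_conj_symm,
      ← helper4.frobenius_reciprocity N ϑ (helper4.isClassFunction_of_isIrrCharacter ψ.2), hc ψ]
    simp
  have h8 := clifford_invariant N ψ.2 hϑ hinv' (c ψ) h7 hc0
  have h9 := ramification_dvd_index_of_invariant N hϑ hinv' ψ.2 (c ψ) h8
  rw [hind] at h9
  obtain ⟨i, -, hi⟩ := (Nat.dvd_prime_pow hp.1).mp h9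
  have hi0 : i = 0 := by
    by_contra h
    exact hpc (hi ▸ dvd_pow_self p h)
  refine ⟨ψ, ψ.2, fun n => ?_⟩
  rw [h8 n, hi, hi0]
  simp

end DadeExt

end Cfsg.Agent.Lib.helper82
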