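import Mathlib
import Cfsg.Prelude.Def_Characters
import Cfsg.Prelude.Def_Blocks
import Cfsg.Agent.Lib.helper4.Induction
import Cfsg.Agent.Lib.helper4.CharTheory
import Cfsg.Agent.Lib.helper4.CharDecomp
import Cfsg.Agent.Lib.helper4.Burnside2
import Cfsg.Agent.Lib.helper82.CharDeg
import Cfsg.Agent.Lib.helper82.CharSums
import Cfsg.Agent.Lib.helper82.CharQuot
import Cfsg.Agent.Lib.helper82.Ramification
import Cfsg.Agent.Lib.helper19.TwoDegA

/-!
# Small character degrees force a normal abelian Sylow subgroup (helper82)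

* `deg_le_of_sub`: irreducible characters of subgroups have degree at most that of some
  irreducible character of the group.
* `sylow_comm_of_deg_lt`: if all irreducible degrees are `< p`, Sylow `p`-subgroups are abelian.
* `sylow_normal_of_ti`: a Sylow `p`-subgroup with trivial intersections with its other
  conjugates is normal as soon as all irreducible degrees are `< p`.
* `sylow_normal_of_deg_lt`: if all irreducible degrees are `< p`, the Sylow `p`-subgroup is
  normal.
-/

set_option autoImplicit false
set_option linter.style.haveILetI false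
set_option linter.unusedSectionVars false

namespace Cfsg.Agent.Lib.helper82

open Module Cfsg
open Cfsg.Agent.Lib
open scoped ComplexConjugate

universe u

section SmallDeg

variable {G : Type u} [Group G] [Finite G]

/-- Every irreducible character of a subgroup has degree at most that of some irreducible
character of the group. -/
theorem deg_le_of_sub (H : Subgroup G) (θ : IrrCharacter H) :
    ∃ χ : IrrCharacter G, charDegree (θ : H → ℂ) ≤ charDegree (χ : G → ℂ) := by
  classical
  haveI : Fintype G := Fintype.ofFinite G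
  haveI : Fintype H := Fintype.ofFinite H
  haveI : Fintype (IrrCharacter H) := Fintype.ofFinite _
  obtain ⟨χ, hχ, hne⟩ := exists_irr_over H θ.2
  refine ⟨⟨χ, hχ⟩, ?_⟩
  have hΘ : IsCharacter H (fun h : H => χ h) :=
    helper4.isCharacter_restrict H (helper4.isCharacter_of_isIrrCharacter hχ)
  obtain ⟨N, hN1, -, hN3⟩ := exists_nat_decomp hΘ
  have hNθ : N θ ≠ 0 := by
    intro h0
    apply hne
    rw [hN1 θ, h0]
    simp
  have h1 : χ 1 = (charDegree χ : ℂ) := irr_one_eq ⟨χ, hχ⟩
  have h2 : (charDegree χ : ℂ) =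
      ((∑ ψ : IrrCharacter H, N ψ * charDegree (ψ : H → ℂ) : ℕ) : ℂ) := by
    rw [← h1]
    have := hN3
    simpa using this
  have h3 : charDegree χ = ∑ ψ : IrrCharacter H, N ψ * charDegree (ψ : H → ℂ) := by
    exact_mod_cast h2
  show charDegree (θ : H → ℂ) ≤ charDegree χ
  rw [h3]
  calc charDegree (θ : H → ℂ) ≤ N θ * charDegree (θ : H → ℂ) :=
        Nat.le_mul_of_pos_left _ (Nat.pos_of_ne_zero hNθ)
    _ ≤ _ := Finset.single_le_sum
        (f := fun ψ : IrrCharacter H => N ψ * charDegree (ψ : H → ℂ))
        (fun _ _ => Nat.zero_le _) (Finset.mem_univ θ)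

/-- If all irreducible character degrees are smaller than `p`, the Sylow `p`-subgroups are
abelian. -/
theorem sylow_comm_of_deg_lt (p : ℕ) [Fact p.Prime]
    (hb : ∀ χ : IrrCharacter G, charDegree (χ : G → ℂ) < p) (P : Sylow p G) :
    ∀ x ∈ (P : Subgroup G), ∀ y ∈ (P : Subgroup G), x * y = y * x := by
  have hall : ∀ θ : ↥(P : Subgroup G) → ℂ, IsIrrCharacter ↥(P : Subgroup G) θ → θ 1 = 1 := by
    intro θ hθ
    obtain ⟨χ, hχ⟩ := deg_le_of_sub (P : Subgroup G) ⟨θ, hθ⟩
    have h1 : charDegree θ < p := lt_of_le_of_lt hχ (hb χ)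
    have h2 : charDegree θ ∣ Nat.card (P : Subgroup G) :=
      irr_degree_dvd_card (⟨θ, hθ⟩ : IrrCharacter ↥(P : Subgroup G))
    obtain ⟨k, hk⟩ := P.isPGroup'.exists_card_eq
    rw [hk] at h2
    obtain ⟨j, -, hj⟩ := (Nat.dvd_prime_pow (Fact.out : p.Prime)).mp h2
    have hj0 : j = 0 := by
      by_contra hj0
      have : p ≤ p ^ j := Nat.le_self_pow hj0 p
      omega
    rw [hj0, pow_zero] at hj
    have h3 : θ 1 = ((charDegree θ : ℕ) : ℂ) :=
      irr_one_eq (⟨θ, hθ⟩ : IrrCharacter ↥(P : Subgroup G))
    rw [h3, hj]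
    simp
  have hc := helper19.comm_of_all_linear hall
  intro x hx y hy
  have := hc ⟨x, hx⟩ ⟨y, hy⟩
  exact congrArg Subtype.val this

theorem classInner_one_one' (H : Type u) [Group H] [Fintype H] :
    classInner (fun _ : H => (1 : ℂ)) (fun _ => (1 : ℂ)) = 1 := by
  unfold classInner
  simp only [map_one, mul_one, Finset.sum_const, Finset.card_univ, nsmul_eq_mul]
  rw [← Nat.card_eq_fintype_card, inv_mul_cancel₀ helper4.card_ne_zero_complex]

theorem classInner_nat_comm {H : Type u} [Group H] [Fintype H] {φ ψ : H → ℂ} {n : ℕ}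
    (h : classInner φ ψ = n) : classInner ψ φ = n := by
  rw [← helper4.classInner_conj_symm, h, Complex.conj_natCast]

/-- Multiplicities of the trivial character grow under restriction to a smaller subgroup. -/
theorem classInner_one_restrict_mono (H K : Subgroup G) (hHK : H ≤ K) [Fintype H] [Fintype K]
    {χ : G → ℂ} (hχ : IsCharacter G χ) :
    ∃ a m : ℕ, classInner (fun k : K => χ k) (fun _ => (1 : ℂ)) = a ∧
      classInner (fun h : H => χ h) (fun _ => (1 : ℂ)) = m ∧ a ≤ m := by
  classical
  haveI : Fintype (IrrCharacter K) := Fintype.ofFinite _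
  have hΘ : IsCharacter K (fun k : K => χ k) := helper4.isCharacter_restrict K hχ
  obtain ⟨c, hc1, hc2, -⟩ := exists_nat_decomp hΘ
  let one : IrrCharacter K := ⟨fun _ => 1, helper4.isIrrCharacter_one⟩
  have hn : ∀ ξ : IrrCharacter K, ∃ n : ℕ,
      classInner (fun h : H => (ξ : K → ℂ) (Subgroup.inclusion hHK h)) (fun _ => (1 : ℂ)) = n := by
    intro ξ
    exact helper4.exists_nat_classInner
      (helper4.isCharacter_comp (Subgroup.inclusion hHK)
        (helper4.isCharacter_of_isIrrCharacter ξ.2)) helper4.isCharacter_one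
  choose n hn using hn
  have hn1 : n one = 1 := by
    have h := hn one
    have h' : classInner (fun h : H => (one : K → ℂ) (Subgroup.inclusion hHK h))
        (fun _ => (1 : ℂ)) = 1 := classInner_one_one' H
    rw [h'] at h
    exact_mod_cast h.symm
  refine ⟨c one, ∑ ξ : IrrCharacter K, c ξ * n ξ, hc1 one, ?_, ?_⟩
  · have hfun : (fun h : H => χ h) = ∑ ξ : IrrCharacter K,
        (c ξ : ℂ) • (fun h : H => (ξ : K → ℂ) (Subgroup.inclusion hHK h)) := by
      funext h
      have := hc2 (Subgroup.inclusion hHK h)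
      simp only [Subgroup.coe_inclusion] at this
      rw [this]
      simp [Finset.sum_apply]
    rw [hfun, helper4.classInner_sum_left]
    push_cast
    refine Finset.sum_congr rfl fun ξ _ => ?_
    rw [helper4.classInner_smul_left, hn ξ]
  · calc c one = c one * n one := by rw [hn1, mul_one]
      _ ≤ _ := Finset.single_le_sum (f := fun ξ : IrrCharacter K => c ξ * n ξ)
          (fun _ _ => Nat.zero_le _) (Finset.mem_univ one)

end SmallDeg

end Cfsg.Agent.Lib.helper82
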