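import Mathlib
import Cfsg.Prelude.Def_Characters
import Cfsg.Prelude.Def_Blocks
import Cfsg.Prelude.Def_DegreeGraph
import Cfsg.Agent.Lib.helper4.Induction
import Cfsg.Agent.Lib.helper4.CharTheory
import Cfsg.Agent.Lib.helper4.CharDecomp
import Cfsg.Agent.Lib.helper82.CharDeg
import Cfsg.Agent.Lib.helper82.CharSums
import Cfsg.Agent.Lib.helper82.CharQuot
import Cfsg.Agent.Lib.helper82.Ramification
import Cfsg.Agent.Lib.helper82.SmallDegA
import Cfsg.Agent.Lib.helper19.AbelianOver
import Cfsg.Agent.Lib.helper19.LinChar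

/-!
# Character degree graphs of solvable groups, part A (helper82)

Character-theoretic input for the theorem that the degree graph of a solvable group has at
most two connected components.

* `index_dvd_deg_sq_of_vanish`: an irreducible character vanishing off a subgroup `L` has
  degree whose square is divisible by the index of `L`.
* `deg_of_over_prime_index`, `inv_of_deg_eq`, `deg_eq_of_inv_prime_index`: degrees over a normal
  subgroup of prime index.
* `exists_prime_dvd_nonlinear`: if all nonlinear irreducible characters of a normal subgroup are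
  invariant but some linear one is not, a fixed prime divides all nonlinear degrees.
-/

set_option autoImplicit false
set_option linter.style.haveILetI false
set_option linter.unusedSectionVars false

namespace Cfsg.Agent.Lib.helper82

open Module Cfsg
open Cfsg.Agent.Lib
open scoped ComplexConjugate

universe u

section Vanish

variable {M : Type u} [Group M] [Finite M]

/-- If an irreducible character `ψ` of `M` vanishes off the subgroup `L`, then `|M : L|`
divides `ψ(1)^2`. -/
theorem index_dvd_deg_sq_of_vanish (L : Subgroup M) (ψ : IrrCharacter M)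
    (hv : ∀ x : M, x ∉ L → (ψ : M → ℂ) x = 0) :
    L.index ∣ charDegree (ψ : M → ℂ) ^ 2 := by
  classical
  haveI : Fintype M := Fintype.ofFinite M
  haveI : Fintype L := Fintype.ofFinite L
  haveI : Fintype (IrrCharacter L) := Fintype.ofFinite _
  haveI : Fintype (IrrCharacter M) := Fintype.ofFinite _
  have hψL : IsCharacter L (fun l : L => (ψ : M → ℂ) l) :=
    helper4.isCharacter_restrict L (helper4.isCharacter_of_isIrrCharacter ψ.2)
  obtain ⟨a, ha1, ha2, ha3⟩ := exists_nat_decomp hψL
  have hinner : ∀ ξ : IrrCharacter M, ξ ≠ ψ →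
      classInner (fun l : L => (ξ : M → ℂ) l) (fun l : L => (ψ : M → ℂ) l) = 0 := by
    intro ξ hne
    have h0 : classInner (ξ : M → ℂ) (ψ : M → ℂ) = 0 :=
      helper4.classInner_irr_ne ξ.2 ψ.2 (fun h => hne (Subtype.ext h))
    unfold classInner at h0 ⊢
    have hsum : ∑ l : L, (ξ : M → ℂ) l * conj ((ψ : M → ℂ) l) =
        ∑ x : M, (ξ : M → ℂ) x * conj ((ψ : M → ℂ) x) := by
      rw [← Finset.sum_subtype (Finset.univ.filter (fun x : M => x ∈ L)) (by simp)
        (fun x => (ξ : M → ℂ) x * conj ((ψ : M → ℂ) x))]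
      rw [Finset.sum_filter]
      refine Finset.sum_congr rfl fun x _ => ?_
      split_ifs with hx
      · rfl
      · rw [hv x hx]; simp
    rw [hsum]
    have hz : ∑ x : M, (ξ : M → ℂ) x * conj ((ψ : M → ℂ) x) = 0 := by
      have hc : (Nat.card M : ℂ) ≠ 0 := helper4.card_ne_zero_complex
      rcases mul_eq_zero.mp h0 with h | h
      · exact absurd (inv_eq_zero.mp h) hc
      · exact h
    rw [hz, mul_zero]
  have hfun : (fun l : L => (ψ : M → ℂ) l) =
      ∑ θ' : IrrCharacter L, (a θ' : ℂ) • (θ' : L → ℂ) := by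
    funext l
    rw [ha2 l]
    simp [Finset.sum_apply]
  -- key degree identity
  have hkey : ∀ θ : IrrCharacter L, a θ ≠ 0 →
      L.index * charDegree (θ : L → ℂ) = a θ * charDegree (ψ : M → ℂ) := by
    intro θ hθ0
    have hΘ : IsCharacter M (indFun L (θ : L → ℂ)) :=
      helper4.isCharacter_indFun L (helper4.isCharacter_of_isIrrCharacter θ.2)
    obtain ⟨b, hb1, -, hb3⟩ := exists_nat_decomp hΘ
    have hbψ : b ψ = a θ := by
      have h := hb1 ψ
      rw [helper4.frobenius_reciprocity L _ (helper4.isClassFunction_of_isIrrCharacter ψ.2)] at h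
      have h2 := classInner_nat_comm (ha1 θ)
      rw [h2] at h
      exact_mod_cast h.symm
    have hbξ : ∀ ξ : IrrCharacter M, ξ ≠ ψ → b ξ = 0 := by
      intro ξ hne
      by_contra hb0
      have h := hb1 ξ
      rw [helper4.frobenius_reciprocity L _ (helper4.isClassFunction_of_isIrrCharacter ξ.2)] at h
      have h' := classInner_nat_comm h
      have hξL : IsCharacter L (fun l : L => (ξ : M → ℂ) l) :=
        helper4.isCharacter_restrict L (helper4.isCharacter_of_isIrrCharacter ξ.2)
      obtain ⟨c, hc1, -, -⟩ := exists_nat_decomp hξL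
      have hz := hinner ξ hne
      rw [hfun, helper4.classInner_sum_right] at hz
      have hz2 : ∑ θ' : IrrCharacter L, ((a θ' * c θ' : ℕ) : ℂ) = 0 := by
        rw [← hz]
        refine Finset.sum_congr rfl fun θ' _ => ?_
        rw [helper4.classInner_smul_right, hc1 θ', Complex.conj_natCast]
        push_cast
        ring
      have hz3 : ∑ θ' : IrrCharacter L, a θ' * c θ' = 0 := by exact_mod_cast hz2
      have hz4 := (Finset.sum_eq_zero_iff.mp hz3) θ (Finset.mem_univ θ)
      have hcθ : c θ = b ξ := by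
        have := hc1 θ
        rw [h'] at this
        exact_mod_cast this.symm
      rcases Nat.mul_eq_zero.mp hz4 with h0 | h0
      · exact hθ0 h0
      · exact hb0 (hcθ ▸ h0)
    have hdeg : indFun L (θ : L → ℂ) 1 = ((b ψ * charDegree (ψ : M → ℂ) : ℕ) : ℂ) := by
      rw [hb3]
      congr 1
      rw [Finset.sum_eq_single ψ]
      · intro ξ _ hne; rw [hbξ ξ hne, zero_mul]
      · intro h; exact absurd (Finset.mem_univ ψ) h
    rw [helper4.indFun_one, irr_one_eq θ, hbψ] at hdeg
    exact_mod_cast hdeg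
  -- conclude
  set d : ℕ := charDegree (ψ : M → ℂ) with hd
  have h1 : d = ∑ θ : IrrCharacter L, a θ * charDegree (θ : L → ℂ) := by
    have h := ha3
    have h2 : (ψ : M → ℂ) ((1 : L) : M) = (d : ℂ) := irr_one_eq ψ
    have h3 : (d : ℂ) = ((∑ θ : IrrCharacter L, a θ * charDegree (θ : L → ℂ) : ℕ) : ℂ) := by
      rw [← h2]
      exact h
    exact_mod_cast h3
  have h2 : d ^ 2 = L.index * ∑ θ ∈ Finset.univ.filter (fun θ : IrrCharacter L => a θ ≠ 0),
      charDegree (θ : L → ℂ) ^ 2 := by
    calc d ^ 2 = d * ∑ θ : IrrCharacter L, a θ * charDegree (θ : L → ℂ) := by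
          rw [sq]; congr 1
      _ = ∑ θ : IrrCharacter L, (a θ * d) * charDegree (θ : L → ℂ) := by
          rw [Finset.mul_sum]
          exact Finset.sum_congr rfl fun θ _ => by ring
      _ = ∑ θ ∈ Finset.univ.filter (fun θ : IrrCharacter L => a θ ≠ 0),
            (a θ * d) * charDegree (θ : L → ℂ) := by
          rw [Finset.sum_filter]
          refine Finset.sum_congr rfl fun θ _ => ?_
          by_cases h : a θ = 0
          · simp [h]
          · simp [h]
      _ = ∑ θ ∈ Finset.univ.filter (fun θ : IrrCharacter L => a θ ≠ 0),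
            (L.index * charDegree (θ : L → ℂ)) * charDegree (θ : L → ℂ) :=
          Finset.sum_congr rfl fun θ hθ => by rw [← hkey θ (Finset.mem_filter.mp hθ).2]
      _ = _ := by
          rw [Finset.mul_sum]
          exact Finset.sum_congr rfl fun θ _ => by ring
  exact ⟨_, h2⟩

/-- A prime dividing the index of a subgroup off which the irreducible character `ψ` vanishes
divides the degree of `ψ`. -/
theorem prime_dvd_deg_of_vanish (L : Subgroup M) (ψ : IrrCharacter M)
    (hv : ∀ x : M, x ∉ L → (ψ : M → ℂ) x = 0) {l : ℕ} (hl : l.Prime) (hdvd : l ∣ L.index) :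
    l ∣ charDegree (ψ : M → ℂ) :=
  hl.dvd_of_dvd_pow (dvd_trans hdvd (index_dvd_deg_sq_of_vanish L ψ hv))

end Vanish

section PrimeIndex

variable {G : Type u} [Group G] [Fintype G] (M : Subgroup G) [hM : M.Normal] [Fintype M]

/-- Every irreducible character of `G` has an irreducible constituent on a subgroup. -/
theorem exists_irr_under (H : Subgroup G) [Fintype H] (χ : IrrCharacter G) :
    ∃ ψ : IrrCharacter H, classInner (fun h : H => (χ : G → ℂ) h) (ψ : H → ℂ) ≠ 0 := by
  classical
  haveI : Fintype (IrrCharacter H) := Fintype.ofFinite _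
  have hres : IsCharacter H (fun h : H => (χ : G → ℂ) h) :=
    helper4.isCharacter_restrict H (helper4.isCharacter_of_isIrrCharacter χ.2)
  obtain ⟨N, hN1, -, hN3⟩ := exists_nat_decomp hres
  by_contra hcon
  push Not at hcon
  have h0 : ∀ ψ : IrrCharacter H, N ψ = 0 := by
    intro ψ
    have := hN1 ψ
    rw [hcon ψ] at this
    exact_mod_cast this.symm
  have h1 : (χ : G → ℂ) ((1 : H) : G) = (charDegree (χ : G → ℂ) : ℂ) := irr_one_eq χ
  have h2 : (charDegree (χ : G → ℂ) : ℂ) =
      ((∑ ψ : IrrCharacter H, N ψ * charDegree (ψ : H → ℂ) : ℕ) : ℂ) := by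
    rw [← h1]; exact hN3
  have h3 : charDegree (χ : G → ℂ) = ∑ ψ : IrrCharacter H, N ψ * charDegree (ψ : H → ℂ) := by
    exact_mod_cast h2
  simp only [h0, zero_mul, Finset.sum_const_zero] at h3
  have := irr_charDegree_pos χ
  omega

/-- Over a normal subgroup of prime index `p`, the degree of `χ` is `ψ(1)` or `p * ψ(1)`. -/
theorem deg_of_over_prime_index {p : ℕ} (hp : p.Prime) (hidx : M.index = p) (χ : IrrCharacter G)
    (ψ : IrrCharacter M)
    (hcon : classInner (fun n : M => (χ : G → ℂ) n) (ψ : M → ℂ) ≠ 0) :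
    charDegree (χ : G → ℂ) = charDegree (ψ : M → ℂ) ∨
      charDegree (χ : G → ℂ) = p * charDegree (ψ : M → ℂ) := by
  obtain ⟨k, hk, hχ1⟩ := degree_quot_dvd_index M χ.2 ψ.2 hcon
  rw [irr_one_eq χ, irr_one_eq ψ] at hχ1
  have h : charDegree (χ : G → ℂ) = k * charDegree (ψ : M → ℂ) := by exact_mod_cast hχ1
  rw [hidx] at hk
  rcases (Nat.dvd_prime hp).mp hk with rfl | rfl
  · left; rw [h, one_mul]
  · right; exact h

/-- If `χ` lies over `ψ` and has the same degree, then `ψ` is invariant. -/
theorem inv_of_deg_eq (χ : IrrCharacter G) (ψ : IrrCharacter M)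
    (hcon : classInner (fun n : M => (χ : G → ℂ) n) (ψ : M → ℂ) ≠ 0)
    (hdeg : charDegree (χ : G → ℂ) = charDegree (ψ : M → ℂ)) :
    ∀ g : G, cconj M g (ψ : M → ℂ) = (ψ : M → ℂ) := by
  classical
  haveI : Fintype (IrrCharacter M) := Fintype.ofFinite _
  obtain ⟨e, he⟩ := helper4.exists_nat_classInner_irr
    (helper4.isCharacter_restrict M (helper4.isCharacter_of_isIrrCharacter χ.2)) ψ.2
  have he0 : e ≠ 0 := by
    rintro rfl
    apply hcon
    rw [he]; simp
  have h1 := clifford_degree M χ.2 ψ.2 e he he0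
  rw [irr_one_eq χ, irr_one_eq ψ, hdeg] at h1
  have h2 : charDegree (ψ : M → ℂ) =
      e * (inertia M (ψ : M → ℂ)).index * charDegree (ψ : M → ℂ) := by
    exact_mod_cast h1
  have hpos := irr_charDegree_pos ψ
  have h3 : e * (inertia M (ψ : M → ℂ)).index = 1 := by
    have h : 1 * charDegree (ψ : M → ℂ) =
        (e * (inertia M (ψ : M → ℂ)).index) * charDegree (ψ : M → ℂ) := by
      rw [one_mul]; exact h2
    exact (Nat.eq_of_mul_eq_mul_right hpos h).symm
  have h4 : (inertia M (ψ : M → ℂ)).index = 1 := Nat.eq_one_of_mul_eq_one_left h3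
  have h5 : inertia M (ψ : M → ℂ) = ⊤ := Subgroup.index_eq_one.mp h4
  intro g
  have hg : g ∈ inertia M (ψ : M → ℂ) := by rw [h5]; exact Subgroup.mem_top g
  exact (mem_inertia M _ g).mp hg

/-- Over a normal subgroup of prime index, an invariant `ψ` only has extensions above it. -/
theorem deg_eq_of_inv_prime_index (hidx : M.index.Prime) (χ : IrrCharacter G)
    (ψ : IrrCharacter M)
    (hcon : classInner (fun n : M => (χ : G → ℂ) n) (ψ : M → ℂ) ≠ 0)
    (hinv : ∀ g : G, cconj M g (ψ : M → ℂ) = (ψ : M → ℂ)) :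
    charDegree (χ : G → ℂ) = charDegree (ψ : M → ℂ) := by
  classical
  haveI : Fintype (IrrCharacter M) := Fintype.ofFinite _
  obtain ⟨e, he⟩ := helper4.exists_nat_classInner_irr
    (helper4.isCharacter_restrict M (helper4.isCharacter_of_isIrrCharacter χ.2)) ψ.2
  have he0 : e ≠ 0 := by
    rintro rfl
    apply hcon
    rw [he]; simp
  have hval := clifford_invariant M χ.2 ψ.2 hinv e he he0
  have hcyc : IsCyclic (G ⧸ M) := by
    haveI := Fact.mk hidx
    exact isCyclic_of_prime_card (p := M.index) (Subgroup.index_eq_card M).symm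
  have h1 := ramification_eq_one_of_cyclic M hcyc ψ.2 hinv χ.2 e hval
  have h2 := hval 1
  rw [h1] at h2
  have h3 : (χ : G → ℂ) 1 = (ψ : M → ℂ) 1 := by simpa using h2
  rw [irr_one_eq χ, irr_one_eq ψ] at h3
  exact_mod_cast h3

/-- If all nonlinear irreducible characters of the normal subgroup `M` are `G`-invariant but
some linear character is not, then a fixed prime divides all nonlinear degrees of `M`. -/
theorem exists_prime_dvd_nonlinear (lam : IrrCharacter M)
    (hlam : charDegree (lam : M → ℂ) = 1) (g : G)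
    (hg : cconj M g (lam : M → ℂ) ≠ (lam : M → ℂ))
    (hinv : ∀ ψ : IrrCharacter M, charDegree (ψ : M → ℂ) ≠ 1 →
      ∀ x : G, cconj M x (ψ : M → ℂ) = (ψ : M → ℂ)) :
    ∃ l : ℕ, l.Prime ∧
      ∀ ψ : IrrCharacter M, charDegree (ψ : M → ℂ) ≠ 1 → l ∣ charDegree (ψ : M → ℂ) := by
  classical
  have hlam1 : (lam : M → ℂ) 1 = 1 := by rw [irr_one_eq lam, hlam]; simp
  obtain ⟨f, hf⟩ := helper19.exists_hom_of_linear (lam : M → ℂ)
    (helper4.isCharacter_of_isIrrCharacter lam.2) hlam1
  let μ : M →* ℂˣ := (f.comp (MulAut.conjNormal (g⁻¹ : G) : M ≃* M).toMonoidHom) / f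
  set L : Subgroup M := μ.ker with hL
  have hmemL : ∀ x : M, x ∈ L ↔ cconj M g (lam : M → ℂ) x = (lam : M → ℂ) x := by
    intro x
    rw [hL, MonoidHom.mem_ker, cconj_def, hf, hf]
    show f (MulAut.conjNormal g⁻¹ x) / f x = 1 ↔ _
    rw [div_eq_one]
    exact ⟨fun h => by rw [h], fun h => Units.ext h⟩
  have hLtop : L ≠ ⊤ := by
    intro h
    apply hg
    funext x
    exact (hmemL x).mp (by rw [h]; exact Subgroup.mem_top x)
  have hidx : L.index ≠ 1 := fun h => hLtop (Subgroup.index_eq_one.mp h)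
  obtain ⟨l, hl, hldvd⟩ := Nat.exists_prime_and_dvd hidx
  refine ⟨l, hl, fun ψ hψ => ?_⟩
  apply prime_dvd_deg_of_vanish L ψ _ hl hldvd
  intro x hx
  have hprod : IsIrrCharacter M ((ψ : M → ℂ) * (lam : M → ℂ)) :=
    helper19.isIrr_mul_linear (ψ : M → ℂ) (lam : M → ℂ) ψ.2 lam.2 hlam1
  have hproddeg : charDegree ((ψ : M → ℂ) * (lam : M → ℂ)) ≠ 1 := by
    have : charDegree ((ψ : M → ℂ) * (lam : M → ℂ)) = charDegree (ψ : M → ℂ) := by
      unfold charDegree
      rw [Pi.mul_apply, hlam1, mul_one]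
    rw [this]; exact hψ
  have h1 := hinv ⟨_, hprod⟩ hproddeg g
  have h2 := hinv ψ hψ g
  have h3 : (ψ : M → ℂ) (MulAut.conjNormal g⁻¹ x) * (lam : M → ℂ) (MulAut.conjNormal g⁻¹ x) =
      (ψ : M → ℂ) x * (lam : M → ℂ) x := congrFun h1 x
  have h4 : (ψ : M → ℂ) (MulAut.conjNormal g⁻¹ x) = (ψ : M → ℂ) x := congrFun h2 x
  rw [h4] at h3
  have hne : cconj M g (lam : M → ℂ) x ≠ (lam : M → ℂ) x := fun h => hx ((hmemL x).mpr h)
  rw [cconj_def] at hne
  by_contra hψx
  exact hne (mul_left_cancel₀ hψx h3)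

end PrimeIndex

end Cfsg.Agent.Lib.helper82
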