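import Mathlib
import Cfsg.Prelude.Def_Characters
import Cfsg.Prelude.Def_Blocks
import Cfsg.Prelude.Def_DegreeGraph
import Cfsg.Agent.Lib.helper82.DegGraphA

/-!
# Character degree graphs of solvable groups, part B (helper82)

The character degree graph of a finite solvable group has at most two connected components.
The proof is by induction along a normal subgroup `M` of prime index `p`: the degree primes of
`G` are those of `M` together with possibly `p`, and the graph of `M` embeds in that of `G`.
If three primes were pairwise unjoined in the graph of `G`, then `p` is an isolated new vertex;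
so every nonlinear irreducible character of `M` is `G`-invariant while some linear one is not,
and then a fixed prime divides all nonlinear degrees of `M`, making the graph of `M` connected.

* `ThreeReach`: among any three vertices of the degree graph two are joined by a path.
* `threeReach_of_prime_index`: the inductive step.
* `threeReach_of_solvable`: the property for all finite solvable groups.
* `card_cc_le_two`: the property gives at most two connected components.
-/

set_option autoImplicit false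
set_option linter.style.haveILetI false
set_option linter.unusedSectionVars false

namespace Cfsg.Agent.Lib.helper82

open Module Cfsg
open Cfsg.Agent.Lib

universe u

/-- Among any three vertices of the degree graph, two are joined by a path. -/
def ThreeReach (H : Type u) [Group H] : Prop :=
  ∀ a b c : ↥(degreePrimes H),
    ((degreeGraph H).induce (degreePrimes H)).Reachable a b ∨
    ((degreeGraph H).induce (degreePrimes H)).Reachable a c ∨
    ((degreeGraph H).induce (degreePrimes H)).Reachable b c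

theorem reachable_of_eq {V : Type*} (Γ : SimpleGraph V) {x y : V} (h : x = y) :
    Γ.Reachable x y := by
  subst h
  exact SimpleGraph.Reachable.refl _

/-- A graph in which among any three vertices two are joined has at most two connected
components. -/
theorem card_cc_le_two {V : Type*} (Γ : SimpleGraph V)
    (h : ∀ a b c : V, Γ.Reachable a b ∨ Γ.Reachable a c ∨ Γ.Reachable b c) :
    Nat.card Γ.ConnectedComponent ≤ 2 := by
  by_contra hcon
  push Not at hcon
  haveI : Finite Γ.ConnectedComponent := Nat.finite_of_card_ne_zero (by omega)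
  haveI : Fintype Γ.ConnectedComponent := Fintype.ofFinite _
  rw [Nat.card_eq_fintype_card] at hcon
  obtain ⟨x, y, z, hxy, hxz, hyz⟩ := Fintype.two_lt_card_iff.mp hcon
  induction x using SimpleGraph.ConnectedComponent.ind with | _ a => ?_
  induction y using SimpleGraph.ConnectedComponent.ind with | _ b => ?_
  induction z using SimpleGraph.ConnectedComponent.ind with | _ c => ?_
  rcases h a b c with h1 | h1 | h1
  · exact hxy (SimpleGraph.ConnectedComponent.sound h1)
  · exact hxz (SimpleGraph.ConnectedComponent.sound h1)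
  · exact hyz (SimpleGraph.ConnectedComponent.sound h1)

section Step

variable {G : Type u} [Group G] [Finite G] (M : Subgroup G) [hM : M.Normal]

theorem degreePrimes_sub_of_prime_index {p : ℕ} (hp : p.Prime) (hidx : M.index = p) :
    degreePrimes M ⊆ degreePrimes G := by
  classical
  haveI : Fintype G := Fintype.ofFinite G
  haveI : Fintype M := Fintype.ofFinite M
  rintro s ⟨hs, d, ⟨ψ, rfl⟩, hsd⟩
  obtain ⟨χ, hχ, hcon⟩ := exists_irr_over M ψ.2
  refine ⟨hs, _, ⟨⟨χ, hχ⟩, rfl⟩, ?_⟩
  rcases deg_of_over_prime_index M hp hidx ⟨χ, hχ⟩ ψ hcon with h | h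
  · rw [h]; exact hsd
  · rw [h]; exact dvd_mul_of_dvd_right hsd p

theorem degreeGraph_adj_of_prime_index {p : ℕ} (hp : p.Prime) (hidx : M.index = p) {s t : ℕ}
    (h : (degreeGraph M).Adj s t) : (degreeGraph G).Adj s t := by
  classical
  haveI : Fintype G := Fintype.ofFinite G
  haveI : Fintype M := Fintype.ofFinite M
  obtain ⟨hne, hs, ht, d, ⟨ψ, rfl⟩, hd⟩ := h
  obtain ⟨χ, hχ, hcon⟩ := exists_irr_over M ψ.2
  refine ⟨hne, hs, ht, _, ⟨⟨χ, hχ⟩, rfl⟩, ?_⟩
  rcases deg_of_over_prime_index M hp hidx ⟨χ, hχ⟩ ψ hcon with h | h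
  · rw [h]; exact hd
  · rw [h]; exact dvd_mul_of_dvd_right hd p

theorem mem_degreePrimes_sub_or_eq {p : ℕ} (hp : p.Prime) (hidx : M.index = p) {s : ℕ}
    (h : s ∈ degreePrimes G) : s ∈ degreePrimes M ∨ s = p := by
  classical
  haveI : Fintype G := Fintype.ofFinite G
  haveI : Fintype M := Fintype.ofFinite M
  obtain ⟨hs, d, ⟨χ, rfl⟩, hsd⟩ := h
  obtain ⟨ψ, hcon⟩ := exists_irr_under M χ
  rcases deg_of_over_prime_index M hp hidx χ ψ hcon with h | h
  · left; exact ⟨hs, _, ⟨ψ, rfl⟩, h ▸ hsd⟩
  · rw [h] at hsd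
    rcases (Nat.Prime.dvd_mul hs).mp hsd with h1 | h1
    · right; exact (Nat.prime_dvd_prime_iff_eq hs hp).mp h1
    · left; exact ⟨hs, _, ⟨ψ, rfl⟩, h1⟩

theorem reachable_of_prime_index {p : ℕ} (hp : p.Prime) (hidx : M.index = p)
    (s t : ↥(degreePrimes M)) (hs : (s : ℕ) ∈ degreePrimes G) (ht : (t : ℕ) ∈ degreePrimes G)
    (h : ((degreeGraph M).induce (degreePrimes M)).Reachable s t) :
    ((degreeGraph G).induce (degreePrimes G)).Reachable ⟨s, hs⟩ ⟨t, ht⟩ := by
  have hsub := degreePrimes_sub_of_prime_index M hp hidx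
  let φ : ((degreeGraph M).induce (degreePrimes M)) →g
      ((degreeGraph G).induce (degreePrimes G)) :=
    ⟨fun x => ⟨x.1, hsub x.2⟩, fun {x y} hxy => degreeGraph_adj_of_prime_index M hp hidx hxy⟩
  exact h.map φ

theorem threeReach_key {p : ℕ} (hp : p.Prime) (hidx : M.index = p) (hTM : ThreeReach M)
    (hpM : p ∉ degreePrimes M)
    (a b : ↥(degreePrimes M)) (c : ↥(degreePrimes G)) (hc : (c : ℕ) = p)
    (ha' : (a : ℕ) ∈ degreePrimes G) (hb' : (b : ℕ) ∈ degreePrimes G)
    (h1 : ¬ ((degreeGraph G).induce (degreePrimes G)).Reachable ⟨a, ha'⟩ ⟨b, hb'⟩)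
    (h2 : ¬ ((degreeGraph G).induce (degreePrimes G)).Reachable ⟨a, ha'⟩ c)
    (h3 : ¬ ((degreeGraph G).induce (degreePrimes G)).Reachable ⟨b, hb'⟩ c) : False := by
  classical
  haveI : Fintype G := Fintype.ofFinite G
  haveI : Fintype M := Fintype.ofFinite M
  have hsub := degreePrimes_sub_of_prime_index M hp hidx
  have hmap : ∀ s t : ↥(degreePrimes M),
      ((degreeGraph M).induce (degreePrimes M)).Reachable s t →
      ((degreeGraph G).induce (degreePrimes G)).Reachable ⟨s, hsub s.2⟩ ⟨t, hsub t.2⟩ :=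
    fun s t h => reachable_of_prime_index M hp hidx s t _ _ h
  have hK1 : ∀ s : ↥(degreePrimes M),
      ((degreeGraph G).induce (degreePrimes G)).Reachable ⟨a, ha'⟩ ⟨s, hsub s.2⟩ ∨
      ((degreeGraph G).induce (degreePrimes G)).Reachable ⟨b, hb'⟩ ⟨s, hsub s.2⟩ := by
    intro s
    rcases hTM a b s with h | h | h
    · exact absurd (hmap a b h) h1
    · left; exact hmap a s h
    · right; exact hmap b s h
  have hK2 : ∀ χ : IrrCharacter G, p ∣ charDegree (χ : G → ℂ) →
      ∀ s : ℕ, s.Prime → s ∣ charDegree (χ : G → ℂ) → s = p := by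
    intro χ hpχ s hs hsχ
    by_contra hne
    have hsG : s ∈ degreePrimes G := ⟨hs, _, ⟨χ, rfl⟩, hsχ⟩
    have hsM : s ∈ degreePrimes M :=
      (mem_degreePrimes_sub_or_eq M hp hidx hsG).resolve_right hne
    have hadj : ((degreeGraph G).induce (degreePrimes G)).Adj ⟨s, hsub hsM⟩ c := by
      show (degreeGraph G).Adj s (c : ℕ)
      rw [hc]
      exact ⟨hne, hs, hp, _, ⟨χ, rfl⟩,
        Nat.Coprime.mul_dvd_of_dvd_of_dvd ((Nat.coprime_primes hs hp).mpr hne) hsχ hpχ⟩
    rcases hK1 ⟨s, hsM⟩ with h | h
    · exact h2 (h.trans hadj.reachable)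
    · exact h3 (h.trans hadj.reachable)
  have hK3 : ∀ ψ : IrrCharacter M, charDegree (ψ : M → ℂ) ≠ 1 →
      ∀ g : G, cconj M g (ψ : M → ℂ) = (ψ : M → ℂ) := by
    intro ψ hψ
    obtain ⟨χ, hχ, hcon⟩ := exists_irr_over M ψ.2
    rcases deg_of_over_prime_index M hp hidx ⟨χ, hχ⟩ ψ hcon with h | h
    · exact inv_of_deg_eq M ⟨χ, hχ⟩ ψ hcon h
    · exfalso
      obtain ⟨s, hs, hsψ⟩ := Nat.exists_prime_and_dvd hψ
      have hsM : s ∈ degreePrimes M := ⟨hs, _, ⟨ψ, rfl⟩, hsψ⟩
      have hsp : s = p := hK2 ⟨χ, hχ⟩ (by rw [h]; exact dvd_mul_right p _) s hs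
        (by rw [h]; exact dvd_mul_of_dvd_right hsψ p)
      exact hpM (hsp ▸ hsM)
  obtain ⟨lam, hlam, g, hg⟩ : ∃ lam : IrrCharacter M, charDegree (lam : M → ℂ) = 1 ∧
      ∃ g : G, cconj M g (lam : M → ℂ) ≠ (lam : M → ℂ) := by
    obtain ⟨-, d, ⟨χ, rfl⟩, hpd⟩ := c.2
    rw [hc] at hpd
    obtain ⟨ψ, hcon⟩ := exists_irr_under M χ
    have hψp : ¬ p ∣ charDegree (ψ : M → ℂ) := fun h => hpM ⟨hp, _, ⟨ψ, rfl⟩, h⟩
    rcases deg_of_over_prime_index M hp hidx χ ψ hcon with h | h
    · exact absurd (h ▸ hpd) hψp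
    · have hψ1 : charDegree (ψ : M → ℂ) = 1 := by
        by_contra hne
        obtain ⟨s, hs, hsψ⟩ := Nat.exists_prime_and_dvd hne
        have hsp : s = p := hK2 χ hpd s hs (by rw [h]; exact dvd_mul_of_dvd_right hsψ p)
        exact hψp (hsp ▸ hsψ)
      refine ⟨ψ, hψ1, ?_⟩
      by_contra hinv
      push Not at hinv
      have h5 := deg_eq_of_inv_prime_index M (hidx ▸ hp) χ ψ hcon hinv
      rw [h, hψ1] at h5
      have := hp.one_lt
      omega
  obtain ⟨l, hl, hldvd⟩ := exists_prime_dvd_nonlinear M lam hlam g hg hK3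
  have hjoin : ∀ s : ↥(degreePrimes M), ∃ hlM : l ∈ degreePrimes M,
      ((degreeGraph M).induce (degreePrimes M)).Reachable s ⟨l, hlM⟩ := by
    intro s
    obtain ⟨hs, d, ⟨ψ, rfl⟩, hsd⟩ := s.2
    have hψ1 : charDegree (ψ : M → ℂ) ≠ 1 := by
      intro h1
      rw [h1] at hsd
      exact hs.one_lt.ne' (Nat.dvd_one.mp hsd)
    have hlψ := hldvd ψ hψ1
    have hlM : l ∈ degreePrimes M := ⟨hl, _, ⟨ψ, rfl⟩, hlψ⟩
    refine ⟨hlM, ?_⟩
    by_cases hsl : (s : ℕ) = l
    · exact reachable_of_eq _ (Subtype.ext hsl)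
    · have hadj : ((degreeGraph M).induce (degreePrimes M)).Adj s ⟨l, hlM⟩ := by
        show (degreeGraph M).Adj (s : ℕ) l
        exact ⟨hsl, hs, hl, _, ⟨ψ, rfl⟩,
          Nat.Coprime.mul_dvd_of_dvd_of_dvd ((Nat.coprime_primes hs hl).mpr hsl) hsd hlψ⟩
      exact hadj.reachable
  obtain ⟨hlM, ra⟩ := hjoin a
  obtain ⟨hlM', rb⟩ := hjoin b
  exact h1 (hmap a b (ra.trans rb.symm))

/-- The inductive step along a normal subgroup of prime index. -/
theorem threeReach_of_prime_index {p : ℕ} (hp : p.Prime) (hidx : M.index = p)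
    (hTM : ThreeReach M) : ThreeReach G := by
  intro a b c
  by_contra hcon
  push Not at hcon
  obtain ⟨hab, hac, hbc⟩ := hcon
  have hor := fun s : ↥(degreePrimes G) => mem_degreePrimes_sub_or_eq M hp hidx s.2
  by_cases ha : (a : ℕ) ∈ degreePrimes M
  · by_cases hb : (b : ℕ) ∈ degreePrimes M
    · by_cases hc : (c : ℕ) ∈ degreePrimes M
      · rcases hTM ⟨a, ha⟩ ⟨b, hb⟩ ⟨c, hc⟩ with h | h | h
        · exact hab (reachable_of_prime_index M hp hidx _ _ a.2 b.2 h)
        · exact hac (reachable_of_prime_index M hp hidx _ _ a.2 c.2 h)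
        · exact hbc (reachable_of_prime_index M hp hidx _ _ b.2 c.2 h)
      · have hcp : (c : ℕ) = p := (hor c).resolve_left hc
        exact threeReach_key M hp hidx hTM (hcp ▸ hc) ⟨a, ha⟩ ⟨b, hb⟩ c hcp a.2 b.2 hab hac hbc
    · have hbp : (b : ℕ) = p := (hor b).resolve_left hb
      have hc : (c : ℕ) ∈ degreePrimes M := by
        by_contra hc
        have hcp : (c : ℕ) = p := (hor c).resolve_left hc
        exact hbc (reachable_of_eq _ (Subtype.ext (hbp.trans hcp.symm)))
      exact threeReach_key M hp hidx hTM (hbp ▸ hb) ⟨a, ha⟩ ⟨c, hc⟩ b hbp a.2 c.2 hac hab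
        (fun h => hbc h.symm)
  · have hap : (a : ℕ) = p := (hor a).resolve_left ha
    have hb : (b : ℕ) ∈ degreePrimes M := by
      by_contra hb
      have hbp : (b : ℕ) = p := (hor b).resolve_left hb
      exact hab (reachable_of_eq _ (Subtype.ext (hap.trans hbp.symm)))
    have hc : (c : ℕ) ∈ degreePrimes M := by
      by_contra hc
      have hcp : (c : ℕ) = p := (hor c).resolve_left hc
      exact hac (reachable_of_eq _ (Subtype.ext (hap.trans hcp.symm)))
    exact threeReach_key M hp hidx hTM (hap ▸ ha) ⟨b, hb⟩ ⟨c, hc⟩ a hap b.2 c.2 hbc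
      (fun h => hab h.symm) (fun h => hac h.symm)

end Step

section Main

theorem threeReach_of_solvable_aux : ∀ n : ℕ, ∀ (G : Type u) [Group G] [Finite G]
    [Group.IsSolvable G], Nat.card G = n → ThreeReach G := by
  intro n
  induction n using Nat.strong_induction_on with
  | _ n ih =>
  intro G _ _ _ hn
  by_cases hcomm : commutator G = ⊤
  · have hsub : Subsingleton G := by
      by_contra hns
      rw [not_subsingleton_iff_nontrivial] at hns
      haveI := hns
      exact (Group.IsSolvable.commutator_lt_top_of_nontrivial G).ne hcomm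
    intro a b c
    exfalso
    obtain ⟨ha, d, ⟨χ, rfl⟩, had⟩ := a.2
    have h1 : charDegree (χ : G → ℂ) ∣ Nat.card G := irr_degree_dvd_card χ
    have h2 : Nat.card G = 1 := Nat.card_of_subsingleton (1 : G)
    rw [h2] at h1
    have h3 := Nat.dvd_one.mp (dvd_trans had h1)
    exact ha.one_lt.ne' h3
  · obtain ⟨M, hMn, -, hMp⟩ := exists_normal_prime_index hcomm
    haveI := hMn
    have hlt : Nat.card M < Nat.card G := by
      have h1 : Nat.card M * M.index = Nat.card G := Subgroup.card_mul_index M
      have h2 := hMp.one_lt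
      have h3 : 0 < Nat.card M := Nat.card_pos
      nlinarith
    have hTM : ThreeReach M := ih (Nat.card M) (hn ▸ hlt) M rfl
    exact threeReach_of_prime_index M hMp rfl hTM

/-- Among any three primes dividing irreducible character degrees of a finite solvable group,
two are joined by a path in the character degree graph. -/
theorem threeReach_of_solvable (G : Type u) [Group G] [Finite G] [Group.IsSolvable G] :
    ThreeReach G :=
  threeReach_of_solvable_aux (Nat.card G) G rfl

/-- The character degree graph of a finite solvable group has at most two connected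
components. -/
theorem degreeGraph_cc_le_two (G : Type u) [Group G] [Finite G] [Group.IsSolvable G] :
    Nat.card ((degreeGraph G).induce (degreePrimes G)).ConnectedComponent ≤ 2 :=
  card_cc_le_two _ (threeReach_of_solvable G)

end Main

end Cfsg.Agent.Lib.helper82
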