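import Mathlib
import Cfsg.Prelude.Def_Characters
import Cfsg.Prelude.Def_Blocks
import Cfsg.Agent.Lib.helper82.Ramification

/-!
# Fully ramified characters and Sylow subgroups (helper82)

`Z` a normal subgroup of the finite group `H`, `χ ∈ Irr(H)` with `χ|Z = e θ`, `θ ∈ Irr(Z)`,
`e ^ 2 = |H : Z|`.

* `fr_invariant`: `θ` is invariant in `H`;
* `fr_unique`: `χ` is the only irreducible character of `H` over `θ`;
* `fr_unique_over`: if `Z ≤ S`, `|S : Z|` is a power of `p` and `p ∤ |H : S|`, then `S` has at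
  most one irreducible character over `θ`.
-/

set_option autoImplicit false
set_option linter.style.haveILetI false
set_option linter.unusedSectionVars false

namespace Cfsg.Agent.Lib.helper82

open Module Cfsg
open Cfsg.Agent.Lib
open Cfsg.Agent.Lib.helper83
open scoped ComplexConjugate

universe u

section Over

variable {G : Type u} [Group G] [Fintype G] (N : Subgroup G) [hN : N.Normal] [Fintype N]
  (T : Subgroup G) [Fintype T]

/-- "Lying over" is transitive: if `χ` (a character of `G`) has the irreducible constituent `μ`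
on `T` and `μ` has the irreducible constituent `θ` on `N ≤ T`, then `χ|N` contains `θ`. -/
theorem fr_over_trans (hNT : N ≤ T) {χ : G → ℂ} (hχ : IsCharacter G χ) {μ : T → ℂ}
    (hμ : IsIrrCharacter T μ) {θ : N → ℂ} (hθ : IsIrrCharacter N θ)
    (h1 : classInner (fun t : T => χ t) μ ≠ 0)
    (h2 : classInner (fun n : N => μ ⟨n, hNT n.2⟩) θ ≠ 0) :
    classInner (fun n : N => χ n) θ ≠ 0 := by
  classical
  haveI : Fintype (IrrCharacter T) := Fintype.ofFinite _
  rw [classInner_restrict_trans N T hNT (helper4.isClassFunction_of_isCharacter hχ) θ]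
  have hnat : ∀ ψ : IrrCharacter T, ∃ k : ℕ,
      classInner (fun t : T => χ t) (ψ : T → ℂ) *
        classInner (fun n : N => (ψ : T → ℂ) ⟨n, hNT n.2⟩) θ = k := by
    intro ψ
    obtain ⟨a, ha⟩ := helper4.exists_nat_classInner_irr (helper4.isCharacter_restrict T hχ) ψ.2
    obtain ⟨b, hb⟩ := helper4.exists_nat_classInner_irr
      (isCharacter_restrict_le N T hNT (isCharacter_of_irr ψ.2)) hθ
    exact ⟨a * b, by rw [ha, hb]; push_cast; ring⟩
  choose k hk using hnat
  rw [Finset.sum_congr rfl (fun ψ _ => hk ψ)]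
  have hk0 : k ⟨μ, hμ⟩ ≠ 0 := by
    intro h0
    have := hk ⟨μ, hμ⟩
    rw [h0] at this
    simp only [Nat.cast_zero, mul_eq_zero] at this
    rcases this with h | h
    · exact h1 h
    · exact h2 h
  have hsum : (∑ ψ : IrrCharacter T, k ψ) ≠ 0 := by
    intro h0
    exact hk0 ((Finset.sum_eq_zero_iff.mp h0) ⟨μ, hμ⟩ (Finset.mem_univ _))
  exact_mod_cast hsum

end Over

section FR

variable {H : Type u} [Group H] [Fintype H] (Z : Subgroup H) [hZ : Z.Normal] [Fintype Z]

/-- A fully ramified (indeed any homogeneous) restriction has an invariant constituent. -/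
theorem fr_invariant {χ : H → ℂ} (hχ : IsIrrCharacter H χ) {θ : Z → ℂ} (e : ℕ) (he0 : e ≠ 0)
    (hres : ∀ z : Z, χ z = e * θ z) (g : H) : cconj Z g θ = θ := by
  have h1 : (fun z : Z => χ z) = (e : ℂ) • θ := by
    funext z
    simp [hres z]
  have h2 := cconj_restrict Z (helper4.isClassFunction_of_isIrrCharacter hχ) g
  rw [h1, cconj_smul] at h2
  funext z
  have h3 := congrFun h2 z
  simp only [Pi.smul_apply, smul_eq_mul] at h3
  have he : (e : ℂ) ≠ 0 := by exact_mod_cast he0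
  exact mul_left_cancel₀ he h3

/-- If `χ|Z = e θ` with `e ^ 2 = |H : Z|`, then `χ` is the only irreducible character of `H`
over `θ`. -/
theorem fr_unique {χ : H → ℂ} (hχ : IsIrrCharacter H χ) {θ : Z → ℂ} (hθ : IsIrrCharacter Z θ)
    (e : ℕ) (he : e ^ 2 = Z.index) (hres : ∀ z : Z, χ z = e * θ z) {χ' : H → ℂ}
    (hχ' : IsIrrCharacter H χ') (hov : classInner (fun z : Z => χ' z) θ ≠ 0) : χ' = χ := by
  classical
  haveI : Fintype (IrrCharacter H) := Fintype.ofFinite _
  by_contra hne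
  obtain ⟨M, hM1, -, hM3⟩ :=
    exists_nat_decomp (helper4.isCharacter_indFun Z (isCharacter_of_irr hθ))
  rw [helper4.indFun_one] at hM3
  have hθ1 : θ 1 = (charDegree θ : ℂ) := irr_one_eq_charDegree ⟨θ, hθ⟩
  have hχ1 : χ 1 = (charDegree χ : ℂ) := irr_one_eq_charDegree ⟨χ, hχ⟩
  have hdeg : charDegree χ = e * charDegree θ := by
    have h1 := hres 1
    have h2 : χ ((1 : Z) : H) = χ 1 := rfl
    rw [h2, hχ1, hθ1] at h1
    exact_mod_cast h1
  have hMχ : M ⟨χ, hχ⟩ = e := by
    have h1 := hM1 ⟨χ, hχ⟩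
    rw [helper4.frobenius_reciprocity Z θ (helper4.isClassFunction_of_isIrrCharacter hχ)] at h1
    have h2 : (fun z : Z => χ z) = (e : ℂ) • θ := by
      funext z
      simp [hres z]
    have h3 : classInner θ ((e : ℂ) • θ) = e := by
      rw [← helper4.classInner_conj_symm, helper4.classInner_smul_left,
        helper4.classInner_irr_self hθ]
      simp
    have h4 : ((M ⟨χ, hχ⟩ : ℕ) : ℂ) = (e : ℂ) := by
      rw [← h1]
      show classInner θ (fun z : Z => χ z) = e
      rw [h2, h3]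
    exact_mod_cast h4
  have hMχ' : M ⟨χ', hχ'⟩ ≠ 0 := by
    intro h0
    have h1 := hM1 ⟨χ', hχ'⟩
    rw [helper4.frobenius_reciprocity Z θ (helper4.isClassFunction_of_isIrrCharacter hχ'),
      h0] at h1
    apply hov
    rw [← helper4.classInner_conj_symm]
    show conj (classInner θ (fun z : Z => χ' z)) = 0
    rw [h1]; simp
  have hsum : Z.index * charDegree θ =
      ∑ ψ : IrrCharacter H, M ψ * charDegree (ψ : H → ℂ) := by
    rw [hθ1] at hM3
    exact_mod_cast hM3
  have hpair : M ⟨χ, hχ⟩ * charDegree χ + M ⟨χ', hχ'⟩ * charDegree χ' ≤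
      ∑ ψ : IrrCharacter H, M ψ * charDegree (ψ : H → ℂ) := by
    have hne' : (⟨χ, hχ⟩ : IrrCharacter H) ≠ ⟨χ', hχ'⟩ := by
      intro h
      exact hne (congrArg Subtype.val h).symm
    have := Finset.sum_le_sum_of_subset (f := fun ψ : IrrCharacter H =>
      M ψ * charDegree (ψ : H → ℂ))
      (Finset.subset_univ ({⟨χ, hχ⟩, ⟨χ', hχ'⟩} : Finset (IrrCharacter H)))
    rwa [Finset.sum_pair hne'] at this
  have hpos : 0 < charDegree χ' := charDegree_pos ⟨χ', hχ'⟩
  have h5 : M ⟨χ, hχ⟩ * charDegree χ = Z.index * charDegree θ := by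
    rw [hMχ, hdeg, ← he]; ring
  have h6 : 0 < M ⟨χ', hχ'⟩ * charDegree χ' := Nat.mul_pos (Nat.pos_of_ne_zero hMχ') hpos
  omega

end FR

section Syl

/-- The arithmetic behind the Sylow restriction of a fully ramified character. -/
theorem fr_arith (p : ℕ) (hp : p.Prime) (e s k f a : ℕ) (he : e ^ 2 = s * p ^ k) (hs : ¬ p ∣ s)
    (hf : s * f = a * e) (hf0 : f ≠ 0) : p ^ k ≤ f ^ 2 := by
  haveI := Fact.mk hp
  have hs0 : s ≠ 0 := fun h => hs (h ▸ dvd_zero p)
  have he0 : e ≠ 0 := by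
    rintro rfl
    have : s * p ^ k = 0 := by rw [← he]; simp
    rcases Nat.mul_eq_zero.mp this with h | h
    · exact hs0 h
    · exact (pow_ne_zero k hp.ne_zero) h
  have ha0 : a ≠ 0 := by
    rintro rfl
    have : s * f = 0 := by rw [hf]; simp
    rcases Nat.mul_eq_zero.mp this with h | h
    · exact hs0 h
    · exact hf0 h
  have h1 : 2 * padicValNat p e = k := by
    have := congrArg (padicValNat p) he
    rw [padicValNat.pow e 2, padicValNat.mul hs0 (pow_ne_zero k hp.ne_zero),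
      padicValNat.eq_zero_of_not_dvd hs, padicValNat.prime_pow, zero_add] at this
    exact this
  have h2 : padicValNat p f = padicValNat p a + padicValNat p e := by
    have := congrArg (padicValNat p) hf
    rw [padicValNat.mul hs0 hf0, padicValNat.mul ha0 he0, padicValNat.eq_zero_of_not_dvd hs,
      zero_add] at this
    exact this
  have h3 : p ^ padicValNat p e ∣ f :=
    dvd_trans (pow_dvd_pow p (by omega)) (pow_padicValNat_dvd (p := p) (n := f))
  have h4 : p ^ padicValNat p e ≤ f := Nat.le_of_dvd (Nat.pos_of_ne_zero hf0) h3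
  calc p ^ k = (p ^ padicValNat p e) ^ 2 := by rw [← pow_mul, mul_comm, h1]
    _ ≤ f ^ 2 := Nat.pow_le_pow_left h4 2

variable {H : Type u} [Group H] [Fintype H] (Z : Subgroup H) [hZ : Z.Normal] [Fintype Z]
  (S : Subgroup H) [Fintype S]

/-- For `ψ ∈ Irr(S)` over the fully ramified `θ`: `ψ|Z = f θ` and `|H : S| f = a e`. -/
theorem fr_sub_ram {χ : H → ℂ} (hχ : IsIrrCharacter H χ) {θ : Z → ℂ} (hθ : IsIrrCharacter Z θ)
    (e : ℕ) (he : e ^ 2 = Z.index) (hres : ∀ z : Z, χ z = e * θ z) (hZS : Z ≤ S)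
    {ψ : S → ℂ} (hψ : IsIrrCharacter S ψ)
    (hov : classInner (fun z : Z => ψ ⟨z, hZS z.2⟩) θ ≠ 0) :
    ∃ f a : ℕ, f ≠ 0 ∧ classInner (fun z : Z => ψ ⟨z, hZS z.2⟩) θ = f ∧
      charDegree ψ = f * charDegree θ ∧ S.index * f = a * e := by
  classical
  haveI : Fintype (IrrCharacter H) := Fintype.ofFinite _
  have hidx : Z.index ≠ 0 := Subgroup.index_ne_zero_of_finite
  have he0 : e ≠ 0 := by
    rintro rfl
    apply hidx
    rw [← he]; simp
  have hinv := fr_invariant Z hχ e he0 hres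
  obtain ⟨f, hf⟩ := helper4.exists_nat_classInner_irr
    (isCharacter_restrict_le Z S hZS (isCharacter_of_irr hψ)) hθ
  have hf0 : f ≠ 0 := by
    rintro rfl
    apply hov
    rw [hf]; simp
  have hval := clifford_invariant_rel Z S hZS hθ (fun g _ => hinv g) hψ f hf hf0
  have hθ1 : θ 1 = (charDegree θ : ℂ) := irr_one_eq_charDegree ⟨θ, hθ⟩
  have hχ1 : χ 1 = (charDegree χ : ℂ) := irr_one_eq_charDegree ⟨χ, hχ⟩
  have hψ1 : ψ 1 = (charDegree ψ : ℂ) := irr_one_eq_charDegree ⟨ψ, hψ⟩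
  have hdegψ : charDegree ψ = f * charDegree θ := by
    have h1 := hval 1
    have h2 : ψ ⟨((1 : Z) : H), hZS (1 : Z).2⟩ = ψ 1 := rfl
    rw [h2, hψ1, hθ1] at h1
    exact_mod_cast h1
  have hdegχ : charDegree χ = e * charDegree θ := by
    have h1 := hres 1
    have h2 : χ ((1 : Z) : H) = χ 1 := rfl
    rw [h2, hχ1, hθ1] at h1
    exact_mod_cast h1
  obtain ⟨M, hM1, -, hM3⟩ :=
    exists_nat_decomp (helper4.isCharacter_indFun S (isCharacter_of_irr hψ))
  rw [helper4.indFun_one, hψ1] at hM3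
  have hM0 : ∀ χ' : IrrCharacter H, χ' ≠ ⟨χ, hχ⟩ → M χ' = 0 := by
    intro χ' hne
    by_contra h0
    apply hne
    apply Subtype.ext
    refine fr_unique Z hχ hθ e he hres χ'.2 ?_
    refine fr_over_trans Z S hZS (isCharacter_of_irr χ'.2) hψ hθ ?_ hov
    have h1 := hM1 χ'
    rw [helper4.frobenius_reciprocity S ψ (helper4.isClassFunction_of_isIrrCharacter χ'.2)] at h1
    intro h2
    rw [← helper4.classInner_conj_symm, h2] at h1
    simp only [map_zero] at h1
    exact h0 (by exact_mod_cast h1.symm)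
  have hsum : ∑ ψ' : IrrCharacter H, M ψ' * charDegree (ψ' : H → ℂ) =
      M ⟨χ, hχ⟩ * charDegree χ := by
    rw [Finset.sum_eq_single (⟨χ, hχ⟩ : IrrCharacter H)]
    · intro b _ hb
      rw [hM0 b hb]; simp
    · intro h; exact absurd (Finset.mem_univ _) h
  rw [hsum] at hM3
  have h5 : S.index * charDegree ψ = M ⟨χ, hχ⟩ * charDegree χ := by exact_mod_cast hM3
  rw [hdegψ, hdegχ] at h5
  have hpos : 0 < charDegree θ := charDegree_pos ⟨θ, hθ⟩
  refine ⟨f, M ⟨χ, hχ⟩, hf0, hf, hdegψ, ?_⟩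
  have h6 : (S.index * f) * charDegree θ = (M ⟨χ, hχ⟩ * e) * charDegree θ := by
    rw [mul_assoc, h5, mul_assoc]
  exact Nat.eq_of_mul_eq_mul_right hpos h6

/-- If `θ ∈ Irr(Z)` is fully ramified in `H`, `Z ≤ S`, `|S : Z|` is a power of `p` and
`p ∤ |H : S|`, then `S` has at most one irreducible character over `θ`. -/
theorem fr_unique_over {χ : H → ℂ} (hχ : IsIrrCharacter H χ) {θ : Z → ℂ}
    (hθ : IsIrrCharacter Z θ) (e : ℕ) (he : e ^ 2 = Z.index) (hres : ∀ z : Z, χ z = e * θ z)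
    (hZS : Z ≤ S) (p : ℕ) (hp : p.Prime) (k : ℕ) (hk : Z.relIndex S = p ^ k)
    (hS : ¬ p ∣ S.index) {ψ ψ' : S → ℂ} (hψ : IsIrrCharacter S ψ) (hψ' : IsIrrCharacter S ψ')
    (h1 : classInner (fun z : Z => ψ ⟨z, hZS z.2⟩) θ ≠ 0)
    (h2 : classInner (fun z : Z => ψ' ⟨z, hZS z.2⟩) θ ≠ 0) : ψ = ψ' := by
  classical
  haveI : Fintype (IrrCharacter S) := Fintype.ofFinite _
  haveI : Fintype (Z.subgroupOf S) := Fintype.ofFinite _
  by_contra hne
  obtain ⟨f, a, hf0, hf, hdeg, hfa⟩ := fr_sub_ram Z S hχ hθ e he hres hZS hψ h1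
  obtain ⟨f', a', hf0', hf', hdeg', hfa'⟩ := fr_sub_ram Z S hχ hθ e he hres hZS hψ' h2
  have he2 : e ^ 2 = S.index * p ^ k := by
    rw [he, ← Subgroup.relIndex_mul_index hZS, hk]; ring
  have hb := fr_arith p hp e S.index k f a he2 hS hfa hf0
  have hb' := fr_arith p hp e S.index k f' a' he2 hS hfa' hf0'
  have hθ' := isIrrCharacter_subRes Z S hZS hθ
  obtain ⟨M, hM1, -, hM3⟩ :=
    exists_nat_decomp (helper4.isCharacter_indFun (Z.subgroupOf S) (isCharacter_of_irr hθ'))
  rw [helper4.indFun_one] at hM3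
  have hθ1 : θ 1 = (charDegree θ : ℂ) := irr_one_eq_charDegree ⟨θ, hθ⟩
  have h3 : subRes Z S θ 1 = θ 1 := rfl
  rw [h3, hθ1] at hM3
  have hidx : (Z.subgroupOf S).index = p ^ k := hk
  rw [hidx] at hM3
  have hMval : ∀ {η : S → ℂ} (hη : IsIrrCharacter S η) (g : ℕ),
      classInner (fun z : Z => η ⟨z, hZS z.2⟩) θ = g → M ⟨η, hη⟩ = g := by
    intro η hη g hg
    have h4 := hM1 ⟨η, hη⟩
    rw [helper4.frobenius_reciprocity (Z.subgroupOf S) (subRes Z S θ)
      (helper4.isClassFunction_of_isIrrCharacter hη)] at h4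
    have h5 : classInner (fun x : Z.subgroupOf S => η x) (subRes Z S θ) = g := by
      rw [← subRes_restrict Z S hZS η, classInner_subRes Z S hZS, hg]
    have h6 : ((M ⟨η, hη⟩ : ℕ) : ℂ) = g := by
      rw [← h4, ← helper4.classInner_conj_symm]
      show conj (classInner (fun x : Z.subgroupOf S => η x) (subRes Z S θ)) = g
      rw [h5]; simp
    exact_mod_cast h6
  have hMψ := hMval hψ f hf
  have hMψ' := hMval hψ' f' hf'
  have hsum : p ^ k * charDegree θ =
      ∑ η : IrrCharacter S, M η * charDegree (η : S → ℂ) := by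
    exact_mod_cast hM3
  have hpair : M ⟨ψ, hψ⟩ * charDegree ψ + M ⟨ψ', hψ'⟩ * charDegree ψ' ≤
      ∑ η : IrrCharacter S, M η * charDegree (η : S → ℂ) := by
    have hne' : (⟨ψ, hψ⟩ : IrrCharacter S) ≠ ⟨ψ', hψ'⟩ := by
      intro h
      exact hne (congrArg Subtype.val h)
    have := Finset.sum_le_sum_of_subset (f := fun η : IrrCharacter S =>
      M η * charDegree (η : S → ℂ))
      (Finset.subset_univ ({⟨ψ, hψ⟩, ⟨ψ', hψ'⟩} : Finset (IrrCharacter S)))
    rwa [Finset.sum_pair hne'] at this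
  rw [← hsum, hMψ, hMψ', hdeg, hdeg'] at hpair
  have hpos : 0 < charDegree θ := charDegree_pos ⟨θ, hθ⟩
  have hpk : 0 < p ^ k := pow_pos hp.pos k
  have h7 : f * (f * charDegree θ) = f ^ 2 * charDegree θ := by ring
  have h8 : f' * (f' * charDegree θ) = f' ^ 2 * charDegree θ := by ring
  rw [h7, h8, ← add_mul] at hpair
  have h9 := Nat.le_of_mul_le_mul_right hpair hpos
  omega

end Syl

end Cfsg.Agent.Lib.helper82
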