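import Mathlib
import Cfsg.Prelude.Def_Characters
import Cfsg.Prelude.Def_Blocks
import Cfsg.Agent.Lib.helper82.FullRamA

/-!
# Regular action on the characters over a uniquely covered character (helper82)

`Z ≤ L` normal subgroups of the finite group `G` with `G / L` cyclic, `θ ∈ Irr(Z)` such that `G`
has at most one irreducible character over `θ`.  Then `G` permutes the irreducible characters of
`L` over `θ` transitively (`conj_of_unique_over`) and with point stabilizer `L`
(`inertia_le_of_unique_over`).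
-/

set_option autoImplicit false
set_option linter.style.haveILetI false
set_option linter.unusedSectionVars false

namespace Cfsg.Agent.Lib.helper82

open Module Cfsg
open Cfsg.Agent.Lib
open Cfsg.Agent.Lib.helper83
open scoped ComplexConjugate

universe u

section Cyc

variable {G : Type u} [Group G] (L : Subgroup G) [hL : L.Normal] (T : Subgroup G)

/-- A subgroup of a group with cyclic quotient by `L` has cyclic quotient by its intersection
with `L`. -/
theorem isCyclic_quot_subgroupOf (hcyc : IsCyclic (G ⧸ L)) :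
    IsCyclic (T ⧸ L.subgroupOf T) := by
  let φ : T →* G ⧸ L := (QuotientGroup.mk' L).comp T.subtype
  have hker : φ.ker = L.subgroupOf T := by
    ext t
    rw [MonoidHom.mem_ker, Subgroup.mem_subgroupOf]
    show (QuotientGroup.mk' L) (t : G) = 1 ↔ _
    rw [QuotientGroup.mk'_apply, QuotientGroup.eq_one_iff]
  let f : T ⧸ L.subgroupOf T →* G ⧸ L :=
    (QuotientGroup.kerLift φ).comp (QuotientGroup.quotientMulEquivOfEq hker.symm).toMonoidHom
  have hf : Function.Injective f := by
    intro a b hab
    have h1 := QuotientGroup.kerLift_injective φ hab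
    exact (QuotientGroup.quotientMulEquivOfEq hker.symm).injective h1
  exact isCyclic_of_injective f hf

end Cyc

section Reg

variable {G : Type u} [Group G] [Fintype G] (Z : Subgroup G) [hZ : Z.Normal] [Fintype Z]
  (L : Subgroup G) [hL : L.Normal] [Fintype L]

/-- If `G` has at most one irreducible character over `θ ∈ Irr(Z)`, then the irreducible
characters of `L ≥ Z` over `θ` are conjugate in `G`. -/
theorem conj_of_unique_over (hZL : Z ≤ L) {θ : Z → ℂ} (hθ : IsIrrCharacter Z θ)
    (huniq : ∀ ψ ψ' : G → ℂ, IsIrrCharacter G ψ → IsIrrCharacter G ψ' →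
      classInner (fun z : Z => ψ z) θ ≠ 0 → classInner (fun z : Z => ψ' z) θ ≠ 0 → ψ = ψ')
    {μ μ' : L → ℂ} (hμ : IsIrrCharacter L μ) (hμ' : IsIrrCharacter L μ')
    (h1 : classInner (fun z : Z => μ ⟨z, hZL z.2⟩) θ ≠ 0)
    (h2 : classInner (fun z : Z => μ' ⟨z, hZL z.2⟩) θ ≠ 0) :
    ∃ x : G, μ' = cconj L x μ := by
  obtain ⟨ψ, hψ, hψμ⟩ := exists_irr_over L hμ
  obtain ⟨ψ', hψ', hψμ'⟩ := exists_irr_over L hμ'
  have e1 := fr_over_trans Z L hZL (isCharacter_of_irr hψ) hμ hθ hψμ h1
  have e2 := fr_over_trans Z L hZL (isCharacter_of_irr hψ') hμ' hθ hψμ' h2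
  have h3 := huniq ψ ψ' hψ hψ' e1 e2
  subst h3
  exact clifford_conj L hψ hμ hμ' hψμ hψμ'

/-- If `G` has at most one irreducible character over `θ ∈ Irr(Z)` and `G / L` is cyclic, then
the stabilizer in `G` of an irreducible character of `L` over `θ` is `L`. -/
theorem inertia_le_of_unique_over (hZL : Z ≤ L) (hcyc : IsCyclic (G ⧸ L)) {θ : Z → ℂ}
    (hθ : IsIrrCharacter Z θ)
    (huniq : ∀ ψ ψ' : G → ℂ, IsIrrCharacter G ψ → IsIrrCharacter G ψ' →
      classInner (fun z : Z => ψ z) θ ≠ 0 → classInner (fun z : Z => ψ' z) θ ≠ 0 → ψ = ψ')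
    {μ : L → ℂ} (hμ : IsIrrCharacter L μ)
    (h1 : classInner (fun z : Z => μ ⟨z, hZL z.2⟩) θ ≠ 0) : inertia L μ ≤ L := by
  classical
  haveI : Fintype (inertia L μ) := Fintype.ofFinite _
  haveI : Fintype (L.subgroupOf (inertia L μ)) := Fintype.ofFinite _
  haveI : Fintype (IrrCharacter (inertia L μ)) := Fintype.ofFinite _
  have hLT : L ≤ inertia L μ := le_inertia L (helper4.isClassFunction_of_isIrrCharacter hμ)
  -- uniqueness of the irreducible character of the inertia group over `μ`
  have hT1 : ∀ η η' : inertia L μ → ℂ, IsIrrCharacter (inertia L μ) η →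
      IsIrrCharacter (inertia L μ) η' →
      classInner (fun n : L => η ⟨n, hLT n.2⟩) μ ≠ 0 →
      classInner (fun n : L => η' ⟨n, hLT n.2⟩) μ ≠ 0 → η = η' := by
    intro η η' hη hη' e1 e2
    obtain ⟨i1, m1⟩ := clifford_corr_irr L (inertia L μ) hLT hμ rfl hη e1
    obtain ⟨i2, m2⟩ := clifford_corr_irr L (inertia L μ) hLT hμ rfl hη' e2
    have o1 : classInner (fun n : L => indFun (inertia L μ) η n) μ ≠ 0 := by rw [m1]; exact e1
    have o2 : classInner (fun n : L => indFun (inertia L μ) η' n) μ ≠ 0 := by rw [m2]; exact e2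
    have q1 := fr_over_trans Z L hZL (isCharacter_of_irr i1) hμ hθ o1 h1
    have q2 := fr_over_trans Z L hZL (isCharacter_of_irr i2) hμ hθ o2 h1
    exact clifford_corr_inj L (inertia L μ) hLT hμ rfl hη hη' e1 e2 (huniq _ _ i1 i2 q1 q2)
  have hcycT : IsCyclic (inertia L μ ⧸ L.subgroupOf (inertia L μ)) :=
    isCyclic_quot_subgroupOf L (inertia L μ) hcyc
  have hμ' := isIrrCharacter_subRes L (inertia L μ) hLT hμ
  have hinv : ∀ t : inertia L μ,
      cconj (L.subgroupOf (inertia L μ)) t (subRes L (inertia L μ) μ) =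
        subRes L (inertia L μ) μ := by
    intro t
    rw [cconj_subRes]
    congr 1
    exact (mem_inertia L μ t).mp t.2
  obtain ⟨η, hη, hηres⟩ :=
    exists_extension_of_cyclic (L.subgroupOf (inertia L μ)) hcycT hμ' hinv
  have hηfun : (fun x : L.subgroupOf (inertia L μ) => η x) = subRes L (inertia L μ) μ :=
    funext hηres
  have hημ : classInner (fun n : L => η ⟨n, hLT n.2⟩) μ = 1 := by
    rw [← classInner_subRes L (inertia L μ) hLT, subRes_restrict L (inertia L μ) hLT η, hηfun,
      helper4.classInner_irr_self hμ']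
  obtain ⟨M, hM1, -, hM3⟩ := exists_nat_decomp
    (helper4.isCharacter_indFun (L.subgroupOf (inertia L μ)) (isCharacter_of_irr hμ'))
  rw [helper4.indFun_one] at hM3
  have hMval : ∀ η' : IrrCharacter (inertia L μ),
      ((M η' : ℕ) : ℂ) = conj (classInner (fun n : L => (η' : inertia L μ → ℂ) ⟨n, hLT n.2⟩) μ) := by
    intro η'
    have h4 := hM1 η'
    rw [helper4.frobenius_reciprocity (L.subgroupOf (inertia L μ)) (subRes L (inertia L μ) μ)
      (helper4.isClassFunction_of_isIrrCharacter η'.2)] at h4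
    rw [← h4, ← classInner_subRes L (inertia L μ) hLT,
      subRes_restrict L (inertia L μ) hLT (η' : inertia L μ → ℂ), helper4.classInner_conj_symm]
  have hM0 : ∀ η' : IrrCharacter (inertia L μ), η' ≠ ⟨η, hη⟩ → M η' = 0 := by
    intro η' hne
    by_contra h0
    apply hne
    apply Subtype.ext
    refine hT1 η' η η'.2 hη ?_ ?_
    · intro h5
      have h6 := hMval η'
      rw [h5] at h6
      simp only [map_zero] at h6
      exact h0 (by exact_mod_cast h6)
    · rw [hημ]; exact one_ne_zero
  have hMη : M ⟨η, hη⟩ = 1 := by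
    have h6 := hMval ⟨η, hη⟩
    rw [hημ] at h6
    simp only [map_one] at h6
    exact_mod_cast h6
  have hsum : ∑ η' : IrrCharacter (inertia L μ), M η' * charDegree (η' : inertia L μ → ℂ) =
      M ⟨η, hη⟩ * charDegree η := by
    rw [Finset.sum_eq_single (⟨η, hη⟩ : IrrCharacter (inertia L μ))]
    · intro b _ hb
      rw [hM0 b hb]; simp
    · intro h; exact absurd (Finset.mem_univ _) h
  rw [hsum, hMη] at hM3
  have hη1 : η 1 = (charDegree η : ℂ) := irr_one_eq_charDegree ⟨η, hη⟩
  have hμ1 : μ 1 = (charDegree μ : ℂ) := irr_one_eq_charDegree ⟨μ, hμ⟩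
  have hdeg : charDegree η = charDegree μ := by
    have h7 := hηres 1
    have h8 : subRes L (inertia L μ) μ 1 = μ 1 := rfl
    have h9 : η ((1 : L.subgroupOf (inertia L μ)) : inertia L μ) = η 1 := rfl
    rw [h8, h9, hη1, hμ1] at h7
    exact_mod_cast h7
  have h10 : subRes L (inertia L μ) μ 1 = μ 1 := rfl
  rw [h10, hμ1, hdeg] at hM3
  have h11 : (L.subgroupOf (inertia L μ)).index * charDegree μ = 1 * charDegree μ := by
    exact_mod_cast hM3
  have hpos : 0 < charDegree μ := charDegree_pos ⟨μ, hμ⟩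
  have h12 : (L.subgroupOf (inertia L μ)).index = 1 := Nat.eq_of_mul_eq_mul_right hpos h11
  exact Subgroup.relIndex_eq_one.mp h12

end Reg

end Cfsg.Agent.Lib.helper82
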