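import Mathlib
import Cfsg.Prelude.Def_Characters
import Cfsg.Prelude.Def_Blocks
import Cfsg.Agent.Lib.helper82.FullRamB

/-!
# Group-theoretic tools for fully ramified sections (helper82)

* `complement_of_factor`: a `p'`-subgroup `M` with `Q = P₀ M` for a `p`-subgroup `P₀` is a
  complement of every Sylow `p`-subgroup;
* `relIndex_stabilizer_eq`: orbit-stabilizer comparison for two subgroups with the same orbit;
* `isCyclic_quot_of_map_le`;
* `ConjFun`, `ext0`: functions on a group with the conjugation action, extension by zero.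
-/

set_option autoImplicit false
set_option linter.style.haveILetI false
set_option linter.unusedSectionVars false

namespace Cfsg.Agent.Lib.helper82

open Module Cfsg
open Cfsg.Agent.Lib
open Cfsg.Agent.Lib.helper83
open scoped ComplexConjugate

universe u

/-- A subgroup `M` of order prime to `p` with `Q = P₀ M` for some `p`-subgroup `P₀` is a
complement of every Sylow `p`-subgroup of `Q`. -/
theorem complement_of_factor {Q : Type*} [Group Q] [Finite Q] (p : ℕ) [hp : Fact p.Prime]
    (P : Sylow p Q) (M P₀ : Subgroup Q) (hM : ¬ p ∣ Nat.card M) (hP₀ : IsPGroup p P₀)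
    (hfac : ∀ q : Q, ∃ x ∈ P₀, ∃ m ∈ M, q = x * m) : M.IsComplement' (P : Subgroup Q) := by
  have h1 : Nat.card Q ≤ Nat.card P₀ * Nat.card M := by
    rw [← Nat.card_prod]
    apply Nat.card_le_card_of_surjective (fun x : P₀ × M => (x.1 : Q) * (x.2 : Q))
    intro q
    obtain ⟨x, hx, m, hm, rfl⟩ := hfac q
    exact ⟨(⟨x, hx⟩, ⟨m, hm⟩), rfl⟩
  obtain ⟨R, hR⟩ := hP₀.exists_le_sylow
  have h2 : Nat.card P₀ ≤ Nat.card P := by
    have h3 := Nat.le_of_dvd Nat.card_pos (Subgroup.card_dvd_of_le hR)
    have h4 : Nat.card (R : Subgroup Q) = Nat.card (P : Subgroup Q) := by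
      rw [Sylow.card_eq_multiplicity R, Sylow.card_eq_multiplicity P]
    rw [h4] at h3
    exact h3
  have hcop : (Nat.card M).Coprime (Nat.card (P : Subgroup Q)) := by
    rw [Sylow.card_eq_multiplicity P]
    exact Nat.Coprime.pow_right _ ((Nat.Prime.coprime_iff_not_dvd hp.out).mpr hM).symm
  have h3 : Nat.card M ∣ (P : Subgroup Q).index := by
    have h4 : Nat.card M ∣ Nat.card (P : Subgroup Q) * (P : Subgroup Q).index := by
      rw [Subgroup.card_mul_index]
      exact Subgroup.card_subgroup_dvd_card M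
    exact hcop.dvd_of_dvd_mul_left h4
  have h4 : Nat.card M ≤ (P : Subgroup Q).index :=
    Nat.le_of_dvd (Nat.pos_of_ne_zero Subgroup.index_ne_zero_of_finite) h3
  have h5 : Nat.card M * Nat.card (P : Subgroup Q) = Nat.card Q := by
    have h6 := Subgroup.card_mul_index (P : Subgroup Q)
    apply le_antisymm
    · rw [← h6, mul_comm]
      exact Nat.mul_le_mul_left _ h4
    · calc Nat.card Q ≤ Nat.card P₀ * Nat.card M := h1
        _ ≤ Nat.card (P : Subgroup Q) * Nat.card M := Nat.mul_le_mul_right _ h2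
        _ = Nat.card M * Nat.card (P : Subgroup Q) := mul_comm _ _
  exact Subgroup.isComplement'_of_coprime h5 hcop

/-- If the subgroups `B ≤ A` have the same orbit on `x`, the stabilizer of `x` has the same
relative index in both. -/
theorem relIndex_stabilizer_eq {G X : Type*} [Group G] [MulAction G X] (x : X)
    (A B : Subgroup G) (hBA : B ≤ A) (h : ∀ a ∈ A, ∃ b ∈ B, a • x = b • x) :
    (MulAction.stabilizer G x).relIndex A = (MulAction.stabilizer G x).relIndex B := by
  have key : ∀ C : Subgroup G, (MulAction.stabilizer G x).relIndex C =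
      (MulAction.orbit C x).ncard := by
    intro C
    rw [← MulAction.index_stabilizer C x]
    have : MulAction.stabilizer C x = (MulAction.stabilizer G x).subgroupOf C := by
      ext c
      rw [MulAction.mem_stabilizer_iff, Subgroup.mem_subgroupOf, MulAction.mem_stabilizer_iff]
      rfl
    rw [this]
    rfl
  rw [key A, key B]
  congr 1
  ext y
  constructor
  · rintro ⟨a, rfl⟩
    obtain ⟨b, hb, hab⟩ := h a a.2
    exact ⟨⟨b, hb⟩, hab.symm⟩
  · rintro ⟨b, rfl⟩
    exact ⟨⟨b, hBA b.2⟩, rfl⟩

/-- If the image of `S` in `G / K` lies in a cyclic subgroup, then `S / (S ∩ K)` is cyclic. -/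
theorem isCyclic_quot_of_map_le {G : Type u} [Group G] (K : Subgroup G) [K.Normal]
    (S : Subgroup G) (A : Subgroup (G ⧸ K)) [IsCyclic A]
    (h : ∀ s ∈ S, (QuotientGroup.mk' K s) ∈ A) : IsCyclic (S ⧸ K.subgroupOf S) := by
  let φ : S →* A := ((QuotientGroup.mk' K).comp S.subtype).codRestrict A (fun s => h s s.2)
  have hker : φ.ker = K.subgroupOf S := by
    ext t
    rw [MonoidHom.mem_ker, Subgroup.mem_subgroupOf]
    constructor
    · intro ht
      have h1 : ((φ t : A) : G ⧸ K) = 1 := by rw [ht]; rfl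
      have h2 : ((φ t : A) : G ⧸ K) = QuotientGroup.mk' K (t : G) := rfl
      rw [h2, QuotientGroup.mk'_apply, QuotientGroup.eq_one_iff] at h1
      exact h1
    · intro ht
      apply Subtype.ext
      show QuotientGroup.mk' K (t : G) = 1
      rw [QuotientGroup.mk'_apply, QuotientGroup.eq_one_iff]
      exact ht
  let f : S ⧸ K.subgroupOf S →* A :=
    (QuotientGroup.kerLift φ).comp (QuotientGroup.quotientMulEquivOfEq hker.symm).toMonoidHom
  have hf : Function.Injective f := by
    intro a b hab
    have h1 := QuotientGroup.kerLift_injective φ hab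
    exact (QuotientGroup.quotientMulEquivOfEq hker.symm).injective h1
  exact isCyclic_of_injective f hf

/-- Complex functions on a group, carrying the conjugation action of the group. -/
def ConjFun (H : Type u) : Type u := H → ℂ

instance conjFunAction (H : Type u) [Group H] : MulAction H (ConjFun H) where
  smul g f := fun x => f (g⁻¹ * x * g)
  one_smul f := by
    funext x
    show f (1⁻¹ * x * 1) = f x
    simp
  mul_smul g h f := by
    funext x
    show f ((g * h)⁻¹ * x * (g * h)) = f (h⁻¹ * (g⁻¹ * x * g) * h)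
    congr 1
    group

theorem conjFun_smul_apply {H : Type u} [Group H] (g : H) (f : ConjFun H) (x : H) :
    (g • f) x = f (g⁻¹ * x * g) := rfl

section Ext0

variable {H : Type u} [Group H] (S K : Subgroup H)

/-- Extension by zero of a function on `K ∩ S` (as a subgroup of `S`) to the whole group. -/
noncomputable def ext0 (μ : K.subgroupOf S → ℂ) : ConjFun H := by
  classical
  exact fun h => if hh : h ∈ S ⊓ K then
    μ ⟨⟨h, (Subgroup.mem_inf.mp hh).1⟩, Subgroup.mem_subgroupOf.mpr (Subgroup.mem_inf.mp hh).2⟩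
    else 0

theorem ext0_apply_coe (μ : K.subgroupOf S → ℂ) (y : K.subgroupOf S) :
    ext0 S K μ ((y : S) : H) = μ y := by
  classical
  have hy : ((y : S) : H) ∈ S ⊓ K :=
    Subgroup.mem_inf.mpr ⟨(y : S).2, Subgroup.mem_subgroupOf.mp y.2⟩
  unfold ext0
  rw [dif_pos hy]

theorem ext0_apply_of_mem (μ : K.subgroupOf S → ℂ) {h : H} (hh : h ∈ S ⊓ K) :
    ext0 S K μ h = μ ⟨⟨h, (Subgroup.mem_inf.mp hh).1⟩,
      Subgroup.mem_subgroupOf.mpr (Subgroup.mem_inf.mp hh).2⟩ := by
  classical
  unfold ext0
  rw [dif_pos hh]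

theorem ext0_apply_of_not_mem (μ : K.subgroupOf S → ℂ) {h : H} (hh : h ∉ S ⊓ K) :
    ext0 S K μ h = 0 := by
  classical
  unfold ext0
  rw [dif_neg hh]

theorem ext0_injective : Function.Injective (ext0 S K) := by
  intro μ ν h
  funext y
  have := congrFun h ((y : S) : H)
  rwa [ext0_apply_coe, ext0_apply_coe] at this

/-- Conjugating the extension by zero by an element of `S` is the extension of the conjugate. -/
theorem smul_ext0 [hK : K.Normal] (σ : S) (μ : K.subgroupOf S → ℂ) :
    (σ : H) • ext0 S K μ = ext0 S K (cconj (K.subgroupOf S) σ μ) := by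
  funext x
  rw [conjFun_smul_apply]
  by_cases hx : x ∈ S ⊓ K
  · have hx' : (σ : H)⁻¹ * x * σ ∈ S ⊓ K := by
      refine Subgroup.mem_inf.mpr ⟨?_, ?_⟩
      · exact S.mul_mem (S.mul_mem (S.inv_mem σ.2) (Subgroup.mem_inf.mp hx).1) σ.2
      · have := hK.conj_mem x (Subgroup.mem_inf.mp hx).2 (σ : H)⁻¹
        simpa using this
    rw [ext0_apply_of_mem S K μ hx', ext0_apply_of_mem S K _ hx, cconj_apply]
    congr 1
  · have hx' : (σ : H)⁻¹ * x * σ ∉ S ⊓ K := by
      intro h
      apply hx
      have h1 : x = (σ : H) * ((σ : H)⁻¹ * x * σ) * (σ : H)⁻¹ := by group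
      rw [h1]
      refine Subgroup.mem_inf.mpr ⟨?_, ?_⟩
      · exact S.mul_mem (S.mul_mem σ.2 (Subgroup.mem_inf.mp h).1) (S.inv_mem σ.2)
      · exact hK.conj_mem _ (Subgroup.mem_inf.mp h).2 (σ : H)
    rw [ext0_apply_of_not_mem S K μ hx', ext0_apply_of_not_mem S K _ hx]

end Ext0

end Cfsg.Agent.Lib.helper82
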