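import Mathlib
import Cfsg.Prelude.Def_Characters
import Cfsg.Prelude.Def_Blocks
import Cfsg.Agent.Lib.helper82.FullRamC
import Cfsg.Agent.Lib.helper4.SubChar

/-!
# Cyclic Sylow subgroups of quotients of fully ramified sections are complemented (helper82)

`fr_cyclic_sylow_complement`: let `χ ∈ Irr(H)` be fully ramified over `Z ⊴ H`
(`χ|Z = e θ`, `e ^ 2 = |H : Z|`), `Z ≤ K ⊴ H`, and `P` a cyclic Sylow `p`-subgroup of `H / K`.
Then `P` has a complement in `H / K`.

Proof.  Let `S₀` be a Sylow `p`-subgroup of `H` and `S = S₀ Z`.  Then `θ` is fully ramified in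
`S` (`fr_unique_over`), `S / (S ∩ K)` is cyclic, hence `S` permutes the characters of `S ∩ K`
over `θ` regularly (`FullRamB`).  The normalizer `N` of `S ∩ K` covers `H / K` (Frattini) and
acts on these characters, so `N = S N_μ` with `N_μ ∩ S = S ∩ K`; the image of `N_μ` in `H / K`
is a `p`-complement.
-/

set_option autoImplicit false
set_option linter.style.haveILetI false
set_option linter.unusedSectionVars false
set_option maxHeartbeats 1600000

namespace Cfsg.Agent.Lib.helper82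

open Module Cfsg
open Cfsg.Agent.Lib
open Cfsg.Agent.Lib.helper83
open scoped ComplexConjugate

universe u

theorem fr_cyclic_sylow_complement {H : Type u} [Group H] [Finite H] (Z : Subgroup H)
    [hZ : Z.Normal] {χ : H → ℂ} (hχ : IsIrrCharacter H χ) {θ : Z → ℂ} (hθ : IsIrrCharacter Z θ)
    (e : ℕ) (he : e ^ 2 = Z.index) (hres : ∀ z : Z, χ z = (e : ℂ) * θ z) (K : Subgroup H)
    [hK : K.Normal] (hZK : Z ≤ K) (p : ℕ) [hp : Fact p.Prime] (P : Sylow p (H ⧸ K))
    (hcyc : IsCyclic P) : ∃ M : Subgroup (H ⧸ K), M.IsComplement' (P : Subgroup (H ⧸ K)) := by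
  classical
  haveI : Fintype H := Fintype.ofFinite H
  haveI : Fintype Z := Fintype.ofFinite Z
  have hidx : Z.index ≠ 0 := Subgroup.index_ne_zero_of_finite
  have he0 : e ≠ 0 := by
    rintro rfl
    apply hidx
    rw [← he]; simp
  have hinvθ := fr_invariant Z hχ e he0 hres
  -- Sylow subgroups
  obtain ⟨PK⟩ : Nonempty (Sylow p K) := inferInstance
  obtain ⟨S₀, hS₀⟩ := (PK.isPGroup'.map K.subtype).exists_le_sylow
  have hinf : (S₀ : Subgroup H) ⊓ K = (PK : Subgroup K).map K.subtype := by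
    have hQ : IsPGroup p ((S₀ : Subgroup H).subgroupOf K) := by
      have h1 := S₀.isPGroup'.comap_subtype (K := K)
      rwa [Subgroup.comap_subtype] at h1
    have hle : (PK : Subgroup K) ≤ (S₀ : Subgroup H).subgroupOf K := by
      intro x hx
      rw [Subgroup.mem_subgroupOf]
      exact hS₀ (Subgroup.mem_map_of_mem K.subtype hx)
    have h2 := PK.is_maximal' hQ hle
    rw [← Subgroup.subgroupOf_map_subtype, h2]
  set S : Subgroup H := (S₀ : Subgroup H) ⊔ Z with hSdef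
  have hS₀S : (S₀ : Subgroup H) ≤ S := le_sup_left
  have hZS : Z ≤ S := le_sup_right
  haveI : Fintype S := Fintype.ofFinite S
  have hSmem : ∀ s ∈ S, ∃ s₀ ∈ (S₀ : Subgroup H), ∃ z ∈ Z, s = s₀ * z := by
    intro s hs
    have h1 : s ∈ ((S₀ : Subgroup H) ⊔ Z : Subgroup H) := hs
    rw [← SetLike.mem_coe, Subgroup.mul_normal] at h1
    obtain ⟨s₀, hs₀, z, hz, rfl⟩ := Set.mem_mul.mp h1
    exact ⟨s₀, hs₀, z, hz, rfl⟩
  have hSidx : ¬ p ∣ S.index := by
    intro h
    exact S₀.not_dvd_index (dvd_trans h (Subgroup.index_dvd_of_le hS₀S))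
  obtain ⟨k, hk⟩ : ∃ k : ℕ, Z.relIndex S = p ^ k := by
    have h1 : Z.relIndex S = Z.relIndex (S₀ : Subgroup H) :=
      Subgroup.relIndex_sup_right (S₀ : Subgroup H) Z
    obtain ⟨n, hn⟩ := IsPGroup.iff_card.mp S₀.isPGroup'
    have h2 : Z.relIndex (S₀ : Subgroup H) ∣ p ^ n := by
      rw [← hn]; exact Subgroup.relIndex_dvd_card _ _
    obtain ⟨m, -, hm⟩ := (Nat.dvd_prime_pow hp.out).mp h2
    exact ⟨m, by rw [h1, hm]⟩
  -- the ambient group `S`
  have hZL : Z.subgroupOf S ≤ K.subgroupOf S := fun x hx =>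
    Subgroup.mem_subgroupOf.mpr (hZK (Subgroup.mem_subgroupOf.mp hx))
  haveI : Fintype (Z.subgroupOf S) := Fintype.ofFinite _
  haveI : Fintype (K.subgroupOf S) := Fintype.ofFinite _
  have hθ' : IsIrrCharacter (Z.subgroupOf S) (subRes Z S θ) := isIrrCharacter_subRes Z S hZS hθ
  have hbridge0 : ∀ ψ : S → ℂ, classInner (fun x : Z.subgroupOf S => ψ x) (subRes Z S θ) =
      classInner (fun n : Z => ψ ⟨n, hZS n.2⟩) θ := by
    intro ψ
    rw [← subRes_restrict Z S hZS ψ, classInner_subRes Z S hZS]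
  have huniq : ∀ ψ ψ' : S → ℂ, IsIrrCharacter S ψ → IsIrrCharacter S ψ' →
      classInner (fun z : Z.subgroupOf S => ψ z) (subRes Z S θ) ≠ 0 →
      classInner (fun z : Z.subgroupOf S => ψ' z) (subRes Z S θ) ≠ 0 → ψ = ψ' := by
    intro ψ ψ' hψ hψ' h1 h2
    rw [hbridge0] at h1 h2
    exact fr_unique_over Z S hχ hθ e he hres hZS p hp.out k hk hSidx hψ hψ' h1 h2
  -- the quotient `S / (S ∩ K)` is cyclic
  have hcycS : IsCyclic (S ⧸ K.subgroupOf S) := by
    obtain ⟨P', hP'⟩ := (S₀.isPGroup'.map (QuotientGroup.mk' K)).exists_le_sylow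
    haveI : IsCyclic (P' : Subgroup (H ⧸ K)) :=
      isCyclic_of_surjective (Sylow.equiv P P') (Sylow.equiv P P').surjective
    refine isCyclic_quot_of_map_le K S (P' : Subgroup (H ⧸ K)) ?_
    intro s hs
    obtain ⟨s₀, hs₀, z, hz, rfl⟩ := hSmem s hs
    have h1 : QuotientGroup.mk' K (s₀ * z) = QuotientGroup.mk' K s₀ := by
      rw [map_mul]
      have h2 : QuotientGroup.mk' K z = 1 := by
        rw [QuotientGroup.mk'_apply, QuotientGroup.eq_one_iff]; exact hZK hz
      rw [h2, mul_one]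
    rw [h1]
    exact hP' (Subgroup.mem_map_of_mem _ hs₀)
  -- a character `μ` of `S ∩ K` over `θ`
  obtain ⟨ψ, hψ, hψθ⟩ := exists_irr_over (Z.subgroupOf S) hθ'
  haveI : Fintype (IrrCharacter (K.subgroupOf S)) := Fintype.ofFinite _
  rw [classInner_restrict_trans (Z.subgroupOf S) (K.subgroupOf S) hZL
    (helper4.isClassFunction_of_isIrrCharacter hψ) (subRes Z S θ)] at hψθ
  obtain ⟨μ, -, hμ0⟩ := Finset.exists_ne_zero_of_sum_ne_zero hψθ
  have hμθ := right_ne_zero_of_mul hμ0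
  have hA := inertia_le_of_unique_over (Z.subgroupOf S) (K.subgroupOf S) hZL hcycS hθ' huniq
    μ.2 hμθ
  have hA' : ∀ μ' : K.subgroupOf S → ℂ, IsIrrCharacter (K.subgroupOf S) μ' →
      classInner (fun z : Z.subgroupOf S => μ' ⟨z, hZL z.2⟩) (subRes Z S θ) ≠ 0 →
      ∃ x : S, μ' = cconj (K.subgroupOf S) x (μ : K.subgroupOf S → ℂ) :=
    fun μ' hμ' h =>
      conj_of_unique_over (Z.subgroupOf S) (K.subgroupOf S) hZL hθ' huniq μ.2 hμ' hμθ h
  have hbridge : ∀ F : K.subgroupOf S → ℂ,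
      classInner (fun z : Z.subgroupOf S => F ⟨z, hZL z.2⟩) (subRes Z S θ) =
      classInner (fun z : Z => F ⟨⟨z, hZS z.2⟩, Subgroup.mem_subgroupOf.mpr (hZK z.2)⟩) θ := by
    intro F
    exact classInner_subRes Z S hZS
      (fun z : Z => F ⟨⟨z, hZS z.2⟩, Subgroup.mem_subgroupOf.mpr (hZK z.2)⟩) θ
  -- the conjugation action
  set μ₀ : ConjFun H := ext0 S K (μ : K.subgroupOf S → ℂ) with hμ₀
  set N : Subgroup H := Subgroup.normalizer ((S ⊓ K : Subgroup H) : Set H) with hNdef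
  set Stab : Subgroup H := MulAction.stabilizer H μ₀ with hStab
  have hSN : S ≤ N := by
    intro s hs
    rw [hNdef, Subgroup.mem_normalizer_iff]
    intro x
    constructor
    · intro hx
      exact Subgroup.mem_inf.mpr
        ⟨S.mul_mem (S.mul_mem hs (Subgroup.mem_inf.mp hx).1) (S.inv_mem hs),
          hK.conj_mem x (Subgroup.mem_inf.mp hx).2 s⟩
    · intro hx
      have h1 : x = s⁻¹ * (s * x * s⁻¹) * s := by group
      rw [h1]
      refine Subgroup.mem_inf.mpr
        ⟨S.mul_mem (S.mul_mem (S.inv_mem hs) (Subgroup.mem_inf.mp hx).1) hs, ?_⟩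
      have h2 := hK.conj_mem _ (Subgroup.mem_inf.mp hx).2 s⁻¹
      simpa using h2
  have hLStab : S ⊓ K ≤ Stab := by
    intro l hl
    rw [hStab, MulAction.mem_stabilizer_iff]
    have h1 := smul_ext0 S K (⟨l, (Subgroup.mem_inf.mp hl).1⟩ : S) (μ : K.subgroupOf S → ℂ)
    rw [cconj_of_mem (K.subgroupOf S) (helper4.isClassFunction_of_isIrrCharacter μ.2)
      (Subgroup.mem_subgroupOf.mpr (Subgroup.mem_inf.mp hl).2)] at h1
    exact h1
  have hStabS : Stab ⊓ S ≤ K := by
    intro s hs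
    obtain ⟨hs1, hs2⟩ := Subgroup.mem_inf.mp hs
    rw [hStab, MulAction.mem_stabilizer_iff] at hs1
    have h1 := smul_ext0 S K (⟨s, hs2⟩ : S) (μ : K.subgroupOf S → ℂ)
    rw [show ((⟨s, hs2⟩ : S) : H) = s from rfl, hs1] at h1
    have h2 := ext0_injective S K h1
    have h3 : (⟨s, hs2⟩ : S) ∈ inertia (K.subgroupOf S) (μ : K.subgroupOf S → ℂ) :=
      (mem_inertia _ _ _).mpr h2.symm
    exact Subgroup.mem_subgroupOf.mp (hA h3)
  have hNorb : ∀ n ∈ N, ∃ s ∈ S, n • μ₀ = s • μ₀ := by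
    intro n hn
    rw [hNdef] at hn
    have hn1 : ∀ y : H, y ∈ S ⊓ K → n⁻¹ * y * n ∈ S ⊓ K := fun y hy =>
      (Subgroup.mem_normalizer_iff''.mp hn y).mp hy
    have hn2 : ∀ y : H, y ∈ S ⊓ K → n * y * n⁻¹ ∈ S ⊓ K := fun y hy =>
      (Subgroup.mem_normalizer_iff.mp hn y).mp hy
    have hmemL : ∀ y : K.subgroupOf S, ((y : S) : H) ∈ S ⊓ K := fun y =>
      Subgroup.mem_inf.mpr ⟨(y : S).2, Subgroup.mem_subgroupOf.mp y.2⟩
    let φ : K.subgroupOf S →* K.subgroupOf S :=
      { toFun := fun y => ⟨⟨n⁻¹ * ((y : S) : H) * n, (Subgroup.mem_inf.mp (hn1 _ (hmemL y))).1⟩,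
          Subgroup.mem_subgroupOf.mpr (Subgroup.mem_inf.mp (hn1 _ (hmemL y))).2⟩
        map_one' := by
          apply Subtype.ext; apply Subtype.ext
          show n⁻¹ * 1 * n = 1
          group
        map_mul' := by
          intro a b
          apply Subtype.ext; apply Subtype.ext
          show n⁻¹ * (((a : S) : H) * ((b : S) : H)) * n =
            (n⁻¹ * ((a : S) : H) * n) * (n⁻¹ * ((b : S) : H) * n)
          group }
    have hφ : Function.Surjective φ := by
      intro y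
      refine ⟨⟨⟨n * ((y : S) : H) * n⁻¹, (Subgroup.mem_inf.mp (hn2 _ (hmemL y))).1⟩,
        Subgroup.mem_subgroupOf.mpr (Subgroup.mem_inf.mp (hn2 _ (hmemL y))).2⟩, ?_⟩
      apply Subtype.ext; apply Subtype.ext
      show n⁻¹ * (n * ((y : S) : H) * n⁻¹) * n = _
      group
    have hν : IsIrrCharacter (K.subgroupOf S) (fun a => (μ : K.subgroupOf S → ℂ) (φ a)) :=
      helper4.isIrrCharacter_comp_surjective φ hφ μ.2
    have hνθ : classInner (fun z : Z.subgroupOf S =>
        (μ : K.subgroupOf S → ℂ) (φ ⟨z, hZL z.2⟩)) (subRes Z S θ) ≠ 0 := by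
      have hb : classInner (fun z : Z.subgroupOf S =>
          (μ : K.subgroupOf S → ℂ) (φ ⟨z, hZL z.2⟩)) (subRes Z S θ) =
          classInner (fun z : Z => (μ : K.subgroupOf S → ℂ)
            (φ ⟨⟨z, hZS z.2⟩, Subgroup.mem_subgroupOf.mpr (hZK z.2)⟩)) θ :=
        hbridge (fun a => (μ : K.subgroupOf S → ℂ) (φ a))
      rw [hb]
      have h1 : (fun z : Z => (μ : K.subgroupOf S → ℂ)
            (φ ⟨⟨z, hZS z.2⟩, Subgroup.mem_subgroupOf.mpr (hZK z.2)⟩)) =
          cconj Z n (fun z : Z => (μ : K.subgroupOf S → ℂ)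
            ⟨⟨z, hZS z.2⟩, Subgroup.mem_subgroupOf.mpr (hZK z.2)⟩) := by
        funext z
        rw [cconj_apply]
        rfl
      rw [h1]
      have h2 : classInner (cconj Z n (fun z : Z => (μ : K.subgroupOf S → ℂ)
            ⟨⟨z, hZS z.2⟩, Subgroup.mem_subgroupOf.mpr (hZK z.2)⟩)) (cconj Z n θ) ≠ 0 := by
        rw [classInner_cconj, ← hbridge]
        exact hμθ
      rwa [hinvθ n] at h2
    obtain ⟨σ, hσ⟩ := hA' (fun a => (μ : K.subgroupOf S → ℂ) (φ a)) hν hνθ
    refine ⟨(σ : H), σ.2, ?_⟩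
    rw [hμ₀, smul_ext0 S K σ, ← hσ]
    funext x
    rw [conjFun_smul_apply]
    by_cases hx : x ∈ S ⊓ K
    · rw [ext0_apply_of_mem S K _ (hn1 x hx), ext0_apply_of_mem S K _ hx]
      rfl
    · have hx' : n⁻¹ * x * n ∉ S ⊓ K := by
        intro h
        apply hx
        have h1 : x = n * (n⁻¹ * x * n) * n⁻¹ := by group
        rw [h1]
        exact hn2 _ h
      rw [ext0_apply_of_not_mem S K _ hx', ext0_apply_of_not_mem S K _ hx]
  -- index computations
  set Mt : Subgroup H := Stab ⊓ N with hMt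
  have hb : Stab.relIndex N = Stab.relIndex S := relIndex_stabilizer_eq μ₀ N S hSN hNorb
  have hb' : Stab.relIndex S = K.relIndex S := by
    have h1 : Stab ⊓ S = K ⊓ S := by
      apply le_antisymm
      · exact le_inf hStabS inf_le_right
      · refine le_inf ?_ inf_le_right
        intro x hx
        exact hLStab (Subgroup.mem_inf.mpr ⟨(Subgroup.mem_inf.mp hx).2, (Subgroup.mem_inf.mp hx).1⟩)
    rw [← Subgroup.inf_relIndex_right Stab S, h1, Subgroup.inf_relIndex_right]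
  have hLMt : S ⊓ K ≤ Mt := le_inf hLStab (le_trans inf_le_left hSN)
  have hMtN : Mt ≤ N := inf_le_right
  have hr : (S ⊓ K).relIndex S = K.relIndex S := Subgroup.inf_relIndex_left S K
  have hMtidx : Mt.relIndex N = K.relIndex S := by
    rw [hMt, Subgroup.inf_relIndex_right, hb, hb']
  have hr0 : K.relIndex S ≠ 0 := by
    show (K.subgroupOf S).index ≠ 0
    exact Subgroup.index_ne_zero_of_finite
  have hkey : (S ⊓ K).relIndex Mt = S.relIndex N := by
    have h1 := Subgroup.relIndex_mul_relIndex (S ⊓ K) Mt N hLMt hMtN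
    have h2 := Subgroup.relIndex_mul_relIndex (S ⊓ K) S N inf_le_left hSN
    rw [hMtidx] at h1
    rw [hr] at h2
    have h3 : (S ⊓ K).relIndex Mt * K.relIndex S = S.relIndex N * K.relIndex S := by
      rw [h1, ← h2, mul_comm]
    exact Nat.eq_of_mul_eq_mul_right (Nat.pos_of_ne_zero hr0) h3
  set M : Subgroup (H ⧸ K) := Mt.map (QuotientGroup.mk' K) with hM
  have hMcard : Nat.card M = K.relIndex Mt := by
    let f : Mt →* H ⧸ K := (QuotientGroup.mk' K).comp Mt.subtype
    have hrange : f.range = M := by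
      rw [hM, MonoidHom.range_comp, Subgroup.range_subtype]
    have hker : f.ker = K.subgroupOf Mt := by
      ext t
      rw [MonoidHom.mem_ker, Subgroup.mem_subgroupOf]
      show (QuotientGroup.mk' K) (t : H) = 1 ↔ _
      rw [QuotientGroup.mk'_apply, QuotientGroup.eq_one_iff]
    have h1 := Subgroup.index_ker f
    rw [hker, hrange] at h1
    exact h1.symm
  have hMp : ¬ p ∣ Nat.card M := by
    intro h
    apply hSidx
    rw [hMcard] at h
    have h1 : K.relIndex Mt ∣ (S ⊓ K).relIndex Mt :=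
      Subgroup.relIndex_dvd_of_le_left Mt (inf_le_right : S ⊓ K ≤ K)
    rw [hkey] at h1
    exact dvd_trans h (dvd_trans h1 (Subgroup.relIndex_dvd_index_of_le hSN))
  -- the Frattini argument
  have hfrat : ∀ h : H, ∃ n ∈ N, ∃ k ∈ K, h = n * k := by
    have hR : ∀ x : H, x ∈ S ⊓ K ↔ ∃ r ∈ (S₀ : Subgroup H) ⊓ K, ∃ z ∈ Z, x = r * z := by
      intro x
      constructor
      · intro hx
        obtain ⟨s₀, hs₀, z, hz, rfl⟩ := hSmem x (Subgroup.mem_inf.mp hx).1
        refine ⟨s₀, Subgroup.mem_inf.mpr ⟨hs₀, ?_⟩, z, hz, rfl⟩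
        have h1 : s₀ = (s₀ * z) * z⁻¹ := by group
        rw [h1]
        exact K.mul_mem (Subgroup.mem_inf.mp hx).2 (K.inv_mem (hZK hz))
      · rintro ⟨r, hr, z, hz, rfl⟩
        exact Subgroup.mem_inf.mpr ⟨S.mul_mem (hS₀S (Subgroup.mem_inf.mp hr).1) (hZS hz),
          K.mul_mem (Subgroup.mem_inf.mp hr).2 (hZK hz)⟩
    have hnorm : Subgroup.normalizer (((S₀ : Subgroup H) ⊓ K : Subgroup H) : Set H) ≤ N := by
      have hfwd : ∀ g ∈ Subgroup.normalizer (((S₀ : Subgroup H) ⊓ K : Subgroup H) : Set H),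
          ∀ x ∈ S ⊓ K, g * x * g⁻¹ ∈ S ⊓ K := by
        intro g hg x hx
        obtain ⟨r, hr, z, hz, rfl⟩ := (hR x).mp hx
        exact (hR _).mpr ⟨g * r * g⁻¹, (Subgroup.mem_normalizer_iff.mp hg r).mp hr,
          g * z * g⁻¹, hZ.conj_mem z hz g, by group⟩
      intro g hg
      rw [hNdef, Subgroup.mem_normalizer_iff]
      intro x
      constructor
      · exact hfwd g hg x
      · intro hx
        have h2 := hfwd g⁻¹ (Subgroup.inv_mem _ hg) _ hx
        have h1 : g⁻¹ * (g * x * g⁻¹) * g⁻¹⁻¹ = x := by group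
        rwa [h1] at h2
    have htop := Sylow.normalizer_sup_eq_top PK
    rw [← hinf] at htop
    intro h
    have h1 : h ∈ (Subgroup.normalizer (((S₀ : Subgroup H) ⊓ K : Subgroup H) : Set H) ⊔ K :
        Subgroup H) := by
      rw [htop]; exact Subgroup.mem_top h
    rw [← SetLike.mem_coe, Subgroup.mul_normal] at h1
    obtain ⟨n, hn, k, hk, rfl⟩ := Set.mem_mul.mp h1
    exact ⟨n, hnorm hn, k, hk, rfl⟩
  refine ⟨M, complement_of_factor p P M ((S₀ : Subgroup H).map (QuotientGroup.mk' K)) hMp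
    (S₀.isPGroup'.map _) ?_⟩
  intro q
  obtain ⟨h, rfl⟩ := QuotientGroup.mk_surjective q
  obtain ⟨n, hn, k, hk, rfl⟩ := hfrat h
  obtain ⟨s, hs, hns⟩ := hNorb n hn
  obtain ⟨s₀, hs₀, z, hz, rfl⟩ := hSmem s hs
  refine ⟨QuotientGroup.mk' K s₀, Subgroup.mem_map_of_mem _ hs₀,
    QuotientGroup.mk' K ((s₀ * z)⁻¹ * n), Subgroup.mem_map_of_mem _ ?_, ?_⟩
  · refine Subgroup.mem_inf.mpr ⟨?_, N.mul_mem (N.inv_mem (hSN hs)) hn⟩
    rw [hStab, MulAction.mem_stabilizer_iff, mul_smul, hns, inv_smul_smul]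
  · have hk1 : QuotientGroup.mk' K k = 1 := by
      rw [QuotientGroup.mk'_apply, QuotientGroup.eq_one_iff]; exact hk
    have hz1 : QuotientGroup.mk' K z = 1 := by
      rw [QuotientGroup.mk'_apply, QuotientGroup.eq_one_iff]; exact hZK hz
    have h5 : (QuotientGroup.mk' K) (n * k) =
        QuotientGroup.mk' K s₀ * QuotientGroup.mk' K ((s₀ * z)⁻¹ * n) := by
      simp only [map_mul, map_inv, hk1, hz1, mul_one]
      group
    exact h5

end Cfsg.Agent.Lib.helper82
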