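import Mathlib
import Cfsg.Prelude.Def_Characters
import Cfsg.Prelude.Def_Blocks
import Cfsg.Agent.Lib.helper82.FullRamE

/-!
# Fully ramified characters induced from a normal subgroup (helper82)

* `inertia_le_of_degree`: if `ψ ∈ Irr(G)` lies over `μ ∈ Irr(L)`, `L ⊴ G`, and
  `ψ(1) = |G : L| μ(1)`, then the stabilizer of `μ` is `L`;
* `exists_irr_ind_eq`: an irreducible character induced from a character is induced from an
  irreducible character;
* `fr_induced_regular`: if the fully ramified `χ` is induced from `K ≥ Z`, then for every Sylow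
  preimage `S` the characters of `S ∩ K` over `θ` have stabilizer `S ∩ K` in `S`.
-/

set_option autoImplicit false
set_option linter.style.haveILetI false
set_option linter.unusedSectionVars false
set_option maxHeartbeats 1600000

namespace Cfsg.Agent.Lib.helper82

open Module Cfsg
open Cfsg.Agent.Lib
open Cfsg.Agent.Lib.helper83
open scoped ComplexConjugate

universe u

section Deg

variable {G : Type u} [Group G] [Fintype G] (L : Subgroup G) [hL : L.Normal] [Fintype L]

/-- If `ψ ∈ Irr(G)` lies over `μ ∈ Irr(L)` and `ψ(1) = |G : L| μ(1)`, then the stabilizer of `μ`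
in `G` is `L`. -/
theorem inertia_le_of_degree {ψ : G → ℂ} (hψ : IsIrrCharacter G ψ) {μ : L → ℂ}
    (hμ : IsIrrCharacter L μ) (hov : classInner (fun n : L => ψ n) μ ≠ 0)
    (hdeg : charDegree ψ = L.index * charDegree μ) : inertia L μ ≤ L := by
  classical
  haveI : Fintype (IrrCharacter G) := Fintype.ofFinite _
  haveI : Fintype (IrrCharacter L) := Fintype.ofFinite _
  obtain ⟨c, hc⟩ := helper4.exists_nat_classInner_irr
    (helper4.isCharacter_restrict L (isCharacter_of_irr hψ)) hμ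
  have hc0 : c ≠ 0 := by
    rintro rfl
    apply hov
    rw [hc]; simp
  obtain ⟨M, hM1, -, hM3⟩ :=
    exists_nat_decomp (helper4.isCharacter_indFun L (isCharacter_of_irr hμ))
  rw [helper4.indFun_one] at hM3
  have hψ1 : ψ 1 = (charDegree ψ : ℂ) := irr_one_eq_charDegree ⟨ψ, hψ⟩
  have hμ1 : μ 1 = (charDegree μ : ℂ) := irr_one_eq_charDegree ⟨μ, hμ⟩
  have hMψ : M ⟨ψ, hψ⟩ = c := by
    have h1 := hM1 ⟨ψ, hψ⟩
    rw [helper4.frobenius_reciprocity L μ (helper4.isClassFunction_of_isIrrCharacter hψ),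
      ← helper4.classInner_conj_symm] at h1
    have h2 : ((M ⟨ψ, hψ⟩ : ℕ) : ℂ) = c := by
      rw [← h1]
      show conj (classInner (fun n : L => ψ n) μ) = c
      rw [hc]; simp
    exact_mod_cast h2
  have hsum : L.index * charDegree μ = ∑ η : IrrCharacter G, M η * charDegree (η : G → ℂ) := by
    rw [hμ1] at hM3
    exact_mod_cast hM3
  have hle : M ⟨ψ, hψ⟩ * charDegree ψ ≤ ∑ η : IrrCharacter G, M η * charDegree (η : G → ℂ) :=
    Finset.single_le_sum (f := fun η : IrrCharacter G => M η * charDegree (η : G → ℂ))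
      (fun _ _ => Nat.zero_le _) (Finset.mem_univ (⟨ψ, hψ⟩ : IrrCharacter G))
  rw [← hsum, hMψ, hdeg] at hle
  have hpos : 0 < L.index * charDegree μ :=
    Nat.mul_pos (Nat.pos_of_ne_zero Subgroup.index_ne_zero_of_finite) (charDegree_pos ⟨μ, hμ⟩)
  have hc1 : c = 1 := by
    have h1 : c * (L.index * charDegree μ) ≤ 1 * (L.index * charDegree μ) := by simpa using hle
    have h2 := Nat.le_of_mul_le_mul_right h1 hpos
    omega
  have hcd := clifford_degree L hψ hμ c hc hc0
  rw [hc1, hψ1, hμ1, hdeg] at hcd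
  have h3 : L.index * charDegree μ = (inertia L μ).index * charDegree μ := by
    have h4 : ((L.index * charDegree μ : ℕ) : ℂ) =
        (((inertia L μ).index * charDegree μ : ℕ) : ℂ) := by
      push_cast
      push_cast at hcd
      rw [hcd]; ring
    exact_mod_cast h4
  have h4 : L.index = (inertia L μ).index :=
    Nat.eq_of_mul_eq_mul_right (charDegree_pos ⟨μ, hμ⟩) h3
  have hLT : L ≤ inertia L μ := le_inertia L (helper4.isClassFunction_of_isIrrCharacter hμ)
  have h5 := Subgroup.relIndex_mul_index hLT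
  rw [← h4] at h5
  have h6 : L.relIndex (inertia L μ) = 1 := by
    have hi : 0 < L.index := Nat.pos_of_ne_zero Subgroup.index_ne_zero_of_finite
    have h7 : L.relIndex (inertia L μ) * L.index = 1 * L.index := by rw [h5, one_mul]
    exact Nat.eq_of_mul_eq_mul_right hi h7
  exact Subgroup.relIndex_eq_one.mp h6

end Deg

/-- An irreducible character induced from a character of a subgroup is induced from an
irreducible character of that subgroup. -/
theorem exists_irr_ind_eq {G : Type u} [Group G] [Fintype G] (K : Subgroup G) [Fintype K]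
    {φ : K → ℂ} (hφ : IsCharacter K φ) {χ : G → ℂ} (hχ : IsIrrCharacter G χ)
    (hind : indFun K φ = χ) : ∃ φ₁ : K → ℂ, IsIrrCharacter K φ₁ ∧ indFun K φ₁ = χ := by
  classical
  haveI : Fintype (IrrCharacter G) := Fintype.ofFinite _
  haveI : Fintype (IrrCharacter K) := Fintype.ofFinite _
  obtain ⟨N, -, hN2, hN3⟩ := exists_nat_decomp hφ
  have hφ1 : φ 1 ≠ 0 := by
    intro h0
    have h1 := helper4.indFun_one K φ
    have hχ1 : χ 1 = (charDegree χ : ℂ) := irr_one_eq_charDegree ⟨χ, hχ⟩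
    rw [hind, h0, mul_zero, hχ1] at h1
    have hp : 0 < charDegree χ := charDegree_pos ⟨χ, hχ⟩
    have h2 : charDegree χ = 0 := by exact_mod_cast h1
    omega
  obtain ⟨φ₁, hφ₁0⟩ : ∃ φ₁ : IrrCharacter K, N φ₁ ≠ 0 := by
    by_contra hcon
    push Not at hcon
    apply hφ1
    rw [hN3]
    simp [hcon]
  refine ⟨φ₁, φ₁.2, ?_⟩
  obtain ⟨M, hM1, hM2, hM3⟩ :=
    exists_nat_decomp (helper4.isCharacter_indFun K (isCharacter_of_irr φ₁.2))
  have key : ∀ η : IrrCharacter G, ∃ a : ℕ,
      classInner (indFun K φ) (η : G → ℂ) = a ∧ M η ≤ a := by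
    intro η
    have hηcf := helper4.isClassFunction_of_isIrrCharacter η.2
    have hb : ∀ ψ : IrrCharacter K, ∃ b : ℕ,
        classInner (ψ : K → ℂ) (fun k : K => (η : G → ℂ) k) = b := by
      intro ψ
      obtain ⟨b, hb⟩ := helper4.exists_nat_classInner_irr
        (helper4.isCharacter_restrict K (isCharacter_of_irr η.2)) ψ.2
      refine ⟨b, ?_⟩
      rw [← helper4.classInner_conj_symm, hb]; simp
    choose b hb using hb
    refine ⟨∑ ψ : IrrCharacter K, N ψ * b ψ, ?_, ?_⟩
    · rw [helper4.frobenius_reciprocity K φ hηcf]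
      have h5 : φ = ∑ ψ : IrrCharacter K, (N ψ : ℂ) • (ψ : K → ℂ) := by
        funext g
        rw [hN2 g, Finset.sum_apply]
        simp
      conv_lhs => rw [h5]
      rw [helper4.classInner_sum_left]
      push_cast
      refine Finset.sum_congr rfl fun ψ _ => ?_
      rw [helper4.classInner_smul_left, hb]
    · have h1 := hM1 η
      rw [helper4.frobenius_reciprocity K (φ₁ : K → ℂ) hηcf, hb] at h1
      have h2 : M η = b φ₁ := by exact_mod_cast h1.symm
      rw [h2]
      calc b φ₁ ≤ N φ₁ * b φ₁ := Nat.le_mul_of_pos_left _ (Nat.pos_of_ne_zero hφ₁0)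
        _ ≤ ∑ ψ : IrrCharacter K, N ψ * b ψ :=
          Finset.single_le_sum (f := fun ψ : IrrCharacter K => N ψ * b ψ)
            (fun _ _ => Nat.zero_le _) (Finset.mem_univ φ₁)
  have hM0 : ∀ η : IrrCharacter G, η ≠ ⟨χ, hχ⟩ → M η = 0 := by
    intro η hne
    obtain ⟨a, ha, hle⟩ := key η
    rw [hind, helper4.classInner_irr_ne hχ η.2 (fun h => hne (Subtype.ext h.symm))] at ha
    have h0 : a = 0 := by exact_mod_cast ha.symm
    omega
  have hM1' : M ⟨χ, hχ⟩ ≤ 1 := by
    obtain ⟨a, ha, hle⟩ := key ⟨χ, hχ⟩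
    rw [hind, helper4.classInner_irr_self hχ] at ha
    have h0 : a = 1 := by exact_mod_cast ha.symm
    omega
  have hMne : M ⟨χ, hχ⟩ ≠ 0 := by
    intro h0
    have h1 : indFun K (φ₁ : K → ℂ) 1 = 0 := by
      rw [hM3]
      have h2 : ∑ ψ : IrrCharacter G, M ψ * charDegree (ψ : G → ℂ) = 0 := by
        apply Finset.sum_eq_zero
        intro ψ _
        by_cases h : ψ = ⟨χ, hχ⟩
        · rw [h, h0]; simp
        · rw [hM0 ψ h]; simp
      rw [h2]; simp
    rw [helper4.indFun_one, irr_one_eq_charDegree φ₁] at h1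
    have hpos := charDegree_pos φ₁
    have hidx : K.index ≠ 0 := Subgroup.index_ne_zero_of_finite
    have h3 : K.index * charDegree (φ₁ : K → ℂ) = 0 := by exact_mod_cast h1
    rcases Nat.mul_eq_zero.mp h3 with h | h
    · exact hidx h
    · omega
  have hMχ : M ⟨χ, hχ⟩ = 1 := by omega
  funext g
  rw [hM2 g, Finset.sum_eq_single (⟨χ, hχ⟩ : IrrCharacter G)]
  · rw [hMχ]; simp
  · intro b _ hb
    rw [hM0 b hb]; simp
  · intro h
    exact absurd (Finset.mem_univ _) h

/-- If the fully ramified character `χ` is induced from the irreducible character `φ` of the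
normal subgroup `K ≥ Z`, then for a Sylow preimage `S = S₀ Z` every irreducible character of
`S ∩ K` over `θ` has stabilizer `S ∩ K` in `S`. -/
theorem fr_induced_regular {H : Type u} [Group H] [Fintype H] (Z : Subgroup H) [hZ : Z.Normal]
    [Fintype Z] {χ : H → ℂ} (hχ : IsIrrCharacter H χ) {θ : Z → ℂ} (hθ : IsIrrCharacter Z θ)
    (e : ℕ) (he : e ^ 2 = Z.index) (hres : ∀ z : Z, χ z = (e : ℂ) * θ z) (K : Subgroup H)
    [hK : K.Normal] [Fintype K] (hZK : Z ≤ K) {φ : K → ℂ} (hφ : IsIrrCharacter K φ)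
    (hind : indFun K φ = χ) (p : ℕ) [hp : Fact p.Prime] (S₀ : Sylow p H) (S : Subgroup H)
    (hS : S = (S₀ : Subgroup H) ⊔ Z) (hZS : Z ≤ S) (μ : K.subgroupOf S → ℂ)
    (hμ : IsIrrCharacter (K.subgroupOf S) μ)
    (hμθ : classInner
      (fun z : Z => μ ⟨⟨z, hZS z.2⟩, Subgroup.mem_subgroupOf.mpr (hZK z.2)⟩) θ ≠ 0)
    (htrans : ∀ μ' : K.subgroupOf S → ℂ, IsIrrCharacter (K.subgroupOf S) μ' →
      classInner (fun z : Z => μ' ⟨⟨z, hZS z.2⟩, Subgroup.mem_subgroupOf.mpr (hZK z.2)⟩) θ ≠ 0 →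
      ∃ x : S, μ' = cconj (K.subgroupOf S) x μ) :
    inertia (K.subgroupOf S) μ ≤ K.subgroupOf S := by
  classical
  haveI : Fintype S := Fintype.ofFinite S
  haveI : Fintype (Z.subgroupOf S) := Fintype.ofFinite _
  haveI : Fintype (K.subgroupOf S) := Fintype.ofFinite _
  haveI : Fintype (IrrCharacter (K.subgroupOf S)) := Fintype.ofFinite _
  haveI : Fintype (IrrCharacter Z) := Fintype.ofFinite _
  have hS₀S : (S₀ : Subgroup H) ≤ S := by rw [hS]; exact le_sup_left
  have hSidx : ¬ p ∣ S.index := by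
    intro h
    exact S₀.not_dvd_index (dvd_trans h (Subgroup.index_dvd_of_le hS₀S))
  obtain ⟨k, hk⟩ : ∃ k : ℕ, Z.relIndex S = p ^ k := by
    have h1 : Z.relIndex S = Z.relIndex (S₀ : Subgroup H) := by
      rw [hS]; exact Subgroup.relIndex_sup_right (S₀ : Subgroup H) Z
    obtain ⟨n, hn⟩ := IsPGroup.iff_card.mp S₀.isPGroup'
    have h2 : Z.relIndex (S₀ : Subgroup H) ∣ p ^ n := by
      rw [← hn]; exact Subgroup.relIndex_dvd_card _ _
    obtain ⟨m, -, hm⟩ := (Nat.dvd_prime_pow hp.out).mp h2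
    exact ⟨m, by rw [h1, hm]⟩
  have hZL : Z.subgroupOf S ≤ K.subgroupOf S := fun x hx =>
    Subgroup.mem_subgroupOf.mpr (hZK (Subgroup.mem_subgroupOf.mp hx))
  have hθ' : IsIrrCharacter (Z.subgroupOf S) (subRes Z S θ) := isIrrCharacter_subRes Z S hZS hθ
  have hbridge0 : ∀ ψ : S → ℂ, classInner (fun x : Z.subgroupOf S => ψ x) (subRes Z S θ) =
      classInner (fun n : Z => ψ ⟨n, hZS n.2⟩) θ := by
    intro ψ
    rw [← subRes_restrict Z S hZS ψ, classInner_subRes Z S hZS]
  have hbridge : ∀ F : K.subgroupOf S → ℂ,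
      classInner (fun z : Z.subgroupOf S => F ⟨z, hZL z.2⟩) (subRes Z S θ) =
      classInner (fun z : Z => F ⟨⟨z, hZS z.2⟩, Subgroup.mem_subgroupOf.mpr (hZK z.2)⟩) θ := by
    intro F
    exact classInner_subRes Z S hZS
      (fun z : Z => F ⟨⟨z, hZS z.2⟩, Subgroup.mem_subgroupOf.mpr (hZK z.2)⟩) θ
  -- a character `ψ` of `S` over `μ`
  obtain ⟨ψ, hψ, hψμ⟩ := exists_irr_over (K.subgroupOf S) hμ
  have hψθ : classInner (fun z : Z => ψ ⟨z, hZS z.2⟩) θ ≠ 0 := by
    rw [← hbridge0]
    refine fr_over_trans (Z.subgroupOf S) (K.subgroupOf S) hZL (isCharacter_of_irr hψ) hμ hθ'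
      hψμ ?_
    rw [hbridge]; exact hμθ
  obtain ⟨f, a, hf0, -, hdegψ, hfa⟩ := fr_sub_ram Z S hχ hθ e he hres hZS hψ hψθ
  obtain ⟨k', hk'dvd, hk'⟩ := degree_quot_dvd_index (K.subgroupOf S) hψ hμ hψμ
  -- the restriction of `φ` to `S ∩ K`
  let ι : K.subgroupOf S →* K :=
    { toFun := fun y => ⟨((y : S) : H), Subgroup.mem_subgroupOf.mp y.2⟩
      map_one' := rfl
      map_mul' := fun _ _ => rfl }
  let j : Z →* K.subgroupOf S :=
    { toFun := fun z => ⟨⟨z, hZS z.2⟩, Subgroup.mem_subgroupOf.mpr (hZK z.2)⟩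
      map_one' := rfl
      map_mul' := fun _ _ => rfl }
  have hφL : IsCharacter (K.subgroupOf S) (fun y => φ (ι y)) :=
    helper4.isCharacter_comp ι (isCharacter_of_irr hφ)
  obtain ⟨N, -, hN2, hN3⟩ := exists_nat_decomp hφL
  have hχφ : classInner (fun k : K => χ k) φ ≠ 0 := by
    have h1 := helper4.frobenius_reciprocity K φ (helper4.isClassFunction_of_isIrrCharacter hχ)
    rw [hind, helper4.classInner_irr_self hχ] at h1
    rw [← helper4.classInner_conj_symm, ← h1]
    simp
  have hover : ∀ μ' : IrrCharacter (K.subgroupOf S), N μ' ≠ 0 →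
      classInner (fun z : Z => (μ' : K.subgroupOf S → ℂ) (j z)) θ ≠ 0 := by
    intro μ' hNμ'
    have hα : IsCharacter Z (fun z => (μ' : K.subgroupOf S → ℂ) (j z)) :=
      helper4.isCharacter_comp j (isCharacter_of_irr μ'.2)
    obtain ⟨A, hA1, -, hA3⟩ := exists_nat_decomp hα
    obtain ⟨θ₁, hθ₁⟩ : ∃ θ₁ : IrrCharacter Z, A θ₁ ≠ 0 := by
      by_contra hcon
      push Not at hcon
      have h1 : (μ' : K.subgroupOf S → ℂ) (j 1) = 0 := by
        rw [hA3]
        simp [hcon]
      rw [map_one, irr_one_eq_charDegree μ'] at h1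
      have hpos := charDegree_pos μ'
      have h2 : charDegree (μ' : K.subgroupOf S → ℂ) = 0 := by exact_mod_cast h1
      omega
    have h3 : classInner (fun z : Z => φ ⟨z, hZK z.2⟩) (θ₁ : Z → ℂ) ≠ 0 := by
      have h4 : (fun z : Z => φ ⟨z, hZK z.2⟩) =
          ∑ μ'' : IrrCharacter (K.subgroupOf S),
            (N μ'' : ℂ) • (fun z : Z => (μ'' : K.subgroupOf S → ℂ) (j z)) := by
        funext z
        have h5 := hN2 (j z)
        rw [Finset.sum_apply]
        refine h5.trans ?_
        simp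
      rw [h4, helper4.classInner_sum_left]
      have hnat : ∀ μ'' : IrrCharacter (K.subgroupOf S), ∃ t : ℕ,
          classInner ((N μ'' : ℂ) • (fun z : Z => (μ'' : K.subgroupOf S → ℂ) (j z)))
            (θ₁ : Z → ℂ) = t ∧ (μ'' = μ' → t ≠ 0) := by
        intro μ''
        obtain ⟨b, hb⟩ := helper4.exists_nat_classInner_irr
          (helper4.isCharacter_comp j (isCharacter_of_irr μ''.2)) θ₁.2
        refine ⟨N μ'' * b, by rw [helper4.classInner_smul_left, hb]; push_cast; ring, ?_⟩
        rintro rfl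
        have h6 : b = A θ₁ := by
          have h7 := hA1 θ₁
          rw [hb] at h7
          exact_mod_cast h7
        rw [h6]
        exact Nat.mul_ne_zero hNμ' hθ₁
      choose t ht1 ht2 using hnat
      rw [Finset.sum_congr rfl (fun μ'' _ => ht1 μ'')]
      have h8 : (∑ μ'' : IrrCharacter (K.subgroupOf S), t μ'') ≠ 0 := by
        intro h0
        exact ht2 μ' rfl ((Finset.sum_eq_zero_iff.mp h0) μ' (Finset.mem_univ _))
      exact_mod_cast h8
    have h5 := fr_over_trans Z K hZK (isCharacter_of_irr hχ) hφ θ₁.2 hχφ h3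
    have h6 : (θ₁ : Z → ℂ) = θ := by
      by_contra hne
      apply h5
      have h7 : (fun z : Z => χ z) = (e : ℂ) • θ := by
        funext z
        simp [hres z]
      rw [h7, helper4.classInner_smul_left,
        helper4.classInner_irr_ne hθ θ₁.2 (fun h => hne h.symm)]
      simp
    have h8 := hA1 θ₁
    rw [h6] at h8
    rw [h8]
    exact_mod_cast hθ₁
  have hμ1 : μ 1 = (charDegree μ : ℂ) := irr_one_eq_charDegree ⟨μ, hμ⟩
  have hdegN : ∀ μ' : IrrCharacter (K.subgroupOf S),
      N μ' * charDegree (μ' : K.subgroupOf S → ℂ) = N μ' * charDegree μ := by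
    intro μ'
    by_cases h0 : N μ' = 0
    · rw [h0]; simp
    · obtain ⟨x, hx⟩ := htrans μ' μ'.2 (hover μ' h0)
      have h1 : (μ' : K.subgroupOf S → ℂ) 1 = μ 1 := by rw [hx, cconj_apply_one]
      rw [irr_one_eq_charDegree μ', hμ1] at h1
      have h2 : charDegree (μ' : K.subgroupOf S → ℂ) = charDegree μ := by exact_mod_cast h1
      rw [h2]
  have hφ1 : φ 1 = (charDegree φ : ℂ) := irr_one_eq_charDegree ⟨φ, hφ⟩
  have hφdeg : charDegree φ =
      (∑ μ' : IrrCharacter (K.subgroupOf S), N μ') * charDegree μ := by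
    have h1 : φ (ι 1) = φ 1 := by rw [map_one]
    rw [h1, hφ1] at hN3
    have h2 : charDegree φ = ∑ μ' : IrrCharacter (K.subgroupOf S),
        N μ' * charDegree (μ' : K.subgroupOf S → ℂ) := by exact_mod_cast hN3
    rw [h2, Finset.sum_congr rfl (fun μ' _ => hdegN μ'), Finset.sum_mul]
  have hθ1 : θ 1 = (charDegree θ : ℂ) := irr_one_eq_charDegree ⟨θ, hθ⟩
  have hψ1 : ψ 1 = (charDegree ψ : ℂ) := irr_one_eq_charDegree ⟨ψ, hψ⟩
  have hE : e * charDegree θ =
      K.index * ((∑ μ' : IrrCharacter (K.subgroupOf S), N μ') * charDegree μ) := by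
    have h1 := hres 1
    have h2 : χ ((1 : Z) : H) = χ 1 := rfl
    have h3 := helper4.indFun_one K φ
    rw [hind] at h3
    rw [h2, h3, hθ1, hφ1, hφdeg] at h1
    exact_mod_cast h1.symm
  have hK' : charDegree ψ = k' * charDegree μ := by
    rw [hψ1, hμ1] at hk'
    exact_mod_cast hk'
  have hmain : S.index * k' = a * (∑ μ' : IrrCharacter (K.subgroupOf S), N μ') * K.index := by
    have h1 : S.index * k' * charDegree μ =
        a * (∑ μ' : IrrCharacter (K.subgroupOf S), N μ') * K.index * charDegree μ := by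
      calc S.index * k' * charDegree μ = S.index * charDegree ψ := by rw [hK']; ring
        _ = S.index * f * charDegree θ := by rw [hdegψ]; ring
        _ = a * (e * charDegree θ) := by rw [hfa]; ring
        _ = a * (∑ μ' : IrrCharacter (K.subgroupOf S), N μ') * K.index * charDegree μ := by
          rw [hE]; ring
    exact Nat.eq_of_mul_eq_mul_right (charDegree_pos ⟨μ, hμ⟩) h1
  have hr1 : K.index = K.relIndex S * (S ⊔ K).index := by
    rw [← Subgroup.relIndex_sup_right S K]
    exact (Subgroup.relIndex_mul_index (le_sup_right : K ≤ S ⊔ K)).symm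
  have hr2 : K.relIndex S ∣ S.index * k' := by
    rw [hmain, hr1]
    exact ⟨a * (∑ μ' : IrrCharacter (K.subgroupOf S), N μ') * (S ⊔ K).index, by ring⟩
  have hr3 : K.relIndex S ∣ p ^ k := by
    rw [← hk]
    exact Subgroup.relIndex_dvd_of_le_left S hZK
  obtain ⟨i, -, hi⟩ := (Nat.dvd_prime_pow hp.out).mp hr3
  have hcop : Nat.Coprime (K.relIndex S) S.index := by
    rw [hi]
    exact Nat.Coprime.pow_left _ ((Nat.Prime.coprime_iff_not_dvd hp.out).mpr hSidx)
  have hr4 : K.relIndex S ∣ k' := hcop.dvd_of_dvd_mul_left hr2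
  have hk'eq : k' = (K.subgroupOf S).index := Nat.dvd_antisymm hk'dvd hr4
  exact inertia_le_of_degree (K.subgroupOf S) hψ hμ hψμ (by rw [hK', hk'eq])

end Cfsg.Agent.Lib.helper82
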