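import Mathlib
import Cfsg.Agent.Lib.helper86.IvDefs

/-!
# S3928, piece BF (racer copy, prefixed name): Brauer–Fowler count for an involutory automorphism.
-/

set_option autoImplicit false

namespace Cfsg.Agent.Lib.helper86.IV

/-- arithmetic core of the Brauer–Fowler count -/
theorem helper82_bf_arith (c k m S : ℕ) (h1 : k * k ≤ k + S) (h2 : 2 * c ^ 2 * S ≤ m * m)
    (h3 : m + 1 ≤ c * k) (h4 : 2 ≤ k) : False := by
  obtain ⟨j, rfl⟩ := Nat.exists_eq_add_of_le h4
  have h5 : (m + 1) * (m + 1) ≤ (c * (2 + j)) * (c * (2 + j)) := Nat.mul_le_mul h3 h3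
  have h6 : 2 * c ^ 2 * ((2 + j) * (2 + j)) ≤ 2 * c ^ 2 * ((2 + j) + S) :=
    Nat.mul_le_mul_left _ h1
  nlinarith [Nat.zero_le (c * c * j), Nat.zero_le (c * c * j * j), Nat.zero_le m]

/-- BF (racer copy of `iv_bf`) -/
theorem helper82_iv_bf {N : Type*} [Group N] [Finite N] (α : MulAut N) (h2 : ∀ g, α (α g) = g)
    (hne : ∃ g, α g ≠ g) :
    ∃ g : N, g ≠ 1 ∧ (Subgroup.centralizer {g}).index ≤ 2 * (Nat.card {c : N // α c = c}) ^ 2 := by
  classical
  haveI : Fintype N := Fintype.ofFinite N
  by_contra hcon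
  push_neg at hcon
  obtain ⟨g₀, hg₀⟩ := hne
  have hKinv : ∀ k ∈ (Finset.univ.image (fun x : N => x * (α x)⁻¹)), α k = k⁻¹ := by
    intro k hk
    obtain ⟨x, -, rfl⟩ := Finset.mem_image.1 hk
    rw [map_mul, map_inv, h2, mul_inv_rev, inv_inv]
  have hK2 : 2 ≤ (Finset.univ.image (fun x : N => x * (α x)⁻¹)).card := by
    apply Finset.one_lt_card.2
    refine ⟨1, Finset.mem_image.2 ⟨1, Finset.mem_univ _, by simp⟩, g₀ * (α g₀)⁻¹,
      Finset.mem_image.2 ⟨g₀, Finset.mem_univ _, rfl⟩, ?_⟩
    intro h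
    apply hg₀
    exact (mul_inv_eq_one.1 h.symm).symm
  have hfib : Fintype.card N ≤ Nat.card {c : N // α c = c} *
      (Finset.univ.image (fun x : N => x * (α x)⁻¹)).card := by
    rw [← Finset.card_univ]
    apply Finset.card_le_mul_card_image
    intro k hk
    obtain ⟨x₀, -, rfl⟩ := Finset.mem_image.1 hk
    rw [Nat.card_eq_fintype_card, Fintype.card_subtype]
    apply Finset.card_le_card_of_injOn (fun x => x₀⁻¹ * x)
    · intro x hx
      have hx' := (Finset.mem_filter.1 (Finset.mem_coe.1 hx)).2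
      apply Finset.mem_coe.2
      rw [Finset.mem_filter]
      refine ⟨Finset.mem_univ _, ?_⟩
      have h := congrArg (fun t => x₀⁻¹ * t * α x) hx'
      simp only [mul_assoc, inv_mul_cancel, mul_one, inv_mul_cancel_left] at h
      rw [map_mul, map_inv]
      exact h.symm
    · intro x _ y _ hxy
      exact mul_left_cancel hxy
  -- the counting function
  have hcount : ∀ g : N,
      (((Finset.univ.image (fun x : N => x * (α x)⁻¹)) ×ˢ
        (Finset.univ.image (fun x : N => x * (α x)⁻¹))).filter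
          (fun p : N × N => p.1 * p.2⁻¹ = g)).card ≤
        Nat.card (Subgroup.centralizer ({g} : Set N)) := by
    intro g
    by_cases hemp : (((Finset.univ.image (fun x : N => x * (α x)⁻¹)) ×ˢ
        (Finset.univ.image (fun x : N => x * (α x)⁻¹))).filter
          (fun p : N × N => p.1 * p.2⁻¹ = g)) = ∅
    · rw [hemp]; simp
    obtain ⟨p₀, hp₀⟩ := Finset.nonempty_iff_ne_empty.2 hemp
    have key : ∀ p ∈ (((Finset.univ.image (fun x : N => x * (α x)⁻¹)) ×ˢ
        (Finset.univ.image (fun x : N => x * (α x)⁻¹))).filter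
          (fun p : N × N => p.1 * p.2⁻¹ = g)),
        p.2 = g⁻¹ * p.1 ∧ p.1⁻¹ * g⁻¹ * p.1 = α g := by
      intro p hp
      obtain ⟨hpK, hpg⟩ := Finset.mem_filter.1 hp
      obtain ⟨hp1, hp2⟩ := Finset.mem_product.1 hpK
      have e1 : p.2 = g⁻¹ * p.1 := by
        rw [← hpg]; group
      refine ⟨e1, ?_⟩
      rw [← hpg, map_mul, map_inv, hKinv _ hp1, hKinv _ hp2]
      group
    obtain ⟨e01, e02⟩ := key p₀ hp₀
    rw [← Nat.card_eq_finsetCard]
    apply Nat.card_le_card_of_injective
      (fun p : ↥(((Finset.univ.image (fun x : N => x * (α x)⁻¹)) ×ˢ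
        (Finset.univ.image (fun x : N => x * (α x)⁻¹))).filter
          (fun p : N × N => p.1 * p.2⁻¹ = g)) =>
        (⟨p.1.1 * p₀.1⁻¹, by
          obtain ⟨e1, e2⟩ := key p.1 p.2
          rw [Subgroup.mem_centralizer_iff]
          intro y hy
          rw [Set.mem_singleton_iff] at hy
          subst hy
          have e3 : p.1.1⁻¹ * y⁻¹ * p.1.1 = p₀.1⁻¹ * y⁻¹ * p₀.1 := by rw [e2, e02]
          have e4 := congrArg (fun t => p.1.1 * t * p₀.1⁻¹) e3
          simp only [mul_assoc, mul_inv_cancel_left, mul_inv_cancel, mul_one] at e4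
          have hcomm : Commute (p.1.1 * p₀.1⁻¹) y⁻¹ := by
            unfold Commute SemiconjBy
            rw [mul_assoc]
            exact e4.symm
          exact (Commute.inv_right_iff.1 hcomm).eq.symm⟩ :
          ↥(Subgroup.centralizer ({g} : Set N))))
    intro p q hpq
    have h1 : p.1.1 * p₀.1⁻¹ = q.1.1 * p₀.1⁻¹ := congrArg Subtype.val hpq
    have h3 : p.1.1 = q.1.1 := mul_right_cancel h1
    apply Subtype.ext
    apply Prod.ext h3
    rw [(key p.1 p.2).1, (key q.1 q.2).1, h3]
  -- total count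
  have htot : (Finset.univ.image (fun x : N => x * (α x)⁻¹)).card *
      (Finset.univ.image (fun x : N => x * (α x)⁻¹)).card =
      ∑ g : N, (((Finset.univ.image (fun x : N => x * (α x)⁻¹)) ×ˢ
        (Finset.univ.image (fun x : N => x * (α x)⁻¹))).filter
          (fun p : N × N => p.1 * p.2⁻¹ = g)).card := by
    rw [← Finset.card_product]
    exact Finset.card_eq_sum_card_fiberwise (fun _ _ => Finset.mem_univ _)
  have hone : (((Finset.univ.image (fun x : N => x * (α x)⁻¹)) ×ˢ
        (Finset.univ.image (fun x : N => x * (α x)⁻¹))).filter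
          (fun p : N × N => p.1 * p.2⁻¹ = 1)).card ≤
      (Finset.univ.image (fun x : N => x * (α x)⁻¹)).card := by
    apply Finset.card_le_card_of_injOn Prod.fst
    · intro p hp
      have hp' := Finset.mem_filter.1 (Finset.mem_coe.1 hp)
      exact Finset.mem_coe.2 (Finset.mem_product.1 hp'.1).1
    · intro p hp q hq hpq
      have hp' := (Finset.mem_filter.1 (Finset.mem_coe.1 hp)).2
      have hq' := (Finset.mem_filter.1 (Finset.mem_coe.1 hq)).2
      have e1 : p.1 = p.2 := mul_inv_eq_one.1 hp'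
      have e2 : q.1 = q.2 := mul_inv_eq_one.1 hq'
      apply Prod.ext hpq
      rw [← e1, ← e2]; exact hpq
  rw [← Finset.add_sum_erase Finset.univ _ (Finset.mem_univ (1 : N))] at htot
  -- bound on the terms with `g ≠ 1`
  have hterm : ∀ g ∈ Finset.univ.erase (1 : N),
      2 * (Nat.card {c : N // α c = c}) ^ 2 *
        (((Finset.univ.image (fun x : N => x * (α x)⁻¹)) ×ˢ
        (Finset.univ.image (fun x : N => x * (α x)⁻¹))).filter
          (fun p : N × N => p.1 * p.2⁻¹ = g)).card ≤ Fintype.card N - 1 := by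
    intro g hg
    have hg1 : g ≠ 1 := Finset.ne_of_mem_erase hg
    have hidx := hcon g hg1
    have hmul := Subgroup.card_mul_index (Subgroup.centralizer ({g} : Set N))
    rw [Nat.card_eq_fintype_card (α := N)] at hmul
    have hz : 1 ≤ Nat.card (Subgroup.centralizer ({g} : Set N)) := Nat.card_pos
    have hle := hcount g
    have h5 : 2 * (Nat.card {c : N // α c = c}) ^ 2 *
        Nat.card (Subgroup.centralizer ({g} : Set N)) <
        Nat.card (Subgroup.centralizer ({g} : Set N)) *
          (Subgroup.centralizer ({g} : Set N)).index := by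
      rw [Nat.mul_comm]
      exact Nat.mul_lt_mul_of_pos_left hidx hz
    have h6 : 2 * (Nat.card {c : N // α c = c}) ^ 2 *
        (((Finset.univ.image (fun x : N => x * (α x)⁻¹)) ×ˢ
        (Finset.univ.image (fun x : N => x * (α x)⁻¹))).filter
          (fun p : N × N => p.1 * p.2⁻¹ = g)).card ≤
        2 * (Nat.card {c : N // α c = c}) ^ 2 *
          Nat.card (Subgroup.centralizer ({g} : Set N)) := Nat.mul_le_mul_left _ hle
    omega
  have hsum : 2 * (Nat.card {c : N // α c = c}) ^ 2 *
      (∑ g ∈ Finset.univ.erase (1 : N),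
        (((Finset.univ.image (fun x : N => x * (α x)⁻¹)) ×ˢ
        (Finset.univ.image (fun x : N => x * (α x)⁻¹))).filter
          (fun p : N × N => p.1 * p.2⁻¹ = g)).card) ≤
      (Fintype.card N - 1) * (Fintype.card N - 1) := by
    rw [Finset.mul_sum]
    have h7 := Finset.sum_le_card_nsmul _ _ _ hterm
    rw [Finset.card_erase_of_mem (Finset.mem_univ _), Finset.card_univ, smul_eq_mul] at h7
    exact h7
  have hNpos : 1 ≤ Fintype.card N := Fintype.card_pos
  exact helper82_bf_arith (Nat.card {c : N // α c = c})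
    (Finset.univ.image (fun x : N => x * (α x)⁻¹)).card (Fintype.card N - 1) _
    (by rw [htot]; exact Nat.add_le_add_right hone _) hsum
    (by rw [Nat.sub_add_cancel hNpos]; exact hfib) hK2

end Cfsg.Agent.Lib.helper86.IV
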