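import Mathlib
import Cfsg.Agent.Lib.helper33.M24BDefs
import Cfsg.Agent.S0908
import Cfsg.Agent.S0912
import Cfsg.Agent.S0920

set_option autoImplicit false
open Cfsg Cfsg.Agent.Lib.helper33.M24B
open scoped ComplexConjugate

namespace Cfsg.Agent.Lib.helper82.M24B

/-- NPG -/
theorem normal_pgroup_le_defect {G : Type*} [Group G] [Finite G] (p : ℕ) [Fact p.Prime]
    (M : Ideal AlgInt) (hM : IsPModular p M) (B : Set (IrrCharacter G)) (hB : IsPBlock M B)
    (D : Subgroup G) (hD : IsDefectGroup p M B D) (R : Subgroup G) (hR : IsPGroup p R)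
    (hRN : R ≤ Subgroup.normalizer (D : Set G))
    (hnorm : ∀ n ∈ Subgroup.normalizer (D : Set G), ∀ r ∈ R, n * r * n⁻¹ ∈ R) : R ≤ D := by
  classical
  have hDp : IsPGroup p D := IsPGroup.of_card (Cfsg.Agent.S0908.result p M hM B hB D hD)
  obtain ⟨b, ⟨hb, hbD, _⟩, _⟩ := (Cfsg.Agent.S0920.result p M hM D hDp).2 B hB hD
  have h1 : pCore p ↥(Subgroup.normalizer (D : Set G))
      ≤ D.subgroupOf (Subgroup.normalizer (D : Set G)) :=
    Cfsg.Agent.S0912.result p M hM b hb _ hbD
  have hn : (R.subgroupOf (Subgroup.normalizer (D : Set G))).Normal := by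
    constructor
    intro x hx c
    rw [Subgroup.mem_subgroupOf] at hx ⊢
    have := hnorm c c.2 x hx
    simpa using this
  have hp : IsPGroup p (R.subgroupOf (Subgroup.normalizer (D : Set G))) := hR.comap_subtype
  have h2 : R.subgroupOf (Subgroup.normalizer (D : Set G))
      ≤ pCore p ↥(Subgroup.normalizer (D : Set G)) := le_sSup ⟨hn, hp⟩
  intro r hr
  have h3 : (⟨r, hRN hr⟩ : ↥(Subgroup.normalizer (D : Set G)))
      ∈ D.subgroupOf (Subgroup.normalizer (D : Set G)) :=
    h1 (h2 (Subgroup.mem_subgroupOf.2 hr))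
  exact Subgroup.mem_subgroupOf.1 h3

end Cfsg.Agent.Lib.helper82.M24B
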