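import Mathlib

set_option autoImplicit false

namespace Cfsg.Agent.Lib.helper82.M24B

/-- OPC -/
theorem core_centralizer {G : Type*} [Group G] [Finite G] (p : ℕ) [Fact p.Prime]
    (D : Subgroup G) :
    ∃ R : Subgroup G, IsPGroup p R ∧ R ≤ Subgroup.normalizer (D : Set G) ∧
      (∀ n ∈ Subgroup.normalizer (D : Set G), ∀ r ∈ R, n * r * n⁻¹ ∈ R) ∧
      ∀ R0 : Subgroup G, IsPGroup p R0 → R0 ≤ Subgroup.centralizer (D : Set G) →
        (∀ c ∈ Subgroup.centralizer (D : Set G), ∀ r ∈ R0, c * r * c⁻¹ ∈ R0) → R0 ≤ R := by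
  classical
  set C : Subgroup G := Subgroup.centralizer (D : Set G) with hC
  set Hs : Set (Subgroup ↥C) := {N : Subgroup ↥C | N.Normal ∧ IsPGroup p N} with hHs
  set O : Subgroup ↥C := sSup Hs with hO
  have hOn : O.Normal := Subgroup.sSup_normal _ (fun _ h => h.1)
  have hOp : IsPGroup p O := Sylow.sSup_of_normal _ (fun _ h => h.2) (fun _ h => h.1)
  have hle : ∀ N : Subgroup ↥C, N.Normal → IsPGroup p N → N ≤ O := fun N h1 h2 => le_sSup ⟨h1, h2⟩
  -- the normalizer of `D` normalizes `C`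
  have hconjC : ∀ m ∈ Subgroup.normalizer (D : Set G), ∀ c ∈ C, m * c * m⁻¹ ∈ C := by
    intro m hm c hc
    rw [hC, Subgroup.mem_centralizer_iff]
    intro d hd
    have hm' : m⁻¹ ∈ Subgroup.normalizer (D : Set G) := inv_mem hm
    have hd' : m⁻¹ * d * m ∈ (D : Set G) := by
      have := (Subgroup.mem_normalizer_iff.1 hm' d).1 hd
      simpa using this
    have hc' : (m⁻¹ * d * m) * c = c * (m⁻¹ * d * m) :=
      (Subgroup.mem_centralizer_iff.1 hc) _ hd'
    calc d * (m * c * m⁻¹) = m * ((m⁻¹ * d * m) * c) * m⁻¹ := by group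
      _ = m * (c * (m⁻¹ * d * m)) * m⁻¹ := by rw [hc']
      _ = (m * c * m⁻¹) * d := by group
  refine ⟨O.map C.subtype, hOp.map _, ?_, ?_, ?_⟩
  · rintro _ ⟨c, _, rfl⟩
    exact Subgroup.centralizer_le_normalizer _ c.2
  · rintro n hn _ ⟨o, ho, rfl⟩
    have hn' : n⁻¹ ∈ Subgroup.normalizer (D : Set G) := inv_mem hn
    -- conjugation by `n⁻¹` on `C`
    let β : ↥C →* ↥C := MonoidHom.mk' (fun c => ⟨n⁻¹ * c * n, by
      have := hconjC n⁻¹ hn' c c.2
      simpa using this⟩) (by
      intro a b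
      apply Subtype.ext
      simp only [Subgroup.coe_mul]
      group)
    have hβ : ∀ c : ↥C, ((β c : ↥C) : G) = n⁻¹ * c * n := fun c => rfl
    have hβinj : Function.Injective β := by
      intro a b hab
      apply Subtype.ext
      have h1 := congrArg (Subtype.val) hab
      rw [hβ, hβ] at h1
      have h2 : n * (n⁻¹ * (a : G) * n) * n⁻¹ = n * (n⁻¹ * (b : G) * n) * n⁻¹ := by rw [h1]
      simpa [mul_assoc] using h2
    have h1 : O.comap β ≤ O :=
      hle _ (hOn.comap β) (hOp.comap_of_injective β hβinj)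
    have h2 : (⟨n * o * n⁻¹, hconjC n hn o o.2⟩ : ↥C) ∈ O.comap β := by
      rw [Subgroup.mem_comap]
      have : β ⟨n * o * n⁻¹, hconjC n hn o o.2⟩ = o := by
        apply Subtype.ext
        rw [hβ]
        simp only
        group
      rw [this]
      exact ho
    exact ⟨⟨n * o * n⁻¹, hconjC n hn o o.2⟩, h1 h2, rfl⟩
  · intro R0 hR0 hR0C hinv
    have hn : (R0.subgroupOf C).Normal := by
      constructor
      intro x hx c
      rw [Subgroup.mem_subgroupOf] at hx ⊢
      have := hinv c c.2 x hx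
      simpa using this
    have hp : IsPGroup p (R0.subgroupOf C) := hR0.comap_subtype
    have h1 : R0.subgroupOf C ≤ O := hle _ hn hp
    intro r hr
    exact ⟨⟨r, hR0C hr⟩, h1 (Subgroup.mem_subgroupOf.2 hr), rfl⟩

end Cfsg.Agent.Lib.helper82.M24B
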