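import Mathlib
import Cfsg.Agent.Lib.helper33.M24BDefs
import Cfsg.Agent.Lib.helper20.Osima

set_option autoImplicit false
open Cfsg Cfsg.Agent.Lib.helper33.M24B
open scoped ComplexConjugate

namespace Cfsg.Agent.Lib.helper82.M24B

/-- REG -/
theorem defect_class_regular {G : Type*} [Group G] [Finite G] (p : ℕ) [Fact p.Prime]
    (M : Ideal AlgInt) (hM : IsPModular p M) (B : Set (IrrCharacter G)) (hB : IsPBlock M B)
    (g : G) (hg : IsDefectClass M B g) : ¬ p ∣ orderOf g := by
  classical
  haveI : Fintype G := Fintype.ofFinite G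
  intro hdvd
  apply hg.2.1
  rw [Cfsg.Agent.Lib.helper20.blockCoeff_eq_zero_of_singular hM hB g hdvd]
  exact Cfsg.Agent.Lib.helper20.memLocalIdeal_zero
    (Cfsg.Agent.Lib.helper20.isPrime_of_isPModular hM)

end Cfsg.Agent.Lib.helper82.M24B
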