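import Mathlib
import Cfsg.Agent.Lib.helper33.M24BDefs
import Cfsg.Agent.Lib.helper20.ProjVanish
import Cfsg.Agent.S0908
import Cfsg.Agent.S0924

set_option autoImplicit false
open Cfsg Cfsg.Agent.Lib.helper33.M24B
open scoped ComplexConjugate

namespace Cfsg.Agent.Lib.helper82.M24B

/-- VAN0 -/
theorem vanish_of_defect_zero {G : Type*} [Group G] [Finite G] (p : ℕ) [Fact p.Prime]
    (M : Ideal AlgInt) (hM : IsPModular p M) (χ : IrrCharacter G)
    (h0 : blockDefect p (blockOf M (χ : G → ℂ)) = 0) (u : G) (hu : p ∣ orderOf u) :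
    (χ : G → ℂ) u = 0 := by
  classical
  have hp : p.Prime := Fact.out
  obtain ⟨x, y, k, n, huxy, hcomm, hx1, hxk, hyn, hn0, hcop⟩ :=
    Cfsg.Agent.Lib.helper20.exists_pPart_split hp u hu
  have hpart : IsPPart p u x := by
    refine ⟨y, huxy.symm, hcomm, ?_, ?_⟩
    · have h1 : orderOf x ∣ p ^ k := orderOf_dvd_of_pow_eq_one hxk
      obtain ⟨j, _, hj⟩ := (Nat.dvd_prime_pow hp).1 h1
      exact ⟨j, hj⟩
    · intro hdvd
      have h1 : orderOf y ∣ n := orderOf_dvd_of_pow_eq_one hyn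
      have h2 : p ∣ n := hdvd.trans h1
      have h3 : p ∣ Nat.gcd n p := Nat.dvd_gcd h2 (dvd_refl p)
      rw [hcop] at h3
      exact hp.one_lt.ne' (Nat.dvd_one.1 h3)
  apply Cfsg.Agent.S0924.result p M hM χ u x hpart
  intro D hD hxD
  have hB : IsPBlock M (blockOf M (χ : G → ℂ)) := ⟨χ, rfl⟩
  have hcard := Cfsg.Agent.S0908.result p M hM _ hB D hD
  rw [h0, pow_zero] at hcard
  have hbot : D = ⊥ := Subgroup.card_eq_one.1 hcard
  rw [hbot, Subgroup.mem_bot] at hxD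
  exact hx1 hxD

end Cfsg.Agent.Lib.helper82.M24B
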