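import Mathlib
import Cfsg.Agent.Lib.helper75.PQDefs
import Cfsg.Agent.Lib.helper75.PQTower
import Cfsg.Agent.Lib.helper66.S3B
import Cfsg.Agent.Lib.helper66.GrB

/-!
# S4306 piece SQ (helper82): the index of the radical of a class-two group acting with scalar
commutators is a square
-/

set_option autoImplicit false

namespace Cfsg.Agent.Lib.helper75.PQ

open Cfsg.Agent.Lib.helper66 (WtV Fx cw)
open scoped commutatorElement

section D
variable {Γ : Type*} [Group Γ] [Finite Γ] {F : Type*} [Field F] [IsAlgClosed F]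
  {W : Type*} [AddCommGroup W] [Module F W] [FiniteDimensional F W]
  {ρ : Γ →* Module.End F W} {K H S R : Subgroup Γ} {p q s r : ℕ}

/-- Schur's lemma on a minimal invariant subspace. -/
theorem h82_schur_min (ρ : Γ →* Module.End F W) (R : Subgroup Γ) (U : Submodule F W)
    (hU0 : U ≠ ⊥) (hUR : ∀ u ∈ R, ∀ w ∈ U, ρ u w ∈ U)
    (hUmin : ∀ U' : Submodule F W, U' ≤ U → U' ≠ ⊥ → (∀ u ∈ R, ∀ w ∈ U', ρ u w ∈ U') →
      U' = U)
    (z : Γ) (hz : z ∈ R) (hcomm : ∀ u ∈ R, ∀ w ∈ U, ρ (z * u) w = ρ (u * z) w) :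
    ∃ c : F, ∀ w ∈ U, ρ z w = c • w := by
  classical
  have : Nontrivial U := Submodule.nontrivial_iff_ne_bot.mpr hU0
  obtain ⟨R', hR'⟩ : ∃ R' : R →* Module.End F U, ∀ (u : R) (w : U),
      ((R' u w : U) : W) = ρ u w :=
    ⟨Cfsg.Agent.Lib.helper66.restrictHom ρ R U hUR, fun u w => rfl⟩
  have hirr : ∀ U' : Submodule F U, (∀ T ∈ Set.range R', ∀ w ∈ U', T w ∈ U') →
      U' = ⊥ ∨ U' = ⊤ := by
    intro U' hU'R
    by_cases hU' : U' = ⊥
    · exact Or.inl hU'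
    right
    have hle : U'.map U.subtype ≤ U := Submodule.map_subtype_le U U'
    have hne0 : U'.map U.subtype ≠ ⊥ := by
      intro h0
      apply hU'
      rw [Submodule.eq_bot_iff]
      intro w hw
      have h1 : (w : W) ∈ U'.map U.subtype := ⟨w, hw, rfl⟩
      rw [h0] at h1
      exact Subtype.ext ((Submodule.mem_bot F).mp h1)
    have hinv : ∀ u ∈ R, ∀ w ∈ U'.map U.subtype, ρ u w ∈ U'.map U.subtype := by
      rintro u hu _ ⟨w, hw, rfl⟩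
      exact ⟨R' ⟨u, hu⟩ w, hU'R _ ⟨⟨u, hu⟩, rfl⟩ w hw, hR' ⟨u, hu⟩ w⟩
    have heq : U'.map U.subtype = U := hUmin _ hle hne0 hinv
    rw [eq_top_iff]
    intro w _
    have h1 : (w : W) ∈ U'.map U.subtype := by rw [heq]; exact w.2
    obtain ⟨w', hw', hww'⟩ := h1
    have h2 : w' = w := Subtype.ext hww'
    rwa [h2] at hw'
  obtain ⟨c, hc⟩ := Cfsg.Agent.Lib.helper66.schur_set (Set.range R') hirr (R' ⟨z, hz⟩) (by
    rintro _ ⟨u, rfl⟩
    apply LinearMap.ext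
    intro w
    apply Subtype.ext
    rw [Module.End.mul_apply, Module.End.mul_apply, hR', hR', hR', hR',
      ← Module.End.mul_apply, ← map_mul, ← Module.End.mul_apply, ← map_mul]
    exact hcomm u u.2 _ w.2)
  refine ⟨c, ?_⟩
  intro w hw
  have h1 := congrArg Subtype.val (LinearMap.congr_fun hc ⟨w, hw⟩)
  rw [hR'] at h1
  rw [h1]
  rfl

/-- SQ (from `helper66.ExtraRepB.finrank_sq_eq`): the index of the radical is a square. -/
theorem sq_index_h82 (ρ : Γ →* Module.End F W) (R : Subgroup Γ) (hRF : (Nat.card R : F) ≠ 0)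
    (hcl : ∀ u ∈ R, ∀ v ∈ R, ∀ t ∈ R, ⁅u, v⁆ * t = t * ⁅u, v⁆)
    (M : Submodule F W) (hM : M ≠ ⊥) (hMR : ∀ u ∈ R, ∀ w ∈ M, ρ u w ∈ M)
    (hsc : ∀ u ∈ R, ∀ v ∈ R, ∃ c : F, ∀ w ∈ M, ρ ⁅u, v⁆ w = c • w) :
    ∃ m : ℕ, Nat.card R =
      m ^ 2 * Nat.card {u : Γ // u ∈ R ∧ ∀ v ∈ R, ∀ w ∈ M, ρ ⁅u, v⁆ w = w} := by
  classical
  obtain ⟨U, hUM, hU0, hUR, hUmin⟩ := Cfsg.Agent.Lib.helper66.exists_min_submodule
    (fun U => ∀ u ∈ R, ∀ w ∈ U, ρ u w ∈ U) M hM hMR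
  have hcomR : ∀ u ∈ R, ∀ v ∈ R, ⁅u, v⁆ ∈ R := fun u hu v hv =>
    R.mul_mem (R.mul_mem (R.mul_mem hu hv) (R.inv_mem hu)) (R.inv_mem hv)
  -- the radical as a subgroup
  obtain ⟨Rad, hRad⟩ : ∃ Rad : Subgroup Γ, ∀ u, u ∈ Rad ↔
      (u ∈ R ∧ ∀ v ∈ R, ∀ w ∈ M, ρ ⁅u, v⁆ w = w) := by
    refine ⟨{ carrier := {u | u ∈ R ∧ ∀ v ∈ R, ∀ w ∈ M, ρ ⁅u, v⁆ w = w}
              mul_mem' := ?_
              one_mem' := ?_
              inv_mem' := ?_ }, fun u => Iff.rfl⟩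
    · rintro a b ⟨ha, ha'⟩ ⟨hb, hb'⟩
      refine ⟨R.mul_mem ha hb, ?_⟩
      intro v hv w hw
      have e : ⁅a * b, v⁆ = ⁅b, v⁆ * ⁅a, v⁆ := by
        have h1 := hcl b hb v hv a⁻¹ (R.inv_mem ha)
        have h2 : ⁅a * b, v⁆ = a * (⁅b, v⁆ * a⁻¹) * ⁅a, v⁆ := by
          simp only [commutatorElement_def]
          group
        rw [h2, h1]
        group
      rw [e, Cfsg.Agent.Lib.helper66.rho_mul, ha' v hv w hw, hb' v hv w hw]
    · refine ⟨R.one_mem, ?_⟩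
      intro v hv w hw
      simp
    · rintro a ⟨ha, ha'⟩
      refine ⟨R.inv_mem ha, ?_⟩
      intro v hv w hw
      have e : ⁅a⁻¹, v⁆ = ⁅a, v⁆⁻¹ := by
        have h1 := hcl a ha v hv a ha
        have h2 : ⁅a⁻¹, v⁆ = a⁻¹ * (⁅a, v⁆⁻¹ * a) := by
          simp only [commutatorElement_def]
          group
        have h3 : ⁅a, v⁆⁻¹ * a = a * ⁅a, v⁆⁻¹ := by
          rw [eq_mul_inv_iff_mul_eq, mul_assoc, ← h1, ← mul_assoc, inv_mul_cancel, one_mul]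
        rw [h2, h3]
        group
      rw [e]
      exact Cfsg.Agent.Lib.helper66.inv_fix_of_fix ρ _ w (ha' v hv w hw)
  have hRadR : Rad ≤ R := fun u hu => ((hRad u).mp hu).1
  obtain ⟨w₀, hw₀U, hw₀0⟩ := Submodule.exists_mem_ne_zero_of_ne_bot hU0
  -- the three hypotheses of the structure lemma
  have hscal : ∀ z ∈ Rad, ∃ c : F, ∀ w ∈ U, ρ z w = c • w := by
    intro z hz
    obtain ⟨hzR, hz'⟩ := (hRad z).mp hz
    apply h82_schur_min ρ R U hU0 hUR hUmin z hzR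
    intro u hu w hw
    have e : z * u = ⁅z, u⁆ * (u * z) := by
      simp only [commutatorElement_def]
      group
    rw [e, Cfsg.Agent.Lib.helper66.rho_mul]
    exact hz' u hu _ (hMR _ (R.mul_mem hu hzR) w (hUM hw))
  have hcomm : ∀ u ∈ R, ∀ v ∈ R, u * v * u⁻¹ * v⁻¹ ∈ Rad := by
    intro u hu v hv
    rw [hRad]
    refine ⟨hcomR u hu v hv, ?_⟩
    intro t ht w hw
    have e : ⁅u * v * u⁻¹ * v⁻¹, t⁆ = 1 := by
      rw [commutatorElement_eq_one_iff_mul_comm]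
      exact hcl u hu v hv t ht
    rw [e, map_one, Module.End.one_apply]
  have hnondeg : ∀ u ∈ R, u ∉ Rad → ∃ v ∈ R, ∃ w ∈ U, ρ (v * u) w ≠ ρ (u * v) w := by
    intro u hu hnot
    have h1 : ¬ ∀ v ∈ R, ∀ w ∈ M, ρ ⁅u, v⁆ w = w := fun h => hnot ((hRad u).mpr ⟨hu, h⟩)
    obtain ⟨v, h2⟩ := not_forall.mp h1
    obtain ⟨hv, h3⟩ := Classical.not_imp.mp h2
    obtain ⟨w₁, h4⟩ := not_forall.mp h3
    obtain ⟨hw₁, h5⟩ := Classical.not_imp.mp h4
    obtain ⟨c, hc⟩ := hsc u hu v hv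
    have hc1 : c ≠ 1 := by
      intro h
      apply h5
      rw [hc w₁ hw₁, h, one_smul]
    refine ⟨v, hv, w₀, hw₀U, ?_⟩
    intro heq
    have e : u * v = ⁅u, v⁆ * (v * u) := by
      simp only [commutatorElement_def]
      group
    have hmem : ρ (v * u) w₀ ∈ M := hMR _ (R.mul_mem hv hu) w₀ (hUM hw₀U)
    have h9 : ρ (u * v) w₀ = c • ρ (v * u) w₀ := by
      rw [e, Cfsg.Agent.Lib.helper66.rho_mul ρ ⁅u, v⁆ (v * u), hc _ hmem]
    rw [h9] at heq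
    have h6 : (1 - c) • ρ (v * u) w₀ = 0 := by
      rw [sub_smul, one_smul, ← heq, sub_self]
    rcases smul_eq_zero.mp h6 with h7 | h7
    · exact hc1 (sub_eq_zero.mp h7).symm
    · apply hw₀0
      have h8 := Cfsg.Agent.Lib.helper66.rho_inv_apply ρ (v * u) w₀
      rw [h7, map_zero] at h8
      exact h8.symm
  have hmain := Cfsg.Agent.Lib.helper66.extraZ_sub ρ R Rad 1 1 one_pos U hU0 hRadR hscal hcomm
    hnondeg (Subgroup.one_mem _) (Subgroup.one_mem _) (pow_one 1)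
    (by intro i h0 h1; omega) hRF (by simp)
    hUR (by intro w hw; simpa using hw)
    (fun U' hU'U hU'0 hU'R _ => hUmin U' hU'U hU'0 hU'R)
  refine ⟨Module.finrank F U, ?_⟩
  rw [hmain.1]
  have h1 := Subgroup.relIndex_mul_relIndex (⊥ : Subgroup Γ) Rad R bot_le hRadR
  rw [Subgroup.relIndex_bot_left, Subgroup.relIndex_bot_left] at h1
  rw [← h1, mul_comm]
  congr 1
  apply Nat.card_congr
  exact Equiv.subtypeEquivRight (fun u => hRad u)

end D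

end Cfsg.Agent.Lib.helper75.PQ
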