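import Mathlib

/-!
# S2279, piece GB (insurance copy by helper82): abstract closure rule for the sets `Ω k`.
-/

set_option autoImplicit false

namespace Cfsg.Agent.Lib.helper45.RU

variable {F : Type*} [Field F]

/-- GB -/
theorem h82_abs_GB (n : ℕ) (hn : 4 ≤ n) (Ω : ℕ → Set F) (c : F) (m : ℕ) (hm : 0 < m)
    (hcm : c ^ m = 1) (hA : c ^ (n - 1) ∈ Ω (n - 2))
    (hB : ∀ y, y ∈ Ω 0 → c ^ n * y ∈ Ω 0)
    (hwrap : ∀ i i', i + 2 ≤ n → i' + 2 ≤ n → n ≤ i + i' + 1 →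
      ∀ x y, x ∈ Ω i → y ∈ Ω i' → x * y ∈ Ω (i + i' + 1 - n))
    (hshift1 : ∀ x y, x ∈ Ω 0 → y ∈ Ω 0 → x * y ∈ Ω 1) :
    ∀ x y, c * x ∈ Ω 0 → c * y ∈ Ω 0 → c * (x * y) ∈ Ω 0 := by
  intro x y hx hy
  have h1 : (c * x) * (c * y) ∈ Ω 1 := hshift1 _ _ hx hy
  have h2 := hwrap (n - 2) 1 (by omega) (by omega) (by omega) _ _ hA h1
  have h3 : n - 2 + 1 + 1 - n = 0 := by omega
  rw [h3] at h2
  have h4 : c ^ (n - 1) * (c * x * (c * y)) = c ^ n * (c * (x * y)) := by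
    obtain ⟨k, rfl⟩ : ∃ k, n = k + 1 := ⟨n - 1, by omega⟩
    simp only [Nat.add_sub_cancel]
    ring
  rw [h4] at h2
  have h5 : ∀ k : ℕ, (c ^ n) ^ k * (c ^ n * (c * (x * y))) ∈ Ω 0 := by
    intro k
    induction k with
    | zero => simpa using h2
    | succ k ih =>
      have h6 := hB _ ih
      have h7 : (c ^ n) ^ (k + 1) * (c ^ n * (c * (x * y)))
          = c ^ n * ((c ^ n) ^ k * (c ^ n * (c * (x * y)))) := by ring
      rw [h7]; exact h6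
  have h6 := h5 (m - 1)
  have h7 : (c ^ n) ^ (m - 1) * (c ^ n * (c * (x * y))) = c * (x * y) := by
    have h8 : (c ^ n) ^ (m - 1) * (c ^ n * (c * (x * y))) = (c ^ n) ^ (m - 1 + 1) * (c * (x * y)) := by
      ring
    have h9 : m - 1 + 1 = m := by omega
    rw [h8, h9, ← pow_mul, mul_comm n m, pow_mul, hcm, one_pow, one_mul]
  rw [h7] at h6
  exact h6

end Cfsg.Agent.Lib.helper45.RU
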