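import Mathlib
import Cfsg.Prelude.Def_Characters
import Cfsg.Prelude.Def_Blocks
import Cfsg.Prelude.Def_Transfer
import Cfsg.Prelude.Def_CharExt
import Cfsg.Agent.Lib.helper82.ThompsonDeg
import Cfsg.Agent.Lib.helper82.GlaubOver
import Cfsg.Agent.Lib.helper82.CoprimeCount
import Cfsg.Agent.Lib.helper19.CanonExt

/-!
# The order of `O^p(G)` modulo `p` (helper82)

`card_pResidual_modEq` : `|O^p(G)| ≡ Σ χ(1)²` modulo `p`, the sum over the irreducible characters
of `G` of degree and determinantal order prime to `p` (Isaacs, Problem 12.? / Thompson).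
-/

set_option autoImplicit false
set_option linter.style.haveILetI false
set_option linter.unusedSectionVars false

namespace Cfsg.Agent.Lib.helper82

open Module Cfsg
open Cfsg.Agent.Lib
open scoped ComplexConjugate

universe u

section ResidualSum

variable {G : Type u} [Group G] [Finite G] (p : ℕ) [hp : Fact p.Prime]

/-- The determinantal order of a character of `O^p(G)` is prime to `p`. -/
theorem detOrder_pResidual_coprime (ϑ : ↥(pResidual p G) → ℂ)
    (hϑ : IsCharacter ↥(pResidual p G) ϑ) : ¬ p ∣ detOrder ϑ := by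
  obtain ⟨f, hf⟩ := helper19.exists_detChar_hom hϑ
  rw [helper19.detOrder_eq_orderOf f hf]
  intro hdvd
  have h2 : orderOf f ∣
      Nat.card (pResidual p G) / p ^ (Nat.card (pResidual p G)).factorization p := by
    apply orderOf_dvd_of_pow_eq_one
    refine MonoidHom.ext fun n => ?_
    show f n ^ (Nat.card (pResidual p G) / p ^ (Nat.card (pResidual p G)).factorization p) = 1
    exact pResidual_hom_pow p f n
  exact (Nat.Prime.coprime_iff_not_dvd hp.out).mp
    (Nat.coprime_ordCompl hp.out Nat.card_pos.ne') (hdvd.trans h2)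

/-- `|O^p(G)| ≡ Σ χ(1)²` modulo `p`, summed over the irreducible characters of `G` whose degree
and determinantal order are prime to `p`. -/
theorem card_pResidual_modEq :
    (Nat.card (pResidual p G) : ℤ) ≡
      (∑ᶠ χ ∈ {χ : IrrCharacter G | ¬ p ∣ charDegree (χ : G → ℂ) ∧
        ¬ p ∣ detOrder (χ : G → ℂ)}, (charDegree (χ : G → ℂ) : ℤ) ^ 2) [ZMOD p] := by
  classical
  letI : Fintype G := Fintype.ofFinite G
  haveI hNn := helper40.pResidual_normal p G
  letI : Fintype ↥(pResidual p G) := Fintype.ofFinite _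
  letI : Fintype (IrrCharacter ↥(pResidual p G)) := Fintype.ofFinite _
  letI : Fintype (IrrCharacter G) := Fintype.ofFinite _
  obtain ⟨j, hj⟩ := helper40.pResidual_index (p := p) (N := G)
  obtain ⟨P⟩ : Nonempty (Sylow p G) := inferInstance
  -- the bijection
  have hdegres : ∀ χ : G → ℂ, charDegree (fun n : ↥(pResidual p G) => χ n) = charDegree χ :=
    fun χ => rfl
  have hwell : ∀ χ : {χ : IrrCharacter G // ¬ p ∣ charDegree (χ : G → ℂ) ∧
      ¬ p ∣ detOrder (χ : G → ℂ)},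
      IsIrrCharacter ↥(pResidual p G) (fun n : ↥(pResidual p G) => (χ.1 : G → ℂ) n) := by
    intro χ
    apply restrict_irr_of_coprime_degree (pResidual p G) χ.1.2
    rw [hj]
    exact Nat.Coprime.pow_right j ((Nat.Prime.coprime_iff_not_dvd hp.out).mpr χ.2.1).symm
  let f : {χ : IrrCharacter G // ¬ p ∣ charDegree (χ : G → ℂ) ∧ ¬ p ∣ detOrder (χ : G → ℂ)} →
      {ϑ : IrrCharacter ↥(pResidual p G) // (∀ g : G, cconj (pResidual p G) g ϑ.1 = ϑ.1) ∧
        ¬ p ∣ charDegree (ϑ : ↥(pResidual p G) → ℂ)} := fun χ =>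
    ⟨⟨fun n : ↥(pResidual p G) => (χ.1 : G → ℂ) n, hwell χ⟩,
      fun g => cconj_restrict (pResidual p G)
        (helper4.isClassFunction_of_isIrrCharacter χ.1.2) g, χ.2.1⟩
  have hcopidx : ∀ m : ℕ, ¬ p ∣ m → Nat.Coprime (pResidual p G).index m := by
    intro m hm
    rw [hj]
    exact Nat.Coprime.pow_left j ((Nat.Prime.coprime_iff_not_dvd hp.out).mpr hm)
  have hcanon : ∀ ϑ : IrrCharacter ↥(pResidual p G),
      (∀ g : G, cconj (pResidual p G) g ϑ.1 = ϑ.1) →
      ¬ p ∣ charDegree (ϑ : ↥(pResidual p G) → ℂ) →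
      ∃ χ : G → ℂ, (IsIrrCharacter G χ ∧ (∀ n : ↥(pResidual p G), χ n = ϑ.1 n) ∧
        detOrder χ = detOrder ϑ.1) ∧
        ∀ χ' : G → ℂ, IsIrrCharacter G χ' → (∀ n : ↥(pResidual p G), χ' n = ϑ.1 n) →
          Nat.Coprime (pResidual p G).index (detOrder χ') → χ' = χ := by
    intro ϑ hinv hdeg
    have hdet := detOrder_pResidual_coprime p ϑ.1 (helper4.isCharacter_of_isIrrCharacter ϑ.2)
    refine helper19.exists_canonical_extension (pResidual p G) ϑ.1 ϑ.2
      (fun g n => (cconj_eq_iff (pResidual p G) g ϑ.1).mp (hinv g) n)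
      (charDegree (ϑ : ↥(pResidual p G) → ℂ)) (irr_one_eq ϑ) ?_
    apply hcopidx
    intro hdvd
    rcases (Nat.Prime.dvd_mul hp.out).mp hdvd with h | h
    · exact hdet h
    · exact hdeg h
  have hbij : Function.Bijective f := by
    constructor
    · intro χ₁ χ₂ h
      have h' : (fun n : ↥(pResidual p G) => (χ₁.1 : G → ℂ) n) =
          fun n : ↥(pResidual p G) => (χ₂.1 : G → ℂ) n :=
        congrArg (fun z : {ϑ : IrrCharacter ↥(pResidual p G) //
          (∀ g : G, cconj (pResidual p G) g ϑ.1 = ϑ.1) ∧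
          ¬ p ∣ charDegree (ϑ : ↥(pResidual p G) → ℂ)} => (z.1.1 : ↥(pResidual p G) → ℂ)) h
      obtain ⟨χ₀, -, huniq⟩ := hcanon (f χ₁).1 (f χ₁).2.1 (f χ₁).2.2
      have e1 : (χ₁.1 : G → ℂ) = χ₀ :=
        huniq _ χ₁.1.2 (fun n => rfl) (hcopidx _ χ₁.2.2)
      have e2 : (χ₂.1 : G → ℂ) = χ₀ :=
        huniq _ χ₂.1.2 (fun n => (congrFun h' n).symm) (hcopidx _ χ₂.2.2)
      apply Subtype.ext
      apply Subtype.ext
      rw [e1, e2]
    · rintro ⟨ϑ, hinv, hdeg⟩
      obtain ⟨χ₀, ⟨hirr, hext, hdet⟩, -⟩ := hcanon ϑ hinv hdeg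
      have hdeg0 : charDegree χ₀ = charDegree (ϑ : ↥(pResidual p G) → ℂ) := by
        rw [← hdegres χ₀]
        congr 1
        funext n
        exact hext n
      refine ⟨⟨⟨χ₀, hirr⟩, ?_, ?_⟩, ?_⟩
      · show ¬ p ∣ charDegree χ₀
        rw [hdeg0]; exact hdeg
      · show ¬ p ∣ detOrder χ₀
        rw [hdet]
        exact detOrder_pResidual_coprime p ϑ.1 (helper4.isCharacter_of_isIrrCharacter ϑ.2)
      · apply Subtype.ext
        apply Subtype.ext
        funext n
        exact hext n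
  -- the sum over the characters of `G`
  have hsumG : (∑ᶠ χ ∈ {χ : IrrCharacter G | ¬ p ∣ charDegree (χ : G → ℂ) ∧
        ¬ p ∣ detOrder (χ : G → ℂ)}, (charDegree (χ : G → ℂ) : ℤ) ^ 2) =
      ∑ ϑ : IrrCharacter ↥(pResidual p G),
        if (∀ g : G, cconj (pResidual p G) g ϑ.1 = ϑ.1) ∧
          ¬ p ∣ charDegree (ϑ : ↥(pResidual p G) → ℂ) then
          (charDegree (ϑ : ↥(pResidual p G) → ℂ) : ℤ) ^ 2 else 0 := by
    have h2 : (∑ ϑ : IrrCharacter ↥(pResidual p G),
        if (∀ g : G, cconj (pResidual p G) g ϑ.1 = ϑ.1) ∧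
          ¬ p ∣ charDegree (ϑ : ↥(pResidual p G) → ℂ) then
          (charDegree (ϑ : ↥(pResidual p G) → ℂ) : ℤ) ^ 2 else 0) =
        ∑ x : {ϑ : IrrCharacter ↥(pResidual p G) //
          (∀ g : G, cconj (pResidual p G) g ϑ.1 = ϑ.1) ∧
          ¬ p ∣ charDegree (ϑ : ↥(pResidual p G) → ℂ)},
          (charDegree (x.1 : ↥(pResidual p G) → ℂ) : ℤ) ^ 2 := by
      rw [← Finset.sum_filter]
      exact Finset.sum_subtype _ (fun x => by simp) _
    rw [h2, ← finsum_set_coe_eq_finsum_mem, finsum_eq_sum_of_fintype]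
    exact Fintype.sum_equiv (Equiv.ofBijective f hbij) _ _ (fun χ => rfl)
  rw [hsumG]
  -- orbit count on `Irr(O^p(G))`
  have hnormP : ∀ s ∈ (P : Subgroup G), ∀ g ∈ pResidual p G, s * g * s⁻¹ ∈ pResidual p G :=
    fun s _ g hg => hNn.conj_mem g hg s
  have hXp : IsPGroup p (conjHom (pResidual p G) (P : Subgroup G) hnormP).range :=
    (P.isPGroup').of_surjective (conjHom (pResidual p G) (P : Subgroup G) hnormP).rangeRestrict
      (conjHom (pResidual p G) (P : Subgroup G) hnormP).rangeRestrict_surjective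
  have hmod := sum_modEq_sum_inv p (conjHom (pResidual p G) (P : Subgroup G) hnormP).range hXp
    (fun ϑ : IrrCharacter ↥(pResidual p G) => charDegree (ϑ : ↥(pResidual p G) → ℂ) ^ 2)
    (fun σ hσ ϑ => by
      show charDegree (fun g => (ϑ : ↥(pResidual p G) → ℂ) (σ g)) ^ 2 = _
      congr 1
      unfold charDegree
      show ⌊((ϑ : ↥(pResidual p G) → ℂ) (σ 1)).re⌋₊ = _
      rw [map_one])
  have hinviff : ∀ ϑ : IrrCharacter ↥(pResidual p G),
      IsInvFun (conjHom (pResidual p G) (P : Subgroup G) hnormP).range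
        (ϑ : ↥(pResidual p G) → ℂ) ↔ ∀ g : G, cconj (pResidual p G) g ϑ.1 = ϑ.1 := by
    intro ϑ
    rw [isInvFun_conj_iff]
    constructor
    · intro h g
      obtain ⟨s, hs, u, hu, rfl⟩ :=
        helper40.exists_mul_pResidual (P : Subgroup G) P.not_dvd_index g
      rw [cconj_mul, cconj_of_mem (pResidual p G)
        (helper4.isClassFunction_of_isIrrCharacter ϑ.2) hu]
      rw [cconj_eq_iff]
      intro n
      exact h s hs n _ rfl
    · intro h s _ g g' hg'
      have h1 := (cconj_eq_iff (pResidual p G) s ϑ.1).mp (h s) g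
      have h2 : g' = ⟨s * g * s⁻¹, hNn.conj_mem (g : G) g.2 s⟩ := Subtype.ext hg'
      rw [h2]
      exact h1
  have hsumN := helper83.sum_charDegree_sq (G := ↥(pResidual p G))
  rw [finsum_eq_sum_of_fintype] at hsumN
  rw [hsumN] at hmod
  have hmodZ : (Nat.card (pResidual p G) : ℤ) ≡
      ((∑ ϑ : IrrCharacter ↥(pResidual p G),
        if IsInvFun (conjHom (pResidual p G) (P : Subgroup G) hnormP).range
          (ϑ : ↥(pResidual p G) → ℂ) then charDegree (ϑ : ↥(pResidual p G) → ℂ) ^ 2 else 0 : ℕ) :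
        ℤ) [ZMOD p] := Int.natCast_modEq_iff.mpr hmod
  refine hmodZ.trans ?_
  push_cast
  apply Int.ModEq.sum
  intro ϑ _
  by_cases hinv : ∀ g : G, cconj (pResidual p G) g ϑ.1 = ϑ.1
  · rw [if_pos ((hinviff ϑ).mpr hinv)]
    by_cases hdeg : p ∣ charDegree (ϑ : ↥(pResidual p G) → ℂ)
    · rw [if_neg (fun h => h.2 hdeg)]
      have h1 : (p : ℤ) ∣ (charDegree (ϑ : ↥(pResidual p G) → ℂ) : ℤ) ^ 2 :=
        Dvd.dvd.pow (by exact_mod_cast hdeg) (by norm_num)
      exact (Int.modEq_zero_iff_dvd.mpr h1)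
    · rw [if_pos ⟨hinv, hdeg⟩]
  · rw [if_neg (fun h => hinv ((hinviff ϑ).mp h)), if_neg (fun h => hinv h.1)]

end ResidualSum

end Cfsg.Agent.Lib.helper82
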