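import Mathlib

set_option autoImplicit false

namespace Cfsg.Agent.Lib.helper82.S3174

universe u

/-- A finite commutative group of exponent dividing `2 ^ k` in which every nontrivial subgroup
contains a fixed nontrivial element has at most `2 ^ k` elements. -/
theorem h82_card_le_two_pow (k : ℕ) : ∀ (Q : Type u) [Group Q] [Finite Q]
    (_hc : ∀ x y : Q, x * y = y * x) (f : Q) (_hf : f ≠ 1)
    (_hmin : ∀ H : Subgroup Q, H ≠ ⊥ → f ∈ H) (_hexp : ∀ x : Q, x ^ (2 ^ k) = 1),
    Nat.card Q ≤ 2 ^ k := by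
  induction k with
  | zero =>
    intro Q _ _ hc f hf hmin hexp
    exact absurd (by simpa using hexp f) hf
  | succ k ih =>
    intro Q _ _ hc f hf hmin hexp
    let φ : Q →* Q := MonoidHom.mk' (fun x => x ^ 2) (fun x y => (show Commute x y from hc x y).mul_pow 2)
    have hφ : ∀ x, φ x = x ^ 2 := fun x => rfl
    -- the kernel has at most two elements
    have hker : Nat.card ↥φ.ker ≤ 2 := by
      have hsub : (φ.ker : Set Q) ⊆ {1, f} := by
        intro x hx
        have hx2 : x ^ 2 = 1 := by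
          have := (MonoidHom.mem_ker).1 hx
          rwa [hφ] at this
        by_cases hx1 : x = 1
        · left; exact hx1
        · right
          have hz : Subgroup.zpowers x ≠ ⊥ := by
            intro h
            apply hx1
            have : x ∈ Subgroup.zpowers x := Subgroup.mem_zpowers x
            rw [h, Subgroup.mem_bot] at this
            exact this
          obtain ⟨n, hn⟩ := Subgroup.mem_zpowers_iff.1 (hmin _ hz)
          rcases Int.even_or_odd' n with ⟨m, hm | hm⟩
          · exfalso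
            apply hf
            rw [← hn, hm, zpow_mul, zpow_ofNat, hx2, one_zpow]
          · rw [Set.mem_singleton_iff, ← hn, hm, zpow_add, zpow_mul, zpow_ofNat, hx2, one_zpow,
              one_mul, zpow_one]
      have h1 : Nat.card ↥φ.ker = (φ.ker : Set Q).ncard := (Nat.card_coe_set_eq _)
      rw [h1]
      calc (φ.ker : Set Q).ncard ≤ ({1, f} : Set Q).ncard :=
            Set.ncard_le_ncard hsub (Set.toFinite _)
        _ ≤ 2 := by
            have := Set.ncard_insert_le (1 : Q) ({f} : Set Q)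
            rw [Set.ncard_singleton] at this
            exact this
    have hcard : Nat.card Q = Nat.card ↥φ.ker * Nat.card ↥φ.range := by
      rw [← Subgroup.index_ker, Subgroup.card_mul_index]
    have hrange : Nat.card ↥φ.range ≤ 2 ^ k := by
      by_cases hR : φ.range = ⊥
      · rw [hR, Subgroup.card_bot]
        exact Nat.one_le_two_pow
      · have hfR : f ∈ φ.range := hmin _ hR
        apply ih (↥φ.range) (fun x y => Subtype.ext (hc x y)) ⟨f, hfR⟩
        · intro h
          apply hf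
          exact congrArg Subtype.val h
        · intro H hH
          have hH' : H.map φ.range.subtype ≠ ⊥ := by
            intro h
            apply hH
            exact (Subgroup.map_eq_bot_iff_of_injective H (Subgroup.subtype_injective _)).1 h
          obtain ⟨y, hy, hyf⟩ := Subgroup.mem_map.1 (hmin _ hH')
          have : y = ⟨f, hfR⟩ := Subtype.ext hyf
          rw [← this]
          exact hy
        · rintro ⟨y, x, rfl⟩
          apply Subtype.ext
          rw [Subgroup.coe_pow, Subgroup.coe_one]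
          show (φ x) ^ (2 ^ k) = 1
          rw [hφ, ← pow_mul, ← pow_succ']
          exact hexp x
    rw [hcard, pow_succ']
    exact Nat.mul_le_mul hker hrange

/-- CYC -/
theorem exists_small_index_avoiding {T : Type*} [Group T] [Finite T] (W C : Subgroup T) (hCW : C ≤ W)
    (hcomm : ∀ x ∈ W, ∀ y ∈ W, x * y * x⁻¹ * y⁻¹ ∈ C) (h16 : ∀ x ∈ W, x ^ 16 ∈ C) (f : T) (hfW : f ∈ W) (hfC : f ∉ C) :
    ∃ U : Subgroup T, C ≤ U ∧ U ≤ W ∧ f ∉ U ∧ Nat.card ↥W ≤ 16 * Nat.card ↥U := by
  classical
  set S : Set (Subgroup T) := {U | C ≤ U ∧ U ≤ W ∧ f ∉ U} with hS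
  have hfin : S.Finite := Set.toFinite S
  have hne : S.Nonempty := ⟨C, le_refl _, hCW, hfC⟩
  obtain ⟨U, hU⟩ := hfin.exists_maximal hne
  have hUS : U ∈ S := hU.prop
  obtain ⟨hCU, hUW, hfU⟩ := hUS
  refine ⟨U, hCU, hUW, hfU, ?_⟩
  set N : Subgroup ↥W := U.subgroupOf W with hN
  have hNmem : ∀ w : ↥W, w ∈ N ↔ (w : T) ∈ U := fun w => Subgroup.mem_subgroupOf
  have hNn : N.Normal := by
    constructor
    intro n hn g
    rw [hNmem] at hn ⊢
    have h1 : (g : T) * n * (g : T)⁻¹ * (n : T)⁻¹ ∈ U := hCU (hcomm _ g.2 _ n.2)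
    have h2 : (g : T) * n * (g : T)⁻¹ = ((g : T) * n * (g : T)⁻¹ * (n : T)⁻¹) * n := by group
    have h3 : ((g * n * g⁻¹ : ↥W) : T) = (g : T) * n * (g : T)⁻¹ := by
      simp
    rw [h3, h2]
    exact U.mul_mem h1 hn
  have hmk1 : ∀ w : ↥W, (QuotientGroup.mk w : ↥W ⧸ N) = 1 ↔ (w : T) ∈ U := by
    intro w
    rw [QuotientGroup.eq_one_iff, hNmem]
  have hcQ : ∀ x y : ↥W ⧸ N, x * y = y * x := by
    intro x y
    induction x using QuotientGroup.induction_on with
    | H x =>
    induction y using QuotientGroup.induction_on with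
    | H y =>
    rw [← QuotientGroup.mk_mul, ← QuotientGroup.mk_mul, QuotientGroup.eq, hNmem]
    have h1 := hcomm _ (W.inv_mem x.2) _ (W.inv_mem y.2)
    have h2 : (((x * y)⁻¹ * (y * x) : ↥W) : T) = (y : T)⁻¹ * (x : T)⁻¹ * ((y : T)⁻¹)⁻¹ * ((x : T)⁻¹)⁻¹ := by
      simp [mul_assoc]
    rw [h2]
    exact hCU (hcomm _ (W.inv_mem y.2) _ (W.inv_mem x.2))
  have hfQ : (QuotientGroup.mk ⟨f, hfW⟩ : ↥W ⧸ N) ≠ 1 := by
    intro h
    exact hfU ((hmk1 _).1 h)
  have hminQ : ∀ H : Subgroup (↥W ⧸ N), H ≠ ⊥ → (QuotientGroup.mk ⟨f, hfW⟩ : ↥W ⧸ N) ∈ H := by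
    intro H hH
    by_contra hfH
    apply hH
    set V : Subgroup T := (H.comap (QuotientGroup.mk' N)).map W.subtype with hV
    have hVmem : ∀ v : T, v ∈ V ↔ ∃ hv : v ∈ W, (QuotientGroup.mk ⟨v, hv⟩ : ↥W ⧸ N) ∈ H := by
      intro v
      rw [hV, Subgroup.mem_map]
      constructor
      · rintro ⟨w, hw, rfl⟩
        exact ⟨w.2, hw⟩
      · rintro ⟨hv, h⟩
        exact ⟨⟨v, hv⟩, h, rfl⟩
    have hUV : U ≤ V := by
      intro u hu
      rw [hVmem]
      refine ⟨hUW hu, ?_⟩
      have : (QuotientGroup.mk ⟨u, hUW hu⟩ : ↥W ⧸ N) = 1 := (hmk1 _).2 hu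
      rw [this]
      exact H.one_mem
    have hVS : V ∈ S := by
      refine ⟨hCU.trans hUV, ?_, ?_⟩
      · intro v hv
        exact ((hVmem v).1 hv).1
      · intro hfV
        obtain ⟨_, h⟩ := (hVmem f).1 hfV
        exact hfH h
    have hVU : V ≤ U := hU.le_of_ge hVS hUV
    rw [eq_bot_iff]
    intro x hx
    induction x using QuotientGroup.induction_on with
    | H x =>
    rw [Subgroup.mem_bot, hmk1]
    apply hVU
    rw [hVmem]
    exact ⟨x.2, hx⟩
  have hexpQ : ∀ x : ↥W ⧸ N, x ^ (2 ^ 4) = 1 := by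
    intro x
    induction x using QuotientGroup.induction_on with
    | H x =>
    rw [← QuotientGroup.mk_pow, hmk1]
    have := hCU (h16 _ x.2)
    simpa using this
  have hQ := h82_card_le_two_pow 4 (↥W ⧸ N) hcQ _ hfQ hminQ hexpQ
  have h1 : Nat.card ↥N * N.index = Nat.card ↥W := Subgroup.card_mul_index N
  have h2 : Nat.card ↥N = Nat.card ↥U := Nat.card_congr (Subgroup.subgroupOfEquivOfLe hUW).toEquiv
  have h3 : N.index = Nat.card (↥W ⧸ N) := rfl
  rw [← h1, h2, h3, mul_comm]
  exact Nat.mul_le_mul_right _ (by simpa using hQ)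

end Cfsg.Agent.Lib.helper82.S3174
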