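import Mathlib

set_option autoImplicit false

namespace Cfsg.Agent.Lib.helper82.S3174

/-- Commutators are unchanged when both entries are multiplied by central elements. -/
theorem h82_comm_central {G : Type*} [Group G] (d d' k k' : G) (h1 : d * k = k * d)
    (h2 : d' * k = k * d') (h3 : d * k' = k' * d) (h4 : d' * k' = k' * d') (h5 : k * k' = k' * k) :
    (k * d) * (k' * d') * (k * d)⁻¹ * (k' * d')⁻¹ = d * d' * d⁻¹ * d'⁻¹ := by
  have hab : (k * d) * (k' * d') = (d * d') * (k * k') := by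
    calc (k * d) * (k' * d') = (d * k) * (d' * k') := by rw [h1, h4]
      _ = d * (k * d') * k' := by simp only [mul_assoc]
      _ = d * (d' * k) * k' := by rw [h2]
      _ = (d * d') * (k * k') := by simp only [mul_assoc]
  have hba : (k' * d') * (k * d) = (d' * d) * (k * k') := by
    calc (k' * d') * (k * d) = (d' * k') * (d * k) := by rw [h1, h4]
      _ = d' * (k' * d) * k := by simp only [mul_assoc]
      _ = d' * (d * k') * k := by rw [h3]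
      _ = (d' * d) * (k' * k) := by simp only [mul_assoc]
      _ = (d' * d) * (k * k') := by rw [h5]
  calc (k * d) * (k' * d') * (k * d)⁻¹ * (k' * d')⁻¹
      = ((k * d) * (k' * d')) * ((k' * d') * (k * d))⁻¹ := by group
    _ = (d * d') * (k * k') * ((d' * d) * (k * k'))⁻¹ := by rw [hab, hba]
    _ = d * d' * d⁻¹ * d'⁻¹ := by group

/-- DSUB -/
theorem exists_D {T : Type*} [Group T] [Finite T] (W Z2 Z3 : Subgroup T) [W.Normal] [Z3.Normal]
    (hZ3W : Z3 ≤ W) (hcen : ∀ w ∈ W, ∀ z ∈ Z3, w * z = z * w)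
    (hcomm : ∀ x ∈ W, ∀ y ∈ W, x * y * x⁻¹ * y⁻¹ ∈ Z3) (hsq : ∀ x ∈ W, x ^ 2 ∈ Z3) (hZ3el : ∀ z ∈ Z3, z ^ 2 = 1)
    (t : T) (ht2 : t ^ 2 ∈ W) (htfix : ∀ z ∈ Z3, t * z * t⁻¹ = z → z ∈ Z2) :
    ∃ D : Subgroup T, D ≤ W ∧ Z3 ≤ D ∧ (∀ w ∈ W, w ∈ D ↔ t * w * t⁻¹ * w⁻¹ ∈ Z3) ∧
      Nat.card ↥W * Nat.card ↥Z3 ≤ Nat.card ↥D * Nat.card ↥D ∧
      (∀ d ∈ D, d ^ 2 ∈ Z2) ∧ (∀ d ∈ D, ∀ d' ∈ D, d * d' * d⁻¹ * d'⁻¹ ∈ Z2) := by
  classical
  have hWn : W.Normal := inferInstance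
  have hZn : Z3.Normal := inferInstance
  set N : Subgroup ↥W := Z3.subgroupOf W with hN
  have hNmem : ∀ w : ↥W, w ∈ N ↔ (w : T) ∈ Z3 := fun w => Subgroup.mem_subgroupOf
  have hNn : N.Normal := by
    constructor
    intro n hn g
    rw [hNmem] at hn ⊢
    have h3 : ((g * n * g⁻¹ : ↥W) : T) = (g : T) * n * (g : T)⁻¹ := by
      simp
    rw [h3]
    exact hZn.conj_mem _ hn _
  let tc : ↥W → ↥W := fun w => ⟨t * w * t⁻¹, hWn.conj_mem w w.2 t⟩
  have htc : ∀ w : ↥W, ((tc w : ↥W) : T) = t * w * t⁻¹ := fun w => rfl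
  let ψ : ↥W →* ↥W ⧸ N := MonoidHom.mk' (fun w => QuotientGroup.mk (tc w * w⁻¹)) (by
    intro w w'
    rw [← QuotientGroup.mk_mul, QuotientGroup.eq, hNmem]
    have h : (((tc (w * w') * (w * w')⁻¹)⁻¹ * (tc w * w⁻¹ * (tc w' * w'⁻¹)) : ↥W) : T)
        = ((w : T) * w') * ((t * w' * t⁻¹)⁻¹ * (w : T)⁻¹ * ((t * w' * t⁻¹)⁻¹)⁻¹ * ((w : T)⁻¹)⁻¹)
            * ((w : T) * w')⁻¹ * ((w : T) * w' * (w : T)⁻¹ * (w' : T)⁻¹) := by
      simp only [Subgroup.coe_mul, Subgroup.coe_inv, htc]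
      group
    rw [h]
    apply Z3.mul_mem
    · exact hZn.conj_mem _ (hcomm _ (W.inv_mem (hWn.conj_mem _ w'.2 t)) _ (W.inv_mem w.2)) _
    · exact hcomm _ w.2 _ w'.2)
  have hψ : ∀ w : ↥W, ψ w = 1 ↔ t * (w : T) * t⁻¹ * (w : T)⁻¹ ∈ Z3 := by
    intro w
    show (QuotientGroup.mk (tc w * w⁻¹) : ↥W ⧸ N) = 1 ↔ _
    rw [QuotientGroup.eq_one_iff, hNmem]
    simp only [Subgroup.coe_mul, Subgroup.coe_inv, htc]
  set D' : Subgroup ↥W := ψ.ker with hD'
  set D : Subgroup T := D'.map W.subtype with hD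
  have hDW : D ≤ W := by
    rintro _ ⟨x, _, rfl⟩
    exact x.2
  have hDmem : ∀ w ∈ W, w ∈ D ↔ t * w * t⁻¹ * w⁻¹ ∈ Z3 := by
    intro w hw
    rw [hD, Subgroup.mem_map]
    constructor
    · rintro ⟨x, hx, rfl⟩
      exact (hψ x).1 (MonoidHom.mem_ker.1 hx)
    · intro h
      exact ⟨⟨w, hw⟩, MonoidHom.mem_ker.2 ((hψ ⟨w, hw⟩).2 h), rfl⟩
  have hZD : Z3 ≤ D := by
    intro z hz
    rw [hDmem z (hZ3W hz)]
    exact Z3.mul_mem (hZn.conj_mem _ hz _) (Z3.inv_mem hz)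
  -- the image of `ψ` lies in the image of `D'`
  have hrange : ψ.range ≤ D'.map (QuotientGroup.mk' N) := by
    rintro _ ⟨w, rfl⟩
    refine ⟨tc w * w⁻¹, ?_, rfl⟩
    show tc w * w⁻¹ ∈ ψ.ker
    rw [MonoidHom.mem_ker, hψ]
    have h : t * ((tc w * w⁻¹ : ↥W) : T) * t⁻¹ * ((tc w * w⁻¹ : ↥W) : T)⁻¹
        = ((t * t) * (w : T) * (t * t)⁻¹ * (w : T)⁻¹) *
            (((w : T) * (t * w * t⁻¹)⁻¹) * ((w : T) * (t * w * t⁻¹)⁻¹)) := by
      simp only [Subgroup.coe_mul, Subgroup.coe_inv, htc]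
      group
    have e : t * t = t ^ 2 := (pow_two t).symm
    rw [h, e, ← pow_two ((w : T) * (t * w * t⁻¹)⁻¹)]
    apply Z3.mul_mem
    · exact hcomm _ ht2 _ w.2
    · exact hsq _ (W.mul_mem w.2 (W.inv_mem (hWn.conj_mem _ w.2 t)))
  have hcardineq : Nat.card ↥W * Nat.card ↥Z3 ≤ Nat.card ↥D * Nat.card ↥D := by
    have e1 : D'.index = Nat.card ↥ψ.range := Subgroup.index_ker ψ
    have e2 : Nat.card ↥ψ.range ≤ Nat.card ↥(D'.map (QuotientGroup.mk' N)) :=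
      Subgroup.card_le_of_le hrange
    have e3 : (D'.map (QuotientGroup.mk' N)).index = D'.index := by
      apply Subgroup.index_map_eq _ (QuotientGroup.mk'_surjective N)
      rw [QuotientGroup.ker_mk']
      intro n hn
      rw [hD', MonoidHom.mem_ker, hψ]
      have hn' : (n : T) ∈ Z3 := (hNmem n).1 hn
      exact Z3.mul_mem (hZn.conj_mem _ hn' _) (Z3.inv_mem hn')
    have e4 : Nat.card ↥(D'.map (QuotientGroup.mk' N)) * (D'.map (QuotientGroup.mk' N)).index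
        = Nat.card (↥W ⧸ N) := Subgroup.card_mul_index _
    have e5 : Nat.card ↥N * Nat.card (↥W ⧸ N) = Nat.card ↥W := Subgroup.card_mul_index N
    have e6 : Nat.card ↥D' * D'.index = Nat.card ↥W := Subgroup.card_mul_index D'
    have e7 : Nat.card ↥N = Nat.card ↥Z3 :=
      Nat.card_congr (Subgroup.subgroupOfEquivOfLe hZ3W).toEquiv
    have e8 : Nat.card ↥D = Nat.card ↥D' :=
      Subgroup.card_map_of_injective (Subgroup.subtype_injective W)
    have e9 : 0 < D'.index := Nat.pos_of_ne_zero Subgroup.index_ne_zero_of_finite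
    rw [e8]
    set i := D'.index
    set d := Nat.card ↥D'
    set n := Nat.card ↥Z3
    set v := Nat.card (↥W ⧸ N)
    have f1 : i * i ≤ v := by
      rw [← e4, e3]
      exact Nat.mul_le_mul_right _ (e1 ▸ e2)
    have f2 : i * (i * n) ≤ i * d := by
      calc i * (i * n) = (i * i) * n := by ring
        _ ≤ v * n := Nat.mul_le_mul_right _ f1
        _ = Nat.card ↥N * v := by rw [e7, mul_comm]
        _ = d * i := by rw [e5, e6]
        _ = i * d := mul_comm _ _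
    have f3 : i * n ≤ d := Nat.le_of_mul_le_mul_left f2 e9
    calc Nat.card ↥W * n = d * (i * n) := by rw [← e6]; ring
      _ ≤ d * d := Nat.mul_le_mul_left _ f3
  refine ⟨D, hDW, hZD, hDmem, hcardineq, ?_, ?_⟩
  · intro d hd
    have hdW : d ∈ W := hDW hd
    have hk : t * d * t⁻¹ * d⁻¹ ∈ Z3 := (hDmem d hdW).1 hd
    set k := t * d * t⁻¹ * d⁻¹ with hkdef
    have hkd : t * d * t⁻¹ = k * d := by rw [hkdef]; group
    apply htfix _ (hsq d hdW)
    calc t * d ^ 2 * t⁻¹ = (t * d * t⁻¹) ^ 2 := conj_pow.symm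
      _ = (k * d) ^ 2 := by rw [hkd]
      _ = k ^ 2 * d ^ 2 := (show Commute k d from (hcen d hdW k hk).symm).mul_pow 2
      _ = d ^ 2 := by rw [hZ3el k hk, one_mul]
  · intro d hd d' hd'
    have hdW : d ∈ W := hDW hd
    have hdW' : d' ∈ W := hDW hd'
    have hk : t * d * t⁻¹ * d⁻¹ ∈ Z3 := (hDmem d hdW).1 hd
    have hk' : t * d' * t⁻¹ * d'⁻¹ ∈ Z3 := (hDmem d' hdW').1 hd'
    set k := t * d * t⁻¹ * d⁻¹ with hkdef
    set k' := t * d' * t⁻¹ * d'⁻¹ with hkdef'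
    have hkd : t * d * t⁻¹ = k * d := by rw [hkdef]; group
    have hkd' : t * d' * t⁻¹ = k' * d' := by rw [hkdef']; group
    apply htfix _ (hcomm d hdW d' hdW')
    calc t * (d * d' * d⁻¹ * d'⁻¹) * t⁻¹
        = (t * d * t⁻¹) * (t * d' * t⁻¹) * (t * d * t⁻¹)⁻¹ * (t * d' * t⁻¹)⁻¹ := by group
      _ = (k * d) * (k' * d') * (k * d)⁻¹ * (k' * d')⁻¹ := by rw [hkd, hkd']
      _ = d * d' * d⁻¹ * d'⁻¹ :=
        h82_comm_central d d' k k' (hcen d hdW k hk) (hcen d' hdW' k hk) (hcen d hdW k' hk')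
          (hcen d' hdW' k' hk') (hcen k (hZ3W hk) k' hk')

end Cfsg.Agent.Lib.helper82.S3174
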