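import Mathlib
import Cfsg.Agent.Lib.helper6.S3313Defs

/-!
# S3313 piece T1b (helper82): `T_comm`
-/

set_option autoImplicit false

namespace Cfsg.Agent.Lib.helper82.S3313

open Cfsg.Agent.Lib.helper6.S3313

variable {G : Type*} [Group G] [Finite G]

/-- T1b -/
theorem T_comm {z : G} {Q K : Subgroup G} (h : QK z Q K) (k : G) (hk : k ∈ K)
    (hk2 : orderOf k = 2) (hC : ∀ q ∈ Q, k * q * k⁻¹ = q * z → q ^ 2 = z)
    (w : G) (hw : w ∈ Q) (hwk : (w * k) ^ 2 = 1) (a : G) (ha : a ∈ Q) (hak : a * k = k * a) :
    w * a = a * w := by
  have hkk : k * k = 1 := by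
    have := pow_orderOf_eq_one k
    rw [hk2, pow_two] at this
    exact this
  have kinv : k⁻¹ = k := inv_eq_of_mul_eq_one_left hkk
  have hzz : z * z = 1 := by
    have := h.z_sq
    rwa [pow_two] at this
  have zinv : z⁻¹ = z := inv_eq_of_mul_eq_one_left hzz
  have ha2 : a * a = 1 := by
    have := (h.cent k hk hk2).2 a ha hak
    rwa [pow_two] at this
  have ainv : a⁻¹ = a := inv_eq_of_mul_eq_one_left ha2
  by_cases hcomm : w * k = k * w
  · have hw2 : w * w = 1 := by
      have := (h.cent k hk hk2).2 w hw hcomm
      rwa [pow_two] at this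
    have winv : w⁻¹ = w := inv_eq_of_mul_eq_one_left hw2
    have hwa : (w * a) * k = k * (w * a) := by
      rw [mul_assoc, hak, ← mul_assoc, hcomm, mul_assoc]
    have hwa2 : (w * a) * (w * a) = 1 := by
      have := (h.cent k hk hk2).2 (w * a) (Q.mul_mem hw ha) hwa
      rwa [pow_two] at this
    have h1 : (w * a)⁻¹ = w * a := inv_eq_of_mul_eq_one_left hwa2
    rw [mul_inv_rev, ainv, winv] at h1
    exact h1.symm
  · -- k w k⁻¹ = w⁻¹
    have hwkwk : w * k * (w * k) = 1 := by
      rwa [pow_two] at hwk
    have hconj : k * w * k⁻¹ = w⁻¹ := by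
      rw [kinv]
      have : w * (k * w * k) = 1 := by
        rw [← hwkwk]; simp only [mul_assoc]
      exact (inv_eq_of_mul_eq_one_right this).symm
    rcases h.sq w hw with hw2 | hw2
    · exfalso
      have hw2' : w * w = 1 := by rwa [pow_two] at hw2
      have winv : w⁻¹ = w := inv_eq_of_mul_eq_one_left hw2'
      rw [winv, kinv] at hconj
      apply hcomm
      have : k * w * k * k = w * k := by rw [hconj]
      rw [mul_assoc, hkk, mul_one] at this
      exact this.symm
    · have hw2' : w * w = z := by rwa [pow_two] at hw2
      have winv : w⁻¹ = w * z := by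
        apply inv_eq_of_mul_eq_one_right
        rw [← mul_assoc, hw2', hzz]
      rw [winv] at hconj
      rcases h.comm w hw a ha with hc | hc
      · exact hc
      · exfalso
        have haz : a * z = z * a := h.z_comm a ha
        have hka : k * a * k⁻¹ = a := by
          rw [← hak, mul_assoc, mul_inv_cancel, mul_one]
        have hconj2 : k * (w * a) * k⁻¹ = (w * a) * z := by
          calc k * (w * a) * k⁻¹ = (k * w * k⁻¹) * (k * a * k⁻¹) := by
                simp only [mul_assoc, inv_mul_cancel_left]
            _ = (w * z) * a := by rw [hconj, hka]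
            _ = (w * a) * z := by rw [mul_assoc, ← haz, ← mul_assoc]
        have hsq := hC (w * a) (Q.mul_mem hw ha) hconj2
        rw [pow_two] at hsq
        -- a * w = w * a * z
        have haw : a * w = w * a * z := by
          have : a * w * z * z = w * a * z := by rw [← hc]
          rw [mul_assoc, hzz, mul_one] at this
          exact this
        have hone : (w * a) * (w * a) = 1 := by
          calc (w * a) * (w * a) = w * (a * w) * a := by simp only [mul_assoc]
            _ = w * (w * a * z) * a := by rw [haw]
            _ = (w * w) * a * (z * a) := by simp only [mul_assoc]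
            _ = z * a * (a * z) := by rw [hw2', haz]
            _ = z * (a * a) * z := by simp only [mul_assoc]
            _ = 1 := by rw [ha2, mul_one, hzz]
        exact h.z_ne (hsq.symm.trans hone)

end Cfsg.Agent.Lib.helper82.S3313
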