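/-
S6000 piece ACOM, racer copy (helper82; architect helper89): commutators are `±1` when all squares are
`±1`.  Same proof as the landed `s6_comm` (helper82.S6eACOM), over `Fin 4`.
-/
import Mathlib
import Cfsg.Agent.Lib.helper89.S60Defs

set_option autoImplicit false

namespace Cfsg.Agent.Lib.helper89.S60

open Matrix Cfsg Cfsg.Geo

theorem h82_s60_pm_of_sq {A : Type*} [Ring A] (X Y : A) (hd : Y * X = 1 ∨ Y * X = -1)
    (he : X * X = 1 ∨ X * X = -1) : X = Y ∨ X = -Y := by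
  have h := mul_assoc Y X X
  rcases hd with hd | hd <;> rcases he with he | he <;> rw [hd, he] at h
  · left
    rw [one_mul, mul_one] at h
    exact h
  · right
    rw [one_mul, mul_neg, mul_one] at h
    exact h
  · right
    rw [neg_mul, one_mul, mul_one] at h
    rw [← h, neg_neg]
  · left
    rw [neg_mul, one_mul, mul_neg, mul_one] at h
    exact neg_inj.1 h

/-- ACOM (racer copy). -/
theorem h82_s60_comm {F : Type*} [Field F] (R : Subgroup (GL (Fin 4) F))
    (hsq : ∀ s ∈ R, (s : Matrix (Fin 4) (Fin 4) F) * (s : Matrix (Fin 4) (Fin 4) F) = 1 ∨ (s : Matrix (Fin 4) (Fin 4) F) * (s : Matrix (Fin 4) (Fin 4) F) = -1) :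
    ∀ s ∈ R, ∀ t ∈ R, (s : Matrix (Fin 4) (Fin 4) F) * (t : Matrix (Fin 4) (Fin 4) F) = (t : Matrix (Fin 4) (Fin 4) F) * (s : Matrix (Fin 4) (Fin 4) F) ∨ (s : Matrix (Fin 4) (Fin 4) F) * (t : Matrix (Fin 4) (Fin 4) F) = -((t : Matrix (Fin 4) (Fin 4) F) * (s : Matrix (Fin 4) (Fin 4) F)) := by
  intro s hs t ht
  have he := hsq (s * t) (R.mul_mem hs ht)
  rw [Units.val_mul] at he
  have h1 : ((t : Matrix (Fin 4) (Fin 4) F) * (s : Matrix (Fin 4) (Fin 4) F)) *
      ((s : Matrix (Fin 4) (Fin 4) F) * (t : Matrix (Fin 4) (Fin 4) F)) =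
      (t : Matrix (Fin 4) (Fin 4) F) * ((s : Matrix (Fin 4) (Fin 4) F) * (s : Matrix (Fin 4) (Fin 4) F)) *
        (t : Matrix (Fin 4) (Fin 4) F) := by
    simp only [Matrix.mul_assoc]
  have hd : ((t : Matrix (Fin 4) (Fin 4) F) * (s : Matrix (Fin 4) (Fin 4) F)) *
      ((s : Matrix (Fin 4) (Fin 4) F) * (t : Matrix (Fin 4) (Fin 4) F)) = 1 ∨
      ((t : Matrix (Fin 4) (Fin 4) F) * (s : Matrix (Fin 4) (Fin 4) F)) *
      ((s : Matrix (Fin 4) (Fin 4) F) * (t : Matrix (Fin 4) (Fin 4) F)) = -1 := by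
    rw [h1]
    rcases hsq s hs with h | h <;> rcases hsq t ht with h' | h'
    · left; rw [h, Matrix.mul_one, h']
    · right; rw [h, Matrix.mul_one, h']
    · right; rw [h, Matrix.mul_neg, Matrix.mul_one, Matrix.neg_mul, h']
    · left; rw [h, Matrix.mul_neg, Matrix.mul_one, Matrix.neg_mul, h', neg_neg]
  exact h82_s60_pm_of_sq _ _ hd he

end Cfsg.Agent.Lib.helper89.S60
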