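/-
S6000 piece S2, racer copy, core (helper82; architect helper89): the case `r = 2`, with the statements
of CLS2, NOSQ and REFL as hypotheses.  Route: every non-scalar involution of `GL_4(F)` is
`SL_4`-conjugate to one of `t 0`, `ρ`, `-ρ` (compare the traces of the diagonal forms); if `x² = z`
with `z = c²` apply this to `c⁻¹ x`; if `z` is a nonsquare then `1 = det x = z²` forces `z = ±1`.
-/
import Mathlib
import Cfsg.Agent.Lib.helper89.S60Defs

set_option autoImplicit false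

namespace Cfsg.Agent.Lib.helper89.S60

open Matrix Cfsg Cfsg.Geo

theorem h82_dk_trace {F : Type*} [Field F] (k : ℕ) (hk : k ≤ 4) :
    Matrix.trace (Dk F k) = 4 - 2 * (k : F) := by
  interval_cases k <;> simp [Dk, Matrix.trace, Fin.sum_univ_four] <;> norm_num

theorem h82_dk_zero {F : Type*} [Field F] : Dk F 0 = (1 : F) • (1 : Matrix (Fin 4) (Fin 4) F) := by
  simp [Dk]

theorem h82_dk_four {F : Type*} [Field F] : Dk F 4 = (-1 : F) • (1 : Matrix (Fin 4) (Fin 4) F) := by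
  ext i j
  fin_cases i <;> fin_cases j <;> simp [Dk]

theorem h82_k_eq {F : Type*} [Field F] {p : ℕ} [Fact p.Prime] [CharP F p] (hp4 : p % 4 = 1)
    (h2 : (2 : F) ≠ 0) (k k' : ℕ) (hk : k ≤ 4) (hk' : k' ≤ 4)
    (h : (4 : F) - 2 * (k' : F) = 4 - 2 * (k : F)) : k' = k := by
  have h1 : (2 : F) * (k' : F) = 2 * (k : F) := by linear_combination -h
  have h3 : (k' : F) = (k : F) := mul_left_cancel₀ h2 h1
  have h5 : 5 ≤ p := by
    have := (Fact.out : p.Prime).two_le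
    omega
  have h4 := (CharP.natCast_eq_natCast F p).1 h3
  unfold Nat.ModEq at h4
  rw [Nat.mod_eq_of_lt (by omega), Nat.mod_eq_of_lt (by omega)] at h4
  exact h4

/-- A scalar multiple of an element of the normalizer is in the normalizer. -/
theorem h82_smul_mem_normalizer {F : Type*} [Field F] (R : Subgroup (GL (Fin 4) F))
    (X Y : GL (Fin 4) F) (c : F)
    (hXY : (X : Matrix (Fin 4) (Fin 4) F) = c • (Y : Matrix (Fin 4) (Fin 4) F))
    (hY : Y ∈ subgroupNormalizer R) : X ∈ subgroupNormalizer R := by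
  have hs : ∀ y : GL (Fin 4) F, (X * Y⁻¹) * y = y * (X * Y⁻¹) := by
    intro y
    apply Units.ext
    have h1 : ((X * Y⁻¹ : GL (Fin 4) F) : Matrix (Fin 4) (Fin 4) F) = c • (1 : Matrix (Fin 4) (Fin 4) F) := by
      rw [Units.val_mul, hXY, Matrix.smul_mul, ← Units.val_mul, mul_inv_cancel, Units.val_one]
    rw [Units.val_mul (X * Y⁻¹) y, Units.val_mul y (X * Y⁻¹), h1]
    simp
  have hsN : X * Y⁻¹ ∈ subgroupNormalizer R := by
    unfold subgroupNormalizer
    rw [Subgroup.mem_normalizer_iff]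
    intro h
    rw [hs h, mul_inv_cancel_right]
  have h3 : X = (X * Y⁻¹) * Y := by group
  rw [h3]
  exact (subgroupNormalizer R).mul_mem hsN hY

theorem h82_trace_conj {F : Type*} [Field F] (g y : GL (Fin 4) F) :
    Matrix.trace ((g⁻¹ * y * g : GL (Fin 4) F) : Matrix (Fin 4) (Fin 4) F) =
      Matrix.trace (y : Matrix (Fin 4) (Fin 4) F) := by
  rw [Units.val_mul, Matrix.trace_mul_comm, Units.val_mul, ← Matrix.mul_assoc, ← Units.val_mul,
    mul_inv_cancel, Units.val_one, Matrix.one_mul]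

/-- If a conjugate of `x` is scalar, so is `x`. -/
theorem h82_scalar_of_conj {F : Type*} [Field F] (g x : GL (Fin 4) F) (c : F)
    (h : ((g⁻¹ * x * g : GL (Fin 4) F) : Matrix (Fin 4) (Fin 4) F) = c • (1 : Matrix (Fin 4) (Fin 4) F)) :
    (x : Matrix (Fin 4) (Fin 4) F) = c • (1 : Matrix (Fin 4) (Fin 4) F) := by
  have h1 : x = g * (g⁻¹ * x * g) * g⁻¹ := by group
  rw [h1, Units.val_mul, Units.val_mul, h, Matrix.mul_smul, Matrix.smul_mul, Matrix.mul_one,
    ← Units.val_mul, mul_inv_cancel, Units.val_one]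

/-- Every non-scalar involution of `GL_4(F)` has an `SL_4`-conjugate in the normalizer of `R`. -/
theorem h82_s60_invol_core {F : Type*} [Field F] [Fintype F] {p : ℕ} [Fact p.Prime] [CharP F p] (hp4 : p % 4 = 1)
    (h2 : (2 : F) ≠ 0) (R : Subgroup (GL (Fin 4) F)) (w : F) (hG : Good R w)
    (hCLS : ∀ x : GL (Fin 4) F, (x : Matrix (Fin 4) (Fin 4) F) * (x : Matrix (Fin 4) (Fin 4) F) = 1 →
      ∃ g ∈ specialLinear (Fin 4) F, ∃ k : ℕ, k ≤ 4 ∧ ((g⁻¹ * x * g : GL (Fin 4) F) : Matrix (Fin 4) (Fin 4) F) = Dk F k)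
    (hREFL : ∃ ρ : GL (Fin 4) F, ρ ∈ subgroupNormalizer R ∧ (ρ : Matrix (Fin 4) (Fin 4) F) * (ρ : Matrix (Fin 4) (Fin 4) F) = 1 ∧ Matrix.trace (ρ : Matrix (Fin 4) (Fin 4) F) = 2)
    (x : GL (Fin 4) F) (hinv : (x : Matrix (Fin 4) (Fin 4) F) * (x : Matrix (Fin 4) (Fin 4) F) = 1)
    (hns : ∀ z : F, (x : Matrix (Fin 4) (Fin 4) F) ≠ z • (1 : Matrix (Fin 4) (Fin 4) F)) :
    ∃ g ∈ specialLinear (Fin 4) F, g⁻¹ * x * g ∈ subgroupNormalizer R := by
  obtain ⟨g, hg, k, hk, e1⟩ := hCLS x hinv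
  obtain ⟨ρ, hρN, hρ2, hρtr⟩ := hREFL
  obtain ⟨t, ht⟩ := hG.frame
  have key : ∀ y : GL (Fin 4) F, y ∈ subgroupNormalizer R →
      (y : Matrix (Fin 4) (Fin 4) F) * (y : Matrix (Fin 4) (Fin 4) F) = 1 →
      Matrix.trace (y : Matrix (Fin 4) (Fin 4) F) = 4 - 2 * (k : F) →
      ∃ G ∈ specialLinear (Fin 4) F, G⁻¹ * x * G ∈ subgroupNormalizer R := by
    intro y hyN hy2 hytr
    obtain ⟨g', hg', k', hk', e2⟩ := hCLS y hy2
    have htr' : Matrix.trace (Dk F k') = Matrix.trace (y : Matrix (Fin 4) (Fin 4) F) := by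
      rw [← e2, h82_trace_conj]
    have hkk : k' = k := by
      apply h82_k_eq hp4 h2 k k' hk hk'
      rw [← h82_dk_trace k' hk', htr', hytr]
    subst hkk
    refine ⟨g * g'⁻¹, (specialLinear (Fin 4) F).mul_mem hg ((specialLinear (Fin 4) F).inv_mem hg'), ?_⟩
    have e : g⁻¹ * x * g = g'⁻¹ * y * g' := Units.ext (e1.trans e2.symm)
    have h3 : (g * g'⁻¹)⁻¹ * x * (g * g'⁻¹) = y := by
      calc (g * g'⁻¹)⁻¹ * x * (g * g'⁻¹) = g' * (g⁻¹ * x * g) * g'⁻¹ := by group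
        _ = y := by rw [e]; group
    rw [h3]
    exact hyN
  interval_cases k
  · exfalso
    rw [h82_dk_zero] at e1
    exact hns 1 (h82_scalar_of_conj g x 1 e1)
  · exact key ρ hρN hρ2 (by rw [hρtr]; norm_num)
  · have ht0 : Matrix.trace ((t 0 : GL (Fin 4) F) : Matrix (Fin 4) (Fin 4) F) = 0 := by
      apply hG.tr0 (t 0) (ht.1 0)
      intro c hc
      have hanti := ht.2.2.1 0 1 (by decide)
      have hcomm : ((t 0 : GL (Fin 4) F) : Matrix (Fin 4) (Fin 4) F) * ((t 1 : GL (Fin 4) F) : Matrix (Fin 4) (Fin 4) F)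
          = ((t 1 : GL (Fin 4) F) : Matrix (Fin 4) (Fin 4) F) * ((t 0 : GL (Fin 4) F) : Matrix (Fin 4) (Fin 4) F) := by
        rw [hc]
        simp
      rw [← hcomm] at hanti
      have h5 : (2 : F) • (((t 0 : GL (Fin 4) F) : Matrix (Fin 4) (Fin 4) F) * ((t 1 : GL (Fin 4) F) : Matrix (Fin 4) (Fin 4) F)) = 0 := by
        rw [two_smul]
        nth_rewrite 1 [hanti]
        simp
      rcases smul_eq_zero.1 h5 with h6 | h6
      · exact h2 h6
      · have h7 : ((t 0 * t 1 : GL (Fin 4) F) : Matrix (Fin 4) (Fin 4) F) = 0 := by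
          rw [Units.val_mul]
          exact h6
        have h8 := (t 0 * t 1).isUnit
        rw [h7] at h8
        exact not_isUnit_zero h8
    exact key (t 0) (Subgroup.le_normalizer (ht.1 0)) (ht.2.1 0) (by rw [ht0]; norm_num)
  · have hneg : -ρ ∈ subgroupNormalizer R :=
      h82_smul_mem_normalizer R (-ρ) ρ (-1) (by rw [Units.val_neg, neg_smul, one_smul]) hρN
    exact key (-ρ) hneg (by rw [Units.val_neg, neg_mul_neg, hρ2])
      (by rw [Units.val_neg, Matrix.trace_neg, hρtr]; norm_num)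
  · exfalso
    rw [h82_dk_four] at e1
    exact hns (-1) (h82_scalar_of_conj g x (-1) e1)

/-- S2 with the statements of CLS2, NOSQ, REFL as hypotheses. -/
theorem h82_s60_suff_two_core {F : Type*} [Field F] [Fintype F] {p : ℕ} [Fact p.Prime] [CharP F p] (hp4 : p % 4 = 1)
    (h2 : (2 : F) ≠ 0) (R : Subgroup (GL (Fin 4) F)) (w : F) (hG : Good R w)
    (hCLS : ∀ x : GL (Fin 4) F, (x : Matrix (Fin 4) (Fin 4) F) * (x : Matrix (Fin 4) (Fin 4) F) = 1 →
      ∃ g ∈ specialLinear (Fin 4) F, ∃ k : ℕ, k ≤ 4 ∧ ((g⁻¹ * x * g : GL (Fin 4) F) : Matrix (Fin 4) (Fin 4) F) = Dk F k)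
    (hNOSQ : ∀ (x : Matrix (Fin 4) (Fin 4) F) (z : F), (∀ c : F, c * c ≠ z) →
      x * x = z • (1 : Matrix (Fin 4) (Fin 4) F) → x.det = z ^ 2)
    (hREFL : ∃ ρ : GL (Fin 4) F, ρ ∈ subgroupNormalizer R ∧ (ρ : Matrix (Fin 4) (Fin 4) F) * (ρ : Matrix (Fin 4) (Fin 4) F) = 1 ∧ Matrix.trace (ρ : Matrix (Fin 4) (Fin 4) F) = 2)
    (x : GL (Fin 4) F) (hx : x ∈ specialLinear (Fin 4) F) (z : F)
    (hz : (x : Matrix (Fin 4) (Fin 4) F) ^ 2 = z • (1 : Matrix (Fin 4) (Fin 4) F)) (hns : ∀ z : F, (x : Matrix (Fin 4) (Fin 4) F) ≠ z • (1 : Matrix (Fin 4) (Fin 4) F)) :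
    ∃ g ∈ specialLinear (Fin 4) F, g⁻¹ * x * g ∈ subgroupNormalizer R := by
  have hdet : (x : Matrix (Fin 4) (Fin 4) F).det = 1 := by
    have h1 : Matrix.GeneralLinearGroup.det x = 1 := hx
    have h3 := congrArg Units.val h1
    simpa using h3
  have hxx : (x : Matrix (Fin 4) (Fin 4) F) * (x : Matrix (Fin 4) (Fin 4) F) = z • (1 : Matrix (Fin 4) (Fin 4) F) := by
    rw [← hz, pow_two]
  by_cases hsq : ∃ c : F, c * c = z
  · obtain ⟨c, rfl⟩ := hsq
    have hc : c ≠ 0 := by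
      rintro rfl
      have h1 := congrArg Matrix.det hxx
      rw [Matrix.det_mul, hdet] at h1
      simp at h1
    -- the involution `c⁻¹ x`
    let x' : GL (Fin 4) F :=
      ⟨c⁻¹ • (x : Matrix (Fin 4) (Fin 4) F), c⁻¹ • (x : Matrix (Fin 4) (Fin 4) F),
        by rw [Matrix.smul_mul, Matrix.mul_smul, hxx, smul_smul, smul_smul]
           field_simp
           simp,
        by rw [Matrix.smul_mul, Matrix.mul_smul, hxx, smul_smul, smul_smul]
           field_simp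
           simp⟩
    have hx'v : (x' : Matrix (Fin 4) (Fin 4) F) = c⁻¹ • (x : Matrix (Fin 4) (Fin 4) F) := rfl
    have hinv : (x' : Matrix (Fin 4) (Fin 4) F) * (x' : Matrix (Fin 4) (Fin 4) F) = 1 := x'.mul_inv
    have hns' : ∀ z : F, (x' : Matrix (Fin 4) (Fin 4) F) ≠ z • (1 : Matrix (Fin 4) (Fin 4) F) := by
      intro d hd
      apply hns (c * d)
      rw [hx'v] at hd
      have h1 := congrArg (fun M => c • M) hd
      simp only [smul_smul] at h1
      rw [mul_inv_cancel₀ hc, one_smul] at h1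
      exact h1
    obtain ⟨G, hGs, hGN⟩ := h82_s60_invol_core hp4 h2 R w hG hCLS hREFL x' hinv hns'
    refine ⟨G, hGs, ?_⟩
    apply h82_smul_mem_normalizer R (G⁻¹ * x * G) (G⁻¹ * x' * G) c ?_ hGN
    rw [Units.val_mul, Units.val_mul, Units.val_mul, Units.val_mul, hx'v, Matrix.mul_smul,
      Matrix.smul_mul, smul_smul, mul_inv_cancel₀ hc, one_smul]
  · exfalso
    have hsq' : ∀ c : F, c * c ≠ z := fun c hc => hsq ⟨c, hc⟩
    have h1 := hNOSQ (x : Matrix (Fin 4) (Fin 4) F) z hsq' hxx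
    rw [hdet] at h1
    have h3 : (z - 1) * (z + 1) = 0 := by linear_combination -h1
    rcases mul_eq_zero.1 h3 with h4 | h4
    · exact hsq' 1 (by rw [one_mul]; linear_combination -h4)
    · exact hsq' w (by rw [hG.wsq]; linear_combination -h4)

end Cfsg.Agent.Lib.helper89.S60
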