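/-
S6000 piece S2, racer copy (helper82; architect helper89): `h82_s60_suff_two_core` with the landed
pieces CLS2 (helper58), NOSQ (helper98) and REFL (helper15) plugged in.
-/
import Mathlib
import Cfsg.Agent.Lib.helper89.S60Defs
import Cfsg.Agent.Lib.helper82.S60S2core
import Cfsg.Agent.Lib.helper58.S60CLS2
import Cfsg.Agent.Lib.helper98.S60NOSQ
import Cfsg.Agent.Lib.helper15.S60REFL

set_option autoImplicit false

namespace Cfsg.Agent.Lib.helper89.S60

open Matrix Cfsg Cfsg.Geo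

/-- S2 (racer copy, verbatim statement of `s60_suff_two`). -/
theorem h82_s60_suff_two {F : Type*} [Field F] [Fintype F] {p : ℕ} [Fact p.Prime] [CharP F p] (hp4 : p % 4 = 1)
    (h2 : (2 : F) ≠ 0) (R : Subgroup (GL (Fin 4) F)) (w : F) (hG : Good R w)
    (x : GL (Fin 4) F) (hx : x ∈ specialLinear (Fin 4) F) (z : F)
    (hz : (x : Matrix (Fin 4) (Fin 4) F) ^ 2 = z • (1 : Matrix (Fin 4) (Fin 4) F)) (hns : ∀ z : F, (x : Matrix (Fin 4) (Fin 4) F) ≠ z • (1 : Matrix (Fin 4) (Fin 4) F)) :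
    ∃ g ∈ specialLinear (Fin 4) F, g⁻¹ * x * g ∈ subgroupNormalizer R :=
  h82_s60_suff_two_core hp4 h2 R w hG (fun x hx => s60_invol_class h2 x hx)
    (fun x z hz hx => s60_nosq x z hz hx) (s60_refl h2 R w hG) x hx z hz hns

end Cfsg.Agent.Lib.helper89.S60
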