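import Mathlib
import Cfsg.Agent.Lib.helper24.S6eDefs
import Cfsg.Agent.Lib.helper82.S6eB5Ering

/-!
# S6002, piece B5E (racer copy, prefixed name): an element of order 5 of `Sp_4(F)` normalizing `R`.
-/

set_option autoImplicit false

namespace Cfsg.Agent.Lib.helper24

open Matrix Cfsg Cfsg.Geo

theorem h82_symp_add_left {F : Type*} [Field F] (x x' y : S6I → F) :
    sympForm 2 F (x + x') y = sympForm 2 F x y + sympForm 2 F x' y := by
  simp [sympForm, add_dotProduct]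

theorem h82_symp_add_right {F : Type*} [Field F] (x y y' : S6I → F) :
    sympForm 2 F x (y + y') = sympForm 2 F x y + sympForm 2 F x y' := by
  simp [sympForm, Matrix.mulVec_add, dotProduct_add]

theorem h82_symp_neg_right {F : Type*} [Field F] (x y : S6I → F) :
    sympForm 2 F x (-y) = -sympForm 2 F x y := by
  simp [sympForm, Matrix.mulVec_neg, dotProduct_neg]

theorem h82_symp_smul {F : Type*} [Field F] (c : F) (x y : S6I → F) :
    sympForm 2 F (c • x) (c • y) = c * c * sympForm 2 F x y := by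
  simp [sympForm, Matrix.mulVec_smul, smul_dotProduct, dotProduct_smul, mul_assoc]

theorem h82_symp_ne_zero {F : Type*} [Field F] :
    sympForm 2 F (Pi.single (Sum.inl 0) 1) (Pi.single (Sum.inr 0) 1) ≠ 0 := by
  simp [sympForm, Matrix.J]

/-- `1 + P * Q` scales the form by 2 when `P`, `Q` preserve it and `(P * Q) ^ 2 = -1`. -/
theorem h82_symp_scale {F : Type*} [Field F] (P Q : Matrix S6I S6I F)
    (hP : ∀ u v, sympForm 2 F (P *ᵥ u) (P *ᵥ v) = sympForm 2 F u v)
    (hQ : ∀ u v, sympForm 2 F (Q *ᵥ u) (Q *ᵥ v) = sympForm 2 F u v)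
    (hsq : (P * Q) * (P * Q) = -1) (x y : S6I → F) :
    sympForm 2 F ((1 + P * Q) *ᵥ x) ((1 + P * Q) *ᵥ y) = 2 * sympForm 2 F x y := by
  have hm : ∀ u v, sympForm 2 F ((P * Q) *ᵥ u) ((P * Q) *ᵥ v) = sympForm 2 F u v := by
    intro u v
    rw [← Matrix.mulVec_mulVec, ← Matrix.mulVec_mulVec, hP, hQ]
  have h1 : sympForm 2 F ((P * Q) *ᵥ x) y = -sympForm 2 F x ((P * Q) *ᵥ y) := by
    have h := hm x (-((P * Q) *ᵥ y))
    rw [Matrix.mulVec_neg, Matrix.mulVec_mulVec, hsq, Matrix.neg_mulVec, Matrix.one_mulVec,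
      neg_neg, h82_symp_neg_right] at h
    exact h
  rw [Matrix.add_mulVec, Matrix.add_mulVec, Matrix.one_mulVec, Matrix.one_mulVec,
    h82_symp_add_left, h82_symp_add_right, h82_symp_add_right, hm, h1]
  ring

theorem h82_anti_symm {A : Type*} [Ring A] {x y : A} (h : y * x = -(x * y)) :
    x * y = -(y * x) := by
  rw [h, neg_neg]

open Cfsg.Agent.Lib.helper82.S6e in
/-- B5E (racer copy of `s6_exists_five_elt`) -/
theorem h82_s6_exists_five_elt {F : Type*} [Field F] [Fintype F] (h2 : (2 : F) ≠ 0) (R : Subgroup (GL S6I F)) (hG : S6Good R) :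
    ∃ h : GL S6I F, h ∈ spGL 2 F ∧ h ∈ subgroupNormalizer R ∧ h ^ 5 = 1 ∧ h ≠ 1 := by
  classical
  obtain ⟨t, htR, htsq, htanti, htgen⟩ := hG.frame
  obtain ⟨z, hzR, hz⟩ := hG.neg
  have h4ne : (4 : F) ≠ 0 := by
    have h44 : (4 : F) = 2 * 2 := by norm_num
    rw [h44]; exact mul_ne_zero h2 h2
  -- the four involutions as matrices
  obtain ⟨a, ha⟩ : ∃ a : Matrix S6I S6I F, a = (t 0 : Matrix S6I S6I F) := ⟨_, rfl⟩
  obtain ⟨b, hb⟩ : ∃ b : Matrix S6I S6I F, b = (t 1 : Matrix S6I S6I F) := ⟨_, rfl⟩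
  obtain ⟨c, hc⟩ : ∃ c : Matrix S6I S6I F, c = (t 2 : Matrix S6I S6I F) := ⟨_, rfl⟩
  obtain ⟨d, hd⟩ : ∃ d : Matrix S6I S6I F, d = (t 3 : Matrix S6I S6I F) := ⟨_, rfl⟩
  have haa : a * a = 1 := by rw [ha]; exact htsq 0
  have hbb : b * b = 1 := by rw [hb]; exact htsq 1
  have hcc : c * c = 1 := by rw [hc]; exact htsq 2
  have hdd : d * d = 1 := by rw [hd]; exact htsq 3
  have hba : b * a = -(a * b) := by rw [ha, hb]; exact htanti 1 0 (by decide)
  have hca : c * a = -(a * c) := by rw [ha, hc]; exact htanti 2 0 (by decide)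
  have hda : d * a = -(a * d) := by rw [ha, hd]; exact htanti 3 0 (by decide)
  have hcb : c * b = -(b * c) := by rw [hb, hc]; exact htanti 2 1 (by decide)
  have hdb : d * b = -(b * d) := by rw [hb, hd]; exact htanti 3 1 (by decide)
  have hdc : d * c = -(c * d) := by rw [hc, hd]; exact htanti 3 2 (by decide)
  obtain ⟨hee, hea, heb, hec, hed⟩ :=
    frame_five a b c d haa hbb hcc hdd hba hca hda hcb hdb hdc
  obtain ⟨e, he⟩ : ∃ e : Matrix S6I S6I F, e = a * b * c * d := ⟨_, rfl⟩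
  rw [← he] at hee hea heb hec hed
  -- form preservation
  have hpa : ∀ u v, sympForm 2 F (a *ᵥ u) (a *ᵥ v) = sympForm 2 F u v := by
    rw [ha]; exact hG.sp (htR 0)
  have hpb : ∀ u v, sympForm 2 F (b *ᵥ u) (b *ᵥ v) = sympForm 2 F u v := by
    rw [hb]; exact hG.sp (htR 1)
  have hpc : ∀ u v, sympForm 2 F (c *ᵥ u) (c *ᵥ v) = sympForm 2 F u v := by
    rw [hc]; exact hG.sp (htR 2)
  have hpd : ∀ u v, sympForm 2 F (d *ᵥ u) (d *ᵥ v) = sympForm 2 F u v := by
    rw [hd]; exact hG.sp (htR 3)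
  have hpe : ∀ u v, sympForm 2 F (e *ᵥ u) (e *ᵥ v) = sympForm 2 F u v := by
    intro u v
    rw [he]
    simp only [← Matrix.mulVec_mulVec]
    rw [hpa, hpb, hpc, hpd]
  -- the factors
  obtain ⟨u1, hu1⟩ : ∃ u1 : Matrix S6I S6I F, u1 = 1 + a * b := ⟨_, rfl⟩
  obtain ⟨u2, hu2⟩ : ∃ u2 : Matrix S6I S6I F, u2 = 1 + b * c := ⟨_, rfl⟩
  obtain ⟨u3, hu3⟩ : ∃ u3 : Matrix S6I S6I F, u3 = 1 + c * d := ⟨_, rfl⟩
  obtain ⟨u4, hu4⟩ : ∃ u4 : Matrix S6I S6I F, u4 = 1 + d * e := ⟨_, rfl⟩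
  have Ga : (u1 * u2 * u3 * u4) * a = (-b) * (u1 * u2 * u3 * u4) :=
    chain4 u1 u2 u3 u4 a a a a (-b)
      (by rw [hu4]; exact u_comm d e a (h82_anti_symm hda) (h82_anti_symm hea))
      (by rw [hu3]; exact u_comm c d a (h82_anti_symm hca) (h82_anti_symm hda))
      (by rw [hu2]; exact u_comm b c a (h82_anti_symm hba) (h82_anti_symm hca))
      (by rw [hu1]; exact u_mul_left a b haa hbb hba)
  have Gb : (u1 * u2 * u3 * u4) * b = (-c) * (u1 * u2 * u3 * u4) :=
    chain4 u1 u2 u3 u4 b b b (-c) (-c)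
      (by rw [hu4]; exact u_comm d e b (h82_anti_symm hdb) (h82_anti_symm heb))
      (by rw [hu3]; exact u_comm c d b (h82_anti_symm hcb) (h82_anti_symm hdb))
      (by rw [hu2]; exact u_mul_left b c hbb hcc hcb)
      (by rw [hu1]; exact u_comm_neg a b c hca hcb)
  have Gc : (u1 * u2 * u3 * u4) * c = (-d) * (u1 * u2 * u3 * u4) :=
    chain4 u1 u2 u3 u4 c c (-d) (-d) (-d)
      (by rw [hu4]; exact u_comm d e c (h82_anti_symm hdc) (h82_anti_symm hec))
      (by rw [hu3]; exact u_mul_left c d hcc hdd hdc)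
      (by rw [hu2]; exact u_comm_neg b c d hdb hdc)
      (by rw [hu1]; exact u_comm_neg a b d hda hdb)
  have Gd : (u1 * u2 * u3 * u4) * d = (-e) * (u1 * u2 * u3 * u4) :=
    chain4 u1 u2 u3 u4 d (-e) (-e) (-e) (-e)
      (by rw [hu4]; exact u_mul_left d e hdd hee hed)
      (by rw [hu3]; exact u_comm_neg c d e hec hed)
      (by rw [hu2]; exact u_comm_neg b c e heb hec)
      (by rw [hu1]; exact u_comm_neg a b e hea heb)
  have Ge : (u1 * u2 * u3 * u4) * e = a * (u1 * u2 * u3 * u4) :=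
    chain4 u1 u2 u3 u4 e d c b a
      (by rw [hu4]; exact u_mul_right d e hdd hee hed)
      (by rw [hu3]; exact u_mul_right c d hcc hdd hdc)
      (by rw [hu2]; exact u_mul_right b c hbb hcc hcb)
      (by rw [hu1]; exact u_mul_right a b haa hbb hba)
  have hGG' : (u1 * u2 * u3 * u4) *
      ((1 - d * e) * (1 - c * d) * (1 - b * c) * (1 - a * b)) = 16 := by
    rw [hu1, hu2, hu3, hu4]
    exact prod_pairs _ _ _ _ _ _ _ _ (u_mul_v a b haa hbb hba) (u_mul_v b c hbb hcc hcb)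
      (u_mul_v c d hcc hdd hdc) (u_mul_v d e hdd hee hed)
  have hG'G : ((1 - d * e) * (1 - c * d) * (1 - b * c) * (1 - a * b)) *
      (u1 * u2 * u3 * u4) = 16 := by
    rw [hu1, hu2, hu3, hu4]
    exact prod_pairs _ _ _ _ _ _ _ _ (v_mul_u d e hdd hee hed) (v_mul_u c d hcc hdd hdc)
      (v_mul_u b c hbb hcc hcb) (v_mul_u a b haa hbb hba)
  have hscale : ∀ x y, sympForm 2 F ((u1 * u2 * u3 * u4) *ᵥ x) ((u1 * u2 * u3 * u4) *ᵥ y) =
      16 * sympForm 2 F x y := by
    intro x y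
    simp only [← Matrix.mulVec_mulVec]
    rw [hu1, h82_symp_scale a b hpa hpb (ab_sq a b haa hbb hba), hu2,
      h82_symp_scale b c hpb hpc (ab_sq b c hbb hcc hcb), hu3,
      h82_symp_scale c d hpc hpd (ab_sq c d hcc hdd hdc), hu4,
      h82_symp_scale d e hpd hpe (ab_sq d e hdd hee hed)]
    ring
  obtain ⟨G, hGdef⟩ : ∃ G : Matrix S6I S6I F, G = u1 * u2 * u3 * u4 := ⟨_, rfl⟩
  obtain ⟨G', hG'def⟩ : ∃ G' : Matrix S6I S6I F,
      G' = (1 - d * e) * (1 - c * d) * (1 - b * c) * (1 - a * b) := ⟨_, rfl⟩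
  rw [← hGdef] at Ga Gb Gc Gd Ge hGG' hG'G hscale
  rw [← hG'def] at hGG' hG'G
  have h16 : (16 : Matrix S6I S6I F) = (16 : F) • (1 : Matrix S6I S6I F) := by
    rw [← Nat.cast_ofNat (R := Matrix S6I S6I F), ← Nat.cast_ofNat (R := F),
      Nat.cast_smul_eq_nsmul, nsmul_eq_mul, mul_one]
  have hlam : (4 : F)⁻¹ * (4 : F)⁻¹ * 16 = 1 := by
    field_simp
    norm_num
  have hgg' : ((4 : F)⁻¹ • G) * ((4 : F)⁻¹ • G') = 1 := by
    rw [smul_mul_smul_comm, hGG', h16, smul_smul, hlam, one_smul]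
  have hg'g : ((4 : F)⁻¹ • G') * ((4 : F)⁻¹ • G) = 1 := by
    rw [smul_mul_smul_comm, hG'G, h16, smul_smul, hlam, one_smul]
  obtain ⟨gU, hgU⟩ : ∃ gU : GL S6I F, (gU : Matrix S6I S6I F) = (4 : F)⁻¹ • G :=
    ⟨⟨(4 : F)⁻¹ • G, (4 : F)⁻¹ • G', hgg', hg'g⟩, rfl⟩
  -- `gU` is symplectic
  have hgsp : gU ∈ spGL 2 F := by
    have h : ∀ u v, sympForm 2 F ((gU : Matrix S6I S6I F) *ᵥ u)
        ((gU : Matrix S6I S6I F) *ᵥ v) = sympForm 2 F u v := by
      intro x y
      rw [hgU, Matrix.smul_mulVec, Matrix.smul_mulVec, h82_symp_smul, hscale, ← mul_assoc, hlam,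
        one_mul]
    exact h
  -- group-level relations
  have hzc : ∀ x : GL S6I F, z * x = x * z := by
    intro x
    apply Units.ext
    rw [Units.val_mul, Units.val_mul, hz, neg_one_mul, mul_neg, mul_one]
  have hzz : z * z = 1 := by
    apply Units.ext
    rw [Units.val_mul, hz, neg_one_mul, neg_neg]
    rfl
  obtain ⟨t4, ht4⟩ : ∃ t4 : GL S6I F, t4 = t 0 * t 1 * t 2 * t 3 := ⟨_, rfl⟩
  have ht4R : t4 ∈ R := by
    rw [ht4]
    exact R.mul_mem (R.mul_mem (R.mul_mem (htR 0) (htR 1)) (htR 2)) (htR 3)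
  have ht4v : (t4 : Matrix S6I S6I F) = e := by
    rw [ht4, he, ha, hb, hc, hd]
    simp only [Units.val_mul]
  have rel : ∀ (x y : Matrix S6I S6I F), G * x = y * G →
      ((4 : F)⁻¹ • G) * x = y * ((4 : F)⁻¹ • G) := by
    intro x y h
    rw [smul_mul_assoc, h, mul_smul_comm]
  have r0 : gU * t 0 = z * t 1 * gU := by
    apply Units.ext
    rw [Units.val_mul, Units.val_mul, Units.val_mul, hgU, hz, ← ha, ← hb, rel a (-b) Ga,
      neg_one_mul]
  have r1 : gU * t 1 = z * t 2 * gU := by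
    apply Units.ext
    rw [Units.val_mul, Units.val_mul, Units.val_mul, hgU, hz, ← hb, ← hc, rel b (-c) Gb,
      neg_one_mul]
  have r2 : gU * t 2 = z * t 3 * gU := by
    apply Units.ext
    rw [Units.val_mul, Units.val_mul, Units.val_mul, hgU, hz, ← hc, ← hd, rel c (-d) Gc,
      neg_one_mul]
  have r3 : gU * t 3 = z * t4 * gU := by
    apply Units.ext
    rw [Units.val_mul, Units.val_mul, Units.val_mul, hgU, hz, ← hd, ht4v, rel d (-e) Gd,
      neg_one_mul]
  have r4 : gU * t4 = t 0 * gU := by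
    apply Units.ext
    rw [Units.val_mul, Units.val_mul, hgU, ← ha, ht4v, rel e a Ge]
  have c0 : gU * t 0 * gU⁻¹ = z * t 1 := by rw [r0, mul_inv_cancel_right]
  have c1 : gU * t 1 * gU⁻¹ = z * t 2 := by rw [r1, mul_inv_cancel_right]
  have c2 : gU * t 2 * gU⁻¹ = z * t 3 := by rw [r2, mul_inv_cancel_right]
  have c3 : gU * t 3 * gU⁻¹ = z * t4 := by rw [r3, mul_inv_cancel_right]
  have c4 : gU * t4 * gU⁻¹ = t 0 := by rw [r4, mul_inv_cancel_right]
  have cz : ∀ x, gU * (z * x) * gU⁻¹ = z * (gU * x * gU⁻¹) := by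
    intro x
    calc gU * (z * x) * gU⁻¹ = (gU * z) * x * gU⁻¹ := by simp only [mul_assoc]
      _ = (z * gU) * x * gU⁻¹ := by rw [hzc gU]
      _ = z * (gU * x * gU⁻¹) := by simp only [mul_assoc]
  have zz' : ∀ x : GL S6I F, z * (z * x) = x := by
    intro x
    rw [← mul_assoc, hzz, one_mul]
  have czR : gU * z * gU⁻¹ = z := by rw [← hzc gU, mul_inv_cancel_right]
  have hFin4 : ∀ i : Fin 4, i = 0 ∨ i = 1 ∨ i = 2 ∨ i = 3 := by decide
  -- frame generation at the group level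
  have hFR : ∀ K : Subgroup (GL S6I F), z ∈ K → (∀ i, t i ∈ K) → R ≤ K := by
    intro K hzK htK s hs
    obtain ⟨al, ε, hsv⟩ := htgen s hs
    have hs' : s = (if ε then z else 1) * (if al 0 then t 0 else 1) *
        (if al 1 then t 1 else 1) * (if al 2 then t 2 else 1) * (if al 3 then t 3 else 1) := by
      apply Units.ext
      rw [hsv]
      generalize al 0 = a0
      generalize al 1 = a1
      generalize al 2 = a2
      generalize al 3 = a3
      cases ε <;> cases a0 <;> cases a1 <;> cases a2 <;> cases a3 <;> simp [hz]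
    rw [hs']
    refine K.mul_mem (K.mul_mem (K.mul_mem (K.mul_mem ?_ ?_) ?_) ?_) ?_
    · split_ifs
      exacts [hzK, K.one_mem]
    · split_ifs
      exacts [htK 0, K.one_mem]
    · split_ifs
      exacts [htK 1, K.one_mem]
    · split_ifs
      exacts [htK 2, K.one_mem]
    · split_ifs
      exacts [htK 3, K.one_mem]
  -- `gU` normalizes `R`
  have hconjR : ∀ s ∈ R, gU * s * gU⁻¹ ∈ R := by
    have hK : R ≤ R.comap (MulAut.conj gU).toMonoidHom := by
      apply hFR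
      · show gU * z * gU⁻¹ ∈ R
        rw [czR]; exact hzR
      · intro i
        show gU * t i * gU⁻¹ ∈ R
        rcases hFin4 i with rfl | rfl | rfl | rfl
        · rw [c0]; exact R.mul_mem hzR (htR 1)
        · rw [c1]; exact R.mul_mem hzR (htR 2)
        · rw [c2]; exact R.mul_mem hzR (htR 3)
        · rw [c3]; exact R.mul_mem hzR ht4R
    intro s hs
    exact hK hs
  have hfin : Finite R := Nat.finite_of_card_ne_zero (by rw [hG.card]; norm_num)
  have hgN : gU ∈ subgroupNormalizer R := by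
    show gU ∈ Subgroup.normalizer (R : Set (GL S6I F))
    rw [Subgroup.mem_normalizer_iff]
    intro x
    constructor
    · exact hconjR x
    · intro hx
      have hinj : Function.Injective
          (fun s : R => (⟨gU * (s : GL S6I F) * gU⁻¹, hconjR s s.2⟩ : R)) := by
        intro s s' hss
        have h1 : gU * (s : GL S6I F) * gU⁻¹ = gU * (s' : GL S6I F) * gU⁻¹ :=
          congrArg Subtype.val hss
        apply Subtype.ext
        exact mul_left_cancel (mul_right_cancel h1)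
      obtain ⟨s, hs⟩ := (Finite.injective_iff_surjective.1 hinj) ⟨gU * x * gU⁻¹, hx⟩
      have h1 : gU * (s : GL S6I F) * gU⁻¹ = gU * x * gU⁻¹ := congrArg Subtype.val hs
      have h3 : (s : GL S6I F) = x := mul_left_cancel (mul_right_cancel h1)
      rw [← h3]; exact s.2
  -- the fifth power is central
  have hy : ∀ x : GL S6I F, gU ^ 5 * x * (gU ^ 5)⁻¹ =
      gU * (gU * (gU * (gU * (gU * x * gU⁻¹) * gU⁻¹) * gU⁻¹) * gU⁻¹) * gU⁻¹ := by
    intro x
    simp only [pow_succ, pow_zero, one_mul, _root_.mul_inv_rev, mul_assoc]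
  have k0 : gU ^ 5 * t 0 * (gU ^ 5)⁻¹ = t 0 := by
    simp only [hy, c0, c1, c2, c3, c4, cz, zz']
  have k1 : gU ^ 5 * t 1 * (gU ^ 5)⁻¹ = t 1 := by
    simp only [hy, c0, c1, c2, c3, c4, cz, zz']
  have k2 : gU ^ 5 * t 2 * (gU ^ 5)⁻¹ = t 2 := by
    simp only [hy, c0, c1, c2, c3, c4, cz, zz']
  have k3 : gU ^ 5 * t 3 * (gU ^ 5)⁻¹ = t 3 := by
    simp only [hy, c0, c1, c2, c3, c4, cz, zz']
  have hcomm5 : ∀ s ∈ R, (gU ^ 5 : GL S6I F) * s = s * gU ^ 5 := by
    have hK : R ≤ Subgroup.centralizer ({gU ^ 5} : Set (GL S6I F)) := by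
      apply hFR
      · rw [Subgroup.mem_centralizer_iff]
        intro h hh
        rw [Set.mem_singleton_iff] at hh
        rw [hh]
        exact (hzc _).symm
      · intro i
        rw [Subgroup.mem_centralizer_iff]
        intro h hh
        rw [Set.mem_singleton_iff] at hh
        rw [hh]
        rcases hFin4 i with rfl | rfl | rfl | rfl
        · exact mul_inv_eq_iff_eq_mul.1 k0
        · exact mul_inv_eq_iff_eq_mul.1 k1
        · exact mul_inv_eq_iff_eq_mul.1 k2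
        · exact mul_inv_eq_iff_eq_mul.1 k3
    intro s hs
    exact Subgroup.mem_centralizer_iff.1 (hK hs) (gU ^ 5) rfl
  obtain ⟨cc, hcc5⟩ := hG.schur ((gU ^ 5 : GL S6I F) : Matrix S6I S6I F) (by
    intro s hs
    have h := congrArg (fun u : GL S6I F => (u : Matrix S6I S6I F)) (hcomm5 s hs)
    simpa only [Units.val_mul] using h)
  have hc2 : cc * cc = 1 := by
    have hsp5 : ∀ u v, sympForm 2 F (((gU ^ 5 : GL S6I F) : Matrix S6I S6I F) *ᵥ u)
        (((gU ^ 5 : GL S6I F) : Matrix S6I S6I F) *ᵥ v) = sympForm 2 F u v :=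
      (spGL 2 F).pow_mem hgsp 5
    have h := hsp5 (Pi.single (Sum.inl 0) 1) (Pi.single (Sum.inr 0) 1)
    rw [hcc5, Matrix.smul_mulVec, Matrix.smul_mulVec, Matrix.one_mulVec, Matrix.one_mulVec,
      h82_symp_smul] at h
    have hne := h82_symp_ne_zero (F := F)
    have h0 : (cc * cc - 1) *
        sympForm 2 F (Pi.single (Sum.inl 0) 1) (Pi.single (Sum.inr 0) 1) = 0 := by
      linear_combination h
    rcases mul_eq_zero.1 h0 with h' | h'
    · linear_combination h'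
    · exact absurd h' hne
  refine ⟨gU ^ 2, (spGL 2 F).pow_mem hgsp 2, (subgroupNormalizer R).pow_mem hgN 2, ?_, ?_⟩
  · rw [← pow_mul]
    apply Units.ext
    have h10 : ((gU ^ (2 * 5) : GL S6I F) : Matrix S6I S6I F) =
        ((gU ^ 5 : GL S6I F) : Matrix S6I S6I F) * ((gU ^ 5 : GL S6I F) : Matrix S6I S6I F) := by
      rw [← Units.val_mul, ← pow_add]
    rw [h10, hcc5, smul_mul_smul_comm, mul_one, hc2, one_smul]
    rfl
  · intro h1
    have h3 : gU * (gU * t 0 * gU⁻¹) * gU⁻¹ = t 0 := by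
      have h4 : gU * (gU * t 0 * gU⁻¹) * gU⁻¹ = gU ^ 2 * t 0 * (gU ^ 2)⁻¹ := by
        simp only [pow_succ, pow_zero, one_mul, _root_.mul_inv_rev, mul_assoc]
      rw [h4, h1, one_mul, inv_one, mul_one]
    rw [c0, cz, c1, zz'] at h3
    have h5 : c = a := by rw [hc, ha, h3]
    have h6 := hca
    rw [h5, haa] at h6
    have h7 := congrFun (congrFun h6 (Sum.inl 0)) (Sum.inl 0)
    rw [Matrix.one_apply_eq, Matrix.neg_apply, Matrix.one_apply_eq] at h7
    exact h2 (by linear_combination h7)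

end Cfsg.Agent.Lib.helper24
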