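import Mathlib

/-!
# S0892 split, piece T6a (`word_identity`), helper82 insurance copy

A word identity in a group with central elements `z`, `ε = [s1, s3]`: if `s_i² = z`, `z² = 1`,
`(s1 s2)³ = (s2 s3)³ = 1`, then `w = s1 s3` and `w' = s2 w s2⁻¹` satisfy `[w, w'] = ε`.
Proof by right-associated rewriting (all words carry a tail `t`).
-/

set_option autoImplicit false

namespace Cfsg.Agent.Lib.helper70.SM

/-- T6a (word identity). -/
theorem h82_word_identity {G : Type*} [Group G] (s1 s2 s3 z : G)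
    (hz : ∀ g : G, z * g = g * z) (hzz : z ^ 2 = 1)
    (h1 : s1 ^ 2 = z) (h2 : s2 ^ 2 = z) (h3 : s3 ^ 2 = z)
    (h12 : (s1 * s2) ^ 3 = 1) (h23 : (s2 * s3) ^ 3 = 1)
    (hε : ∀ g : G, (s1 * s3 * s1⁻¹ * s3⁻¹) * g = g * (s1 * s3 * s1⁻¹ * s3⁻¹)) :
    (s1 * s3) * (s2 * (s1 * s3) * s2⁻¹) * (s1 * s3)⁻¹ * (s2 * (s1 * s3) * s2⁻¹)⁻¹ =
      s1 * s3 * s1⁻¹ * s3⁻¹ := by
  obtain ⟨ε, hεdef⟩ : ∃ ε : G, ε = s1 * s3 * s1⁻¹ * s3⁻¹ := ⟨_, rfl⟩
  rw [← hεdef] at hε ⊢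
  -- central rules (with tails)
  have ZZ : ∀ t : G, z * (z * t) = t := by
    intro t
    rw [← mul_assoc, ← pow_two, hzz, one_mul]
  have Zs : ∀ s t : G, s * (z * t) = z * (s * t) := by
    intro s t
    rw [← mul_assoc, ← hz s, mul_assoc]
  have Es : ∀ s t : G, s * (ε * t) = ε * (s * t) := by
    intro s t
    rw [← mul_assoc, ← hε s, mul_assoc]
  -- squares (with tails)
  have S1 : ∀ t : G, s1 * (s1 * t) = z * t := by
    intro t; rw [← mul_assoc, ← pow_two, h1]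
  have S2 : ∀ t : G, s2 * (s2 * t) = z * t := by
    intro t; rw [← mul_assoc, ← pow_two, h2]
  have S3 : ∀ t : G, s3 * (s3 * t) = z * t := by
    intro t; rw [← mul_assoc, ← pow_two, h3]
  -- inverses
  have s1inv : s1⁻¹ = z * s1 := by
    apply inv_eq_of_mul_eq_one_right
    rw [Zs, ← pow_two, h1, ← pow_two, hzz]
  have s2inv : s2⁻¹ = z * s2 := by
    apply inv_eq_of_mul_eq_one_right
    rw [Zs, ← pow_two, h2, ← pow_two, hzz]
  have s3inv : s3⁻¹ = z * s3 := by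
    apply inv_eq_of_mul_eq_one_right
    rw [Zs, ← pow_two, h3, ← pow_two, hzz]
  -- the commutator rule
  have C13 : ∀ t : G, s1 * (s3 * t) = ε * (s3 * (s1 * t)) := by
    intro t
    rw [hεdef]
    group
  have Z1 : ∀ t : G, s1 * (z * t) = z * (s1 * t) := Zs s1
  have Z2 : ∀ t : G, s2 * (z * t) = z * (s2 * t) := Zs s2
  have Z3 : ∀ t : G, s3 * (z * t) = z * (s3 * t) := Zs s3
  have ZE : ∀ t : G, ε * (z * t) = z * (ε * t) := Zs ε
  have E1 : ∀ t : G, s1 * (ε * t) = ε * (s1 * t) := Es s1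
  have E2 : ∀ t : G, s2 * (ε * t) = ε * (s2 * t) := Es s2
  have E3 : ∀ t : G, s3 * (ε * t) = ε * (s3 * t) := Es s3
  have e3 : ∀ t : G, s3 * (s1 * (s3 * (s1 * t))) = ε * t := by
    intro t
    rw [C13 (s1 * t)]
    simp only [S1, E3, Z3, S3, ZZ]
  have hinv : ε⁻¹ = ε := by
    calc ε⁻¹ = s3 * s1 * s3⁻¹ * s1⁻¹ := by rw [hεdef]; group
      _ = s3 * (s1 * (s3 * (s1 * 1))) := by
        rw [s3inv, s1inv]
        simp only [mul_assoc, mul_one, Z1, Z3, ZZ]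
      _ = ε := by rw [e3 1, mul_one]
  have EE : ∀ t : G, ε * (ε * t) = t := by
    intro t
    have h : ε * ε = 1 := by
      nth_rewrite 1 [← hinv]
      exact inv_mul_cancel ε
    rw [← mul_assoc, h, one_mul]
  have C31 : ∀ t : G, s3 * (s1 * t) = ε * (s1 * (s3 * t)) := by
    intro t
    rw [C13 t, EE]
  -- braid rules
  have B12 : ∀ t : G, s1 * (s2 * (s1 * t)) = z * (s2 * (s1 * (s2 * t))) := by
    intro t
    have h : s1 * s2 * (s1 * s2) * (s1 * s2) = 1 := by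
      have := h12
      rw [pow_succ, pow_two] at this
      exact this
    -- `s1 s2 s1 = s2⁻¹ s1⁻¹ s2⁻¹`
    have h' : s1 * (s2 * s1) = s2⁻¹ * (s1⁻¹ * s2⁻¹) := by
      have : s1 * (s2 * s1) * (s2 * (s1 * s2)) = 1 := by rw [← h]; group
      have h2' := eq_inv_of_mul_eq_one_left this
      rw [h2']
      group
    calc s1 * (s2 * (s1 * t)) = s1 * (s2 * s1) * t := by group
      _ = s2⁻¹ * (s1⁻¹ * s2⁻¹) * t := by rw [h']
      _ = z * (s2 * (s1 * (s2 * t))) := by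
        rw [s1inv, s2inv]
        simp only [mul_assoc, Z1, Z2, Z3, ZZ]
  have B21 : ∀ t : G, s2 * (s1 * (s2 * t)) = z * (s1 * (s2 * (s1 * t))) := by
    intro t
    rw [B12 t, ZZ]
  have B23 : ∀ t : G, s2 * (s3 * (s2 * t)) = z * (s3 * (s2 * (s3 * t))) := by
    intro t
    have h : s2 * s3 * (s2 * s3) * (s2 * s3) = 1 := by
      have := h23
      rw [pow_succ, pow_two] at this
      exact this
    have h' : s2 * (s3 * s2) = s3⁻¹ * (s2⁻¹ * s3⁻¹) := by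
      have : s2 * (s3 * s2) * (s3 * (s2 * s3)) = 1 := by rw [← h]; group
      have h2' := eq_inv_of_mul_eq_one_left this
      rw [h2']
      group
    calc s2 * (s3 * (s2 * t)) = s2 * (s3 * s2) * t := by group
      _ = s3⁻¹ * (s2⁻¹ * s3⁻¹) * t := by rw [h']
      _ = z * (s3 * (s2 * (s3 * t))) := by
        rw [s2inv, s3inv]
        simp only [mul_assoc, Z1, Z2, Z3, ZZ]
  have B32 : ∀ t : G, s3 * (s2 * (s3 * t)) = z * (s2 * (s3 * (s2 * t))) := by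
    intro t
    rw [B23 t, ZZ]
  -- the main chain
  have main : ∀ t : G, s1 * (s3 * (s2 * (s1 * (s3 * (s2 * t)))))
      = ε * (s2 * (s1 * (s3 * (s2 * (s1 * (s3 * t)))))) := by
    intro t
    calc s1 * (s3 * (s2 * (s1 * (s3 * (s2 * t)))))
        = ε * (s1 * (s3 * (s2 * (s3 * (s1 * (s2 * t)))))) := by
          rw [C13 (s2 * t)]; simp only [Z1, Z2, Z3, ZE, E1, E2, E3, ZZ, EE]
      _ = z * (ε * (s1 * (s2 * (s3 * (s2 * (s1 * (s2 * t))))))) := by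
          rw [B32 (s1 * (s2 * t))]; simp only [Z1, Z2, Z3, ZE, E1, E2, E3, ZZ, EE]
      _ = ε * (s1 * (s2 * (s3 * (s1 * (s2 * (s1 * t)))))) := by
          rw [B21 t]; simp only [Z1, Z2, Z3, ZE, E1, E2, E3, ZZ, EE]
      _ = s1 * (s2 * (s1 * (s3 * (s2 * (s1 * t))))) := by
          rw [C31 (s2 * (s1 * t))]; simp only [Z1, Z2, Z3, ZE, E1, E2, E3, ZZ, EE]
      _ = z * (s2 * (s1 * (s2 * (s3 * (s2 * (s1 * t)))))) := by
          rw [B12 (s3 * (s2 * (s1 * t)))]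
      _ = s2 * (s1 * (s3 * (s2 * (s3 * (s1 * t))))) := by
          rw [B23 (s1 * t)]; simp only [Z1, Z2, Z3, ZE, E1, E2, E3, ZZ, EE]
      _ = ε * (s2 * (s1 * (s3 * (s2 * (s1 * (s3 * t)))))) := by
          rw [C31 t]; simp only [Z1, Z2, Z3, ZE, E1, E2, E3, ZZ, EE]
  have key : (s1 * s3) * (s2 * (s1 * s3) * s2⁻¹)
      = ε * ((s2 * (s1 * s3) * s2⁻¹) * (s1 * s3)) := by
    have m1 := main 1
    have e1 : (s1 * s3) * (s2 * (s1 * s3) * (z * s2))
        = z * (s1 * (s3 * (s2 * (s1 * (s3 * (s2 * 1)))))) := by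
      simp only [mul_assoc, mul_one, Z1, Z2, Z3, ZE]
    have e2 : ε * ((s2 * (s1 * s3) * (z * s2)) * (s1 * s3))
        = z * (ε * (s2 * (s1 * (s3 * (s2 * (s1 * (s3 * 1))))))) := by
      simp only [mul_assoc, mul_one, Z1, Z2, Z3, ZE]
    rw [s2inv, e1, e2, m1]
  calc (s1 * s3) * (s2 * (s1 * s3) * s2⁻¹) * (s1 * s3)⁻¹ * (s2 * (s1 * s3) * s2⁻¹)⁻¹
      = ε * ((s2 * (s1 * s3) * s2⁻¹) * (s1 * s3)) * (s1 * s3)⁻¹ * (s2 * (s1 * s3) * s2⁻¹)⁻¹ := by
        rw [key]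
    _ = ε := by group

end Cfsg.Agent.Lib.helper70.SM
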