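import Mathlib
import Cfsg.Agent.Lib.helper69.SNDefs
import Cfsg.Agent.S0215

/-!
# S4073, piece E1-CORE (insurance copy by helper82): the assembly with the four leaf pieces
NILP, TWO-CENTER, E1-A, E1-B taken as hypotheses (verbatim statements).
-/

set_option autoImplicit false

namespace Cfsg.Agent.Lib.helper82.SNG

open Cfsg.Agent.Lib.helper69.SNG

universe u

/-- a product of two naturals equal to four, with both factors different from one -/
theorem helper82_four_split (a b : ℕ) (hab : a * b = 4) (ha : a ≠ 1) (hb : b ≠ 1) : b = 2 := by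
  have hb4 : b ∣ 4 := Dvd.intro_left a hab
  have hble : b ≤ 4 := Nat.le_of_dvd (by norm_num) hb4
  interval_cases b
  · omega
  · exact absurd rfl hb
  · rfl
  · omega
  · have : a = 1 := by omega
    exact absurd this ha

/-- the centralizer of an element of `S`, as a subgroup of `S`, has the same order as the
intersection of `S` with the centralizer in `G` -/
theorem helper82_card_subgroupOf_inf {G : Type u} [Group G] (S C : Subgroup G) :
    Nat.card ↥(C.subgroupOf S) = Nat.card ↥(S ⊓ C) := by
  have h1 : (S ⊓ C).subgroupOf S = C.subgroupOf S := Subgroup.inf_subgroupOf_left C S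
  rw [← h1]
  exact Nat.card_congr (Subgroup.subgroupOfEquivOfLe (inf_le_left : S ⊓ C ≤ S)).toEquiv

/-- **E1-CORE** with the leaf pieces as hypotheses. -/
theorem helper82_sn_sylow2_core_of
    (hNILP : ∀ {G : Type u} [Group G] [Finite G] (_ : SN G)
      (_ : Group.IsNilpotent G) (H : Subgroup G) (_ : H ≠ ⊤), IsMulCommutative H)
    (hTC : ∀ {S : Type u} [Group S] [Finite S] (_ : IsPGroup 2 S)
      (_ : ¬ IsMulCommutative S) (_ : ∀ H : Subgroup S, H ≠ ⊤ → IsMulCommutative H),
      (Subgroup.center S).index = 4)
    (hE1A : ∀ {G : Type u} [Group G] [Finite G] (_ : SN G) (S : Sylow 2 G)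
      (_ : ¬ IsMulCommutative S) (z : G) (_ : z ∈ S)
      (_ : z ∈ Subgroup.centralizer ((S : Subgroup G) : Set G)) (g : G)
      (_ : g * z * g⁻¹ ∈ S)
      (_ : g * z * g⁻¹ ∈ Subgroup.centralizer ((S : Subgroup G) : Set G)),
      g * z * g⁻¹ = z)
    (hE1B : ∀ {G : Type u} [Group G] [Finite G] [IsSimpleGroup G]
      (_ : ¬ IsMulCommutative G) (_ : SN G) (S : Sylow 2 G) (_ : ¬ IsMulCommutative S)
      (_ : ∀ (K : Subgroup G), K ≠ ⊤ → ∀ T : Sylow 2 G, (T : Subgroup G) ≤ K →
        ∃ O : Subgroup G, O ≤ K ∧ K ≤ Subgroup.normalizer (O : Set G) ∧ Odd (Nat.card O) ∧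
          O ⊔ (T : Subgroup G) = K)
      (z : G) (_ : z ∈ S) (_ : z ≠ 1)
      (_ : z ∈ Subgroup.centralizer ((S : Subgroup G) : Set G)) (g : G)
      (_ : g * z * g⁻¹ ∈ S)
      (_ : 2 * Nat.card ↥((S : Subgroup G) ⊓ Subgroup.centralizer ({g * z * g⁻¹} : Set G))
        = Nat.card S), False)
    {G : Type u} [Group G] [Finite G] [IsSimpleGroup G]
    (hna : ¬ IsMulCommutative G) (h : SN G) (S : Sylow 2 G) (hS : ¬ IsMulCommutative S)
    (hP2N : ∀ (K : Subgroup G), K ≠ ⊤ → ∀ T : Sylow 2 G, (T : Subgroup G) ≤ K →
      ∃ O : Subgroup G, O ≤ K ∧ K ≤ Subgroup.normalizer (O : Set G) ∧ Odd (Nat.card O) ∧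
        O ⊔ (T : Subgroup G) = K) : False := by
  classical
  -- the Sylow subgroup as a group
  have hSp : IsPGroup 2 (S : Subgroup G) := S.isPGroup'
  have hSnil : Group.IsNilpotent (S : Subgroup G) := hSp.isNilpotent
  have hSSN : SN (S : Subgroup G) := SN.subgroup h (S : Subgroup G)
  have hSna : ¬ IsMulCommutative (S : Subgroup G) := hS
  have hsub : ∀ H : Subgroup (S : Subgroup G), H ≠ ⊤ → IsMulCommutative H :=
    fun H hH => hNILP hSSN hSnil H hH
  have hidx : (Subgroup.center (S : Subgroup G)).index = 4 := hTC hSp hSna hsub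
  -- an involution in the centre of `S`
  haveI hnt : Nontrivial (S : Subgroup G) := by
    by_contra hnt
    rw [not_nontrivial_iff_subsingleton] at hnt
    exact hSna ⟨⟨fun a b => Subsingleton.elim _ _⟩⟩
  haveI hcnt : Nontrivial (Subgroup.center (S : Subgroup G)) := hSp.center_nontrivial
  have hcp : IsPGroup 2 (Subgroup.center (S : Subgroup G)) := hSp.to_subgroup _
  have h2dvd : 2 ∣ Nat.card (Subgroup.center (S : Subgroup G)) := by
    rcases hcp.card_eq_or_dvd with h1 | h1
    · have := Finite.one_lt_card (α := Subgroup.center (S : Subgroup G))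
      omega
    · exact h1
  obtain ⟨z0, hz0⟩ := exists_prime_orderOf_dvd_card' (G := Subgroup.center (S : Subgroup G)) 2 h2dvd
  set z : G := ((z0 : (S : Subgroup G)) : G) with hzdef
  have hzo : orderOf z = 2 := by
    rw [hzdef, Subgroup.orderOf_coe, Subgroup.orderOf_coe]; exact hz0
  have hzS : z ∈ S := (z0 : (S : Subgroup G)).2
  have hz1 : z ≠ 1 := by
    intro h1
    rw [h1, orderOf_one] at hzo
    omega
  have hzc : z ∈ Subgroup.centralizer ((S : Subgroup G) : Set G) := by
    rw [Subgroup.mem_centralizer_iff]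
    intro s hs
    have h1 := (Subgroup.mem_center_iff.mp z0.2) ⟨s, hs⟩
    exact congrArg Subtype.val h1
  -- fusion: some conjugate of `z` in `S` differs from `z`
  have hfus : ∃ g : G, g * z * g⁻¹ ∈ S ∧ g * z * g⁻¹ ≠ z := by
    by_contra hcon
    push_neg at hcon
    obtain ⟨N, hN, hNodd, hNc⟩ := Cfsg.Agent.S0215.result S z hzo hzS hcon
    rcases hN.eq_bot_or_eq_top with hb | ht
    · -- `z` is central in `G`
      have hzcen : z ∈ Subgroup.center G := by
        rw [Subgroup.mem_center_iff]
        intro g
        have h1 := hNc g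
        rw [hb, Subgroup.mem_bot] at h1
        have h2 : z * g = g * z := by
          have h3 : z * g * z⁻¹ * g⁻¹ * (g * z) = g * z := by rw [h1, one_mul]
          rw [← h3]; group
        exact h2.symm
      have hcen : Subgroup.center G = ⊤ := by
        rcases (Subgroup.instNormalCenter (G := G)).eq_bot_or_eq_top with hb' | ht'
        · rw [hb', Subgroup.mem_bot] at hzcen
          exact absurd hzcen hz1
        · exact ht'
      apply hna
      rw [comm_iff_top]
      intro a b
      have ha : b ∈ Subgroup.center G := by rw [hcen]; exact Subgroup.mem_top b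
      exact (Subgroup.mem_center_iff.mp ha) a
    · -- `G` would have odd order
      have hGodd : Odd (Nat.card G) := by
        have h1 : Nat.card N = Nat.card G := by
          rw [ht]; exact Subgroup.card_top
        rw [← h1]; exact hNodd
      have h2 : 2 ∣ Nat.card G := by
        rw [← hzo]; exact orderOf_dvd_natCard z
      rcases hGodd with ⟨k, hk⟩
      omega
  obtain ⟨g, hgS, hgne⟩ := hfus
  by_cases hgc : g * z * g⁻¹ ∈ Subgroup.centralizer ((S : Subgroup G) : Set G)
  · exact hgne (hE1A h S hS z hzS hzc g hgS hgc)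
  · -- the centralizer of `z' = g z g⁻¹` in `S` has index two
    set z' : G := g * z * g⁻¹ with hz'def
    set M : Subgroup (S : Subgroup G) :=
      (Subgroup.centralizer ({z'} : Set G)).subgroupOf (S : Subgroup G) with hMdef
    have hcle : Subgroup.center (S : Subgroup G) ≤ M := by
      intro c hc
      rw [hMdef, Subgroup.mem_subgroupOf, Subgroup.mem_centralizer_iff]
      intro y hy
      rw [Set.mem_singleton_iff] at hy
      subst hy
      have h1 := (Subgroup.mem_center_iff.mp hc) ⟨z', hgS⟩
      exact congrArg Subtype.val h1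
    have hMtop : M ≠ ⊤ := by
      intro hM
      apply hgc
      rw [Subgroup.mem_centralizer_iff]
      intro s hs
      have h1 : (⟨s, hs⟩ : (S : Subgroup G)) ∈ M := by rw [hM]; exact Subgroup.mem_top _
      rw [hMdef, Subgroup.mem_subgroupOf, Subgroup.mem_centralizer_iff] at h1
      exact (h1 z' (Set.mem_singleton z')).symm
    have hMcen : ¬ M ≤ Subgroup.center (S : Subgroup G) := by
      intro hle
      have h1 : (⟨z', hgS⟩ : (S : Subgroup G)) ∈ M := by
        rw [hMdef, Subgroup.mem_subgroupOf, Subgroup.mem_centralizer_iff]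
        intro y hy
        rw [Set.mem_singleton_iff] at hy
        subst hy
        rfl
      have h2 := hle h1
      apply hgc
      rw [Subgroup.mem_centralizer_iff]
      intro s hs
      have h3 := (Subgroup.mem_center_iff.mp h2) ⟨s, hs⟩
      exact congrArg Subtype.val h3
    have hmul : (Subgroup.center (S : Subgroup G)).relIndex M * M.index = 4 := by
      rw [Subgroup.relIndex_mul_index hcle, hidx]
    have hMi : M.index = 2 := by
      refine helper82_four_split _ _ hmul ?_ ?_
      · intro h1
        exact hMcen (Subgroup.relIndex_eq_one.mp h1)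
      · intro h1
        exact hMtop (Subgroup.index_eq_one.mp h1)
    have hcard : Nat.card M * M.index = Nat.card (S : Subgroup G) := Subgroup.card_mul_index M
    have hMc : Nat.card M = Nat.card
        ↥((S : Subgroup G) ⊓ Subgroup.centralizer ({z'} : Set G)) :=
      helper82_card_subgroupOf_inf (S : Subgroup G) (Subgroup.centralizer ({z'} : Set G))
    have hM2 : 2 * Nat.card ↥((S : Subgroup G) ⊓ Subgroup.centralizer ({g * z * g⁻¹} : Set G))
        = Nat.card S := by
      rw [← hz'def, ← hMc]
      rw [hMi] at hcard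
      have : Nat.card (S : Subgroup G) = Nat.card S := rfl
      rw [← this, ← hcard, mul_comm]
    exact hE1B hna h S hS hP2N z hzS hz1 hzc g hgS hM2

end Cfsg.Agent.Lib.helper82.SNG
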