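import Mathlib
import Cfsg.Agent.Lib.helper69.SNDefs
import Cfsg.Agent.Lib.helper82.SNG_E1COREcore
import Cfsg.Agent.Lib.helper53.SNG_NILP
import Cfsg.Agent.Lib.helper53.SNG_TWOCENTER
import Cfsg.Agent.Lib.helper26.SNG_E1A
import Cfsg.Agent.Lib.helper6.SNG_E1B

/-!
# S4073, piece E1-CORE (insurance copy by helper82): verbatim statement, prefixed name.
-/

set_option autoImplicit false

namespace Cfsg.Agent.Lib.helper82.SNG

open Cfsg.Agent.Lib.helper69.SNG

universe u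

/-- **[E1-CORE]** (assembly: `Cfsg.Agent.S0215.result` (Z*), TWO-CENTER, NILP, E1-A, E1-B) -/
theorem helper82_sn_sylow2_core {G : Type u} [Group G] [Finite G] [IsSimpleGroup G]
    (hna : ¬ IsMulCommutative G) (h : SN G) (S : Sylow 2 G) (hS : ¬ IsMulCommutative S)
    (hP2N : ∀ (K : Subgroup G), K ≠ ⊤ → ∀ T : Sylow 2 G, (T : Subgroup G) ≤ K →
      ∃ O : Subgroup G, O ≤ K ∧ K ≤ Subgroup.normalizer (O : Set G) ∧ Odd (Nat.card O) ∧
        O ⊔ (T : Subgroup G) = K) : False :=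
  helper82_sn_sylow2_core_of
    (fun h hnil H hH => Cfsg.Agent.Lib.helper53.SNG.sn_nilpotent_sub_comm h hnil H hH)
    (fun hS hna hsub => Cfsg.Agent.Lib.helper53.SNG.two_group_center_index hS hna hsub)
    (fun h S hS z hzS hz g hgS hg =>
      Cfsg.Agent.Lib.helper26.SNG.sn_sylow2_fusion_center h S hS z hzS hz g hgS hg)
    (fun hna h S hS hP2N z hzS hz1 hz g hgS hM =>
      Cfsg.Agent.Lib.helper6.SNG.sn_sylow2_fusion_noncenter hna h S hS hP2N z hzS hz1 hz g hgS hM)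
    hna h S hS hP2N

end Cfsg.Agent.Lib.helper82.SNG
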