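import Mathlib
import Cfsg.Agent.Lib.helper69.SNDefs

/-!
# S4073 piece E1 (`sn_sylow2_comm`), core

Strong induction on the order: in a finite non-abelian simple `SN`-group the Sylow 2-subgroups
are abelian, given the statements of the pieces P2N (`sn_proper_two_nilpotent`) and E1-CORE
(`sn_sylow2_core`) as hypotheses.
-/

set_option autoImplicit false

namespace Cfsg.Agent.Lib.helper82.SNG

open Cfsg.Agent.Lib.helper69.SNG

universe u

/-- E1 (core), in the form used by the induction. -/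
theorem helper82_sn_sylow2_comm_aux
    (hP2N : ∀ {G : Type u} [Group G] [Finite G] (_ : SN G) (K : Subgroup G)
      (T : Sylow 2 G) (_ : (T : Subgroup G) ≤ K) (_ : ¬ IsMulCommutative T)
      (_ : ∀ (N : Subgroup K) [N.Normal], IsSimpleGroup (K ⧸ N) → ¬ IsMulCommutative (K ⧸ N) →
        ∀ Q : Sylow 2 (K ⧸ N), IsMulCommutative Q),
      ∃ O : Subgroup G, O ≤ K ∧ K ≤ Subgroup.normalizer (O : Set G) ∧ Odd (Nat.card O) ∧
        O ⊔ (T : Subgroup G) = K)
    (hcore : ∀ {G : Type u} [Group G] [Finite G] [IsSimpleGroup G]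
      (_ : ¬ IsMulCommutative G) (_ : SN G) (S : Sylow 2 G) (_ : ¬ IsMulCommutative S)
      (_ : ∀ (K : Subgroup G), K ≠ ⊤ → ∀ T : Sylow 2 G, (T : Subgroup G) ≤ K →
        ∃ O : Subgroup G, O ≤ K ∧ K ≤ Subgroup.normalizer (O : Set G) ∧ Odd (Nat.card O) ∧
          O ⊔ (T : Subgroup G) = K), False) :
    ∀ (n : ℕ) (G : Type u) [Group G] [Finite G] [IsSimpleGroup G], Nat.card G = n →
      ¬ IsMulCommutative G → SN G → ∀ S : Sylow 2 G, IsMulCommutative S := by
  intro n
  induction n using Nat.strong_induction_on with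
  | _ n ih =>
    intro G _ _ _ hn hna h S
    by_contra hS
    haveI : Fact (Nat.Prime 2) := ⟨Nat.prime_two⟩
    apply hcore hna h S hS
    intro K hK T hTK
    have hT : ¬ IsMulCommutative T := by
      intro hc
      exact hS (comm_of_mulEquiv (Sylow.equiv T S) hc)
    refine hP2N h K T hTK hT ?_
    intro N _ hsimp hnaQ Q
    haveI := hsimp
    have hlt : Nat.card (K ⧸ N) < n := by
      have h1 : Nat.card (K ⧸ N) ≤ Nat.card K :=
        Nat.card_le_card_of_surjective _ (QuotientGroup.mk'_surjective N)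
      have h2 : Nat.card K < Nat.card G :=
        lt_of_le_of_ne (Subgroup.card_le_card_group K)
          (fun h' => hK ((Subgroup.card_eq_iff_eq_top K).mp h'))
      omega
    exact ih (Nat.card (K ⧸ N)) hlt (K ⧸ N) rfl hnaQ ((h.subgroup K).quotient N) Q

/-- E1 (core): the statement of `sn_sylow2_comm` from P2N and E1-CORE. -/
theorem helper82_sn_sylow2_comm_core
    (hP2N : ∀ {G : Type u} [Group G] [Finite G] (_ : SN G) (K : Subgroup G)
      (T : Sylow 2 G) (_ : (T : Subgroup G) ≤ K) (_ : ¬ IsMulCommutative T)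
      (_ : ∀ (N : Subgroup K) [N.Normal], IsSimpleGroup (K ⧸ N) → ¬ IsMulCommutative (K ⧸ N) →
        ∀ Q : Sylow 2 (K ⧸ N), IsMulCommutative Q),
      ∃ O : Subgroup G, O ≤ K ∧ K ≤ Subgroup.normalizer (O : Set G) ∧ Odd (Nat.card O) ∧
        O ⊔ (T : Subgroup G) = K)
    (hcore : ∀ {G : Type u} [Group G] [Finite G] [IsSimpleGroup G]
      (_ : ¬ IsMulCommutative G) (_ : SN G) (S : Sylow 2 G) (_ : ¬ IsMulCommutative S)
      (_ : ∀ (K : Subgroup G), K ≠ ⊤ → ∀ T : Sylow 2 G, (T : Subgroup G) ≤ K →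
        ∃ O : Subgroup G, O ≤ K ∧ K ≤ Subgroup.normalizer (O : Set G) ∧ Odd (Nat.card O) ∧
          O ⊔ (T : Subgroup G) = K), False)
    {G : Type u} [Group G] [Finite G] [IsSimpleGroup G]
    (hna : ¬ IsMulCommutative G) (h : SN G) (S : Sylow 2 G) : IsMulCommutative S :=
  helper82_sn_sylow2_comm_aux hP2N hcore (Nat.card G) G rfl hna h S

end Cfsg.Agent.Lib.helper82.SNG
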