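import Mathlib
import Cfsg.Agent.Lib.helper69.SNDefs
import Cfsg.Agent.Lib.helper82.SNG_E1core
import Cfsg.Agent.Lib.helper82.SNG_E1CORE
import Cfsg.Agent.Lib.helper15.SNG_P2N

/-!
# S4073, piece E1 (helper82): Sylow 2-subgroups of a simple non-abelian `SN`-group are abelian.
Verbatim statement and name of the skeleton.
-/

set_option autoImplicit false

namespace Cfsg.Agent.Lib.helper82.SNG

open Cfsg.Agent.Lib.helper69.SNG

universe u

/-- **[E1]** (strong induction on the order; P2N + E1-CORE) -/
theorem sn_sylow2_comm {G : Type u} [Group G] [Finite G] [IsSimpleGroup G]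
    (hna : ¬ IsMulCommutative G) (h : SN G) (S : Sylow 2 G) : IsMulCommutative S :=
  helper82_sn_sylow2_comm_core
    (fun h K T hTK hT hind =>
      Cfsg.Agent.Lib.helper15.SNG.sn_proper_two_nilpotent h K T hTK hT hind)
    (fun hna h S hS hP => helper82_sn_sylow2_core hna h S hS hP)
    hna h S

end Cfsg.Agent.Lib.helper82.SNG
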