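import Mathlib

/-!
# S3350, piece P1 (insurance copy by helper82): rigidity of a permutation with a large
centralizer.
-/

set_option autoImplicit false
open Equiv

namespace Cfsg.Agent.Lib.helper70.SR

/-- a point of `Fin m` outside a short list -/
theorem h82_exists_avoid (m : ℕ) (l : List (Fin m)) (hl : l.length < m) : ∃ w : Fin m, w ∉ l := by
  by_contra hcon
  push Not at hcon
  have h1 : l.toFinset = Finset.univ :=
    Finset.eq_univ_iff_forall.mpr (fun w => List.mem_toFinset.mpr (hcon w))
  have h2 := List.toFinset_card_le l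
  rw [h1, Finset.card_univ, Fintype.card_fin] at h2
  omega

/-- a permutation exchanging `x`, `y` and fixing all other points is the transposition -/
theorem h82_eq_swap (m : ℕ) (π : Perm (Fin m)) (x y : Fin m) (hx : π x = y) (hy : π y = x)
    (hfix : ∀ z, z ≠ x → z ≠ y → π z = z) : π = swap x y := by
  refine Equiv.ext fun z => ?_
  by_cases hzx : z = x
  · subst hzx; rw [hx, swap_apply_left]
  · by_cases hzy : z = y
    · subst hzy; rw [hy, swap_apply_right]
    · rw [hfix z hzx hzy, swap_apply_of_ne_of_ne hzx hzy]

/-- P1 (rigidity of a permutation with a large centralizer). -/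
theorem h82_perm_rigid (m : ℕ) (hm : 8 ≤ m) (a b c d e : Fin m)
    (hab : a ≠ b) (hac : a ≠ c) (had : a ≠ d) (hae : a ≠ e) (hbc : b ≠ c) (hbd : b ≠ d)
    (hbe : b ≠ e) (hcd : c ≠ d) (hce : c ≠ e) (hde : d ≠ e)
    (π : Perm (Fin m))
    (h1 : ∀ σ : Perm (Fin m), σ a = a → σ b = b → σ c = c → σ d = d → σ e = e → σ * π = π * σ)
    (h2 : π * swap c d = swap c d * π)
    (h3 : π * π = 1)
    (h4 : (π * swap a b) ^ 3 = 1)
    (h5 : π ≠ swap a b) :
    π = swap a e ∨ π = swap b e := by
  have hinv : ∀ x, π (π x) = x := by
    intro x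
    have h6 := congrArg (fun f : Perm (Fin m) => f x) h3
    simpa [Perm.mul_apply] using h6
  -- points outside `{a,b,c,d,e}` are fixed
  have hF1 : ∀ u, u ≠ a → u ≠ b → u ≠ c → u ≠ d → u ≠ e → π u = u := by
    intro u ua ub uc ud ue
    by_contra hne
    by_cases hv : π u = a ∨ π u = b ∨ π u = c ∨ π u = d ∨ π u = e
    · obtain ⟨w, hw⟩ := h82_exists_avoid m [a, b, c, d, e, u] (by simp; omega)
      simp only [List.mem_cons, List.not_mem_nil, or_false, not_or] at hw
      obtain ⟨wa, wb, wc, wd, we, wu⟩ := hw
      have hσ := h1 (swap u w) (swap_apply_of_ne_of_ne (Ne.symm ua) (Ne.symm wa))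
        (swap_apply_of_ne_of_ne (Ne.symm ub) (Ne.symm wb))
        (swap_apply_of_ne_of_ne (Ne.symm uc) (Ne.symm wc))
        (swap_apply_of_ne_of_ne (Ne.symm ud) (Ne.symm wd))
        (swap_apply_of_ne_of_ne (Ne.symm ue) (Ne.symm we))
      have h6 := congrArg (fun f : Perm (Fin m) => f u) hσ
      simp only [Perm.mul_apply, swap_apply_left] at h6
      have hvw : π u ≠ w := by
        rcases hv with h | h | h | h | h <;> rw [h]
        · exact Ne.symm wa
        · exact Ne.symm wb
        · exact Ne.symm wc
        · exact Ne.symm wd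
        · exact Ne.symm we
      rw [swap_apply_of_ne_of_ne hne hvw] at h6
      exact wu (π.injective h6).symm
    · push Not at hv
      obtain ⟨va, vb, vc, vd, ve⟩ := hv
      obtain ⟨w, hw⟩ := h82_exists_avoid m [a, b, c, d, e, u, π u] (by simp; omega)
      simp only [List.mem_cons, List.not_mem_nil, or_false, not_or] at hw
      obtain ⟨wa, wb, wc, wd, we, wu, wv⟩ := hw
      have hσ := h1 (swap (π u) w) (swap_apply_of_ne_of_ne (Ne.symm va) (Ne.symm wa))
        (swap_apply_of_ne_of_ne (Ne.symm vb) (Ne.symm wb))
        (swap_apply_of_ne_of_ne (Ne.symm vc) (Ne.symm wc))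
        (swap_apply_of_ne_of_ne (Ne.symm vd) (Ne.symm wd))
        (swap_apply_of_ne_of_ne (Ne.symm ve) (Ne.symm we))
      have h6 := congrArg (fun f : Perm (Fin m) => f u) hσ
      simp only [Perm.mul_apply] at h6
      rw [swap_apply_left, swap_apply_of_ne_of_ne (fun h => hne h.symm) (Ne.symm wu)] at h6
      exact wv h6
  -- `π` preserves `{a,b,c,d,e}`
  have hT : ∀ t, (t = a ∨ t = b ∨ t = c ∨ t = d ∨ t = e) →
      (π t = a ∨ π t = b ∨ π t = c ∨ π t = d ∨ π t = e) := by
    intro t ht
    by_contra hcon
    push Not at hcon
    obtain ⟨va, vb, vc, vd, ve⟩ := hcon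
    have h6 := hF1 (π t) va vb vc vd ve
    have h7 : π t = t := π.injective h6
    rw [h7] at va vb vc vd ve
    rcases ht with h | h | h | h | h
    · exact va h
    · exact vb h
    · exact vc h
    · exact vd h
    · exact ve h
  -- `π` commutes with `swap c d`
  have hcomm : ∀ x, π (swap c d x) = swap c d (π x) := by
    intro x
    have h6 := congrArg (fun f : Perm (Fin m) => f x) h2
    simpa [Perm.mul_apply] using h6
  have hoff : ∀ x, x ≠ c → x ≠ d → π x ≠ c ∧ π x ≠ d := by
    intro x xc xd
    have h6 := hcomm x
    rw [swap_apply_of_ne_of_ne xc xd] at h6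
    constructor
    · intro h
      rw [h, swap_apply_left] at h6
      exact hcd h6
    · intro h
      rw [h, swap_apply_right] at h6
      exact hcd h6.symm
  have hc' : π c = c ∨ π c = d := by
    by_contra hcon
    push Not at hcon
    have h6 := (hoff (π c) hcon.1 hcon.2).1
    exact h6 (hinv c)
  have hd' : π d = c ∨ π d = d := by
    by_contra hcon
    push Not at hcon
    have h6 := (hoff (π d) hcon.1 hcon.2).2
    exact h6 (hinv d)
  -- `π` fixes `c` and `d`
  have hc : π c = c := by
    rcases hc' with h | h
    · exact h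
    · exfalso
      have hdc : π d = c := by rw [← h]; exact hinv c
      have h6 := congrArg (fun f : Perm (Fin m) => f c) h4
      simp only [pow_succ, pow_zero, one_mul, Perm.mul_apply, Perm.coe_one, id_eq] at h6
      rw [swap_apply_of_ne_of_ne (Ne.symm hac) (Ne.symm hbc), h,
        swap_apply_of_ne_of_ne (Ne.symm had) (Ne.symm hbd), hdc,
        swap_apply_of_ne_of_ne (Ne.symm hac) (Ne.symm hbc), h] at h6
      exact hcd h6.symm
  have hd : π d = d := by
    rcases hd' with h | h
    · exfalso
      have h6 : π d = π c := by rw [h, hc]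
      exact hcd (π.injective h6).symm
    · exact h
  have hF : ∀ z, z ≠ a → z ≠ b → z ≠ e → π z = z := by
    intro z za zb ze
    by_cases zc : z = c
    · rw [zc]; exact hc
    · by_cases zd : z = d
      · rw [zd]; exact hd
      · exact hF1 z za zb zc zd ze
  have hS : ∀ t, (t = a ∨ t = b ∨ t = e) → (π t = a ∨ π t = b ∨ π t = e) := by
    intro t ht
    have htc : t ≠ c := by
      rcases ht with h | h | h <;> rw [h]
      · exact hac
      · exact hbc
      · exact Ne.symm hce
    have htd : t ≠ d := by
      rcases ht with h | h | h <;> rw [h]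
      · exact had
      · exact hbd
      · exact Ne.symm hde
    have h6 := hoff t htc htd
    have h7 := hT t (by rcases ht with h | h | h <;> simp [h])
    rcases h7 with h | h | h | h | h
    · exact Or.inl h
    · exact Or.inr (Or.inl h)
    · exact absurd h h6.1
    · exact absurd h h6.2
    · exact Or.inr (Or.inr h)
  rcases hS a (Or.inl rfl) with ha | ha | ha
  · -- `π a = a`
    rcases hS b (Or.inr (Or.inl rfl)) with hb | hb | hb
    · exact absurd (π.injective (hb.trans ha.symm)) (Ne.symm hab)
    · -- `π b = b`, then `π e = e` and `π = 1`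
      exfalso
      have he : π e = e := by
        rcases hS e (Or.inr (Or.inr rfl)) with h | h | h
        · exact absurd (π.injective (h.trans ha.symm)) (Ne.symm hae)
        · exact absurd (π.injective (h.trans hb.symm)) (Ne.symm hbe)
        · exact h
      have h6 := congrArg (fun f : Perm (Fin m) => f a) h4
      simp only [pow_succ, pow_zero, one_mul, Perm.mul_apply, Perm.coe_one, id_eq] at h6
      rw [swap_apply_left, hb, swap_apply_right, ha, swap_apply_left, hb] at h6
      exact hab h6.symm
    · -- `π b = e`
      right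
      have he : π e = b := by rw [← hb]; exact hinv b
      refine h82_eq_swap m π b e hb he ?_
      intro z zb ze
      by_cases za : z = a
      · rw [za]; exact ha
      · exact hF z za zb ze
  · -- `π a = b`
    exfalso
    have hb : π b = a := by rw [← ha]; exact hinv a
    apply h5
    refine h82_eq_swap m π a b ha hb ?_
    intro z za zb
    by_cases ze : z = e
    · rw [ze]
      rcases hS e (Or.inr (Or.inr rfl)) with h | h | h
      · exact absurd (π.injective (h.trans hb.symm)) (Ne.symm hbe)
      · exact absurd (π.injective (h.trans ha.symm)) (Ne.symm hae)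
      · exact h
    · exact hF z za zb ze
  · -- `π a = e`
    left
    have he : π e = a := by rw [← ha]; exact hinv a
    refine h82_eq_swap m π a e ha he ?_
    intro z za ze
    by_cases zb : z = b
    · rw [zb]
      rcases hS b (Or.inr (Or.inl rfl)) with h | h | h
      · exact absurd (π.injective (h.trans he.symm)) hbe
      · exact h
      · exact absurd (π.injective (h.trans ha.symm)) (Ne.symm hab)
    · exact hF z za zb ze

end Cfsg.Agent.Lib.helper70.SR
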