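import Cfsg.Agent.Lib.helper7.SixDefs

/-!
# S4291 piece N3, hypothesis-passing core (helper82): the non-solvable case from N1 and N2
-/

set_option autoImplicit false

namespace Cfsg.Agent.Lib.helper82

open Cfsg.Agent.Lib.helper7.Six
open Equiv

theorem sixn3_card_perm5 : Nat.card (Equiv.Perm (Fin 5)) = 120 := by
  rw [Nat.card_perm, Nat.card_fin]
  rfl

/-- N3 with N1 and N2 as hypotheses -/
theorem six_of_sl25_of {G : Type*} [Group G] [Finite G]
    (hUI : ∀ s t : G, s ≠ 1 → t ≠ 1 → s ^ 2 = 1 → t ^ 2 = 1 → s = t)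
    (hodd : ∀ (p : ℕ) [Fact p.Prime], p ≠ 2 → ∀ P : Subgroup G, IsPGroup p P → IsCyclic P)
    (S : Subgroup G)
    (hN1 : ∃ Φ : G →* Equiv.Perm (Fin 5), Φ.ker = Subgroup.centralizer (S : Set G) ∧
      Nat.card (S.map Φ) = 60)
    (hN2 : ∀ c ∈ Subgroup.centralizer (S : Set G), ∀ k : ℕ, c ^ 2 ^ k = 1 → c ^ 2 = 1) :
    ∃ N : Subgroup G, N.Normal ∧ ZS N ∧ SixQ N := by
  obtain ⟨Φ, hker, hcard⟩ := hN1
  refine ⟨Φ.ker, Φ.normal_ker, ?_, ?_⟩
  · -- cyclic Sylow subgroups
    intro p _ P
    by_cases hp : p = 2
    · subst hp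
      have key : ∀ x : (P : Subgroup Φ.ker), ((x : Φ.ker) : G) ^ 2 = 1 := by
        intro x
        obtain ⟨k, hk⟩ := P.isPGroup' x
        have hx : ((x : Φ.ker) : G) ∈ Subgroup.centralizer (S : Set G) := by
          rw [← hker]; exact (x : Φ.ker).2
        apply hN2 _ hx k
        have h1 : (((x ^ 2 ^ k : (P : Subgroup Φ.ker)) : Φ.ker) : G) = 1 := by
          rw [hk]; rfl
        simpa using h1
      by_cases htriv : ∀ x : (P : Subgroup Φ.ker), x = 1
      · haveI : Subsingleton (P : Subgroup Φ.ker) :=
          ⟨fun a b => (htriv a).trans (htriv b).symm⟩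
        exact isCyclic_of_subsingleton
      · obtain ⟨c, hc⟩ := not_forall.mp htriv
        refine isCyclic_iff_exists_zpowers_eq_top.mpr
          ⟨c, (Subgroup.eq_top_iff' _).mpr fun x => ?_⟩
        by_cases hx : x = 1
        · rw [hx]; exact Subgroup.one_mem _
        · have hx1 : ((x : Φ.ker) : G) ≠ 1 := by
            intro h
            apply hx
            apply Subtype.ext
            apply Subtype.ext
            simpa using h
          have hc1 : ((c : Φ.ker) : G) ≠ 1 := by
            intro h
            apply hc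
            apply Subtype.ext
            apply Subtype.ext
            simpa using h
          have heq : ((x : Φ.ker) : G) = ((c : Φ.ker) : G) := hUI _ _ hx1 hc1 (key x) (key c)
          have hxc : x = c := Subtype.ext (Subtype.ext heq)
          rw [hxc]
          exact Subgroup.mem_zpowers c
    · have h1 : IsPGroup p ((P : Subgroup Φ.ker).map Φ.ker.subtype) := P.isPGroup'.map _
      haveI h2 : IsCyclic ((P : Subgroup Φ.ker).map Φ.ker.subtype) := hodd p hp _ h1
      let e := (P : Subgroup Φ.ker).equivMapOfInjective Φ.ker.subtype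
        (Subgroup.subtype_injective _)
      exact isCyclic_of_surjective e.symm e.symm.surjective
  · -- the quotient is A5 or S5
    have hdvd1 : 60 ∣ Nat.card Φ.range := by
      rw [← hcard]
      exact Subgroup.card_dvd_of_le (Subgroup.map_le_range Φ S)
    have hdvd2 : Nat.card Φ.range ∣ 120 := by
      have := Subgroup.card_subgroup_dvd_card Φ.range
      rwa [sixn3_card_perm5] at this
    obtain ⟨k, hk⟩ := hdvd1
    have hk12 : k = 1 ∨ k = 2 := by
      rw [hk] at hdvd2
      have h2 : k ∣ 2 := by
        have : 60 * k ∣ 60 * 2 := by simpa using hdvd2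
        exact Nat.dvd_of_mul_dvd_mul_left (by norm_num) this
      have hle : k ≤ 2 := Nat.le_of_dvd (by norm_num) h2
      interval_cases k
      · simp at h2
      · exact Or.inl rfl
      · exact Or.inr rfl
    rcases hk12 with hk1 | hk2
    · -- range of index 2: the alternating group
      have hc60 : Nat.card Φ.range = 60 := by rw [hk, hk1]
      have hidx : Φ.range.index = 2 := by
        have h := Subgroup.card_mul_index Φ.range
        rw [sixn3_card_perm5, hc60] at h
        omega
      have hrange : Φ.range = alternatingGroup (Fin 5) :=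
        Equiv.Perm.eq_alternatingGroup_of_index_eq_two hidx
      have hmem : ∀ g : G, Φ g ∈ alternatingGroup (Fin 5) := fun g => by
        rw [← hrange]; exact ⟨g, rfl⟩
      refine Or.inr (Or.inr (Or.inr (Or.inr (Or.inl
        ⟨Φ.codRestrict (alternatingGroup (Fin 5)) hmem, ?_, ?_⟩))))
      · rintro ⟨σ, hσ⟩
        rw [← hrange] at hσ
        obtain ⟨g, hg⟩ := hσ
        exact ⟨g, Subtype.ext hg⟩
      · exact MonoidHom.ker_codRestrict Φ _ hmem
    · have hc120 : Nat.card Φ.range = Nat.card (Equiv.Perm (Fin 5)) := by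
        rw [hk, hk2, sixn3_card_perm5]
      have htop : Φ.range = ⊤ := Subgroup.eq_top_of_card_eq _ hc120
      exact Or.inr (Or.inr (Or.inr (Or.inr (Or.inr
        ⟨Φ, MonoidHom.range_eq_top.mp htop, rfl⟩))))

end Cfsg.Agent.Lib.helper82
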