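import Cfsg.Agent.Lib.helper7.SixDefs

/-!
# S4291 piece U4, hypothesis-passing core (helper82): uniqueness of the six-type normal subgroup
-/

set_option autoImplicit false

namespace Cfsg.Agent.Lib.helper82

open Cfsg.Agent.Lib.helper7.Six
open Equiv

/-- every normal subgroup without a four-subgroup is trivial, and the group is not commutative -/
def SixBig (Q : Type) [Group Q] : Prop :=
  (∀ K : Subgroup Q, K.Normal → NoV4 K → K = ⊥) ∧ ∃ a b : Q, a * b ≠ b * a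

/-- two distinct commuting involutions -/
def SixHasV4 (Q : Type) [Group Q] : Prop :=
  ∃ a b : Q, a ≠ 1 ∧ b ≠ 1 ∧ a ≠ b ∧ a ^ 2 = 1 ∧ b ^ 2 = 1 ∧ a * b = b * a

theorem sixu4_dihedral_comm : ∀ a b : DihedralGroup 2, a * b = b * a := by decide

theorem sixu4_dihedral_hasV4 : SixHasV4 (DihedralGroup 2) :=
  ⟨DihedralGroup.sr 0, DihedralGroup.r 1, by decide, by decide, by decide, by decide, by decide,
    by decide⟩

theorem sixu4_s4_hasV4 : SixHasV4 (Equiv.Perm (Fin 4)) :=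
  ⟨swap (0 : Fin 4) 1 * swap 2 3, swap (0 : Fin 4) 2 * swap 1 3, by decide, by decide, by decide,
    by decide, by decide, by decide⟩

theorem sixu4_s5_hasV4 : SixHasV4 (Equiv.Perm (Fin 5)) :=
  ⟨swap (0 : Fin 5) 1 * swap 2 3, swap (0 : Fin 5) 2 * swap 1 3, by decide, by decide, by decide,
    by decide, by decide, by decide⟩

theorem sixu4_s4_noncomm : ∃ a b : Equiv.Perm (Fin 4), a * b ≠ b * a :=
  ⟨swap (0 : Fin 4) 1, swap (1 : Fin 4) 2, by decide⟩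

theorem sixu4_s5_noncomm : ∃ a b : Equiv.Perm (Fin 5), a * b ≠ b * a :=
  ⟨swap (0 : Fin 5) 1, swap (1 : Fin 5) 2, by decide⟩

theorem sixu4_mem4a : (swap (0 : Fin 4) 1 * swap 2 3) ∈ alternatingGroup (Fin 4) := by
  rw [Equiv.Perm.mem_alternatingGroup]; decide

theorem sixu4_mem4b : (swap (0 : Fin 4) 2 * swap 1 3) ∈ alternatingGroup (Fin 4) := by
  rw [Equiv.Perm.mem_alternatingGroup]; decide

theorem sixu4_mem4c : (swap (0 : Fin 4) 1 * swap 1 2) ∈ alternatingGroup (Fin 4) := by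
  rw [Equiv.Perm.mem_alternatingGroup]; decide

theorem sixu4_mem5a : (swap (0 : Fin 5) 1 * swap 2 3) ∈ alternatingGroup (Fin 5) := by
  rw [Equiv.Perm.mem_alternatingGroup]; decide

theorem sixu4_mem5b : (swap (0 : Fin 5) 2 * swap 1 3) ∈ alternatingGroup (Fin 5) := by
  rw [Equiv.Perm.mem_alternatingGroup]; decide

theorem sixu4_mem5c : (swap (0 : Fin 5) 1 * swap 1 2) ∈ alternatingGroup (Fin 5) := by
  rw [Equiv.Perm.mem_alternatingGroup]; decide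

theorem sixu4_a4_hasV4 : SixHasV4 (alternatingGroup (Fin 4)) := by
  refine ⟨⟨_, sixu4_mem4a⟩, ⟨_, sixu4_mem4b⟩, ?_, ?_, ?_, ?_, ?_, ?_⟩
  · intro h; exact absurd (congrArg Subtype.val h) (by decide)
  · intro h; exact absurd (congrArg Subtype.val h) (by decide)
  · intro h; exact absurd (congrArg Subtype.val h) (by decide)
  · apply Subtype.ext
    show (swap (0 : Fin 4) 1 * swap 2 3) ^ 2 = 1
    decide
  · apply Subtype.ext
    show (swap (0 : Fin 4) 2 * swap 1 3) ^ 2 = 1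
    decide
  · apply Subtype.ext
    show (swap (0 : Fin 4) 1 * swap 2 3) * (swap (0 : Fin 4) 2 * swap 1 3)
      = (swap (0 : Fin 4) 2 * swap 1 3) * (swap (0 : Fin 4) 1 * swap 2 3)
    decide

theorem sixu4_a5_hasV4 : SixHasV4 (alternatingGroup (Fin 5)) := by
  refine ⟨⟨_, sixu4_mem5a⟩, ⟨_, sixu4_mem5b⟩, ?_, ?_, ?_, ?_, ?_, ?_⟩
  · intro h; exact absurd (congrArg Subtype.val h) (by decide)
  · intro h; exact absurd (congrArg Subtype.val h) (by decide)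
  · intro h; exact absurd (congrArg Subtype.val h) (by decide)
  · apply Subtype.ext
    show (swap (0 : Fin 5) 1 * swap 2 3) ^ 2 = 1
    decide
  · apply Subtype.ext
    show (swap (0 : Fin 5) 2 * swap 1 3) ^ 2 = 1
    decide
  · apply Subtype.ext
    show (swap (0 : Fin 5) 1 * swap 2 3) * (swap (0 : Fin 5) 2 * swap 1 3)
      = (swap (0 : Fin 5) 2 * swap 1 3) * (swap (0 : Fin 5) 1 * swap 2 3)
    decide

theorem sixu4_a4_noncomm : ∃ a b : alternatingGroup (Fin 4), a * b ≠ b * a := by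
  refine ⟨⟨_, sixu4_mem4a⟩, ⟨_, sixu4_mem4c⟩, ?_⟩
  intro h
  have h' : (swap (0 : Fin 4) 1 * swap 2 3) * (swap (0 : Fin 4) 1 * swap 1 2)
      = (swap (0 : Fin 4) 1 * swap 1 2) * (swap (0 : Fin 4) 1 * swap 2 3) :=
    congrArg Subtype.val h
  exact absurd h' (by decide)

theorem sixu4_a5_noncomm : ∃ a b : alternatingGroup (Fin 5), a * b ≠ b * a := by
  refine ⟨⟨_, sixu4_mem5a⟩, ⟨_, sixu4_mem5c⟩, ?_⟩
  intro h
  have h' : (swap (0 : Fin 5) 1 * swap 2 3) * (swap (0 : Fin 5) 1 * swap 1 2)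
      = (swap (0 : Fin 5) 1 * swap 1 2) * (swap (0 : Fin 5) 1 * swap 2 3) :=
    congrArg Subtype.val h
  exact absurd h' (by decide)

/-- the three-way classification of the six types -/
theorem sixu4_classify {G : Type*} [Group G]
    (hA4 : ∀ K : Subgroup (alternatingGroup (Fin 4)), K.Normal → NoV4 K → K = ⊥)
    (hS4 : ∀ K : Subgroup (Equiv.Perm (Fin 4)), K.Normal → NoV4 K → K = ⊥)
    (hA5 : ∀ K : Subgroup (alternatingGroup (Fin 5)), K.Normal → NoV4 K → K = ⊥)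
    (hS5 : ∀ K : Subgroup (Equiv.Perm (Fin 5)), K.Normal → NoV4 K → K = ⊥)
    (N : Subgroup G) (h : SixQ N) :
    N = ⊤ ∨ (∃ f : G →* DihedralGroup 2, Function.Surjective f ∧ f.ker = N) ∨
      ∃ (Q : Type) (_ : Group Q) (f : G →* Q), SixBig Q ∧ SixHasV4 Q ∧
        Function.Surjective f ∧ f.ker = N := by
  rcases h with h | h | ⟨f, hf, hk⟩ | ⟨f, hf, hk⟩ | ⟨f, hf, hk⟩ | ⟨f, hf, hk⟩
  · exact Or.inl h
  · exact Or.inr (Or.inl h)
  · exact Or.inr (Or.inr ⟨_, inferInstance, f, ⟨hA4, sixu4_a4_noncomm⟩, sixu4_a4_hasV4, hf, hk⟩)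
  · exact Or.inr (Or.inr ⟨_, inferInstance, f, ⟨hS4, sixu4_s4_noncomm⟩, sixu4_s4_hasV4, hf, hk⟩)
  · exact Or.inr (Or.inr ⟨_, inferInstance, f, ⟨hA5, sixu4_a5_noncomm⟩, sixu4_a5_hasV4, hf, hk⟩)
  · exact Or.inr (Or.inr ⟨_, inferInstance, f, ⟨hS5, sixu4_s5_noncomm⟩, sixu4_s5_hasV4, hf, hk⟩)

/-- a "big" quotient absorbs every normal subgroup with cyclic Sylow subgroups -/
theorem sixu4_absorb {G : Type*} [Group G]
    (hU1 : ∀ (Q : Type) [Group Q] (f : G →* Q) (N : Subgroup G), ZS N → NoV4 (N.map f))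
    {Q : Type} [Group Q] (hQ : SixBig Q) (f : G →* Q) (hf : Function.Surjective f)
    (N₂ : Subgroup G) (h₂n : N₂.Normal) (h₂z : ZS N₂) : N₂ ≤ f.ker := by
  have hK : (N₂.map f).Normal := h₂n.map f hf
  have hbot := hQ.1 _ hK (hU1 Q f N₂ h₂z)
  intro n hn
  rw [MonoidHom.mem_ker]
  have hmem : f n ∈ N₂.map f := Subgroup.mem_map_of_mem f hn
  rw [hbot] at hmem
  exact Subgroup.mem_bot.mp hmem

/-- the whole group cannot have cyclic Sylow subgroups and a quotient with a four-group -/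
theorem sixu4_top {G : Type*} [Group G]
    (hU1 : ∀ (Q : Type) [Group Q] (f : G →* Q) (N : Subgroup G), ZS N → NoV4 (N.map f))
    {Q : Type} [Group Q] (hQ : SixHasV4 Q) (f : G →* Q) (hf : Function.Surjective f)
    (hz : ZS (⊤ : Subgroup G)) : False := by
  obtain ⟨a, b, ha1, hb1, hab, ha2, hb2, hc⟩ := hQ
  have hno := hU1 Q f ⊤ hz
  have hmem : ∀ q : Q, q ∈ (⊤ : Subgroup G).map f := fun q => by
    obtain ⟨g, rfl⟩ := hf q
    exact Subgroup.mem_map_of_mem f (Subgroup.mem_top g)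
  rcases hno a (hmem a) b (hmem b) ha2 hb2 hc with h | h | h
  · exact ha1 h
  · exact hb1 h
  · exact hab h

/-- a non-commutative quotient cannot factor through a four-group quotient -/
theorem sixu4_comm_absurd {G : Type*} [Group G] {Q : Type} [Group Q] (hQ : SixBig Q)
    (f₁ : G →* Q) (hf₁ : Function.Surjective f₁) (f₂ : G →* DihedralGroup 2)
    (hle : f₂.ker ≤ f₁.ker) : False := by
  obtain ⟨a, b, hab⟩ := hQ.2
  obtain ⟨x, rfl⟩ := hf₁ a
  obtain ⟨y, rfl⟩ := hf₁ b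
  apply hab
  have h2 : x * y * x⁻¹ * y⁻¹ ∈ f₂.ker := by
    rw [MonoidHom.mem_ker]
    simp only [map_mul, map_inv]
    rw [sixu4_dihedral_comm (f₂ x) (f₂ y)]
    group
  have h1 := hle h2
  rw [MonoidHom.mem_ker] at h1
  simp only [map_mul, map_inv] at h1
  have h3 := mul_inv_eq_one.mp h1
  exact mul_inv_eq_iff_eq_mul.mp h3

/-- U4 with the other pieces as hypotheses -/
theorem six_unique_of {G : Type*} [Group G]
    (hU1 : ∀ (Q : Type) [Group Q] (f : G →* Q) (N : Subgroup G), ZS N → NoV4 (N.map f))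
    (hA4 : ∀ K : Subgroup (alternatingGroup (Fin 4)), K.Normal → NoV4 K → K = ⊥)
    (hS4 : ∀ K : Subgroup (Equiv.Perm (Fin 4)), K.Normal → NoV4 K → K = ⊥)
    (hA5 : ∀ K : Subgroup (alternatingGroup (Fin 5)), K.Normal → NoV4 K → K = ⊥)
    (hS5 : ∀ K : Subgroup (Equiv.Perm (Fin 5)), K.Normal → NoV4 K → K = ⊥)
    (hU3 : ∀ f₁ f₂ : G →* DihedralGroup 2, Function.Surjective f₁ → Function.Surjective f₂ →
      f₁.ker = f₂.ker)
    (N₁ N₂ : Subgroup G) (h₁n : N₁.Normal) (h₂n : N₂.Normal) (h₁z : ZS N₁) (h₂z : ZS N₂)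
    (h₁ : SixQ N₁) (h₂ : SixQ N₂) : N₁ = N₂ := by
  rcases sixu4_classify hA4 hS4 hA5 hS5 N₁ h₁ with
    h₁ | ⟨f₁, hf₁, hk₁⟩ | ⟨Q₁, i₁, f₁, hb₁, hv₁, hf₁, hk₁⟩ <;>
  rcases sixu4_classify hA4 hS4 hA5 hS5 N₂ h₂ with
    h₂ | ⟨f₂, hf₂, hk₂⟩ | ⟨Q₂, i₂, f₂, hb₂, hv₂, hf₂, hk₂⟩
  · rw [h₁, h₂]
  · subst h₁
    exact (sixu4_top hU1 sixu4_dihedral_hasV4 f₂ hf₂ h₁z).elim
  · subst h₁
    exact (sixu4_top hU1 hv₂ f₂ hf₂ h₁z).elim
  · subst h₂
    exact (sixu4_top hU1 sixu4_dihedral_hasV4 f₁ hf₁ h₂z).elim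
  · rw [← hk₁, ← hk₂]
    exact hU3 f₁ f₂ hf₁ hf₂
  · -- N₁ of four-group type, N₂ big
    have hle : N₁ ≤ f₂.ker := sixu4_absorb hU1 hb₂ f₂ hf₂ N₁ h₁n h₁z
    rw [← hk₁] at hle
    exact (sixu4_comm_absurd hb₂ f₂ hf₂ f₁ hle).elim
  · subst h₂
    exact (sixu4_top hU1 hv₁ f₁ hf₁ h₂z).elim
  · have hle : N₂ ≤ f₁.ker := sixu4_absorb hU1 hb₁ f₁ hf₁ N₂ h₂n h₂z
    rw [← hk₂] at hle
    exact (sixu4_comm_absurd hb₁ f₁ hf₁ f₂ hle).elim
  · have hle₁ : N₂ ≤ f₁.ker := sixu4_absorb hU1 hb₁ f₁ hf₁ N₂ h₂n h₂z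
    have hle₂ : N₁ ≤ f₂.ker := sixu4_absorb hU1 hb₂ f₂ hf₂ N₁ h₁n h₁z
    rw [hk₁] at hle₁
    rw [hk₂] at hle₂
    exact le_antisymm hle₂ hle₁

end Cfsg.Agent.Lib.helper82
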