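import Mathlib
import Cfsg.Prelude.Def_Characters
import Cfsg.Prelude.Def_Blocks
import Cfsg.Agent.Lib.helper82.SmallDegA

/-!
# Small character degrees force a normal abelian Sylow subgroup, part B (helper82)

* `sylow_normal_of_ti`: a Sylow `p`-subgroup meeting its other conjugates trivially is normal
  as soon as all irreducible degrees are `< p` (permutation character count).
* `sylow_normal_of_deg_lt`: if all irreducible degrees are `< p`, the Sylow `p`-subgroup is
  normal.
-/

set_option autoImplicit false
set_option linter.style.haveILetI false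
set_option linter.unusedSectionVars false

namespace Cfsg.Agent.Lib.helper82

open Module Cfsg
open Cfsg.Agent.Lib
open scoped ComplexConjugate Pointwise

universe u

section TI

variable {G : Type u} [Group G] [Finite G]

/-- A Sylow `p`-subgroup that meets each of its other conjugates trivially is normal when all
irreducible character degrees are smaller than `p`. -/
theorem sylow_normal_of_ti (p : ℕ) [Fact p.Prime]
    (hb : ∀ χ : IrrCharacter G, charDegree (χ : G → ℂ) < p) (P : Sylow p G)
    (hTI : ∀ g : G, g ∉ Subgroup.normalizer ((P : Subgroup G) : Set G) →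
      ∀ x ∈ (P : Subgroup G), g * x * g⁻¹ ∈ (P : Subgroup G) → x = 1) :
    (P : Subgroup G).Normal := by
  classical
  haveI : Fintype G := Fintype.ofFinite G
  haveI : Fintype (IrrCharacter G) := Fintype.ofFinite _
  set N : Subgroup G := Subgroup.normalizer ((P : Subgroup G) : Set G) with hN
  haveI : Fintype N := Fintype.ofFinite N
  haveI : Fintype ↥(P : Subgroup G) := Fintype.ofFinite _
  have hPN : (P : Subgroup G) ≤ N := Subgroup.le_normalizer
  set π : G → ℂ := indFun N (fun _ => (1 : ℂ)) with hπ
  have hπchar : IsCharacter G π := helper4.isCharacter_indFun N helper4.isCharacter_one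
  have hπ1 : π 1 = (N.index : ℂ) := by
    rw [hπ, helper4.indFun_one]
    simp
  have hcardN : (Finset.univ.filter (fun t : G => t ∈ N)).card = Nat.card N := by
    rw [Nat.card_eq_fintype_card]
    exact (Fintype.card_of_subtype _ (by simp)).symm
  -- value of the permutation character on nonidentity elements of `P`
  have hπx : ∀ x ∈ (P : Subgroup G), x ≠ 1 → π x = 1 := by
    intro x hx hx1
    rw [hπ, helper4.indFun_apply]
    have hval : ∀ t : G, extendByZero N (fun _ => (1 : ℂ)) (t⁻¹ * x * t) =
        if t ∈ N then 1 else 0 := by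
      intro t
      by_cases ht : t ∈ N
      · rw [if_pos ht]
        have hmem : t⁻¹ * x * t ∈ N := by
          apply hPN
          have ht' : t⁻¹ ∈ N := inv_mem ht
          have := (Subgroup.mem_normalizer_iff.mp ht' x).mp hx
          simpa using this
        rw [helper4.extendByZero_apply_mem N _ hmem]
      · rw [if_neg ht]
        apply helper4.extendByZero_apply_of_not_mem
        intro hmem
        have hy : t⁻¹ * x * t ∈ (P : Subgroup G) := by
          have hQ : IsPGroup p ((P : Subgroup G).map (MulAut.conj t⁻¹).toMonoidHom) :=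
            P.isPGroup'.map _
          have hyQ : t⁻¹ * x * t ∈ (P : Subgroup G).map (MulAut.conj t⁻¹).toMonoidHom := by
            refine ⟨x, hx, ?_⟩
            simp [MulAut.conj_apply]
          have h1 := hQ.inf_normalizer_sylow P
          have hmem2 := h1.le ⟨hyQ, hmem⟩
          exact hmem2.2
        have ht' : t⁻¹ ∉ N := fun h => ht (by simpa using inv_mem h)
        have := hTI t⁻¹ ht' x hx (by simpa using hy)
        exact hx1 this
    simp only [hval]
    rw [Finset.sum_boole, hcardN]
    exact inv_mul_cancel₀ helper4.card_ne_zero_complex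
  -- decomposition of the permutation character
  obtain ⟨a, ha1, ha2, ha3⟩ := exists_nat_decomp hπchar
  let one : IrrCharacter G := ⟨fun _ => 1, helper4.isIrrCharacter_one⟩
  have hmono := fun χ : IrrCharacter G =>
    classInner_one_restrict_mono (P : Subgroup G) N hPN (helper4.isCharacter_of_isIrrCharacter χ.2)
  choose a' m ha' hm hle using hmono
  have haa : ∀ χ : IrrCharacter G, a χ = a' χ := by
    intro χ
    have h := ha1 χ
    rw [hπ, helper4.frobenius_reciprocity N _ (helper4.isClassFunction_of_isIrrCharacter χ.2)] at h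
    have h3 : classInner (fun _ : N => (1 : ℂ)) (fun k : N => (χ : G → ℂ) k) = a' χ :=
      classInner_nat_comm (ha' χ)
    rw [h3] at h
    exact_mod_cast h.symm
  have ha_one : a one = 1 := by
    rw [haa one]
    have h := ha' one
    have h' : classInner (fun k : N => (one : G → ℂ) k) (fun _ => (1 : ℂ)) = 1 :=
      classInner_one_one' N
    rw [h'] at h
    exact_mod_cast h.symm
  have hm_one : m one = 1 := by
    have h := hm one
    have h' : classInner (fun k : ↥(P : Subgroup G) => (one : G → ℂ) k) (fun _ => (1 : ℂ)) = 1 :=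
      classInner_one_one' ↥(P : Subgroup G)
    rw [h'] at h
    exact_mod_cast h.symm
  have hdeg_one : charDegree (one : G → ℂ) = 1 := by
    simp [charDegree, one]
  -- sums over `P`
  have hPsum : ∀ χ : IrrCharacter G, ∑ x : ↥(P : Subgroup G), (χ : G → ℂ) x =
      (Nat.card ↥(P : Subgroup G) : ℂ) * m χ := by
    intro χ
    have h := hm χ
    unfold classInner at h
    simp only [map_one, mul_one] at h
    rw [← h, ← mul_assoc, mul_inv_cancel₀ helper4.card_ne_zero_complex, one_mul]
  have hsum1 : ∑ x : ↥(P : Subgroup G), π x =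
      (N.index : ℂ) + ((Nat.card ↥(P : Subgroup G) : ℂ) - 1) := by
    rw [← Finset.add_sum_erase Finset.univ _ (Finset.mem_univ (1 : ↥(P : Subgroup G)))]
    have h1 : π ((1 : ↥(P : Subgroup G)) : G) = (N.index : ℂ) := by simpa using hπ1
    have h2 : ∑ x ∈ Finset.univ.erase (1 : ↥(P : Subgroup G)), π (x : G) =
        (Nat.card ↥(P : Subgroup G) : ℂ) - 1 := by
      rw [Finset.sum_congr rfl (g := fun _ => (1 : ℂ))]
      · rw [Finset.sum_const, Finset.card_erase_of_mem (Finset.mem_univ _), Finset.card_univ,
          ← Nat.card_eq_fintype_card, nsmul_eq_mul, mul_one]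
        have hpos : 0 < Nat.card ↥(P : Subgroup G) := Nat.card_pos
        rw [Nat.cast_sub hpos]
        simp
      · intro x hx
        apply hπx x x.2
        intro h
        exact (Finset.ne_of_mem_erase hx) (Subtype.ext h)
    rw [h1, h2]
  have hsum2 : ∑ x : ↥(P : Subgroup G), π x =
      (Nat.card ↥(P : Subgroup G) : ℂ) * ∑ χ : IrrCharacter G, (a χ : ℂ) * m χ := by
    simp only [ha2]
    rw [Finset.sum_comm, Finset.mul_sum]
    refine Finset.sum_congr rfl fun χ _ => ?_
    rw [← Finset.mul_sum, hPsum χ]
    ring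
  -- natural-number identities
  set q : ℕ := Nat.card ↥(P : Subgroup G) with hq
  have hq_pos : 0 < q := Nat.card_pos
  have hnat1 : q * ∑ χ : IrrCharacter G, a χ * m χ + 1 = N.index + q := by
    have h : ((q * ∑ χ : IrrCharacter G, a χ * m χ + 1 : ℕ) : ℂ) = ((N.index + q : ℕ) : ℂ) := by
      push_cast
      rw [← hsum2, hsum1]
      ring
    exact_mod_cast h
  have hnat2 : N.index = ∑ χ : IrrCharacter G, a χ * charDegree (χ : G → ℂ) := by
    have h : (N.index : ℂ) =
        ((∑ χ : IrrCharacter G, a χ * charDegree (χ : G → ℂ) : ℕ) : ℂ) := by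
      rw [← hπ1]
      exact ha3
    exact_mod_cast h
  -- split off the trivial character
  have hS : ∑ χ : IrrCharacter G, a χ * m χ =
      1 + ∑ χ ∈ Finset.univ.erase one, a χ * m χ := by
    rw [← Finset.add_sum_erase Finset.univ _ (Finset.mem_univ one), ha_one, hm_one]
  have hD : ∑ χ : IrrCharacter G, a χ * charDegree (χ : G → ℂ) =
      1 + ∑ χ ∈ Finset.univ.erase one, a χ * charDegree (χ : G → ℂ) := by
    rw [← Finset.add_sum_erase Finset.univ _ (Finset.mem_univ one), ha_one, hdeg_one]
  set S' : ℕ := ∑ χ ∈ Finset.univ.erase one, a χ * m χ with hS'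
  set D' : ℕ := ∑ χ ∈ Finset.univ.erase one, a χ * charDegree (χ : G → ℂ) with hD'
  have hqS : q * S' = D' := by
    rw [hS] at hnat1
    rw [hD] at hnat2
    have : q * (1 + S') + 1 = 1 + D' + q := by rw [hnat1, hnat2]
    nlinarith
  have hDle : D' ≤ (p - 1) * S' := by
    rw [hD', hS', Finset.mul_sum]
    apply Finset.sum_le_sum
    intro χ _
    have h1 : charDegree (χ : G → ℂ) ≤ p - 1 := by
      have := hb χ
      omega
    have h2 : a χ ≤ a χ * m χ := by
      rcases Nat.eq_zero_or_pos (a χ) with h0 | hpos
      · rw [h0]; simp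
      · have : 1 ≤ m χ := by
          have := hle χ
          rw [← haa χ] at this
          omega
        exact Nat.le_mul_of_pos_right _ this
    calc a χ * charDegree (χ : G → ℂ) ≤ a χ * (p - 1) := Nat.mul_le_mul_left _ h1
      _ = (p - 1) * a χ := Nat.mul_comm _ _
      _ ≤ (p - 1) * (a χ * m χ) := Nat.mul_le_mul_left _ h2
  -- conclude
  have hp : p.Prime := Fact.out
  obtain ⟨k, hk⟩ := P.isPGroup'.exists_card_eq
  rcases Nat.eq_zero_or_pos k with hk0 | hkpos
  · -- trivial Sylow subgroup
    rw [hk0, pow_zero] at hk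
    have hbot : (P : Subgroup G) = ⊥ := Subgroup.eq_bot_of_card_eq _ hk
    rw [hbot]
    infer_instance
  · have hqp : p ≤ q := by
      rw [hq, hk]
      exact Nat.le_self_pow (Nat.pos_iff_ne_zero.mp hkpos) p
    have hS0 : S' = 0 := by
      by_contra hne
      have hpos : 0 < S' := Nat.pos_of_ne_zero hne
      have h1 : q * S' ≤ (p - 1) * S' := hqS ▸ hDle
      have h2 : q ≤ p - 1 := Nat.le_of_mul_le_mul_right h1 hpos
      have := hp.pos
      omega
    have hD0 : D' = 0 := by rw [← hqS, hS0, mul_zero]
    have hidx : N.index = 1 := by rw [hnat2, hD, hD0]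
    have htop : N = ⊤ := Subgroup.index_eq_one.mp hidx
    exact Subgroup.normalizer_eq_top_iff.mp htop

end TI

section Main

/-- Auxiliary induction for `sylow_normal_of_deg_lt`. -/
theorem sylow_normal_of_deg_lt_aux (p : ℕ) [Fact p.Prime] :
    ∀ n : ℕ, ∀ (G : Type u) [Group G] [Finite G], Nat.card G = n →
      (∀ χ : IrrCharacter G, charDegree (χ : G → ℂ) < p) →
      ∀ P : Sylow p G, (P : Subgroup G).Normal := by
  intro n
  induction n using Nat.strong_induction_on with
  | _ n ih =>
  intro G _ _ hn hb P
  by_contra hP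
  apply hP
  apply sylow_normal_of_ti p hb P
  intro g hg x hx hgx
  by_contra hx1
  set P1 : Sylow p G := g⁻¹ • P with hP1
  have hne : P1 ≠ P := by
    intro h
    have := Sylow.smul_eq_iff_mem_normalizer.mp h
    exact hg (by simpa using inv_mem this)
  have hxP1 : x ∈ (P1 : Subgroup G) := by
    have h1 : (P1 : Subgroup G) = MulAut.conj g⁻¹ • (P : Subgroup G) := rfl
    rw [h1, Subgroup.mem_pointwise_smul_iff_inv_smul_mem]
    simpa [MulAut.smul_def, MulAut.conj_apply] using hgx
  have hsub : ∀ H : Subgroup G, Nat.card H < Nat.card G →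
      ∀ Q : Sylow p H, (Q : Subgroup H).Normal := by
    intro H hH Q
    refine ih (Nat.card H) (hn ▸ hH) H rfl ?_ Q
    intro θ
    obtain ⟨χ, hχ⟩ := deg_le_of_sub H θ
    exact lt_of_le_of_lt hχ (hb χ)
  have htop : (P : Subgroup G) ⊔ (P1 : Subgroup G) = ⊤ := by
    by_contra hH
    have hlt : Nat.card ↥((P : Subgroup G) ⊔ (P1 : Subgroup G)) < Nat.card G := by
      have h1 : Nat.card ↥((P : Subgroup G) ⊔ (P1 : Subgroup G)) ≤ Nat.card G :=
        Subgroup.card_le_card_group _
      have h2 : Nat.card ↥((P : Subgroup G) ⊔ (P1 : Subgroup G)) ≠ Nat.card G :=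
        fun h => hH (Subgroup.eq_top_of_card_eq _ h)
      omega
    have hnorm := hsub _ hlt (P.subtype (le_sup_left : (P : Subgroup G) ≤ _))
    haveI := Sylow.unique_of_normal (P.subtype (le_sup_left : (P : Subgroup G) ≤
      (P : Subgroup G) ⊔ (P1 : Subgroup G))) hnorm
    have heq : P.subtype (le_sup_left : (P : Subgroup G) ≤ (P : Subgroup G) ⊔ (P1 : Subgroup G)) =
        P1.subtype (le_sup_right : (P1 : Subgroup G) ≤ (P : Subgroup G) ⊔ (P1 : Subgroup G)) :=
      Subsingleton.elim _ _
    exact hne (Sylow.subtype_injective heq).symm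
  have hcP := sylow_comm_of_deg_lt p hb P
  have hcP1 := sylow_comm_of_deg_lt p hb P1
  have hxc : x ∈ Subgroup.center G := by
    rw [Subgroup.mem_center_iff]
    intro y
    have hle : (P : Subgroup G) ⊔ (P1 : Subgroup G) ≤ Subgroup.centralizer ({x} : Set G) := by
      apply sup_le
      · intro z hz
        rw [Subgroup.mem_centralizer_iff]
        intro w hw
        rw [Set.mem_singleton_iff] at hw
        subst hw
        exact hcP w hx z hz
      · intro z hz
        rw [Subgroup.mem_centralizer_iff]
        intro w hw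
        rw [Set.mem_singleton_iff] at hw
        subst hw
        exact hcP1 w hxP1 z hz
    rw [htop] at hle
    have hy : y ∈ Subgroup.centralizer ({x} : Set G) := hle (Subgroup.mem_top y)
    exact (Subgroup.mem_centralizer_iff.mp hy x rfl).symm
  set K : Subgroup G := (P : Subgroup G) ⊓ Subgroup.center G with hK
  haveI hKn : K.Normal := ⟨fun k hk g' => by
    have h1 : g' * k * g'⁻¹ = k := by
      have := Subgroup.mem_center_iff.mp hk.2 g'
      rw [this]
      group
    rw [h1]
    exact hk⟩
  have hxK : x ∈ K := ⟨hx, hxc⟩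
  have hKbot : K ≠ ⊥ := fun h => hx1 (by rw [h] at hxK; exact Subgroup.mem_bot.mp hxK)
  have hcardQ : Nat.card (G ⧸ K) < Nat.card G := by
    have h1 : Nat.card G = Nat.card (G ⧸ K) * Nat.card K :=
      Subgroup.card_eq_card_quotient_mul_card_subgroup K
    have h2 : 1 < Nat.card K := (Subgroup.one_lt_card_iff_ne_bot K).mpr hKbot
    have h3 : 0 < Nat.card (G ⧸ K) := Nat.card_pos
    nlinarith
  have hbQ : ∀ ψ : IrrCharacter (G ⧸ K), charDegree (ψ : G ⧸ K → ℂ) < p := by
    intro ψ
    have h := hb ⟨fun g => (ψ : G ⧸ K → ℂ) (g : G ⧸ K), isIrrCharacter_inflation K ψ.2⟩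
    simpa [charDegree] using h
  have hQp : IsPGroup p ((P : Subgroup G).map (QuotientGroup.mk' K)) := P.isPGroup'.map _
  have hQidx : ¬ p ∣ ((P : Subgroup G).map (QuotientGroup.mk' K)).index := by
    rw [Subgroup.index_map_eq (P : Subgroup G) (QuotientGroup.mk'_surjective K)
      (by rw [QuotientGroup.ker_mk']; exact inf_le_left)]
    exact P.not_dvd_index
  have hQn := ih (Nat.card (G ⧸ K)) (hn ▸ hcardQ) (G ⧸ K) rfl hbQ (hQp.toSylow hQidx)
  have hQn' : ((P : Subgroup G).map (QuotientGroup.mk' K)).Normal := hQn
  have hcomap : ((P : Subgroup G).map (QuotientGroup.mk' K)).comap (QuotientGroup.mk' K) =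
      (P : Subgroup G) := by
    rw [Subgroup.comap_map_eq, QuotientGroup.ker_mk', sup_eq_left.mpr inf_le_left]
  have hfin : (P : Subgroup G).Normal := by
    rw [← hcomap]
    exact hQn'.comap _
  exact hP hfin

/-- If all irreducible character degrees of a finite group are smaller than the prime `p`, then
its Sylow `p`-subgroup is normal. -/
theorem sylow_normal_of_deg_lt (p : ℕ) [Fact p.Prime] {G : Type u} [Group G] [Finite G]
    (hb : ∀ χ : IrrCharacter G, charDegree (χ : G → ℂ) < p) (P : Sylow p G) :
    (P : Subgroup G).Normal :=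
  sylow_normal_of_deg_lt_aux p (Nat.card G) G rfl hb P

end Main

end Cfsg.Agent.Lib.helper82
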