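import Mathlib

/-!
# S5987 split, piece MARIO (helper82 insurance copy): the arithmetic for `i = ord_r(q)` odd,
minus type.  Same statements as the skeleton `stm_arith_suff_odd` / `stm_arith_nec_odd`, under
prefixed names.
-/

set_option autoImplicit false
set_option linter.unusedVariables false

namespace Cfsg.Agent.Lib.helper24

theorem h82_stm_arith_suff_odd (i d m : ℕ) (hi : Odd i) (hm : 1 ≤ m) (hmd : m < d)
    (hB : i ≤ m ∧ ((2 * d) % (2 * i) = 0 ∨ 2 * (m % i) < (2 * d) % (2 * i)))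
    (S k' : ℕ) (hS : 1 ≤ S) (hdim : i * (2 * S) + 2 * k' = 2 * d) (hk : 1 ≤ k') :
    ∃ B a : ℕ, B ≤ S ∧ a + i * B = m ∧ a + 1 ≤ k' := by
  obtain ⟨hB1, hB2⟩ := hB
  have hi0 : 0 < i := hi.pos
  rw [Nat.mul_mod_mul_left] at hB2
  have hm' : i * (m / i) + m % i = m := Nat.div_add_mod m i
  have hd' : i * (d / i) + d % i = d := Nat.div_add_mod d i
  have hδ : d % i < i := Nat.mod_lt d hi0
  have hμ : m % i < i := Nat.mod_lt m hi0
  have hdim' : i * S + k' = d := by
    have h1 : i * (2 * S) = 2 * (i * S) := by ring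
    omega
  by_cases hMS : m / i ≤ S
  · refine ⟨m / i, m % i, hMS, by omega, ?_⟩
    -- `k' ≡ d (mod i)`, `k' ≥ 1`
    have hkmod : k' % i = d % i := by
      rw [← hdim', Nat.mul_add_mod]
    have hk' : i * (k' / i) + k' % i = k' := Nat.div_add_mod k' i
    rcases hB2 with h0 | hlt
    · -- `i ∣ d`, hence `i ∣ k'` and `k' ≥ i`
      have hd0 : d % i = 0 := by omega
      rw [hd0] at hkmod
      have hq : 1 ≤ k' / i := by
        by_contra hc
        have hz : k' / i = 0 := Nat.lt_one_iff.mp (not_le.mp hc)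
        rw [hz] at hk'
        omega
      have := Nat.mul_le_mul_left i hq
      omega
    · have hle : k' % i ≤ k' := Nat.mod_le k' i
      omega
  · have hSM : S + 1 ≤ m / i := by omega
    have h2 := Nat.mul_le_mul_left i hSM
    have h3 : i * (S + 1) = i * S + i := by ring
    refine ⟨S, m - i * S, le_rfl, by omega, by omega⟩

theorem h82_stm_arith_nec_odd (i d m : ℕ) (hi : Odd i) (hm : 1 ≤ m) (hmd : m < d)
    (hcount : ∃ j₀, j₀ < m ∧ ((i ∣ 2 * (d - j₀) ∧ ¬ i ∣ d - j₀) ∨ i ∣ d - j₀ - 1)) :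
    i + 1 ≤ d ∧ ((2 * d) % (2 * i) = 0 → i ≤ m) ∧
      ∀ a b : ℕ, a + i * b = m → 2 * a + 2 ≤ (2 * d) % (2 * i) →
        i ≤ m ∧ 2 * (m % i) < (2 * d) % (2 * i) := by
  obtain ⟨j₀, hj₀, hdv⟩ := hcount
  have hi0 : 0 < i := hi.pos
  have hdv' : i ∣ d - j₀ - 1 := by
    rcases hdv with ⟨h1, h2⟩ | h
    · exfalso
      apply h2
      have hcop : Nat.Coprime i 2 := (Nat.coprime_two_right).2 hi
      exact hcop.dvd_of_dvd_mul_left h1
    · exact h
  obtain ⟨c, hc⟩ := hdv'
  have hδ : d % i < i := Nat.mod_lt d hi0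
  have hd' : i * (d / i) + d % i = d := Nat.div_add_mod d i
  have hpos : 0 < d - j₀ - 1 := by omega
  have hile : i ≤ d - j₀ - 1 := Nat.le_of_dvd hpos ⟨c, hc⟩
  refine ⟨by omega, ?_, ?_⟩
  · intro h0
    rw [Nat.mul_mod_mul_left] at h0
    have hd0 : d % i = 0 := by omega
    -- `i ∣ d` and `i ∣ d - j₀ - 1` give `i ∣ j₀ + 1`
    have hid : i ∣ d := Nat.dvd_of_mod_eq_zero hd0
    have hj : i ∣ j₀ + 1 := by
      have h1 : d = (d - j₀ - 1) + (j₀ + 1) := by omega
      have h2 : i ∣ (d - j₀ - 1) + (j₀ + 1) := by rw [← h1]; exact hid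
      exact (Nat.dvd_add_right ⟨c, hc⟩).mp h2
    have := Nat.le_of_dvd (by omega) hj
    omega
  · intro a b hab ha
    rw [Nat.mul_mod_mul_left] at ha ⊢
    have ha' : a + 1 ≤ d % i := by omega
    have hai : a < i := by omega
    have hmod : m % i = a := by
      rw [← hab, Nat.add_mul_mod_self_left]
      exact Nat.mod_eq_of_lt hai
    refine ⟨?_, by omega⟩
    -- `b ≥ 1`
    by_contra hcon
    have hb0 : b = 0 := by
      by_contra hb
      have hb1 : 1 ≤ b := by omega
      have := Nat.mul_le_mul_left i hb1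
      omega
    subst hb0
    have hma : m = a := by omega
    -- `i * c = i * (d / i) + (d % i - j₀ - 1)` with `0 < d % i - j₀ - 1 < i`
    have h1 : i * (d / i) < i * c := by omega
    have h2 : i * c < i * (d / i + 1) := by
      have h3 : i * (d / i + 1) = i * (d / i) + i := by ring
      omega
    have h4 := Nat.lt_of_mul_lt_mul_left h1
    have h5 := Nat.lt_of_mul_lt_mul_left h2
    omega

end Cfsg.Agent.Lib.helper24
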