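import Mathlib
import Cfsg.Prelude.Def_Characters
import Cfsg.Prelude.Def_Blocks
import Cfsg.Agent.Lib.helper19.TwoDegC
import Cfsg.Agent.Lib.helper19.LinExt
import Cfsg.Agent.Lib.helper19.IndInv
import Cfsg.Agent.Lib.helper19.AbelianOver
import Cfsg.Agent.Lib.helper21.GalConj
import Cfsg.Agent.Lib.helper4.Monomial
import Cfsg.Agent.Lib.helper82.BergerA
import Cfsg.Agent.Lib.helper82.CliffordCorr
import Cfsg.Agent.Lib.helper82.Ito
import Cfsg.Agent.Lib.helper82.CharQuot

/-!
# Three character degrees, part A (helper82): derived series tools, Taketa, monomial groups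

* `derived_le_map_succ`, `derived_le_of_quot`: bookkeeping for derived series;
* `eq_bot_of_irr_trivial`: a subgroup in the kernel of every irreducible character is trivial;
* `three_deg_of_monomial`: Taketa's argument for an M-group with degrees in `{1, m, n}`;
* `monomial_of_abelian_normal`: a group with an abelian normal `p'`-subgroup of `p`-power index
  is an M-group.
-/

set_option autoImplicit false
set_option linter.style.haveILetI false
set_option linter.unusedSectionVars false

namespace Cfsg.Agent.Lib.helper82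

open Module Cfsg
open Cfsg.Agent.Lib
open scoped ComplexConjugate

universe u

section Derived

theorem derived_le_map_succ {G : Type*} [Group G] (M : Subgroup G) (i j : ℕ)
    (h : derivedSeries G j ≤ (derivedSeries M i).map M.subtype) :
    derivedSeries G (j + 1) ≤ (derivedSeries M (i + 1)).map M.subtype := by
  rw [derivedSeries_succ, derivedSeries_succ, Subgroup.map_commutator]
  exact Subgroup.commutator_mono h h

theorem derived_le_map_zero {G : Type*} [Group G] (M : Subgroup G) (j : ℕ)
    (h : derivedSeries G j ≤ M) : derivedSeries G j ≤ (derivedSeries M 0).map M.subtype := by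
  intro g hg
  exact ⟨⟨g, h hg⟩, by rw [derivedSeries_zero]; exact Subgroup.mem_top _, rfl⟩

theorem derived_le_of_quot {G : Type*} [Group G] (N : Subgroup G) [N.Normal] (k : ℕ)
    (h : derivedSeries (G ⧸ N) k = ⊥) : derivedSeries G k ≤ N := by
  have h1 := map_derivedSeries_eq (QuotientGroup.mk'_surjective N) k
  rw [h] at h1
  intro g hg
  have h2 : (QuotientGroup.mk' N) g ∈ (derivedSeries G k).map (QuotientGroup.mk' N) :=
    Subgroup.mem_map_of_mem _ hg
  rw [h1, Subgroup.mem_bot] at h2
  exact (QuotientGroup.eq_one_iff g).mp h2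

theorem derived_two_of_comm {G : Type*} [Group G]
    (h : ∀ a ∈ commutator G, ∀ b ∈ commutator G, a * b = b * a) : derivedSeries G 2 = ⊥ := by
  rw [eq_bot_iff]
  have h2 : derivedSeries G 2 = ⁅derivedSeries G 1, derivedSeries G 1⁆ := derivedSeries_succ G 1
  rw [h2, Subgroup.commutator_le]
  intro a ha b hb
  rw [derivedSeries_one] at ha hb
  rw [Subgroup.mem_bot, commutatorElement_eq_one_iff_mul_comm]
  exact h a ha b hb

theorem derived_one_of_comm {G : Type*} [Group G] (h : ∀ a b : G, a * b = b * a) :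
    derivedSeries G 1 = ⊥ := by
  rw [eq_bot_iff, derivedSeries_one, commutator_def, Subgroup.commutator_le]
  intro a _ b _
  rw [Subgroup.mem_bot, commutatorElement_eq_one_iff_mul_comm]
  exact h a b

theorem eq_bot_of_irr_trivial {G : Type*} [Group G] [Finite G] (H : Subgroup G)
    (h : ∀ χ : G → ℂ, IsIrrCharacter G χ → ∀ g ∈ H, χ g = χ 1) : H = ⊥ := by
  rw [eq_bot_iff]
  intro g hg
  rw [Subgroup.mem_bot]
  by_contra hg1
  obtain ⟨χ, hχ⟩ := helper21.exists_irr_ne_of_ne_one hg1
  exact hχ (h χ.1 χ.2 g hg)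

end Derived

section Taketa

/-- Taketa's argument for three degrees: an M-group whose irreducible character degrees lie in
`{1, m, n}` has derived length at most `3`. -/
theorem three_deg_of_monomial {G : Type*} [Group G] [Fintype G] (m n : ℕ) (hmn : m < n)
    (hcd : ∀ χ : G → ℂ, IsIrrCharacter G χ → χ 1 = 1 ∨ χ 1 = (m : ℂ) ∨ χ 1 = (n : ℂ))
    (hmono : ∀ χ : G → ℂ, IsIrrCharacter G χ →
      ∃ (H : Subgroup G) (lam : H →* ℂˣ), χ = indFun H (fun h => ((lam h : ℂˣ) : ℂ))) :
    derivedSeries G 3 = ⊥ := by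
  classical
  have hlin : ∀ ψ : G → ℂ, IsIrrCharacter G ψ → ψ 1 = 1 →
      ∀ g ∈ derivedSeries G 1, ψ g = ψ 1 := by
    intro ψ hψ hψ1 g hg
    apply linear_commutator (helper4.isCharacter_of_isIrrCharacter hψ) hψ1
    rwa [derivedSeries_one] at hg
  have hm2 : ∀ χ : G → ℂ, IsIrrCharacter G χ → χ 1 = (m : ℂ) →
      ∀ g ∈ derivedSeries G 2, χ g = χ 1 := by
    intro χ hχ h
    by_cases h1 : χ 1 = 1
    · intro g hg
      exact hlin χ hχ h1 g (derivedSeries_antitone G (by norm_num) hg)
    obtain ⟨H, lam, hχH⟩ := hmono χ hχ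
    have hidx : H.index = m := by
      have h2 : χ 1 = (H.index : ℂ) := by rw [hχH, helper4.indFun_one]; simp
      rw [h] at h2; exact_mod_cast h2.symm
    rw [hχH]
    apply helper19.inKer_succ_of_induced H lam 1
    intro ψ hψ hψne
    apply hlin ψ hψ
    by_contra hψ1
    rcases hcd ψ hψ with h' | h' | h'
    · exact hψ1 h'
    · have hd1 : m ≠ 1 := by
        intro hm1; apply hψ1; rw [h', hm1]; simp
      have h3 := helper19.degree_lt_of_constituent_perm H ψ hψ hψne m h' hd1
      omega
    · have hd1 : n ≠ 1 := by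
        intro hn1; apply hψ1; rw [h', hn1]; simp
      have h3 := helper19.degree_lt_of_constituent_perm H ψ hψ hψne n h' hd1
      omega
  have hn3 : ∀ χ : G → ℂ, IsIrrCharacter G χ → χ 1 = (n : ℂ) →
      ∀ g ∈ derivedSeries G 3, χ g = χ 1 := by
    intro χ hχ h
    obtain ⟨H, lam, hχH⟩ := hmono χ hχ
    have hidx : H.index = n := by
      have h2 : χ 1 = (H.index : ℂ) := by rw [hχH, helper4.indFun_one]; simp
      rw [h] at h2; exact_mod_cast h2.symm
    rw [hχH]
    apply helper19.inKer_succ_of_induced H lam 2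
    intro ψ hψ hψne
    rcases hcd ψ hψ with h' | h' | h'
    · intro g hg
      exact hlin ψ hψ h' g (derivedSeries_antitone G (by norm_num) hg)
    · exact hm2 ψ hψ h'
    · by_cases hψ1 : ψ 1 = 1
      · intro g hg
        exact hlin ψ hψ hψ1 g (derivedSeries_antitone G (by norm_num) hg)
      · have hd1 : n ≠ 1 := by
          intro hn1; apply hψ1; rw [h', hn1]; simp
        have h3 := helper19.degree_lt_of_constituent_perm H ψ hψ hψne n h' hd1
        omega
  apply eq_bot_of_irr_trivial
  intro χ hχ g hg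
  rcases hcd χ hχ with h | h | h
  · exact hlin χ hχ h g (derivedSeries_antitone G (by norm_num) hg)
  · exact hm2 χ hχ h g (derivedSeries_antitone G (by norm_num) hg)
  · exact hn3 χ hχ h g hg

end Taketa

section MGroup

theorem monomial_of_abelian_normal_aux (p : ℕ) [hp : Fact p.Prime] (n : ℕ) :
    ∀ (G : Type u) [Group G] [Fintype G], Nat.card G = n →
      ∀ (M : Subgroup G), M.Normal → (∀ a ∈ M, ∀ b ∈ M, a * b = b * a) →
      (Nat.card M).Coprime p → (∃ k : ℕ, M.index = p ^ k) →
      ∀ χ : G → ℂ, IsIrrCharacter G χ →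
      ∃ (L : Subgroup G) (lam : L →* ℂˣ), χ = indFun L (fun x => ((lam x : ℂˣ) : ℂ)) := by
  induction n using Nat.strong_induction_on with
  | _ n ih =>
    intro G _ _ hn M hMn hMab hcop hidx χ hχ
    obtain ⟨k, hk⟩ := hidx
    classical
    haveI := hMn
    haveI : Fintype M := Fintype.ofFinite M
    haveI : Fintype (IrrCharacter M) := Fintype.ofFinite _
    obtain ⟨θ, hθ, e, he, he0⟩ := exists_constituent_restrict M hχ
    have hθ1 : θ 1 = 1 :=
      irr_one_of_commutative (fun a b => Subtype.ext (hMab a a.2 b b.2)) hθ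
    obtain ⟨lam, hlam⟩ := exists_hom_of_linear (helper4.isCharacter_of_isIrrCharacter hθ) hθ1
    have hne : classInner (fun n : M => χ n) θ ≠ 0 := by
      rw [he]; exact_mod_cast he0
    by_cases hT : inertia M θ = ⊤
    · have hinv : ∀ g : G, cconj M g θ = θ := by
        intro g
        have h1 : g ∈ inertia M θ := by rw [hT]; exact Subgroup.mem_top g
        exact h1
      have hres := clifford_invariant M hχ hθ hinv e he he0
      have hinv' : ∀ (g : G) (x : M),
          lam ⟨g * x * g⁻¹, hMn.conj_mem (x : G) x.2 g⟩ = lam x := by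
        intro g x
        have h1 := (cconj_eq_iff M g θ).mp (hinv g) x
        rw [hlam, hlam] at h1
        exact Units.ext h1
      have hord : orderOf lam ∣ Nat.card M := by
        apply orderOf_dvd_of_pow_eq_one
        refine MonoidHom.ext fun a => ?_
        rw [MonoidHom.pow_apply, ← map_pow, pow_card_eq_one', map_one, MonoidHom.one_apply]
      have hcop' : Nat.Coprime M.index (orderOf lam) := by
        rw [hk]
        exact Nat.Coprime.pow_left k ((Nat.Coprime.coprime_dvd_left hord hcop).symm)
      obtain ⟨μ, hμ, -⟩ := helper19.exists_extension_of_coprime M lam hinv' hcop'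
      obtain ⟨μi, hμi⟩ : ∃ μi : G → ℂ, μi = fun g => ((μ⁻¹ g : ℂˣ) : ℂ) := ⟨_, rfl⟩
      obtain ⟨μc, hμc⟩ : ∃ μc : G → ℂ, μc = fun g => ((μ g : ℂˣ) : ℂ) := ⟨_, rfl⟩
      have hμinv : IsIrrCharacter G μi := by rw [hμi]; exact isIrrCharacter_of_hom μ⁻¹
      have hχ' : IsIrrCharacter G (χ * μi) :=
        helper19.isIrr_mul_linear χ _ hχ hμinv (by rw [hμi]; simp)
      have htriv : ∀ x ∈ M, (χ * μi) x = (χ * μi) 1 := by
        intro x hx
        have h1 : χ x = e * θ ⟨x, hx⟩ := hres ⟨x, hx⟩
        have h2 : χ 1 = e * θ 1 := hres 1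
        have h3 : μ x = lam ⟨x, hx⟩ := hμ ⟨x, hx⟩
        rw [hμi]
        simp only [Pi.mul_apply, MonoidHom.inv_apply, map_one, inv_one, Units.val_one, mul_one]
        rw [h1, h2, hθ1, hlam, h3, mul_assoc, ← Units.val_mul, mul_inv_cancel, Units.val_one]
      obtain ⟨ψ, hψ, hψχ⟩ := isIrrCharacter_deflation M hχ' htriv
      haveI : Fintype (G ⧸ M) := Fintype.ofFinite _
      have hpg : IsPGroup p (G ⧸ M) :=
        IsPGroup.of_card (n := k) (by rw [← Subgroup.index_eq_card, hk])
      haveI : Group.IsNilpotent (G ⧸ M) := hpg.isNilpotent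
      obtain ⟨L, lamQ, hL⟩ := helper4.exists_linear_induced_of_nilpotent hψ
      have hpull := indFun_comp_surj (QuotientGroup.mk' M) (QuotientGroup.mk'_surjective M) L
        (fun x => ((lamQ x : ℂˣ) : ℂ))
      have hχ'eq : χ * μi = indFun (L.comap (QuotientGroup.mk' M))
          (fun x : L.comap (QuotientGroup.mk' M) =>
            ((lamQ ⟨QuotientGroup.mk' M x, x.2⟩ : ℂˣ) : ℂ)) := by
        rw [hpull]
        funext a
        rw [← hL]
        exact (hψχ a).symm
      have hχeq : χ = (χ * μi) * μc := by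
        funext g
        rw [hμi, hμc]
        simp only [Pi.mul_apply, MonoidHom.inv_apply]
        rw [mul_assoc, ← Units.val_mul, inv_mul_cancel, Units.val_one, mul_one]
      have hμcf : IsClassFunction G μc := by
        rw [hμc]
        exact helper4.isClassFunction_of_isIrrCharacter (isIrrCharacter_of_hom μ)
      refine ⟨L.comap (QuotientGroup.mk' M),
        (lamQ.comp ((QuotientGroup.mk' M).subgroupComap L)) *
          (μ.comp (L.comap (QuotientGroup.mk' M)).subtype), ?_⟩
      have hfinal : χ = indFun (L.comap (QuotientGroup.mk' M))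
          (fun x : L.comap (QuotientGroup.mk' M) =>
            ((lamQ ⟨QuotientGroup.mk' M x, x.2⟩ : ℂˣ) : ℂ)) * μc := by
        rw [← hχ'eq]; exact hχeq
      rw [hfinal, ← helper19.indFun_mul_restrict _ _ _ hμcf]
      congr 1
      funext x
      rw [hμc]
      simp only [Pi.mul_apply, MonoidHom.mul_apply, MonoidHom.comp_apply, Units.val_mul]
      rfl
    · obtain ⟨T, hTdef⟩ : ∃ T : Subgroup G, T = inertia M θ := ⟨_, rfl⟩
      rw [← hTdef] at hT
      haveI : Fintype T := Fintype.ofFinite T
      have hMT : M ≤ T := by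
        rw [hTdef]
        exact le_inertia M (helper4.isClassFunction_of_isIrrCharacter hθ)
      obtain ⟨ψ, hψ, hind, -⟩ := clifford_corr_surj M T hMT hθ hTdef hχ hne
      have hlt : Nat.card T < n := by
        rw [← hn]
        apply lt_of_le_of_ne (Subgroup.card_le_card_group T)
        intro heq
        exact hT (Subgroup.eq_top_of_card_eq T heq)
      have hab' : ∀ a ∈ M.subgroupOf T, ∀ b ∈ M.subgroupOf T, a * b = b * a :=
        fun a ha b hb => Subtype.ext
          (hMab a (Subgroup.mem_subgroupOf.mp ha) b (Subgroup.mem_subgroupOf.mp hb))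
      have hcop'' : (Nat.card (M.subgroupOf T)).Coprime p := by
        rw [Nat.card_congr (Subgroup.subgroupOfEquivOfLe hMT).toEquiv]
        exact hcop
      have hidx' : ∃ k' : ℕ, (M.subgroupOf T).index = p ^ k' := by
        have h1 : M.relIndex T ∣ p ^ k := by
          rw [← hk, ← Subgroup.relIndex_mul_index hMT]
          exact dvd_mul_right _ _
        obtain ⟨j, -, hj⟩ := (Nat.dvd_prime_pow hp.out).mp h1
        exact ⟨j, hj⟩
      obtain ⟨L', lam', hL'⟩ :=
        ih _ hlt T rfl (M.subgroupOf T) inferInstance hab' hcop'' hidx' ψ hψ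
      refine ⟨L'.map T.subtype, lam'.comp (helper4.mapSubtypeHom T L'), ?_⟩
      rw [← hind, hL', helper4.indFun_indFun]
      rfl

/-- A finite group with an abelian normal subgroup of order prime to `p` and of `p`-power index
is an M-group. -/
theorem monomial_of_abelian_normal {G : Type u} [Group G] [Fintype G] (p : ℕ) [Fact p.Prime]
    (M : Subgroup G) (hMn : M.Normal) (hMab : ∀ a ∈ M, ∀ b ∈ M, a * b = b * a)
    (hcop : (Nat.card M).Coprime p) (hidx : ∃ k : ℕ, M.index = p ^ k)
    (χ : G → ℂ) (hχ : IsIrrCharacter G χ) :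
    ∃ (L : Subgroup G) (lam : L →* ℂˣ), χ = indFun L (fun x => ((lam x : ℂˣ) : ℂ)) :=
  monomial_of_abelian_normal_aux p _ G rfl M hMn hMab hcop hidx χ hχ

end MGroup

end Cfsg.Agent.Lib.helper82
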