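import Mathlib
import Cfsg.Prelude.Def_Characters
import Cfsg.Prelude.Def_Blocks
import Cfsg.Agent.Lib.helper4.Regular
import Cfsg.Agent.Lib.helper4.CharTheory
import Cfsg.Agent.Lib.helper4.CharDecomp
import Cfsg.Agent.Lib.helper82.CharDeg
import Cfsg.Agent.Lib.helper82.CharSums
import Cfsg.Agent.Lib.helper82.CharQuot
import Cfsg.Agent.Lib.helper82.CharNormal
import Cfsg.Agent.Lib.helper82.GlaubReal
import Cfsg.Agent.Lib.helper19.AbelianOver

/-!
# Three character degrees, part B (helper82): products of characters of coprime degrees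

For a group whose irreducible character degrees lie in `{1, m, n}` with `1 < m < n` coprime:

* `prod_dichotomy`: a product `χ ψ` (degrees `m`, `n`) has all its irreducible constituents of
  degree `m`, or all of degree `n`;
* `prod_rigid`: if `χ'` (degree `m`) is not a linear twist of `χ` (degree `m`), then `χ'` is not a
  constituent of any `χ ψ` with `ψ` of degree `n`;
* `no_two_coprime_faithful`: if moreover every nonlinear irreducible character is faithful, the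
  degrees `m` and `n` cannot both occur.
-/

set_option autoImplicit false
set_option linter.style.haveILetI false
set_option linter.unusedSectionVars false

namespace Cfsg.Agent.Lib.helper82

open Module Cfsg
open Cfsg.Agent.Lib
open scoped ComplexConjugate

universe u

section Arith

theorem three_sum_split {ι : Type*} [Fintype ι] (d N : ι → ℕ) (m n : ℕ) (h1m : 1 ≠ m)
    (h1n : 1 ≠ n) (hmn : m ≠ n) (hd : ∀ i, d i = 1 ∨ d i = m ∨ d i = n) :
    ∑ i, N i * d i = (∑ i, if d i = 1 then N i else 0) + m * (∑ i, if d i = m then N i else 0)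
      + n * (∑ i, if d i = n then N i else 0) := by
  rw [Finset.mul_sum, Finset.mul_sum, ← Finset.sum_add_distrib, ← Finset.sum_add_distrib]
  apply Finset.sum_congr rfl
  intro i _
  rcases hd i with h | h | h
  · rw [h, if_pos rfl, if_neg h1m, if_neg h1n]; simp
  · rw [h, if_neg h1m.symm, if_pos rfl, if_neg hmn]; ring
  · rw [h, if_neg h1n.symm, if_neg hmn.symm, if_pos rfl]; ring

theorem three_coprime_split {m n A B : ℕ} (hm : 0 < m) (hn : 0 < n) (hcop : Nat.Coprime m n)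
    (h : m * n = m * A + n * B) : A = 0 ∨ B = 0 := by
  have h1 : n ∣ m * A := by
    have h0 : n ∣ m * A + n * B := by rw [← h]; exact dvd_mul_left n m
    exact (Nat.dvd_add_iff_left (dvd_mul_right n B)).mpr h0
  have h2 : m ∣ n * B := by
    have h0 : m ∣ m * A + n * B := by rw [← h]; exact dvd_mul_right m n
    exact (Nat.dvd_add_iff_right (dvd_mul_right m A)).mpr h0
  obtain ⟨a, rfl⟩ := hcop.symm.dvd_of_dvd_mul_left h1
  obtain ⟨b, rfl⟩ := hcop.dvd_of_dvd_mul_left h2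
  have h3 : m * n * (a + b) = m * n * 1 := by nlinarith [h]
  have h4 : a + b = 1 := Nat.eq_of_mul_eq_mul_left (Nat.mul_pos hm hn) h3
  rcases Nat.eq_zero_or_pos a with ha | ha
  · left; rw [ha, mul_zero]
  · right
    have hb : b = 0 := by omega
    rw [hb, mul_zero]

theorem three_rigid_arith {m n A B : ℕ} (hm : 0 < m) (hmn : m < n) (hcop : Nat.Coprime m n)
    (h : m * A + n * B = m * m) : B = 0 := by
  have h2 : m ∣ n * B := by
    have h0 : m ∣ m * A + n * B := by rw [h]; exact dvd_mul_right m m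
    exact (Nat.dvd_add_iff_right (dvd_mul_right m A)).mpr h0
  obtain ⟨b, rfl⟩ := hcop.dvd_of_dvd_mul_left h2
  by_contra hb
  have hb1 : 1 ≤ b := by
    rcases Nat.eq_zero_or_pos b with h0 | h0
    · exact absurd (by rw [h0, mul_zero]) hb
    · exact h0
  have h3 : m * (A + n * b) = m * m := by nlinarith [h]
  have h4 : A + n * b = m := Nat.eq_of_mul_eq_mul_left hm h3
  have h5 : n ≤ n * b := Nat.le_mul_of_pos_right n hb1
  omega

end Arith

section Prod

variable {Q : Type*} [Group Q] [Fintype Q]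

theorem classInner_mul_shift (χ ψ ξ : Q → ℂ) :
    classInner (χ * ψ) ξ = classInner ψ ((fun g => conj (χ g)) * ξ) := by
  unfold classInner
  congr 1
  apply Finset.sum_congr rfl
  intro g _
  simp only [Pi.mul_apply, map_mul, Complex.conj_conj]
  ring

theorem sum_irr_degree_classInner_mul [Fintype (IrrCharacter Q)] (χ χ' : Q → ℂ) :
    ∑ ξ : IrrCharacter Q, (ξ : Q → ℂ) 1 * classInner (χ * (ξ : Q → ℂ)) χ'
      = χ 1 * conj (χ' 1) := by
  classical
  unfold classInner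
  simp only [Pi.mul_apply]
  have h1 : ∀ ξ : IrrCharacter Q, (ξ : Q → ℂ) 1 *
      ((Nat.card Q : ℂ)⁻¹ * ∑ g : Q, χ g * (ξ : Q → ℂ) g * conj (χ' g))
      = (Nat.card Q : ℂ)⁻¹ *
        ∑ g : Q, χ g * conj (χ' g) * ((ξ : Q → ℂ) 1 * (ξ : Q → ℂ) g) := by
    intro ξ
    rw [Finset.mul_sum, Finset.mul_sum, Finset.mul_sum]
    apply Finset.sum_congr rfl
    intro g _
    ring
  rw [Finset.sum_congr rfl (fun ξ _ => h1 ξ), ← Finset.mul_sum, Finset.sum_comm]
  have h2 : ∀ g : Q,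
      ∑ ξ : IrrCharacter Q, χ g * conj (χ' g) * ((ξ : Q → ℂ) 1 * (ξ : Q → ℂ) g)
      = if g = 1 then χ 1 * conj (χ' 1) * (Nat.card Q : ℂ) else 0 := by
    intro g
    rw [← Finset.mul_sum, helper4.sum_irr_degree_mul g]
    split_ifs with h
    · rw [h]
    · rw [mul_zero]
  rw [Finset.sum_congr rfl (fun g _ => h2 g), Finset.sum_ite_eq' Finset.univ (1 : Q),
    if_pos (Finset.mem_univ _)]
  have hc : (Nat.card Q : ℂ) ≠ 0 := by exact_mod_cast (Nat.card_pos (α := Q)).ne'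
  field_simp

theorem irr_deg_cases (m n : ℕ)
    (hcd : ∀ χ : Q → ℂ, IsIrrCharacter Q χ → χ 1 = 1 ∨ χ 1 = (m : ℂ) ∨ χ 1 = (n : ℂ))
    (ξ : IrrCharacter Q) :
    charDegree (ξ : Q → ℂ) = 1 ∨ charDegree (ξ : Q → ℂ) = m ∨ charDegree (ξ : Q → ℂ) = n := by
  have h := irr_one_eq ξ
  rcases hcd ξ.1 ξ.2 with h1 | h1 | h1
  · left; rw [h] at h1; exact_mod_cast h1
  · right; left; rw [h] at h1; exact_mod_cast h1
  · right; right; rw [h] at h1; exact_mod_cast h1

theorem charDegree_of_one_eq {ξ : Q → ℂ} (hξ : IsIrrCharacter Q ξ) {d : ℕ} (h : ξ 1 = (d : ℂ)) :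
    charDegree ξ = d := by
  have h1 := irr_one_eq (⟨ξ, hξ⟩ : IrrCharacter Q)
  have h2 : ξ 1 = (charDegree ξ : ℂ) := h1
  rw [h] at h2
  exact_mod_cast h2.symm

theorem prod_no_linear (m n : ℕ) (hmn : m ≠ n) {χ ψ ξ : Q → ℂ} (hχ : IsIrrCharacter Q χ)
    (hψ : IsIrrCharacter Q ψ) (hξ : IsIrrCharacter Q ξ) (hχm : χ 1 = (m : ℂ))
    (hψn : ψ 1 = (n : ℂ)) (hξ1 : ξ 1 = 1) : classInner (χ * ψ) ξ = 0 := by
  rw [classInner_mul_shift]
  have hirr : IsIrrCharacter Q ((fun g => conj (χ g)) * ξ) :=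
    helper19.isIrr_mul_linear _ ξ (isIrrCharacter_star hχ) hξ hξ1
  apply helper4.classInner_irr_ne hψ hirr
  intro heq
  have h1 := congrFun heq 1
  simp only [Pi.mul_apply] at h1
  rw [hψn, hχm, hξ1, Complex.conj_natCast, mul_one] at h1
  exact hmn (by exact_mod_cast h1.symm)

theorem prod_dichotomy (m n : ℕ) (hm : 1 < m) (hn : 1 < n) (hmn : m ≠ n)
    (hcop : Nat.Coprime m n)
    (hcd : ∀ χ : Q → ℂ, IsIrrCharacter Q χ → χ 1 = 1 ∨ χ 1 = (m : ℂ) ∨ χ 1 = (n : ℂ))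
    {χ ψ : Q → ℂ} (hχ : IsIrrCharacter Q χ) (hψ : IsIrrCharacter Q ψ)
    (hχm : χ 1 = (m : ℂ)) (hψn : ψ 1 = (n : ℂ)) :
    (∀ ξ : Q → ℂ, IsIrrCharacter Q ξ → ξ 1 ≠ (m : ℂ) → classInner (χ * ψ) ξ = 0) ∨
    (∀ ξ : Q → ℂ, IsIrrCharacter Q ξ → ξ 1 ≠ (n : ℂ) → classInner (χ * ψ) ξ = 0) := by
  classical
  haveI : Fintype (IrrCharacter Q) := Fintype.ofFinite _
  have hΘ : IsCharacter Q (χ * ψ) :=
    helper4.isCharacter_mul (helper4.isCharacter_of_isIrrCharacter hχ)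
      (helper4.isCharacter_of_isIrrCharacter hψ)
  obtain ⟨N, hN1, -, hN3⟩ := exists_nat_decomp hΘ
  have hdeg : m * n = ∑ ξ : IrrCharacter Q, N ξ * charDegree (ξ : Q → ℂ) := by
    have h1 : (χ * ψ) 1 = ((m * n : ℕ) : ℂ) := by
      rw [Pi.mul_apply, hχm, hψn]; push_cast; ring
    rw [h1] at hN3
    exact_mod_cast hN3
  rw [three_sum_split _ N m n (by omega) (by omega) hmn (irr_deg_cases m n hcd)] at hdeg
  have hS1 : (∑ ξ : IrrCharacter Q, if charDegree (ξ : Q → ℂ) = 1 then N ξ else 0) = 0 := by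
    apply Finset.sum_eq_zero
    intro ξ _
    split_ifs with h
    · have h1 : (ξ : Q → ℂ) 1 = 1 := by rw [irr_one_eq ξ, h]; simp
      have h2 := prod_no_linear m n hmn hχ hψ ξ.2 hχm hψn h1
      rw [hN1 ξ] at h2
      exact_mod_cast h2
    · rfl
  rw [hS1, zero_add] at hdeg
  rcases three_coprime_split (by omega) (by omega) hcop hdeg with hA | hB
  · right
    intro ξ hξ hξn
    rcases hcd ξ hξ with h1 | h1 | h1
    · exact prod_no_linear m n hmn hχ hψ hξ hχm hψn h1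
    · have hd : charDegree ξ = m := charDegree_of_one_eq hξ h1
      have h3 := (Finset.sum_eq_zero_iff.mp hA) ⟨ξ, hξ⟩ (Finset.mem_univ _)
      have h4 : N ⟨ξ, hξ⟩ = 0 := by
        have h5 : (if charDegree ξ = m then N ⟨ξ, hξ⟩ else 0) = 0 := h3
        rwa [if_pos hd] at h5
      have h6 : classInner (χ * ψ) ξ = N ⟨ξ, hξ⟩ := hN1 ⟨ξ, hξ⟩
      rw [h6, h4]; simp
    · exact absurd h1 hξn
  · left
    intro ξ hξ hξm
    rcases hcd ξ hξ with h1 | h1 | h1
    · exact prod_no_linear m n hmn hχ hψ hξ hχm hψn h1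
    · exact absurd h1 hξm
    · have hd : charDegree ξ = n := charDegree_of_one_eq hξ h1
      have h3 := (Finset.sum_eq_zero_iff.mp hB) ⟨ξ, hξ⟩ (Finset.mem_univ _)
      have h4 : N ⟨ξ, hξ⟩ = 0 := by
        have h5 : (if charDegree ξ = n then N ⟨ξ, hξ⟩ else 0) = 0 := h3
        rwa [if_pos hd] at h5
      have h6 : classInner (χ * ψ) ξ = N ⟨ξ, hξ⟩ := hN1 ⟨ξ, hξ⟩
      rw [h6, h4]; simp

theorem prod_rigid (m n : ℕ) (hm : 1 < m) (hmn : m < n) (hcop : Nat.Coprime m n)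
    (hcd : ∀ χ : Q → ℂ, IsIrrCharacter Q χ → χ 1 = 1 ∨ χ 1 = (m : ℂ) ∨ χ 1 = (n : ℂ))
    {χ χ' : Q → ℂ} (hχ : IsIrrCharacter Q χ) (hχ' : IsIrrCharacter Q χ')
    (hχm : χ 1 = (m : ℂ)) (hχ'm : χ' 1 = (m : ℂ))
    (hne : ∀ lam : Q → ℂ, IsIrrCharacter Q lam → lam 1 = 1 → χ' ≠ χ * lam)
    {ψ : Q → ℂ} (hψ : IsIrrCharacter Q ψ) (hψn : ψ 1 = (n : ℂ)) :
    classInner (χ * ψ) χ' = 0 := by
  classical
  haveI : Fintype (IrrCharacter Q) := Fintype.ofFinite _
  have hM : ∀ ξ : IrrCharacter Q, ∃ k : ℕ, classInner (χ * (ξ : Q → ℂ)) χ' = k := fun ξ =>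
    helper4.exists_nat_classInner_irr
      (helper4.isCharacter_mul (helper4.isCharacter_of_isIrrCharacter hχ)
        (helper4.isCharacter_of_isIrrCharacter ξ.2)) hχ'
  choose M hM using hM
  have hsum := sum_irr_degree_classInner_mul χ χ'
  rw [hχm, hχ'm, Complex.conj_natCast] at hsum
  have hnat : ∑ ξ : IrrCharacter Q, M ξ * charDegree (ξ : Q → ℂ) = m * m := by
    have h1 : ∑ ξ : IrrCharacter Q, (ξ : Q → ℂ) 1 * classInner (χ * (ξ : Q → ℂ)) χ'
        = ((∑ ξ : IrrCharacter Q, M ξ * charDegree (ξ : Q → ℂ) : ℕ) : ℂ) := by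
      push_cast
      apply Finset.sum_congr rfl
      intro ξ _
      rw [hM ξ, irr_one_eq ξ]; ring
    rw [h1] at hsum
    exact_mod_cast hsum
  rw [three_sum_split _ M m n (by omega) (by omega) (by omega) (irr_deg_cases m n hcd)] at hnat
  have hS1 : (∑ ξ : IrrCharacter Q, if charDegree (ξ : Q → ℂ) = 1 then M ξ else 0) = 0 := by
    apply Finset.sum_eq_zero
    intro ξ _
    split_ifs with h
    · have h1 : (ξ : Q → ℂ) 1 = 1 := by rw [irr_one_eq ξ, h]; simp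
      have hirr := helper19.isIrr_mul_linear χ ξ.1 hχ ξ.2 h1
      have h2 : classInner (χ * (ξ : Q → ℂ)) χ' = 0 :=
        helper4.classInner_irr_ne hirr hχ' (fun heq => hne ξ.1 ξ.2 h1 heq.symm)
      rw [hM ξ] at h2
      exact_mod_cast h2
    · rfl
  rw [hS1, zero_add] at hnat
  have hB := three_rigid_arith (by omega) hmn hcop hnat
  have h3 := (Finset.sum_eq_zero_iff.mp hB) ⟨ψ, hψ⟩ (Finset.mem_univ _)
  have hd : charDegree ψ = n := charDegree_of_one_eq hψ hψn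
  have h4 : M ⟨ψ, hψ⟩ = 0 := by
    have h5 : (if charDegree ψ = n then M ⟨ψ, hψ⟩ else 0) = 0 := h3
    rwa [if_pos hd] at h5
  have h6 : classInner (χ * ψ) χ' = M ⟨ψ, hψ⟩ := hM ⟨ψ, hψ⟩
  rw [h6, h4]; simp

theorem prod_typeI_pointwise (m n : ℕ) (hm : 1 < m) (hmn : m < n) (hcop : Nat.Coprime m n)
    (hcd : ∀ χ : Q → ℂ, IsIrrCharacter Q χ → χ 1 = 1 ∨ χ 1 = (m : ℂ) ∨ χ 1 = (n : ℂ))
    {χ ψ : Q → ℂ} (hχ : IsIrrCharacter Q χ) (hψ : IsIrrCharacter Q ψ)
    (hχm : χ 1 = (m : ℂ)) (hψn : ψ 1 = (n : ℂ))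
    (hI : ∀ ξ : Q → ℂ, IsIrrCharacter Q ξ → ξ 1 ≠ (m : ℂ) → classInner (χ * ψ) ξ = 0) :
    ∀ g ∈ commutator Q, χ g * ψ g = (n : ℂ) * χ g := by
  classical
  haveI : Fintype (IrrCharacter Q) := Fintype.ofFinite _
  have hΘ : IsCharacter Q (χ * ψ) :=
    helper4.isCharacter_mul (helper4.isCharacter_of_isIrrCharacter hχ)
      (helper4.isCharacter_of_isIrrCharacter hψ)
  obtain ⟨N, hN1, hN2, hN3⟩ := exists_nat_decomp hΘ
  have key : ∀ ξ : IrrCharacter Q, N ξ ≠ 0 → (ξ : Q → ℂ) 1 = (m : ℂ) ∧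
      ∃ lam : Q → ℂ, IsIrrCharacter Q lam ∧ lam 1 = 1 ∧ (ξ : Q → ℂ) = χ * lam := by
    intro ξ hNξ
    have hne0 : classInner (χ * ψ) (ξ : Q → ℂ) ≠ 0 := by
      rw [hN1 ξ]; exact_mod_cast hNξ
    have hξm : (ξ : Q → ℂ) 1 = (m : ℂ) := by
      by_contra h
      exact hne0 (hI ξ.1 ξ.2 h)
    refine ⟨hξm, ?_⟩
    by_contra hcon
    push Not at hcon
    exact hne0 (prod_rigid m n hm hmn hcop hcd hχ ξ.2 hχm hξm hcon hψ hψn)
  have hdeg : m * n = ∑ ξ : IrrCharacter Q, N ξ * charDegree (ξ : Q → ℂ) := by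
    have h1 : (χ * ψ) 1 = ((m * n : ℕ) : ℂ) := by
      rw [Pi.mul_apply, hχm, hψn]; push_cast; ring
    rw [h1] at hN3
    exact_mod_cast hN3
  have h2 : ∑ ξ : IrrCharacter Q, N ξ * charDegree (ξ : Q → ℂ)
      = (∑ ξ : IrrCharacter Q, N ξ) * m := by
    rw [Finset.sum_mul]
    apply Finset.sum_congr rfl
    intro ξ _
    by_cases h0 : N ξ = 0
    · rw [h0]; simp
    · have h3 := (key ξ h0).1
      rw [irr_one_eq ξ] at h3
      have h4 : charDegree (ξ : Q → ℂ) = m := by exact_mod_cast h3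
      rw [h4]
  rw [h2] at hdeg
  have h4 : ∑ ξ : IrrCharacter Q, N ξ = n := by
    have h5 : m * n = m * ∑ ξ : IrrCharacter Q, N ξ := by rw [hdeg]; ring
    exact (Nat.eq_of_mul_eq_mul_left (by omega) h5).symm
  intro g hg
  have h1 : χ g * ψ g = ∑ ξ : IrrCharacter Q, (N ξ : ℂ) * χ g := by
    have h5 := hN2 g
    rw [Pi.mul_apply] at h5
    rw [h5]
    apply Finset.sum_congr rfl
    intro ξ _
    by_cases h0 : N ξ = 0
    · rw [h0]; simp
    · obtain ⟨-, lam, hlam, hlam1, hξ⟩ := key ξ h0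
      rw [hξ, Pi.mul_apply,
        linear_commutator (helper4.isCharacter_of_isIrrCharacter hlam) hlam1 g hg, hlam1, mul_one]
  rw [h1, ← Finset.sum_mul]
  congr 1
  rw [← h4]; push_cast; rfl

/-- If every nonlinear irreducible character is faithful, two coprime nonlinear degrees cannot
both occur (degrees in `{1, m, n}`). -/
theorem no_two_coprime_faithful (m n : ℕ) (hm : 1 < m) (hmn : m < n) (hcop : Nat.Coprime m n)
    (hcd : ∀ χ : Q → ℂ, IsIrrCharacter Q χ → χ 1 = 1 ∨ χ 1 = (m : ℂ) ∨ χ 1 = (n : ℂ))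
    (hfaith : ∀ χ : Q → ℂ, IsIrrCharacter Q χ → χ 1 ≠ 1 → ∀ g : Q, χ g = χ 1 → g = 1)
    (χ₀ : Q → ℂ) (hχ₀ : IsIrrCharacter Q χ₀) (hχ₀m : χ₀ 1 = (m : ℂ))
    (ψ₀ : Q → ℂ) (hψ₀ : IsIrrCharacter Q ψ₀) (hψ₀n : ψ₀ 1 = (n : ℂ)) : False := by
  classical
  haveI : Fintype (IrrCharacter Q) := Fintype.ofFinite _
  have hm1 : (m : ℂ) ≠ 1 := by exact_mod_cast (by omega : m ≠ 1)
  have hn1 : (n : ℂ) ≠ 1 := by exact_mod_cast (by omega : n ≠ 1)
  have hmnC : (m : ℂ) ≠ (n : ℂ) := by exact_mod_cast (by omega : m ≠ n)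
  have hnotI : ∀ χ ψ : Q → ℂ, IsIrrCharacter Q χ → IsIrrCharacter Q ψ → χ 1 = (m : ℂ) →
      ψ 1 = (n : ℂ) →
      ¬ (∀ ξ : Q → ℂ, IsIrrCharacter Q ξ → ξ 1 ≠ (m : ℂ) → classInner (χ * ψ) ξ = 0) := by
    intro χ ψ hχ hψ hχm hψn hI
    have hpt := prod_typeI_pointwise m n hm hmn hcop hcd hχ hψ hχm hψn hI
    have hvan : ∀ g ∈ commutator Q, g ≠ 1 → χ g = 0 := by
      intro g hg hg1
      have h1 := hpt g hg
      have h2 : χ g * (ψ g - n) = 0 := by rw [mul_sub, h1]; ring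
      rcases mul_eq_zero.mp h2 with h3 | h3
      · exact h3
      · exfalso; apply hg1
        apply hfaith ψ hψ (by rw [hψn]; exact hn1) g
        rw [hψn]; exact sub_eq_zero.mp h3
    have hχ1 : χ 1 ≠ 1 := by rw [hχm]; exact hm1
    have hex : ∃ x ∈ commutator Q, χ x ≠ χ 1 := by
      by_contra hcon
      push Not at hcon
      exact hχ1 ((irr_linear_iff hχ).mpr hcon)
    haveI : Fintype (commutator Q) := Fintype.ofFinite _
    have hsum := irr_sum_mul_normal (⟨χ, hχ⟩ : IrrCharacter Q) (commutator Q) hex 1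
    have hsum2 : ∑ x : commutator Q, χ (1 * (x : Q)) = χ 1 := by
      rw [Finset.sum_eq_single (1 : commutator Q)]
      · simp
      · intro x _ hx
        rw [one_mul]
        apply hvan x x.2
        intro h; apply hx; exact Subtype.ext h
      · intro h; exact absurd (Finset.mem_univ _) h
    have hsum3 : ∑ x : commutator Q, χ (1 * (x : Q)) = 0 := hsum
    rw [hsum2, hχm] at hsum3
    have hm0 : (m : ℂ) ≠ 0 := by exact_mod_cast (by omega : m ≠ 0)
    exact hm0 hsum3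
  have hII : ∀ χ ψ ξ : Q → ℂ, IsIrrCharacter Q χ → IsIrrCharacter Q ψ → IsIrrCharacter Q ξ →
      χ 1 = (m : ℂ) → ψ 1 = (n : ℂ) → ξ 1 ≠ (n : ℂ) → classInner (χ * ψ) ξ = 0 := by
    intro χ ψ ξ hχ hψ hξ hχm hψn hξn
    rcases prod_dichotomy m n hm (by omega) (by omega) hcop hcd hχ hψ hχm hψn with h | h
    · exact absurd h (hnotI χ ψ hχ hψ hχm hψn)
    · exact h ξ hξ hξn
  have h3b : ∀ χ ρ η : Q → ℂ, IsIrrCharacter Q χ → IsIrrCharacter Q ρ → IsIrrCharacter Q η →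
      χ 1 = (m : ℂ) → ρ 1 ≠ (n : ℂ) → η 1 = (n : ℂ) → classInner (χ * ρ) η = 0 := by
    intro χ ρ η hχ hρ hη hχm hρn hηn
    rw [classInner_mul_shift, ← helper4.classInner_conj_symm]
    have hstar := isIrrCharacter_star hχ
    have h1 : (fun g => conj (χ g)) 1 = (m : ℂ) := by
      show conj (χ 1) = (m : ℂ)
      rw [hχm, Complex.conj_natCast]
    rw [hII _ η ρ hstar hη hρ h1 hηn hρn, map_zero]
  -- the class function Φ
  obtain ⟨c, hc⟩ : ∃ c : IrrCharacter Q → ℂ, c = fun ρ : IrrCharacter Q =>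
      if (ρ : Q → ℂ) 1 = (n : ℂ) then (0 : ℂ) else (ρ : Q → ℂ) 1 := ⟨_, rfl⟩
  obtain ⟨Φ, hΦ⟩ : ∃ Φ : Q → ℂ, Φ = ∑ ρ : IrrCharacter Q, c ρ • (ρ : Q → ℂ) := ⟨_, rfl⟩
  have hΦcf : IsClassFunction Q Φ := by
    rw [hΦ]
    exact helper4.isClassFunction_sum _ _ (fun ρ _ => helper4.isClassFunction_smul _
      (helper4.isClassFunction_of_isIrrCharacter ρ.2))
  have hΦη : ∀ η : IrrCharacter Q, classInner Φ (η : Q → ℂ) = c η := by
    intro η
    rw [hΦ, helper4.classInner_sum_left, Finset.sum_eq_single η]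
    · rw [helper4.classInner_smul_left, helper4.classInner_irr_self η.2, mul_one]
    · intro ρ _ hρ
      rw [helper4.classInner_smul_left,
        helper4.classInner_irr_ne ρ.2 η.2 (fun h => hρ (Subtype.ext h)), mul_zero]
    · intro h; exact absurd (Finset.mem_univ _) h
  have hχΦ : χ₀ * Φ = ∑ ρ : IrrCharacter Q, c ρ • (χ₀ * (ρ : Q → ℂ)) := by
    funext g
    rw [hΦ]
    simp only [Pi.mul_apply, Finset.sum_apply, Pi.smul_apply, smul_eq_mul, Finset.mul_sum]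
    apply Finset.sum_congr rfl
    intro ρ _
    ring
  have hχ₀cf := helper4.isClassFunction_of_isIrrCharacter hχ₀
  have hkey : χ₀ * Φ - (m : ℂ) • Φ = 0 := by
    apply helper4.eq_zero_of_forall_irr_classInner_eq_zero
    · apply helper4.isClassFunction_sub
      · intro g h
        rw [Pi.mul_apply, Pi.mul_apply, hχ₀cf g h, hΦcf g h]
      · exact helper4.isClassFunction_smul _ hΦcf
    · intro η
      rw [helper4.classInner_sub_left, helper4.classInner_smul_left, hΦη η, hχΦ,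
        helper4.classInner_sum_left]
      by_cases hηn : (η : Q → ℂ) 1 = (n : ℂ)
      · have h1 : ∀ ρ ∈ (Finset.univ : Finset (IrrCharacter Q)),
            classInner (c ρ • (χ₀ * (ρ : Q → ℂ))) (η : Q → ℂ) = 0 := by
          intro ρ _
          rw [helper4.classInner_smul_left]
          by_cases hρn : (ρ : Q → ℂ) 1 = (n : ℂ)
          · rw [hc]; simp only []; rw [if_pos hρn, zero_mul]
          · rw [h3b χ₀ ρ.1 η.1 hχ₀ ρ.2 η.2 hχ₀m hρn hηn, mul_zero]
        rw [Finset.sum_eq_zero h1, hc]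
        simp only []
        rw [if_pos hηn, mul_zero, sub_zero]
      · have h1 : ∀ ρ ∈ (Finset.univ : Finset (IrrCharacter Q)),
            classInner (c ρ • (χ₀ * (ρ : Q → ℂ))) (η : Q → ℂ)
              = (ρ : Q → ℂ) 1 * classInner (χ₀ * (ρ : Q → ℂ)) (η : Q → ℂ) := by
          intro ρ _
          rw [helper4.classInner_smul_left]
          by_cases hρn : (ρ : Q → ℂ) 1 = (n : ℂ)
          · rw [hII χ₀ ρ.1 η.1 hχ₀ ρ.2 η.2 hχ₀m hρn hηn, mul_zero, mul_zero]
          · rw [hc]; simp only []; rw [if_neg hρn]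
        rw [Finset.sum_congr rfl h1, sum_irr_degree_classInner_mul χ₀ (η : Q → ℂ), hχ₀m, hc]
        simp only []
        rw [if_neg hηn, irr_one_eq η, Complex.conj_natCast, sub_self]
  have hΦvan : ∀ g : Q, g ≠ 1 → Φ g = 0 := by
    intro g hg
    have h1 := congrFun hkey g
    simp only [Pi.sub_apply, Pi.mul_apply, Pi.smul_apply, smul_eq_mul, Pi.zero_apply] at h1
    have h2 : (χ₀ g - (m : ℂ)) * Φ g = 0 := by rw [sub_mul]; exact h1
    rcases mul_eq_zero.mp h2 with h3 | h3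
    · exfalso; apply hg
      apply hfaith χ₀ hχ₀ (by rw [hχ₀m]; exact hm1) g
      rw [hχ₀m]; exact sub_eq_zero.mp h3
    · exact h3
  -- the sum Y of the characters of degree n
  obtain ⟨Y, hY⟩ : ∃ Y : Q → ℂ, Y = ∑ ρ : IrrCharacter Q,
      (if (ρ : Q → ℂ) 1 = (n : ℂ) then (1 : ℂ) else 0) • (ρ : Q → ℂ) := ⟨_, rfl⟩
  have hreg : ∀ g : Q, ∑ ρ : IrrCharacter Q, (ρ : Q → ℂ) 1 * (ρ : Q → ℂ) g
      = Φ g + (n : ℂ) * Y g := by
    intro g
    rw [hΦ, hY, hc]
    simp only [Finset.sum_apply, Pi.smul_apply, smul_eq_mul, Finset.mul_sum]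
    rw [← Finset.sum_add_distrib]
    apply Finset.sum_congr rfl
    intro ρ _
    by_cases hρn : (ρ : Q → ℂ) 1 = (n : ℂ)
    · rw [if_pos hρn, if_pos hρn, hρn]; ring
    · rw [if_neg hρn, if_neg hρn]; ring
  have hn0 : (n : ℂ) ≠ 0 := by exact_mod_cast (by omega : n ≠ 0)
  have hYvan : ∀ g : Q, g ≠ 1 → Y g = 0 := by
    intro g hg
    have h1 := hreg g
    rw [helper4.sum_irr_degree_mul g, if_neg hg, hΦvan g hg, zero_add] at h1
    rcases mul_eq_zero.mp h1.symm with h2 | h2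
    · exact absurd h2 hn0
    · exact h2
  have hY1 : classInner Y (fun _ : Q => (1 : ℂ)) = 0 := by
    rw [hY, helper4.classInner_sum_left]
    apply Finset.sum_eq_zero
    intro ρ _
    rw [helper4.classInner_smul_left]
    by_cases hρn : (ρ : Q → ℂ) 1 = (n : ℂ)
    · rw [helper4.classInner_irr_ne ρ.2 helper83.isIrrCharacter_one, mul_zero]
      intro heq
      have h1 := congrFun heq 1
      rw [hρn] at h1
      exact hn1 h1
    · rw [if_neg hρn, zero_mul]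
  have hY2 : classInner Y (fun _ : Q => (1 : ℂ)) = (Nat.card Q : ℂ)⁻¹ * Y 1 := by
    unfold classInner
    congr 1
    rw [Finset.sum_eq_single (1 : Q)]
    · simp
    · intro g _ hg
      rw [hYvan g hg, zero_mul]
    · intro h; exact absurd (Finset.mem_univ _) h
  have hcQ : (Nat.card Q : ℂ) ≠ 0 := by exact_mod_cast (Nat.card_pos (α := Q)).ne'
  have hY0 : Y 1 = 0 := by
    rw [hY2] at hY1
    rcases mul_eq_zero.mp hY1 with h | h
    · exact absurd h (inv_ne_zero hcQ)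
    · exact h
  have hYnat : Y 1 = ((∑ ρ : IrrCharacter Q,
      if charDegree (ρ : Q → ℂ) = n then n else 0 : ℕ) : ℂ) := by
    rw [hY]
    simp only [Finset.sum_apply, Pi.smul_apply, smul_eq_mul]
    push_cast
    apply Finset.sum_congr rfl
    intro ρ _
    by_cases hρn : (ρ : Q → ℂ) 1 = (n : ℂ)
    · rw [if_pos hρn, if_pos (charDegree_of_one_eq ρ.2 hρn), hρn, one_mul]
    · have h1 : charDegree (ρ : Q → ℂ) ≠ n := by
        intro h
        apply hρn
        rw [irr_one_eq ρ, h]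
      rw [if_neg hρn, if_neg h1, zero_mul]
  rw [hYnat] at hY0
  have hY0' : (∑ ρ : IrrCharacter Q, if charDegree (ρ : Q → ℂ) = n then n else 0) = 0 := by
    exact_mod_cast hY0
  have h1 := (Finset.sum_eq_zero_iff.mp hY0') ⟨ψ₀, hψ₀⟩ (Finset.mem_univ _)
  have h2 : (if charDegree ψ₀ = n then n else 0) = 0 := h1
  rw [if_pos (charDegree_of_one_eq hψ₀ hψ₀n)] at h2
  omega

end Prod

end Cfsg.Agent.Lib.helper82
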