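import Mathlib

/-!
# Three character degrees, part C (helper82): group theory of a minimal nonabelian quotient

* `exists_max_nonabelian_quot`: a nonabelian finite group has a normal subgroup `K` maximal
  with `G / K` nonabelian;
* `isPGroup_of_commutator_le_center`: if every nontrivial normal subgroup contains the
  commutator subgroup and the group has class two, it is a `p`-group;
* `frobenius_of_max`: the Frobenius property of an abelian normal subgroup of maximal type;
* `frobenius_surj`: every element of `A` is a commutator `x a x⁻¹ a⁻¹` for `x ∉ A`.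
-/

set_option autoImplicit false
set_option linter.style.haveILetI false
set_option linter.unusedSectionVars false

namespace Cfsg.Agent.Lib.helper82

open scoped commutatorElement

universe u

section MaxQuot

theorem exists_max_nonabelian_quot {G : Type*} [Group G] [Finite G]
    (hG : ¬ ∀ a b : G, a * b = b * a) :
    ∃ K : Subgroup G, K.Normal ∧ ¬ (commutator G ≤ K) ∧
      ∀ L : Subgroup G, L.Normal → K < L → commutator G ≤ L := by
  obtain ⟨S, hS⟩ : ∃ S : Set (Subgroup G), S = {L | L.Normal ∧ ¬ commutator G ≤ L} := ⟨_, rfl⟩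
  have hfin : S.Finite := Set.toFinite S
  have hne : S.Nonempty := by
    refine ⟨⊥, ?_⟩
    rw [hS]
    refine ⟨inferInstance, ?_⟩
    intro h
    apply hG
    intro a b
    have h1 : ⁅a, b⁆ ∈ commutator G := by
      rw [commutator_def]
      exact Subgroup.commutator_mem_commutator (Subgroup.mem_top _) (Subgroup.mem_top _)
    have h2 := h h1
    rw [Subgroup.mem_bot, commutatorElement_eq_one_iff_mul_comm] at h2
    exact h2
  obtain ⟨K, hK⟩ := hfin.exists_maximal hne
  have hKS : K ∈ S := hK.prop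
  rw [hS] at hKS
  refine ⟨K, hKS.1, hKS.2, ?_⟩
  intro L hL hKL
  by_contra hcon
  have hLS : L ∈ S := by rw [hS]; exact ⟨hL, hcon⟩
  have h1 := hK.le_of_ge hLS hKL.le
  exact absurd h1 (not_le_of_gt hKL)

/-- If every nontrivial normal subgroup of a finite group contains the (nontrivial) commutator
subgroup, and the commutator subgroup is central, then the group is a `p`-group. -/
theorem isPGroup_of_commutator_le_center {Q : Type*} [Group Q] [Finite Q]
    (hQ : ∀ L : Subgroup Q, L.Normal → L ≠ ⊥ → commutator Q ≤ L)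
    (hne : commutator Q ≠ ⊥) (hZ : commutator Q ≤ Subgroup.center Q) :
    ∃ p : ℕ, p.Prime ∧ IsPGroup p Q := by
  have hnil : Group.IsNilpotent Q := by
    rw [Subgroup.nilpotent_iff_lowerCentralSeries]
    refine ⟨2, ?_⟩
    show ⁅commutator Q, (⊤ : Subgroup Q)⁆ = ⊥
    rw [Subgroup.commutator_eq_bot_iff_le_centralizer, Subgroup.coe_top, Subgroup.centralizer_univ]
    exact hZ
  obtain ⟨c, hc, hc1⟩ : ∃ c ∈ commutator Q, c ≠ 1 := by
    by_contra hcon
    push Not at hcon
    apply hne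
    rw [eq_bot_iff]
    intro x hx
    rw [Subgroup.mem_bot]
    exact hcon x hx
  have ho : orderOf c ≠ 1 := by
    intro h
    exact hc1 (orderOf_eq_one_iff.mp h)
  obtain ⟨p, hp, hpc⟩ := Nat.exists_prime_and_dvd ho
  refine ⟨p, hp, ?_⟩
  have huniq : ∀ {q : ℕ}, q.Prime → q ∣ Nat.card Q → q = p := by
    intro q hq hqd
    haveI : Fact q.Prime := ⟨hq⟩
    obtain ⟨P⟩ : Nonempty (Sylow q Q) := inferInstance
    have hPn : (P : Subgroup Q).Normal := inferInstance
    have hPne : (P : Subgroup Q) ≠ ⊥ := P.ne_bot_of_dvd_card hqd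
    have hcP : c ∈ (P : Subgroup Q) := hQ P hPn hPne hc
    obtain ⟨k, hk⟩ := P.2 ⟨c, hcP⟩
    have hk' : c ^ q ^ k = 1 := by
      have := congrArg Subtype.val hk
      simpa using this
    have h1 : orderOf c ∣ q ^ k := orderOf_dvd_of_pow_eq_one hk'
    have h2 : p ∣ q ^ k := dvd_trans hpc h1
    exact ((Nat.prime_dvd_prime_iff_eq hp hq).mp (hp.dvd_of_dvd_pow h2)).symm
  have hcard := Nat.eq_prime_pow_of_unique_prime_dvd (Nat.card_pos (α := Q)).ne' huniq
  exact IsPGroup.of_card hcard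

end MaxQuot

section Frob

variable {Q : Type*} [Group Q] [Finite Q]

theorem comm_mem_commutator (g h : Q) : g * h * g⁻¹ * h⁻¹ ∈ commutator Q := by
  have h1 : ⁅g, h⁆ ∈ commutator Q := by
    rw [commutator_def]
    exact Subgroup.commutator_mem_commutator (Subgroup.mem_top _) (Subgroup.mem_top _)
  rwa [commutatorElement_def] at h1

/-- The Frobenius property: in a group in which every nontrivial normal subgroup contains the
commutator subgroup, which is not of class two, an abelian normal subgroup `A ≠ 1` that is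
maximal among abelian normal subgroups equals the commutator subgroup and no element outside
`A` centralizes a nontrivial element of `A`. -/
theorem frobenius_of_max
    (hQ : ∀ L : Subgroup Q, L.Normal → L ≠ ⊥ → commutator Q ≤ L)
    (A : Subgroup Q) (hAn : A.Normal) (hAab : ∀ a ∈ A, ∀ b ∈ A, a * b = b * a) (hA : A ≠ ⊥)
    (hIto : ∀ B : Subgroup Q, B.Normal → (∀ a ∈ B, ∀ b ∈ B, a * b = b * a) → A ≤ B → B = A)
    (hnil : ¬ commutator Q ≤ Subgroup.center Q) :
    A = commutator Q ∧ ∀ x : Q, x ∉ A → ∀ a ∈ A, x * a = a * x → a = 1 := by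
  have hQA : commutator Q ≤ A := hQ A hAn hA
  -- the subgroups C_A(x)
  have hCA : ∀ x : Q, ∃ C : Subgroup Q, C.Normal ∧ ∀ a : Q, a ∈ C ↔ a ∈ A ∧ x * a = a * x := by
    intro x
    refine ⟨A ⊓ Subgroup.centralizer {x}, ⟨?_⟩, ?_⟩
    · intro a ha g
      rw [Subgroup.mem_inf, Subgroup.mem_centralizer_iff] at ha ⊢
      obtain ⟨haA, hax⟩ := ha
      have hxa : x * a = a * x := hax x (Set.mem_singleton x)
      refine ⟨hAn.conj_mem a haA g, ?_⟩
      intro h hh
      rw [Set.mem_singleton_iff] at hh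
      rw [hh]
      have hc : g⁻¹ * x * g * x⁻¹ ∈ A := by
        have := comm_mem_commutator g⁻¹ x
        rw [inv_inv] at this
        exact hQA this
      have hca : g⁻¹ * x * g * x⁻¹ * a = a * (g⁻¹ * x * g * x⁻¹) := hAab _ hc a haA
      have h1 : g⁻¹ * x * g * a = a * (g⁻¹ * x * g) := by
        have e : g⁻¹ * x * g = g⁻¹ * x * g * x⁻¹ * x := by group
        rw [e, mul_assoc (g⁻¹ * x * g * x⁻¹) x a, hxa, ← mul_assoc, hca, mul_assoc]
      calc x * (g * a * g⁻¹) = g * (g⁻¹ * x * g * a) * g⁻¹ := by group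
        _ = g * (a * (g⁻¹ * x * g)) * g⁻¹ := by rw [h1]
        _ = g * a * g⁻¹ * x := by group
    · intro a
      rw [Subgroup.mem_inf, Subgroup.mem_centralizer_iff]
      constructor
      · rintro ⟨h1, h2⟩
        exact ⟨h1, h2 x (Set.mem_singleton x)⟩
      · rintro ⟨h1, h2⟩
        refine ⟨h1, ?_⟩
        intro h hh
        rw [Set.mem_singleton_iff] at hh
        rw [hh]; exact h2
  have hdich : ∀ x : Q, (∀ a ∈ A, x * a = a * x → a = 1) ∨
      (∀ c ∈ commutator Q, x * c = c * x) := by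
    intro x
    obtain ⟨C, hCn, hC⟩ := hCA x
    by_cases hCb : C = ⊥
    · left
      intro a ha hxa
      have h1 : a ∈ C := (hC a).mpr ⟨ha, hxa⟩
      rw [hCb, Subgroup.mem_bot] at h1
      exact h1
    · right
      intro c hc
      exact ((hC c).mp (hQ C hCn hCb hc)).2
  -- an element not centralizing the commutator subgroup
  obtain ⟨y, c, hc, hyc⟩ : ∃ y c : Q, c ∈ commutator Q ∧ y * c ≠ c * y := by
    by_contra hcon
    push Not at hcon
    apply hnil
    intro c hc
    rw [Subgroup.mem_center_iff]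
    intro g
    exact hcon g c hc
  have hy : ∀ a ∈ A, y * a = a * y → a = 1 := by
    rcases hdich y with h | h
    · exact h
    · exact absurd (h c hc) hyc
  -- A = commutator Q
  have hinj : Function.Injective (fun a : A =>
      (⟨y * (a : Q) * y⁻¹ * (a : Q)⁻¹, comm_mem_commutator y a⟩ : commutator Q)) := by
    intro a b hab
    have h : y * (a : Q) * y⁻¹ * (a : Q)⁻¹ = y * (b : Q) * y⁻¹ * (b : Q)⁻¹ :=
      congrArg Subtype.val hab
    have h1 : y * ((b : Q)⁻¹ * (a : Q)) * y⁻¹ = (b : Q)⁻¹ * (a : Q) := by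
      have e1 : y * ((b : Q)⁻¹ * (a : Q)) * y⁻¹
          = (y * (b : Q) * y⁻¹)⁻¹ * (y * (a : Q) * y⁻¹ * (a : Q)⁻¹) * (a : Q) := by group
      rw [e1, h]; group
    have h2 : y * ((b : Q)⁻¹ * (a : Q)) = (b : Q)⁻¹ * (a : Q) * y := mul_inv_eq_iff_eq_mul.mp h1
    have h3 := hy _ (A.mul_mem (A.inv_mem b.2) a.2) h2
    apply Subtype.ext
    have h4 : (a : Q) = (b : Q) * ((b : Q)⁻¹ * (a : Q)) := by group
    rw [h4, h3, mul_one]
  have hcard : Nat.card A ≤ Nat.card (commutator Q) := Nat.card_le_card_of_injective _ hinj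
  have hAeq : commutator Q = A := Subgroup.eq_of_le_of_card_ge hQA hcard
  refine ⟨hAeq.symm, ?_⟩
  intro x hx a ha hxa
  by_contra ha1
  have hxc : ∀ b ∈ A, x * b = b * x := by
    rcases hdich x with h | h
    · exact absurd (h a ha hxa) ha1
    · intro b hb
      exact h b (hAeq ▸ hb)
  obtain ⟨C₁, hC₁⟩ : ∃ C₁ : Subgroup Q, C₁ = Subgroup.centralizer ((A : Set Q) ∪ {x}) := ⟨_, rfl⟩
  obtain ⟨B, hB⟩ : ∃ B : Subgroup Q, B = Subgroup.centralizer (C₁ : Set Q) ⊓ C₁ := ⟨_, rfl⟩
  have hmemC : ∀ u : Q, u ∈ C₁ ↔ (∀ b ∈ A, b * u = u * b) ∧ x * u = u * x := by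
    intro u
    rw [hC₁, Subgroup.mem_centralizer_iff]
    constructor
    · intro h
      exact ⟨fun b hb => h b (Or.inl hb), h x (Or.inr rfl)⟩
    · rintro ⟨h1, h2⟩ h hh
      rcases hh with hh | hh
      · exact h1 h hh
      · rw [Set.mem_singleton_iff] at hh
        rw [hh]; exact h2
  have hmemB : ∀ u : Q, u ∈ B ↔ (∀ v ∈ C₁, v * u = u * v) ∧ u ∈ C₁ := by
    intro u
    rw [hB, Subgroup.mem_inf, Subgroup.mem_centralizer_iff]
    rfl
  have hBab : ∀ u ∈ B, ∀ v ∈ B, u * v = v * u := by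
    intro u hu v hv
    exact (((hmemB u).mp hu).1 v ((hmemB v).mp hv).2).symm
  have hAB : A ≤ B := by
    intro b hb
    rw [hmemB]
    refine ⟨?_, ?_⟩
    · intro v hv
      exact (((hmemC v).mp hv).1 b hb).symm
    · rw [hmemC]
      exact ⟨fun b' hb' => hAab b' hb' b hb, hxc b hb⟩
  have hxB : x ∈ B := by
    rw [hmemB]
    refine ⟨?_, ?_⟩
    · intro v hv
      exact (((hmemC v).mp hv).2).symm
    · rw [hmemC]
      exact ⟨fun b hb => (hxc b hb).symm, rfl⟩
  have hBn : B.Normal := by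
    constructor
    intro b hb g
    have h1 : g * b * g⁻¹ = (g * b * g⁻¹ * b⁻¹) * b := by group
    rw [h1]
    exact B.mul_mem (hAB (hQA (comm_mem_commutator g b))) hb
  have hBA := hIto B hBn hBab hAB
  exact hx (hBA ▸ hxB)

/-- Surjectivity of the commutator map with a fixed-point-free element. -/
theorem frobenius_surj (A : Subgroup Q) (hAn : A.Normal)
    (hfp : ∀ x : Q, x ∉ A → ∀ a ∈ A, x * a = a * x → a = 1) (x : Q) (hx : x ∉ A) (b : Q)
    (hb : b ∈ A) : ∃ a ∈ A, b = x * a * x⁻¹ * a⁻¹ := by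
  have hinj : Function.Injective (fun a : A =>
      (⟨x * (a : Q) * x⁻¹ * (a : Q)⁻¹, A.mul_mem (hAn.conj_mem a a.2 x) (A.inv_mem a.2)⟩ : A)) := by
    intro a b hab
    have h : x * (a : Q) * x⁻¹ * (a : Q)⁻¹ = x * (b : Q) * x⁻¹ * (b : Q)⁻¹ :=
      congrArg Subtype.val hab
    have h1 : x * ((b : Q)⁻¹ * (a : Q)) * x⁻¹ = (b : Q)⁻¹ * (a : Q) := by
      have e1 : x * ((b : Q)⁻¹ * (a : Q)) * x⁻¹
          = (x * (b : Q) * x⁻¹)⁻¹ * (x * (a : Q) * x⁻¹ * (a : Q)⁻¹) * (a : Q) := by group
      rw [e1, h]; group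
    have h2 : x * ((b : Q)⁻¹ * (a : Q)) = (b : Q)⁻¹ * (a : Q) * x := mul_inv_eq_iff_eq_mul.mp h1
    have h3 := hfp x hx _ (A.mul_mem (A.inv_mem b.2) a.2) h2
    apply Subtype.ext
    have h4 : (a : Q) = (b : Q) * ((b : Q)⁻¹ * (a : Q)) := by group
    rw [h4, h3, mul_one]
  obtain ⟨a, ha⟩ := (Finite.injective_iff_surjective.mp hinj) ⟨b, hb⟩
  exact ⟨a, a.2, (congrArg Subtype.val ha).symm⟩

end Frob

end Cfsg.Agent.Lib.helper82
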