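import Mathlib
import Cfsg.Prelude.Def_Characters
import Cfsg.Prelude.Def_Blocks
import Cfsg.Agent.Lib.helper19.AbelianOver
import Cfsg.Agent.Lib.helper82.CliffordCorr
import Cfsg.Agent.Lib.helper82.Ramification
import Cfsg.Agent.Lib.helper82.Ito
import Cfsg.Agent.Lib.helper82.CharQuot
import Cfsg.Agent.Lib.helper82.ThreeDegC
import Cfsg.Agent.Lib.helper4.CliffordAb

/-!
# Three character degrees, part D (helper82): characters over a Frobenius-type section

`frob_step`: let `K ≤ N` be normal subgroups of `G` with `G / N` abelian, `N / K` abelian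
(characters of `N / K` separate points), and every element of `N` a commutator `[s, a]` modulo
`K` for each `s ∉ N`.  If `θ ∈ Irr(N)` has degree dividing a number `f` prime to `|N : K|`, then
some `θ κ` (`κ` a linear character of `N / K`) induces irreducibly to `G`.
-/

set_option autoImplicit false
set_option linter.style.haveILetI false
set_option linter.unusedSectionVars false

namespace Cfsg.Agent.Lib.helper82

open Module Cfsg
open Cfsg.Agent.Lib
open scoped ComplexConjugate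

universe u

section Dual

variable {G : Type*} [Group G] (N : Subgroup G) [hN : N.Normal]

/-- The conjugate of a linear character of the normal subgroup `N`. -/
def dconj (g : G) (κ : N →* ℂˣ) : N →* ℂˣ :=
  κ.comp (MulAut.conjNormal g⁻¹ : N ≃* N).toMonoidHom

theorem dconj_apply (g : G) (κ : N →* ℂˣ) (b : N) :
    dconj N g κ b = κ (MulAut.conjNormal g⁻¹ b) := rfl

theorem dconj_mul (g : G) (κ μ : N →* ℂˣ) :
    dconj N g (κ * μ) = dconj N g κ * dconj N g μ := rfl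

theorem dconj_inv (g : G) (κ : N →* ℂˣ) : dconj N g κ⁻¹ = (dconj N g κ)⁻¹ := rfl

theorem comm_swap {D : Type*} [CommGroup D] {a b c d : D} (h : a * b⁻¹ = c * d⁻¹) :
    a * c⁻¹ = b * d⁻¹ := by
  have h1 : a = c * d⁻¹ * b := by rw [← h, inv_mul_cancel_right]
  rw [h1, mul_comm (c * d⁻¹) b, mul_assoc, mul_assoc, mul_comm d⁻¹ c⁻¹, ← mul_assoc c,
    mul_inv_cancel, one_mul]

theorem dconj_fix_eq_one (K : Subgroup G) (hKN : K ≤ N)
    (hfrob : ∀ s : G, s ∉ N → ∀ b ∈ N, ∃ a ∈ N, ∃ k ∈ K, b = s * a * s⁻¹ * a⁻¹ * k)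
    (s : G) (hs : s ∉ N) (κ : N →* ℂˣ) (hκ : ∀ b : N, (b : G) ∈ K → κ b = 1)
    (hfix : dconj N s κ = κ) : κ = 1 := by
  refine MonoidHom.ext fun b => ?_
  have hs' : s⁻¹ ∉ N := fun h => hs (by simpa using N.inv_mem h)
  obtain ⟨a, ha, k, hk, hb⟩ := hfrob s⁻¹ hs' b b.2
  have hb' : b = MulAut.conjNormal s⁻¹ (⟨a, ha⟩ : N) * (⟨a, ha⟩ : N)⁻¹ * ⟨k, hKN hk⟩ := by
    apply Subtype.ext
    rw [hb]
    simp [MulAut.conjNormal_apply]
  have h1 : κ (MulAut.conjNormal s⁻¹ (⟨a, ha⟩ : N)) = κ ⟨a, ha⟩ :=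
    DFunLike.congr_fun hfix (⟨a, ha⟩ : N)
  have h2 : κ b = κ (MulAut.conjNormal s⁻¹ (⟨a, ha⟩ : N)) * (κ ⟨a, ha⟩)⁻¹ * κ ⟨k, hKN hk⟩ := by
    conv_lhs => rw [hb']
    rw [κ.map_mul, κ.map_mul, κ.map_inv]
  rw [MonoidHom.one_apply, h2, h1, mul_inv_cancel, one_mul, hκ _ hk]

end Dual

section Step

variable {G : Type*} [Group G] [Fintype G] (N K : Subgroup G) [hN : N.Normal] [hK : K.Normal]

theorem stab_of_twist [Fintype N] (hKN : K ≤ N)
    (hfrob : ∀ s : G, s ∉ N → ∀ b ∈ N, ∃ a ∈ N, ∃ k ∈ K, b = s * a * s⁻¹ * a⁻¹ * k)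
    (θ : N → ℂ) (s : G) (hs : s ∉ N) (hsθ : cconj N s θ = θ)
    (μ : N →* ℂˣ) (hμK : ∀ b : N, (b : G) ∈ K → μ b = 1)
    (hμ : ∀ b : N, θ b ≠ 0 → μ (MulAut.conjNormal s⁻¹ b) = μ b) :
    ∀ b : N, θ b ≠ 0 → μ b = 1 := by
  classical
  obtain ⟨P, hPdef⟩ : ∃ P : (N →* ℂˣ) → Prop, P = fun ν =>
      (∀ b : N, (b : G) ∈ K → ν b = 1) ∧ ∀ b : N, θ b ≠ 0 → ν b = 1 := ⟨_, rfl⟩
  have hPiff : ∀ ν : N →* ℂˣ, P ν ↔
      ((∀ b : N, (b : G) ∈ K → ν b = 1) ∧ ∀ b : N, θ b ≠ 0 → ν b = 1) := by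
    intro ν; rw [hPdef]
  have hθs : ∀ b : N, θ (MulAut.conjNormal s⁻¹ b) = θ b := fun b => congrFun hsθ b
  have hKconj : ∀ b : N, (b : G) ∈ K → ((MulAut.conjNormal s⁻¹ b : N) : G) ∈ K := by
    intro b hb
    rw [MulAut.conjNormal_apply]
    exact hK.conj_mem b hb s⁻¹
  have hP : ∀ ν : N →* ℂˣ, P ν → P (dconj N s ν * ν⁻¹) := by
    intro ν hν
    obtain ⟨h1, h2⟩ := (hPiff ν).mp hν
    rw [hPiff]
    refine ⟨?_, ?_⟩
    · intro b hb
      rw [MonoidHom.mul_apply, MonoidHom.inv_apply, dconj_apply, h1 b hb, h1 _ (hKconj b hb)]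
      simp
    · intro b hb
      have hb' : θ (MulAut.conjNormal s⁻¹ b) ≠ 0 := by rw [hθs b]; exact hb
      rw [MonoidHom.mul_apply, MonoidHom.inv_apply, dconj_apply, h2 b hb, h2 _ hb']
      simp
  have hfixone : ∀ ν ν' : N →* ℂˣ, (∀ b : N, (b : G) ∈ K → ν b = 1) →
      (∀ b : N, (b : G) ∈ K → ν' b = 1) →
      dconj N s ν * ν⁻¹ = dconj N s ν' * ν'⁻¹ → ν = ν' := by
    intro ν ν' hνK hν'K h1
    have h2 : dconj N s (ν * ν'⁻¹) = ν * ν'⁻¹ := by
      rw [dconj_mul, dconj_inv]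
      exact comm_swap (D := N →* ℂˣ) h1
    have h3 : ν * ν'⁻¹ = 1 := by
      apply dconj_fix_eq_one N K hKN hfrob s hs _ _ h2
      intro b hb
      rw [MonoidHom.mul_apply, MonoidHom.inv_apply, hνK b hb, hν'K b hb]
      simp
    exact mul_inv_eq_one.mp h3
  obtain ⟨φ, hφ⟩ : ∃ φ : {ν : N →* ℂˣ // P ν} → {ν : N →* ℂˣ // P ν},
      ∀ ν, (φ ν).1 = dconj N s ν.1 * ν.1⁻¹ :=
    ⟨fun ν => ⟨dconj N s ν.1 * ν.1⁻¹, hP ν.1 ν.2⟩, fun ν => rfl⟩
  have hPK : ∀ ν : {ν : N →* ℂˣ // P ν}, ∀ b : N, (b : G) ∈ K → ν.1 b = 1 := by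
    intro ν
    exact ((hPiff ν.1).mp ν.2).1
  have hinj : Function.Injective φ := by
    intro ν ν' h
    have h1 : dconj N s ν.1 * ν.1⁻¹ = dconj N s ν'.1 * ν'.1⁻¹ := by
      rw [← hφ ν, ← hφ ν', h]
    exact Subtype.ext (hfixone ν.1 ν'.1 (hPK ν) (hPK ν') h1)
  have hsurj := Finite.injective_iff_surjective.mp hinj
  have hPμ : P (dconj N s μ * μ⁻¹) := by
    rw [hPiff]
    refine ⟨?_, ?_⟩
    · intro b hb
      rw [MonoidHom.mul_apply, MonoidHom.inv_apply, dconj_apply, hμK b hb, hμK _ (hKconj b hb)]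
      simp
    · intro b hb
      rw [MonoidHom.mul_apply, MonoidHom.inv_apply, dconj_apply, hμ b hb]
      simp
  obtain ⟨ν, hν⟩ := hsurj ⟨dconj N s μ * μ⁻¹, hPμ⟩
  have h1 : dconj N s ν.1 * ν.1⁻¹ = dconj N s μ * μ⁻¹ := by
    rw [← hφ ν, hν]
  have h2 : ν.1 = μ := hfixone ν.1 μ (hPK ν) hμK h1
  have h3 := (hPiff ν.1).mp ν.2
  rw [h2] at h3
  exact h3.2

/-- The key step (Isaacs 12.4 in the situation of an abelian Frobenius complement). -/
theorem frob_step [Fintype N] (hKN : K ≤ N) (hne : K ≠ N) (hGN : commutator G ≤ N)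
    (hfrob : ∀ s : G, s ∉ N → ∀ b ∈ N, ∃ a ∈ N, ∃ k ∈ K, b = s * a * s⁻¹ * a⁻¹ * k)
    (hsep : ∀ a : N, (a : G) ∉ K →
      ∃ κ : N →* ℂˣ, (∀ b : N, (b : G) ∈ K → κ b = 1) ∧ κ a ≠ 1)
    (f : ℕ) (hcop : Nat.Coprime (K.relIndex N) f)
    (θ : N → ℂ) (hθ : IsIrrCharacter N θ) (d : ℕ) (hd : θ 1 = d) (hdf : d ∣ f)
    (hred : ∀ κ : N →* ℂˣ, (∀ b : N, (b : G) ∈ K → κ b = 1) →
      ¬ IsIrrCharacter G (indFun N (θ * fun a : N => ((κ a : ℂˣ) : ℂ)))) : False := by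
  classical
  have hθcf := helper4.isClassFunction_of_isIrrCharacter hθ
  have hex : ∀ κ : N →* ℂˣ, (∀ b : N, (b : G) ∈ K → κ b = 1) →
      ∃ t : G, t ∉ N ∧ cconj N t (θ * fun a : N => ((κ a : ℂˣ) : ℂ))
        = θ * fun a : N => ((κ a : ℂˣ) : ℂ) := by
    intro κ hκ
    by_contra hcon
    push Not at hcon
    have hirr : IsIrrCharacter N (θ * fun a : N => ((κ a : ℂˣ) : ℂ)) :=
      helper19.isIrr_mul_linear θ _ hθ (isIrrCharacter_of_hom κ) (by simp)
    have hT : N = inertia N (θ * fun a : N => ((κ a : ℂˣ) : ℂ)) := by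
      apply le_antisymm
      · exact le_inertia N (helper4.isClassFunction_of_isIrrCharacter hirr)
      · intro t ht
        by_contra htN
        exact hcon t htN ht
    have h2 : classInner (θ * fun a : N => ((κ a : ℂˣ) : ℂ))
        (θ * fun a : N => ((κ a : ℂˣ) : ℂ)) = 1 := helper4.classInner_irr_self hirr
    refine hred κ hκ (clifford_corr_irr N N le_rfl hirr hT hirr ?_).1
    intro h3
    have h4 : classInner (θ * fun a : N => ((κ a : ℂˣ) : ℂ))
        (θ * fun a : N => ((κ a : ℂˣ) : ℂ)) = 0 := h3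
    rw [h2] at h4
    exact one_ne_zero h4
  obtain ⟨s, hsN, hsθ'⟩ := hex 1 (fun b _ => rfl)
  have hsθ : cconj N s θ = θ := by
    have h1 : (θ * fun a : N => (((1 : N →* ℂˣ) a : ℂˣ) : ℂ)) = θ := by
      funext a; simp
    rwa [h1] at hsθ'
  have hvan : ∀ a : N, θ a ≠ 0 → (a : G) ∈ K := by
    intro a ha
    by_contra haK
    obtain ⟨κ, hκK, hκa⟩ := hsep a haK
    obtain ⟨t, htN, htθ⟩ := hex κ hκK
    have h1 : ∀ b : N, θ (MulAut.conjNormal t⁻¹ b) * ((κ (MulAut.conjNormal t⁻¹ b) : ℂˣ) : ℂ)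
        = θ b * ((κ b : ℂˣ) : ℂ) := fun b => congrFun htθ b
    have h2 : ∀ b : N, θ (MulAut.conjNormal s⁻¹ b) = θ b := fun b => congrFun hsθ b
    have hA : cconj N s (cconj N t θ) = cconj N t θ := by
      have hc : s⁻¹ * t⁻¹ * s * t ∈ N := by
        apply hGN
        have h3 := comm_mem_commutator s⁻¹ t⁻¹
        simpa using h3
      have e : s * t = t * s * (s⁻¹ * t⁻¹ * s * t) := by group
      rw [← cconj_mul, e, cconj_mul, cconj_mul, cconj_of_mem N hθcf hc, hsθ]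
    have hA' : ∀ b : N, θ (MulAut.conjNormal t⁻¹ (MulAut.conjNormal s⁻¹ b))
        = θ (MulAut.conjNormal t⁻¹ b) := fun b => congrFun hA b
    obtain ⟨κ', hκ'⟩ : ∃ κ' : N →* ℂˣ, κ' = κ * (dconj N t κ)⁻¹ := ⟨_, rfl⟩
    have hκ'val : ∀ b : N, κ' b = κ b * (κ (MulAut.conjNormal t⁻¹ b))⁻¹ := by
      intro b; rw [hκ']; rfl
    have hκ'K : ∀ b : N, (b : G) ∈ K → κ' b = 1 := by
      intro b hb
      have hb' : ((MulAut.conjNormal t⁻¹ b : N) : G) ∈ K := by
        rw [MulAut.conjNormal_apply]; exact hK.conj_mem b hb t⁻¹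
      rw [hκ'val, hκK b hb, hκK _ hb']; simp
    have h3 : ∀ b : N, θ (MulAut.conjNormal t⁻¹ b) = θ b * ((κ' b : ℂˣ) : ℂ) := by
      intro b
      rw [hκ'val, Units.val_mul, ← mul_assoc, ← h1 b, mul_assoc, ← Units.val_mul, mul_inv_cancel,
        Units.val_one, mul_one]
    have hB : ∀ b : N, θ b ≠ 0 → κ' (MulAut.conjNormal s⁻¹ b) = κ' b := by
      intro b hb
      have h4 := hA' b
      rw [h3 (MulAut.conjNormal s⁻¹ b), h3 b, h2 b] at h4
      exact Units.ext (mul_left_cancel₀ hb h4)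
    have hκ'S := stab_of_twist N K hKN hfrob θ s hsN hsθ κ' hκ'K hB
    have htθ' : cconj N t θ = θ := by
      funext b
      show θ (MulAut.conjNormal t⁻¹ b) = θ b
      rw [h3 b]
      by_cases hb : θ b = 0
      · rw [hb, zero_mul]
      · rw [hκ'S b hb, Units.val_one, mul_one]
    have hC : ∀ b : N, θ b ≠ 0 → κ (MulAut.conjNormal t⁻¹ b) = κ b := by
      intro b hb
      have h4 := h1 b
      rw [show θ (MulAut.conjNormal t⁻¹ b) = θ b from congrFun htθ' b] at h4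
      exact Units.ext (mul_left_cancel₀ hb h4)
    have hκS := stab_of_twist N K hKN hfrob θ t htN htθ' κ hκK hC
    exact hκa (hκS a ha)
  -- the norm of the restriction to `K`
  haveI : Fintype (K.subgroupOf N) := Fintype.ofFinite _
  obtain ⟨ϑ, hϑ, e, he, he0⟩ := exists_constituent_restrict (K.subgroupOf N) hθ
  have hcon : classInner (fun k : K.subgroupOf N => θ k) ϑ ≠ 0 := by
    rw [he]; exact_mod_cast he0
  obtain ⟨k, hk1, hk2⟩ := degree_quot_dvd_index (K.subgroupOf N) hθ hϑ hcon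
  obtain ⟨d', hd'0, hd'⟩ := helper4.exists_pos_nat_degree hϑ
  have hk : k = 1 := by
    rw [hd, hd'] at hk2
    have hk3 : d = k * d' := by exact_mod_cast hk2
    have hkf : k ∣ f := dvd_trans (Dvd.intro _ hk3.symm) hdf
    have hkr : k ∣ K.relIndex N := hk1
    exact (Nat.Coprime.coprime_dvd_left hkr hcop).eq_one_of_dvd hkf
  have hdeg : (fun k : K.subgroupOf N => θ k) 1 = ϑ 1 := by
    show θ ((1 : K.subgroupOf N) : N) = ϑ 1
    rw [Subgroup.coe_one, hk2, hk]; simp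
  have heq := helper4.eq_of_isCharacter_of_classInner_ne_zero_of_degree_eq
    (helper4.isCharacter_restrict (K.subgroupOf N) (helper4.isCharacter_of_isIrrCharacter hθ))
    hϑ hcon hdeg
  have hnorm1 : classInner (fun k : K.subgroupOf N => θ k) (fun k : K.subgroupOf N => θ k)
      = 1 := by
    rw [heq]; exact helper4.classInner_irr_self hϑ
  have hnorm2 : classInner (fun k : K.subgroupOf N => θ k) (fun k : K.subgroupOf N => θ k)
      = ((K.subgroupOf N).index : ℂ) := by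
    have h1 := helper4.classInner_irr_self hθ
    unfold classInner at h1 ⊢
    have hsum : ∑ k : K.subgroupOf N, θ k * conj (θ k) = ∑ b : N, θ b * conj (θ b) := by
      rw [← Finset.sum_subtype (Finset.univ.filter (fun b : N => b ∈ K.subgroupOf N))
        (by intro x; simp) (fun b : N => θ b * conj (θ b))]
      apply Finset.sum_filter_of_ne
      intro b _ hb
      rw [Subgroup.mem_subgroupOf]
      apply hvan b
      intro h0; apply hb; rw [h0, zero_mul]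
    rw [hsum]
    have hcN : (Nat.card N : ℂ) ≠ 0 := by exact_mod_cast (Nat.card_pos (α := N)).ne'
    have hcK : (Nat.card (K.subgroupOf N) : ℂ) ≠ 0 := by
      exact_mod_cast (Nat.card_pos (α := K.subgroupOf N)).ne'
    have h2 : ∑ b : N, θ b * conj (θ b) = (Nat.card N : ℂ) := by
      have h3 := (inv_mul_eq_iff_eq_mul₀ hcN).mp h1
      rw [h3, mul_one]
    rw [h2, ← Subgroup.card_mul_index (K.subgroupOf N)]
    push_cast
    field_simp
  rw [hnorm1] at hnorm2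
  have hidx : (K.subgroupOf N).index = 1 := by exact_mod_cast hnorm2.symm
  have htop : K.subgroupOf N = ⊤ := Subgroup.index_eq_one.mp hidx
  rw [Subgroup.subgroupOf_eq_top] at htop
  exact hne (le_antisymm hKN htop)

end Step

end Cfsg.Agent.Lib.helper82
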