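import Mathlib
import Cfsg.Prelude.Def_Characters
import Cfsg.Prelude.Def_Blocks
import Cfsg.Agent.Lib.helper82.ThreeDegA
import Cfsg.Agent.Lib.helper82.ThreeDegB
import Cfsg.Agent.Lib.helper82.ThreeDegC
import Cfsg.Agent.Lib.helper82.ThreeDegD
import Cfsg.Agent.Lib.helper19.TwoDegC
import Cfsg.Agent.Lib.helper19.Gallagher

/-!
# Three character degrees, part E (helper82): the coprime case

`three_deg_coprime`: a finite group whose irreducible character degrees are `1`, `m`, `n` with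
`1 < m < n` coprime (both occurring) has derived length at most `3`.
-/

set_option autoImplicit false
set_option linter.style.haveILetI false
set_option linter.unusedSectionVars false

namespace Cfsg.Agent.Lib.helper82

open Module Cfsg
open Cfsg.Agent.Lib
open scoped ComplexConjugate
open scoped commutatorElement

universe u

section Count

theorem card_eq_of_two_deg {Q : Type*} [Group Q] [Finite Q] (f : ℕ)
    (hcd : ∀ χ : Q → ℂ, IsIrrCharacter Q χ → χ 1 = 1 ∨ χ 1 = (f : ℂ))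
    (β : Q → ℂ) (hβ : IsIrrCharacter Q β) (hβ1 : β 1 ≠ 1) :
    ∃ c : ℕ, 0 < c ∧ Nat.card Q = (commutator Q).index + c * f ^ 2 := by
  classical
  haveI : Fintype Q := Fintype.ofFinite Q
  haveI : Fintype (IrrCharacter Q) := Fintype.ofFinite _
  have hsq := helper4.sum_irr_degree_sq (G := Q)
  rw [← Finset.sum_filter_add_sum_filter_not Finset.univ
    (fun χ : IrrCharacter Q => (χ : Q → ℂ) 1 = 1)] at hsq
  have h4 : ∀ χ ∈ Finset.univ.filter (fun χ : IrrCharacter Q => (χ : Q → ℂ) 1 = 1),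
      (χ : Q → ℂ) 1 ^ 2 = 1 := by
    intro χ hχ; rw [(Finset.mem_filter.mp hχ).2, one_pow]
  have h5 : ∀ χ ∈ Finset.univ.filter (fun χ : IrrCharacter Q => ¬ (χ : Q → ℂ) 1 = 1),
      (χ : Q → ℂ) 1 ^ 2 = (f : ℂ) ^ 2 := by
    intro χ hχ
    rcases hcd χ.1 χ.2 with h | h
    · exact absurd h (Finset.mem_filter.mp hχ).2
    · rw [h]
  rw [Finset.sum_congr rfl h4, Finset.sum_congr rfl h5, Finset.sum_const, Finset.sum_const,
    nsmul_eq_mul, nsmul_eq_mul, mul_one] at hsq
  have hL : (Finset.univ.filter (fun χ : IrrCharacter Q => (χ : Q → ℂ) 1 = 1)).card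
      = (commutator Q).index := by
    rw [← card_linear_irr (G := Q), Nat.card_eq_fintype_card, Fintype.card_subtype]
  refine ⟨(Finset.univ.filter (fun χ : IrrCharacter Q => ¬ (χ : Q → ℂ) 1 = 1)).card, ?_, ?_⟩
  · apply Finset.card_pos.mpr
    exact ⟨⟨β, hβ⟩, Finset.mem_filter.mpr ⟨Finset.mem_univ _, hβ1⟩⟩
  · rw [hL] at hsq
    exact_mod_cast hsq.symm

theorem coprime_card_of_two_deg {Q : Type*} [Group Q] [Finite Q] (f : ℕ)
    (hcd : ∀ χ : Q → ℂ, IsIrrCharacter Q χ → χ 1 = 1 ∨ χ 1 = (f : ℂ))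
    (β : Q → ℂ) (hβ : IsIrrCharacter Q β) (hβ1 : β 1 ≠ 1)
    (A : Subgroup Q) (hA : A = commutator Q) (hidx : A.index = f) :
    Nat.Coprime (Nat.card A) f := by
  obtain ⟨c, -, hc⟩ := card_eq_of_two_deg f hcd β hβ hβ1
  have hcm := Subgroup.card_mul_index A
  rw [hidx] at hcm
  rw [← hA, hidx] at hc
  have hf0 : 0 < f := by
    rw [← hidx]; exact Nat.pos_of_ne_zero Subgroup.index_ne_zero_of_finite
  have h1 : Nat.card A = 1 + c * f := by
    have h2 : Nat.card A * f = (1 + c * f) * f := by rw [hcm, hc]; ring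
    exact Nat.eq_of_mul_eq_mul_right hf0 h2
  rw [h1]
  exact (Nat.coprime_add_mul_right_left 1 f c).mpr (Nat.coprime_one_left f)

end Count

section Core

variable {G : Type u} [Group G] [Fintype G]

/-- A nonabelian `p`-group quotient is incompatible with two coprime nonlinear degrees. -/
theorem pgroup_quot_false (K : Subgroup G) [K.Normal] (p : ℕ)
    (hp : p.Prime) (hpg : IsPGroup p (G ⧸ K)) (f f' : ℕ) (hf : 1 < f) (hf' : 1 < f')
    (hcop : Nat.Coprime f f')
    (hcd : ∀ χ : G → ℂ, IsIrrCharacter G χ → χ 1 = 1 ∨ χ 1 = (f : ℂ) ∨ χ 1 = (f' : ℂ))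
    (β : G ⧸ K → ℂ) (hβ : IsIrrCharacter (G ⧸ K) β) (hβf : β 1 = (f : ℂ))
    (χ : G → ℂ) (hχ : IsIrrCharacter G χ) (hχf' : χ 1 = (f' : ℂ)) : False := by
  classical
  haveI : Fintype K := Fintype.ofFinite K
  haveI : Fintype (G ⧸ K) := Fintype.ofFinite _
  haveI : Fact p.Prime := ⟨hp⟩
  obtain ⟨k, hk⟩ := IsPGroup.iff_card.mp hpg
  have hfd : f ∣ p ^ k := by
    rw [← hk]
    have h1 := irr_degree_dvd_card (⟨β, hβ⟩ : IrrCharacter (G ⧸ K))
    have h2 : charDegree β = f := charDegree_of_one_eq hβ hβf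
    have h3 : charDegree β ∣ Nat.card (G ⧸ K) := h1
    rwa [h2] at h3
  obtain ⟨j, -, hj⟩ := (Nat.dvd_prime_pow hp).mp hfd
  have hj0 : j ≠ 0 := by
    intro h; rw [h, pow_zero] at hj; omega
  have hpf : p ∣ f := by rw [hj]; exact dvd_pow_self p hj0
  have hpf' : ¬ p ∣ f' := by
    intro h
    have h1 : p = 1 := (Nat.Coprime.coprime_dvd_left hpf hcop).eq_one_of_dvd h
    exact hp.one_lt.ne' h1
  obtain ⟨ϑ, hϑ, e, he, he0⟩ := exists_constituent_restrict K hχ
  have hcon : classInner (fun x : K => χ x) ϑ ≠ 0 := by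
    rw [he]; exact_mod_cast he0
  obtain ⟨c, hc1, hc2⟩ := degree_quot_dvd_index K hχ hϑ hcon
  obtain ⟨d', hd'0, hd'⟩ := helper4.exists_pos_nat_degree hϑ
  have hKidx : K.index = p ^ k := by rw [Subgroup.index_eq_card]; exact hk
  have hc : c = 1 := by
    rw [hχf', hd'] at hc2
    have hc3 : f' = c * d' := by exact_mod_cast hc2
    rw [hKidx] at hc1
    obtain ⟨i, -, hi⟩ := (Nat.dvd_prime_pow hp).mp hc1
    rcases Nat.eq_zero_or_pos i with h0 | h0
    · rw [hi, h0, pow_zero]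
    · exfalso; apply hpf'
      rw [hc3, hi]
      exact dvd_mul_of_dvd_left (dvd_pow_self p h0.ne') _
  have hdeg : (fun x : K => χ x) 1 = ϑ 1 := by
    show χ ((1 : K) : G) = ϑ 1
    rw [Subgroup.coe_one, hc2, hc]; simp
  have hres := helper4.eq_of_isCharacter_of_classInner_ne_zero_of_degree_eq
    (helper4.isCharacter_restrict K (helper4.isCharacter_of_isIrrCharacter hχ)) hϑ hcon hdeg
  have hχK : IsIrrCharacter K (fun x : K => χ x) := by rw [hres]; exact hϑ
  have hβinf := isIrrCharacter_inflation K hβ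
  have hβK : ∀ x ∈ K, (fun g : G => β (g : G ⧸ K)) x = (fun g : G => β (g : G ⧸ K)) 1 := by
    intro x hx
    show β (x : G ⧸ K) = β ((1 : G) : G ⧸ K)
    rw [(QuotientGroup.eq_one_iff x).mpr hx, QuotientGroup.mk_one]
  have hprod := helper19.isIrr_mul_of_trivial K χ hχ hχK _ hβinf hβK
  have hval : (χ * fun g : G => β (g : G ⧸ K)) 1 = ((f' * f : ℕ) : ℂ) := by
    show χ 1 * β ((1 : G) : G ⧸ K) = _
    rw [QuotientGroup.mk_one, hχf', hβf]; push_cast; ring
  rcases hcd _ hprod with h | h | h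
  · rw [hval] at h
    have h1 : f' * f = 1 := by exact_mod_cast h
    nlinarith
  · rw [hval] at h
    have h1 : f' * f = f := by exact_mod_cast h
    nlinarith
  · rw [hval] at h
    have h1 : f' * f = f' := by exact_mod_cast h
    nlinarith

theorem three_deg_core (K : Subgroup G) [hKn : K.Normal]
    (f f' : ℕ) (hf : 1 < f) (hf' : 1 < f') (hcop : Nat.Coprime f f')
    (hcd : ∀ χ : G → ℂ, IsIrrCharacter G χ → χ 1 = 1 ∨ χ 1 = (f : ℂ) ∨ χ 1 = (f' : ℂ))
    (hQ : ∀ L : Subgroup (G ⧸ K), L.Normal → L ≠ ⊥ → commutator (G ⧸ K) ≤ L)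
    (hQne : commutator (G ⧸ K) ≠ ⊥)
    (hcdQ : ∀ χ : G ⧸ K → ℂ, IsIrrCharacter (G ⧸ K) χ → χ 1 = 1 ∨ χ 1 = (f : ℂ))
    (β : G ⧸ K → ℂ) (hβ : IsIrrCharacter (G ⧸ K) β) (hβf : β 1 = (f : ℂ))
    (χ' : G → ℂ) (hχ' : IsIrrCharacter G χ') (hχ'f : χ' 1 = (f' : ℂ)) :
    derivedSeries G 3 = ⊥ := by
  classical
  haveI : Fintype (G ⧸ K) := Fintype.ofFinite _
  have hβ1 : β 1 ≠ 1 := by
    rw [hβf]; exact_mod_cast (by omega : f ≠ 1)
  have hPG : ∀ p : ℕ, p.Prime → IsPGroup p (G ⧸ K) → False := fun p hp hpg =>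
    pgroup_quot_false K p hp hpg f f' hf hf' hcop hcd β hβ hβf χ' hχ' hχ'f
  have hcdQ' : ∀ χ : IrrCharacter (G ⧸ K),
      charDegree (χ : G ⧸ K → ℂ) = 1 ∨ charDegree (χ : G ⧸ K → ℂ) = f := by
    intro χ
    rcases hcdQ χ.1 χ.2 with h | h
    · left; exact charDegree_of_one_eq χ.2 (by rw [h]; simp)
    · right; exact charDegree_of_one_eq χ.2 h
  have hexQ' : ∃ χ : IrrCharacter (G ⧸ K), charDegree (χ : G ⧸ K → ℂ) = f :=
    ⟨⟨β, hβ⟩, charDegree_of_one_eq hβ hβf⟩
  rcases helper19.two_deg_structure f hcdQ' hexQ' (by omega) with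
    ⟨A, hAn, hAab, hAidx⟩ | ⟨p, e, hp, -, P, A, hPn, hAn, hPp, hAab, hPA, hPAtop⟩
  swap
  · exfalso
    have hPne : P ≠ ⊥ := by
      intro hP
      rw [hP, bot_sup_eq] at hPAtop
      apply hQne
      rw [eq_bot_iff, commutator_def, Subgroup.commutator_le]
      intro a _ b _
      rw [Subgroup.mem_bot, commutatorElement_eq_one_iff_mul_comm]
      exact hAab a (hPAtop ▸ Subgroup.mem_top a) b (hPAtop ▸ Subgroup.mem_top b)
    have hcP := hQ P hPn hPne
    have hA : A = ⊥ := by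
      by_contra hA
      have hcA := hQ A hAn hA
      apply hQne
      rw [eq_bot_iff, ← hPA]
      exact le_inf hcP hcA
    rw [hA, sup_bot_eq] at hPAtop
    apply hPG p hp
    intro g
    obtain ⟨k, hk⟩ := hPp ⟨g, hPAtop ▸ Subgroup.mem_top g⟩
    refine ⟨k, ?_⟩
    have h1 := congrArg Subtype.val hk
    simpa using h1
  haveI := hAn
  have hAne : A ≠ ⊥ := by
    intro hA
    rw [hA, Subgroup.index_bot] at hAidx
    obtain ⟨c, hc0, hc⟩ := card_eq_of_two_deg f hcdQ β hβ hβ1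
    rw [hAidx] at hc
    have h1 : f * f ≤ c * f ^ 2 := by nlinarith
    have h2 : 2 * f ≤ f * f := by nlinarith
    linarith
  have hQA : commutator (G ⧸ K) ≤ A := hQ A hAn hAne
  have hIto : ∀ B : Subgroup (G ⧸ K), B.Normal → (∀ a ∈ B, ∀ b ∈ B, a * b = b * a) →
      A ≤ B → B = A := by
    intro B hBn hBab hAB
    haveI := hBn
    obtain ⟨d, hd1, hd2⟩ := ito_char B hBab hβ
    rw [hβf] at hd1
    have hdf : d = f := by exact_mod_cast hd1.symm
    rw [hdf] at hd2
    have h1 : B.index ∣ A.index := Subgroup.index_dvd_of_le hAB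
    rw [hAidx] at h1
    have h2 : B.index = f := Nat.dvd_antisymm h1 hd2
    have h3 := Subgroup.card_mul_index A
    have h4 := Subgroup.card_mul_index B
    rw [hAidx] at h3
    rw [h2] at h4
    have h5 : Nat.card B = Nat.card A :=
      Nat.eq_of_mul_eq_mul_right (by omega) (h4.trans h3.symm)
    exact (Subgroup.eq_of_le_of_card_ge hAB h5.le).symm
  have hnil : ¬ commutator (G ⧸ K) ≤ Subgroup.center (G ⧸ K) := by
    intro h
    obtain ⟨p, hp, hpg⟩ := isPGroup_of_commutator_le_center hQ hQne h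
    exact hPG p hp hpg
  obtain ⟨hAeq, hfp⟩ := frobenius_of_max hQ A hAn hAab hAne hIto hnil
  have hcopA : Nat.Coprime (Nat.card A) f :=
    coprime_card_of_two_deg f hcdQ β hβ hβ1 A hAeq hAidx
  -- the subgroup N
  obtain ⟨N, hNdef⟩ : ∃ N : Subgroup G, N = A.comap (QuotientGroup.mk' K) := ⟨_, rfl⟩
  have hmemN : ∀ g : G, g ∈ N ↔ (g : G ⧸ K) ∈ A := by
    intro g; rw [hNdef]; rfl
  haveI hNn : N.Normal := by rw [hNdef]; exact hAn.comap _
  haveI : Fintype N := Fintype.ofFinite N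
  have hKN : K ≤ N := by
    intro x hx
    rw [hmemN, (QuotientGroup.eq_one_iff x).mpr hx]
    exact A.one_mem
  have hGN : commutator G ≤ N := by
    rw [commutator_def, Subgroup.commutator_le]
    intro a _ b _
    rw [hmemN]
    apply hQA
    have h1 : ((⁅a, b⁆ : G) : G ⧸ K) = ⁅(a : G ⧸ K), (b : G ⧸ K)⁆ := rfl
    rw [h1, commutator_def]
    exact Subgroup.commutator_mem_commutator (Subgroup.mem_top _) (Subgroup.mem_top _)
  have hNidx : N.index = f := by
    rw [hNdef, Subgroup.index_comap_of_surjective A (QuotientGroup.mk'_surjective K), hAidx]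
  have hKneN : K ≠ N := by
    intro hEq
    apply hAne
    rw [eq_bot_iff]
    intro a ha
    obtain ⟨g, rfl⟩ := QuotientGroup.mk_surjective a
    have hg : g ∈ N := (hmemN g).mpr ha
    rw [← hEq] at hg
    rw [Subgroup.mem_bot]
    exact (QuotientGroup.eq_one_iff g).mpr hg
  have hrel : K.relIndex N = Nat.card A := by
    have h1 := Subgroup.relIndex_mul_index hKN
    have h2 := Subgroup.card_mul_index A
    rw [hNidx] at h1
    rw [hAidx] at h2
    have h3 : K.index = Nat.card (G ⧸ K) := Subgroup.index_eq_card K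
    exact Nat.eq_of_mul_eq_mul_right (by omega : 0 < f) (by rw [h1, h2, h3])
  have hfrob : ∀ s : G, s ∉ N → ∀ b ∈ N, ∃ a ∈ N, ∃ k ∈ K, b = s * a * s⁻¹ * a⁻¹ * k := by
    intro s hs b hb
    have hs' : (s : G ⧸ K) ∉ A := fun h => hs ((hmemN s).mpr h)
    obtain ⟨ā, hā, hbā⟩ :=
      frobenius_surj A hAn hfp (s : G ⧸ K) hs' (b : G ⧸ K) ((hmemN b).mp hb)
    obtain ⟨a, rfl⟩ := QuotientGroup.mk_surjective ā
    refine ⟨a, (hmemN a).mpr hā, (s * a * s⁻¹ * a⁻¹)⁻¹ * b, ?_, by group⟩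
    rw [← QuotientGroup.eq, hbā]
    rfl
  have hsep : ∀ a : N, (a : G) ∉ K →
      ∃ κ : N →* ℂˣ, (∀ b : N, (b : G) ∈ K → κ b = 1) ∧ κ a ≠ 1 := by
    intro a ha
    have hne : (⟨((a : G) : G ⧸ K), (hmemN a).mp a.2⟩ : A) ≠ 1 := by
      intro h
      apply ha
      have h1 := congrArg Subtype.val h
      exact (QuotientGroup.eq_one_iff (a : G)).mp h1
    obtain ⟨φ, hφ⟩ := exists_hom_apply_ne_one (G := A)
      (fun x y => Subtype.ext (hAab x x.2 y y.2)) hne
    refine ⟨φ.comp (((QuotientGroup.mk' K).comp N.subtype).codRestrict A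
      (fun x => (hmemN x).mp x.2)), ?_, hφ⟩
    intro b hb
    have h1 : (((QuotientGroup.mk' K).comp N.subtype).codRestrict A
        (fun x => (hmemN x).mp x.2)) b = 1 := by
      apply Subtype.ext
      exact (QuotientGroup.eq_one_iff (b : G)).mpr hb
    rw [MonoidHom.comp_apply, h1, map_one]
  -- degrees of N
  have hcdN : ∀ θ : N → ℂ, IsIrrCharacter N θ → θ 1 = 1 ∨ θ 1 = (f' : ℂ) := by
    intro θ hθ
    obtain ⟨χ, hχ, hcon⟩ := exists_irr_over N hθ
    obtain ⟨k, hk1, hk2⟩ := degree_quot_dvd_index N hχ hθ hcon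
    obtain ⟨d, hd0, hd⟩ := helper4.exists_pos_nat_degree hθ
    rw [hNidx] at hk1
    rw [hd] at hk2
    rcases hcd χ hχ with h | h | h
    · left
      rw [h] at hk2
      have h1 : k * d = 1 := by exact_mod_cast hk2.symm
      have h2 : d = 1 := Nat.eq_one_of_mul_eq_one_left h1
      rw [hd, h2]; simp
    · left
      rw [h] at hk2
      have h1 : f = k * d := by exact_mod_cast hk2
      by_contra hne1
      have hd1 : d ≠ 1 := by
        intro h2; apply hne1; rw [hd, h2]; simp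
      refine frob_step N K hKN hKneN hGN hfrob hsep f (by rw [hrel]; exact hcopA) θ hθ d hd
        (Dvd.intro_left k h1.symm) ?_
      intro κ hκ hirr
      have hval : indFun N (θ * fun a : N => ((κ a : ℂˣ) : ℂ)) 1 = ((f * d : ℕ) : ℂ) := by
        rw [helper4.indFun_one, hNidx, Pi.mul_apply, hd]; simp
      rcases hcd _ hirr with h' | h' | h'
      · rw [hval] at h'
        have h2 : f * d = 1 := by exact_mod_cast h'
        nlinarith
      · rw [hval] at h'
        have h2 : f * d = f := by exact_mod_cast h'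
        have h3 : d = 1 := by nlinarith
        exact hd1 h3
      · rw [hval] at h'
        have h2 : f * d = f' := by exact_mod_cast h'
        have h3 : f ∣ f' := Dvd.intro _ h2
        have h4 : f = 1 := Nat.Coprime.eq_one_of_dvd hcop h3
        omega
    · right
      rw [h] at hk2
      have h1 : f' = k * d := by exact_mod_cast hk2
      have hkf' : k ∣ f' := Dvd.intro _ h1.symm
      have hk : k = 1 :=
        Nat.Coprime.eq_one_of_dvd (Nat.Coprime.coprime_dvd_left hk1 hcop) hkf'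
      rw [hd, h1, hk]; simp
  have hN2 : derivedSeries N 2 = ⊥ := by
    apply derived_two_of_comm
    by_cases hex : ∃ χ : IrrCharacter N, charDegree (χ : N → ℂ) = f'
    · apply helper19.two_deg_derived_abelian f' _ hex
      intro χ
      rcases hcdN χ.1 χ.2 with h | h
      · left; exact charDegree_of_one_eq χ.2 (by rw [h]; simp)
      · right; exact charDegree_of_one_eq χ.2 h
    · push Not at hex
      apply helper19.two_deg_derived_abelian 1 _
        ⟨⟨fun _ => 1, helper83.isIrrCharacter_one⟩,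
          charDegree_of_one_eq helper83.isIrrCharacter_one (by simp)⟩
      intro χ
      rcases hcdN χ.1 χ.2 with h | h
      · left; exact charDegree_of_one_eq χ.2 (by rw [h]; simp)
      · exact absurd (charDegree_of_one_eq χ.2 h) (hex χ)
  have h1 : derivedSeries G 1 ≤ N := by rw [derivedSeries_one]; exact hGN
  have h2 := derived_le_map_succ N 1 2 (derived_le_map_succ N 0 1 (derived_le_map_zero N 1 h1))
  rw [hN2, Subgroup.map_bot] at h2
  exact eq_bot_iff.mpr h2

/-- The coprime case of the three-degree theorem. -/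
theorem three_deg_coprime (m n : ℕ) (hm : 1 < m) (hmn : m < n) (hcop : Nat.Coprime m n)
    (hcd : ∀ χ : G → ℂ, IsIrrCharacter G χ → χ 1 = 1 ∨ χ 1 = (m : ℂ) ∨ χ 1 = (n : ℂ))
    (χm : G → ℂ) (hχm : IsIrrCharacter G χm) (hχm1 : χm 1 = (m : ℂ))
    (χn : G → ℂ) (hχn : IsIrrCharacter G χn) (hχn1 : χn 1 = (n : ℂ)) :
    derivedSeries G 3 = ⊥ := by
  classical
  have hG : ¬ ∀ a b : G, a * b = b * a := by
    intro h
    have h1 := irr_one_of_commutative h hχm
    rw [hχm1] at h1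
    have h2 : m = 1 := by exact_mod_cast h1
    omega
  obtain ⟨K, hKn, hKnot, hKmax⟩ := exists_max_nonabelian_quot hG
  haveI := hKn
  haveI : Fintype (G ⧸ K) := Fintype.ofFinite _
  have hQ : ∀ L : Subgroup (G ⧸ K), L.Normal → L ≠ ⊥ → commutator (G ⧸ K) ≤ L := by
    intro L hL hLne
    have hKL : K < L.comap (QuotientGroup.mk' K) := by
      refine lt_of_le_of_ne ?_ ?_
      · intro x hx
        show (x : G ⧸ K) ∈ L
        rw [(QuotientGroup.eq_one_iff x).mpr hx]; exact L.one_mem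
      · intro hEq
        apply hLne
        rw [eq_bot_iff]
        intro a ha
        obtain ⟨g, rfl⟩ := QuotientGroup.mk_surjective a
        have hg : g ∈ L.comap (QuotientGroup.mk' K) := ha
        rw [← hEq] at hg
        rw [Subgroup.mem_bot]
        exact (QuotientGroup.eq_one_iff g).mpr hg
    have h1 := hKmax _ (hL.comap _) hKL
    rw [commutator_def, Subgroup.commutator_le]
    intro a _ b _
    obtain ⟨g, rfl⟩ := QuotientGroup.mk_surjective a
    obtain ⟨h, rfl⟩ := QuotientGroup.mk_surjective b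
    have h2 : ⁅g, h⁆ ∈ commutator G := by
      rw [commutator_def]
      exact Subgroup.commutator_mem_commutator (Subgroup.mem_top _) (Subgroup.mem_top _)
    exact h1 h2
  have hQne : commutator (G ⧸ K) ≠ ⊥ := by
    intro h
    apply hKnot
    rw [commutator_def, Subgroup.commutator_le]
    intro a _ b _
    rw [← QuotientGroup.eq_one_iff]
    have h2 : ⁅(a : G ⧸ K), (b : G ⧸ K)⁆ ∈ commutator (G ⧸ K) := by
      rw [commutator_def]
      exact Subgroup.commutator_mem_commutator (Subgroup.mem_top _) (Subgroup.mem_top _)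
    rw [h, Subgroup.mem_bot] at h2
    exact h2
  have hcdQ : ∀ χ : G ⧸ K → ℂ, IsIrrCharacter (G ⧸ K) χ →
      χ 1 = 1 ∨ χ 1 = (m : ℂ) ∨ χ 1 = (n : ℂ) := by
    intro χ hχ
    exact hcd _ (isIrrCharacter_inflation K hχ)
  have hfaith : ∀ χ : G ⧸ K → ℂ, IsIrrCharacter (G ⧸ K) χ → χ 1 ≠ 1 →
      ∀ g : G ⧸ K, χ g = χ 1 → g = 1 := by
    intro χ hχ hχ1 g hg
    obtain ⟨L, hLn, hL⟩ := exists_ker_of_isCharacter (helper4.isCharacter_of_isIrrCharacter hχ)
    by_cases hLb : L = ⊥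
    · have h1 : g ∈ L := (hL g).mpr hg
      rwa [hLb, Subgroup.mem_bot] at h1
    · exfalso
      apply hχ1
      rw [irr_linear_iff hχ]
      intro x hx
      exact (hL x).mp (hQ L hLn hLb hx)
  have hexβ : ∃ β : G ⧸ K → ℂ, IsIrrCharacter (G ⧸ K) β ∧ β 1 ≠ 1 := by
    by_contra hcon
    push Not at hcon
    have hab := helper19.comm_of_all_linear hcon
    apply hQne
    rw [eq_bot_iff, commutator_def, Subgroup.commutator_le]
    intro a _ b _
    rw [Subgroup.mem_bot, commutatorElement_eq_one_iff_mul_comm]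
    exact hab a b
  obtain ⟨β, hβ, hβ1⟩ := hexβ
  have hnot : ¬ ((∃ χ₀ : G ⧸ K → ℂ, IsIrrCharacter (G ⧸ K) χ₀ ∧ χ₀ 1 = (m : ℂ)) ∧
      (∃ ψ₀ : G ⧸ K → ℂ, IsIrrCharacter (G ⧸ K) ψ₀ ∧ ψ₀ 1 = (n : ℂ))) := by
    rintro ⟨⟨χ₀, hχ₀, hχ₀m⟩, ⟨ψ₀, hψ₀, hψ₀n⟩⟩
    exact no_two_coprime_faithful m n hm hmn hcop hcdQ hfaith χ₀ hχ₀ hχ₀m ψ₀ hψ₀ hψ₀n
  rcases hcdQ β hβ with h | h | h
  · exact absurd h hβ1
  · apply three_deg_core K m n hm (by omega) hcop hcd hQ hQne ?_ β hβ h χn hχn hχn1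
    intro χ hχ
    rcases hcdQ χ hχ with h' | h' | h'
    · left; exact h'
    · right; exact h'
    · exact absurd ⟨⟨β, hβ, h⟩, ⟨χ, hχ, h'⟩⟩ hnot
  · apply three_deg_core K n m (by omega) hm hcop.symm ?_ hQ hQne ?_ β hβ h χm hχm hχm1
    · intro χ hχ
      rcases hcd χ hχ with h' | h' | h'
      · left; exact h'
      · right; right; exact h'
      · right; left; exact h'
    · intro χ hχ
      rcases hcdQ χ hχ with h' | h' | h'
      · left; exact h'
      · exact absurd ⟨⟨χ, hχ, h'⟩, ⟨β, hβ, h⟩⟩ hnot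
      · right; exact h'

end Core

end Cfsg.Agent.Lib.helper82
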