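import Mathlib
import Cfsg.Prelude.Def_Characters
import Cfsg.Prelude.Def_Blocks
import Cfsg.Agent.Lib.helper82.ThreeDegE
import Cfsg.Agent.Lib.helper82.ThompsonDeg

/-!
# Three character degrees, part F (helper82): Isaacs 12.15

`three_deg`: a finite group whose irreducible character degrees lie in `{1, m, n}` has derived
length at most `3` (in particular it is solvable).
-/

set_option autoImplicit false
set_option linter.style.haveILetI false
set_option linter.unusedSectionVars false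

namespace Cfsg.Agent.Lib.helper82

open Module Cfsg
open Cfsg.Agent.Lib
open scoped ComplexConjugate
open scoped commutatorElement

universe u

section Tools

theorem derived_of_quot_comm {G : Type*} [Group G] (M : Subgroup G) [M.Normal] (i j : ℕ)
    (hQ : derivedSeries (G ⧸ ⁅M, M⁆) i = ⊥) (hM : derivedSeries M (j + 1) = ⊥) :
    derivedSeries G (i + j) = ⊥ := by
  have h1 : derivedSeries G i ≤ ⁅M, M⁆ := derived_le_of_quot ⁅M, M⁆ i hQ
  have h2 : ⁅M, M⁆ = (derivedSeries M 1).map M.subtype := by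
    rw [derivedSeries_one, commutator_def, Subgroup.map_commutator, ← MonoidHom.range_eq_map,
      Subgroup.range_subtype]
  rw [h2] at h1
  have h3 : ∀ t : ℕ, derivedSeries G (i + t) ≤ (derivedSeries M (1 + t)).map M.subtype := by
    intro t
    induction t with
    | zero => exact h1
    | succ t ih => exact derived_le_map_succ M (1 + t) (i + t) ih
  have h4 := h3 j
  rw [add_comm 1 j, hM, Subgroup.map_bot] at h4
  exact eq_bot_iff.mpr h4

theorem derived_two_of_two_deg {G : Type*} [Group G] [Finite G] (d : ℕ)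
    (hcd : ∀ χ : G → ℂ, IsIrrCharacter G χ → χ 1 = 1 ∨ χ 1 = (d : ℂ)) :
    derivedSeries G 2 = ⊥ := by
  classical
  haveI : Fintype G := Fintype.ofFinite G
  apply derived_two_of_comm
  by_cases hex : ∃ χ : IrrCharacter G, charDegree (χ : G → ℂ) = d
  · apply helper19.two_deg_derived_abelian d _ hex
    intro χ
    rcases hcd χ.1 χ.2 with h | h
    · left; exact charDegree_of_one_eq χ.2 (by rw [h]; simp)
    · right; exact charDegree_of_one_eq χ.2 h
  · push Not at hex
    apply helper19.two_deg_derived_abelian 1 _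
      ⟨⟨fun _ => 1, helper83.isIrrCharacter_one⟩,
        charDegree_of_one_eq helper83.isIrrCharacter_one (by simp)⟩
    intro χ
    rcases hcd χ.1 χ.2 with h | h
    · left; exact charDegree_of_one_eq χ.2 (by rw [h]; simp)
    · exact absurd (charDegree_of_one_eq χ.2 h) (hex χ)

theorem ppart_unique {p i a d m' : ℕ} (hp : p.Prime) (hd : ¬ p ∣ d) (hm' : ¬ p ∣ m')
    (h : p ^ i * d = p ^ a * m') : d = m' := by
  have hcd : Nat.Coprime d (p ^ a) :=
    Nat.Coprime.pow_right a ((Nat.Prime.coprime_iff_not_dvd hp).mpr hd).symm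
  have hcm : Nat.Coprime m' (p ^ i) :=
    Nat.Coprime.pow_right i ((Nat.Prime.coprime_iff_not_dvd hp).mpr hm').symm
  have h1 : d ∣ p ^ a * m' := by rw [← h]; exact dvd_mul_left d _
  have h2 : m' ∣ p ^ i * d := by rw [h]; exact dvd_mul_left m' _
  exact Nat.dvd_antisymm (hcd.dvd_of_dvd_mul_left h1) (hcm.dvd_of_dvd_mul_left h2)

end Tools

section NonCoprime

variable {G : Type u} [Group G] [Fintype G]

theorem thompson_sub_degrees (p : ℕ) (hp : p.Prime) (M : Subgroup G) [M.Normal]
    (hMcop : (Nat.card M).Coprime p) (k : ℕ) (hMk : M.index = p ^ k)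
    (m n a b m' n' : ℕ) (hm : m = p ^ a * m') (hn : n = p ^ b * n') (hm' : ¬ p ∣ m')
    (hn' : ¬ p ∣ n')
    (hcd : ∀ χ : G → ℂ, IsIrrCharacter G χ → χ 1 = 1 ∨ χ 1 = (m : ℂ) ∨ χ 1 = (n : ℂ))
    (θ : M → ℂ) (hθ : IsIrrCharacter M θ) :
    θ 1 = 1 ∨ θ 1 = (m' : ℂ) ∨ θ 1 = (n' : ℂ) := by
  classical
  haveI : Fintype M := Fintype.ofFinite M
  obtain ⟨χ, hχ, hcon⟩ := exists_irr_over M hθ
  obtain ⟨c, hc1, hc2⟩ := degree_quot_dvd_index M hχ hθ hcon
  rw [hMk] at hc1
  obtain ⟨i, -, hi⟩ := (Nat.dvd_prime_pow hp).mp hc1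
  have hd := irr_one_eq (⟨θ, hθ⟩ : IrrCharacter M)
  have hd' : θ 1 = (charDegree θ : ℂ) := hd
  have hdvd : charDegree θ ∣ Nat.card M := irr_degree_dvd_card (⟨θ, hθ⟩ : IrrCharacter M)
  have hpd : ¬ p ∣ charDegree θ := by
    intro h
    have h1 : Nat.Coprime (charDegree θ) p := Nat.Coprime.coprime_dvd_left hdvd hMcop
    exact hp.one_lt.ne' (Nat.Coprime.eq_one_of_dvd h1.symm h)
  rw [hd', hi] at hc2
  rcases hcd χ hχ with h | h | h
  · left
    rw [h] at hc2
    have h1 : p ^ i * charDegree θ = 1 := by exact_mod_cast hc2.symm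
    rw [hd', Nat.eq_one_of_mul_eq_one_left h1]; simp
  · right; left
    rw [h] at hc2
    have h1 : p ^ i * charDegree θ = p ^ a * m' := by
      rw [← hm]; exact_mod_cast hc2.symm
    rw [hd', ppart_unique hp hpd hm' h1]
  · right; right
    rw [h] at hc2
    have h1 : p ^ i * charDegree θ = p ^ b * n' := by
      rw [← hn]; exact_mod_cast hc2.symm
    rw [hd', ppart_unique hp hpd hn' h1]

theorem quot_comm_degree (p : ℕ) (hp : p.Prime) (M : Subgroup G) [hMn : M.Normal]
    (k : ℕ) (hMk : M.index = p ^ k) (ψ : G ⧸ ⁅M, M⁆ → ℂ)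
    (hψ : IsIrrCharacter (G ⧸ ⁅M, M⁆) ψ) : ∃ i : ℕ, ψ 1 = ((p ^ i : ℕ) : ℂ) := by
  obtain ⟨A, hA⟩ : ∃ A : Subgroup (G ⧸ ⁅M, M⁆), A = M.map (QuotientGroup.mk' ⁅M, M⁆) :=
    ⟨_, rfl⟩
  haveI : A.Normal := by
    rw [hA]; exact Subgroup.Normal.map hMn _ (QuotientGroup.mk'_surjective _)
  have hAab : ∀ x ∈ A, ∀ y ∈ A, x * y = y * x := by
    intro x hx y hy
    rw [hA] at hx hy
    obtain ⟨g, hg, rfl⟩ := hx
    obtain ⟨h, hh, rfl⟩ := hy
    show ((g * h : G) : G ⧸ ⁅M, M⁆) = ((h * g : G) : G ⧸ ⁅M, M⁆)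
    rw [QuotientGroup.eq]
    have h1 : (g * h)⁻¹ * (h * g) = ⁅h⁻¹, g⁻¹⁆ := by
      rw [commutatorElement_def]; group
    rw [h1]
    exact Subgroup.commutator_mem_commutator (M.inv_mem hh) (M.inv_mem hg)
  obtain ⟨d, hd1, hd2⟩ := ito_char A hAab hψ
  have h1 : A.index ∣ p ^ k := by
    rw [← hMk, hA]
    exact Subgroup.index_map_dvd M (QuotientGroup.mk'_surjective _)
  obtain ⟨i, -, hi⟩ := (Nat.dvd_prime_pow hp).mp (dvd_trans hd2 h1)
  exact ⟨i, by rw [hd1, hi]⟩

theorem three_deg_noncoprime (N : ℕ)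
    (ih : ∀ N' < N, ∀ (H : Type u) [Group H] [Fintype H], Nat.card H = N' → ∀ m n : ℕ,
      (∀ χ : H → ℂ, IsIrrCharacter H χ → χ 1 = 1 ∨ χ 1 = (m : ℂ) ∨ χ 1 = (n : ℂ)) →
      derivedSeries H 3 = ⊥)
    (hN : Nat.card G = N) (m n : ℕ) (hm : 1 < m) (hmn : m < n)
    (hcd : ∀ χ : G → ℂ, IsIrrCharacter G χ → χ 1 = 1 ∨ χ 1 = (m : ℂ) ∨ χ 1 = (n : ℂ))
    (p : ℕ) (hp : p.Prime) (hpm : p ∣ m) (hpn : p ∣ n)
    (χm : G → ℂ) (hχm : IsIrrCharacter G χm) (hχm1 : χm 1 = (m : ℂ)) :
    derivedSeries G 3 = ⊥ := by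
  classical
  haveI : Fact p.Prime := ⟨hp⟩
  have hdeg : ∀ χ : IrrCharacter G, charDegree (χ : G → ℂ) ≠ 1 →
      p ∣ charDegree (χ : G → ℂ) := by
    intro χ hχ
    rcases irr_deg_cases m n hcd χ with h | h | h
    · exact absurd h hχ
    · rw [h]; exact hpm
    · rw [h]; exact hpn
  obtain ⟨M, hMn, hMcop, k, hMk⟩ := thompson_normal_p_complement p hdeg
  haveI := hMn
  haveI : Fintype M := Fintype.ofFinite M
  obtain ⟨a, m', hm', hma⟩ := Nat.exists_eq_pow_mul_and_not_dvd (by omega : m ≠ 0) p hp.ne_one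
  obtain ⟨b, n', hn', hnb⟩ := Nat.exists_eq_pow_mul_and_not_dvd (by omega : n ≠ 0) p hp.ne_one
  have hcdM : ∀ θ : M → ℂ, IsIrrCharacter M θ →
      θ 1 = 1 ∨ θ 1 = (m' : ℂ) ∨ θ 1 = (n' : ℂ) :=
    fun θ hθ => thompson_sub_degrees p hp M hMcop k hMk m n a b m' n' hma hnb hm' hn' hcd θ hθ
  have hcdQ : ∀ ψ : G ⧸ ⁅M, M⁆ → ℂ, IsIrrCharacter (G ⧸ ⁅M, M⁆) ψ →
      (ψ 1 = 1 ∨ ψ 1 = (m : ℂ) ∨ ψ 1 = (n : ℂ)) ∧ ∃ i : ℕ, ψ 1 = ((p ^ i : ℕ) : ℂ) := by
    intro ψ hψ
    exact ⟨hcd _ (isIrrCharacter_inflation ⁅M, M⁆ hψ), quot_comm_degree p hp M k hMk ψ hψ⟩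
  have hp1 : ¬ p ∣ 1 := fun h => hp.one_lt.ne' (Nat.dvd_one.mp h)
  have hpow_m : ∀ i : ℕ, m = p ^ i → m' = 1 := by
    intro i hi
    exact (ppart_unique (i := i) (a := a) hp hp1 hm' (by rw [mul_one, ← hi]; exact hma)).symm
  have hpow_n : ∀ i : ℕ, n = p ^ i → n' = 1 := by
    intro i hi
    exact (ppart_unique (i := i) (a := b) hp hp1 hn' (by rw [mul_one, ← hi]; exact hnb)).symm
  have hlt : Nat.card M < N := by
    rw [← hN]
    apply lt_of_le_of_ne (Subgroup.card_le_card_group M)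
    intro heq
    have hpG : p ∣ Nat.card G := by
      have h1 : charDegree χm ∣ Nat.card G := irr_degree_dvd_card (⟨χm, hχm⟩ : IrrCharacter G)
      rw [charDegree_of_one_eq hχm hχm1] at h1
      exact dvd_trans hpm h1
    rw [← heq] at hpG
    exact hp.one_lt.ne' (Nat.Coprime.eq_one_of_dvd hMcop.symm hpG)
  by_cases hm'1 : m' = 1
  · by_cases hn'1 : n' = 1
    · have hMab : ∀ x ∈ M, ∀ y ∈ M, x * y = y * x := by
        have hlin : ∀ θ : M → ℂ, IsIrrCharacter M θ → θ 1 = 1 := by
          intro θ hθ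
          rcases hcdM θ hθ with h | h | h
          · exact h
          · rw [h, hm'1]; simp
          · rw [h, hn'1]; simp
        have hc := helper19.comm_of_all_linear hlin
        intro x hx y hy
        exact congrArg Subtype.val (hc ⟨x, hx⟩ ⟨y, hy⟩)
      exact three_deg_of_monomial m n hmn hcd
        (fun χ hχ => monomial_of_abelian_normal p M hMn hMab hMcop ⟨k, hMk⟩ χ hχ)
    · apply derived_of_quot_comm M 2 1
      · apply derived_two_of_two_deg m
        intro ψ hψ
        obtain ⟨h1, i, hi⟩ := hcdQ ψ hψ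
        rcases h1 with h | h | h
        · left; exact h
        · right; exact h
        · exfalso
          rw [h] at hi
          exact hn'1 (hpow_n i (by exact_mod_cast hi))
      · apply derived_two_of_two_deg n'
        intro θ hθ
        rcases hcdM θ hθ with h | h | h
        · left; exact h
        · left; rw [h, hm'1]; simp
        · right; exact h
  · by_cases hn'1 : n' = 1
    · apply derived_of_quot_comm M 2 1
      · apply derived_two_of_two_deg n
        intro ψ hψ
        obtain ⟨h1, i, hi⟩ := hcdQ ψ hψ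
        rcases h1 with h | h | h
        · left; exact h
        · exfalso
          rw [h] at hi
          exact hm'1 (hpow_m i (by exact_mod_cast hi))
        · right; exact h
      · apply derived_two_of_two_deg m'
        intro θ hθ
        rcases hcdM θ hθ with h | h | h
        · left; exact h
        · right; exact h
        · left; rw [h, hn'1]; simp
    · apply derived_of_quot_comm M 1 2
      · apply derived_one_of_comm
        apply helper19.comm_of_all_linear
        intro ψ hψ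
        obtain ⟨h1, i, hi⟩ := hcdQ ψ hψ
        rcases h1 with h | h | h
        · exact h
        · exfalso
          rw [h] at hi
          exact hm'1 (hpow_m i (by exact_mod_cast hi))
        · exfalso
          rw [h] at hi
          exact hn'1 (hpow_n i (by exact_mod_cast hi))
      · exact ih _ hlt M rfl m' n' hcdM

end NonCoprime

section Main

theorem three_deg_aux (N : ℕ) : ∀ (G : Type u) [Group G] [Fintype G], Nat.card G = N →
    ∀ m n : ℕ,
      (∀ χ : G → ℂ, IsIrrCharacter G χ → χ 1 = 1 ∨ χ 1 = (m : ℂ) ∨ χ 1 = (n : ℂ)) →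
      derivedSeries G 3 = ⊥ := by
  induction N using Nat.strong_induction_on with
  | _ N ih =>
    intro G _ _ hN m n hcd
    classical
    have hD2 : derivedSeries G 2 = ⊥ → derivedSeries G 3 = ⊥ := by
      intro h
      exact eq_bot_iff.mpr (h ▸ derivedSeries_antitone G (by norm_num : 2 ≤ 3))
    -- the ordered case
    have main : ∀ m n : ℕ, 1 < m → m < n →
        (∀ χ : G → ℂ, IsIrrCharacter G χ → χ 1 = 1 ∨ χ 1 = (m : ℂ) ∨ χ 1 = (n : ℂ)) →
        ∀ χm : G → ℂ, IsIrrCharacter G χm → χm 1 = (m : ℂ) →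
        ∀ χn : G → ℂ, IsIrrCharacter G χn → χn 1 = (n : ℂ) → derivedSeries G 3 = ⊥ := by
      intro m n hm hmn hcd χm hχm hχm1 χn hχn hχn1
      by_cases hcop : Nat.Coprime m n
      · exact three_deg_coprime m n hm hmn hcop hcd χm hχm hχm1 χn hχn hχn1
      · obtain ⟨p, hp, hpm, hpn⟩ := Nat.Prime.not_coprime_iff_dvd.mp hcop
        exact three_deg_noncoprime N ih hN m n hm hmn hcd p hp hpm hpn χm hχm hχm1
    by_cases hexm : ∃ χ : G → ℂ, IsIrrCharacter G χ ∧ χ 1 = (m : ℂ) ∧ χ 1 ≠ 1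
    swap
    · apply hD2
      apply derived_two_of_two_deg n
      intro χ hχ
      rcases hcd χ hχ with h | h | h
      · left; exact h
      · by_cases h1 : χ 1 = 1
        · left; exact h1
        · exact absurd ⟨χ, hχ, h, h1⟩ hexm
      · right; exact h
    by_cases hexn : ∃ χ : G → ℂ, IsIrrCharacter G χ ∧ χ 1 = (n : ℂ) ∧ χ 1 ≠ 1
    swap
    · apply hD2
      apply derived_two_of_two_deg m
      intro χ hχ
      rcases hcd χ hχ with h | h | h
      · left; exact h
      · right; exact h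
      · by_cases h1 : χ 1 = 1
        · left; exact h1
        · exact absurd ⟨χ, hχ, h, h1⟩ hexn
    obtain ⟨χm, hχm, hχm1, hχmne⟩ := hexm
    obtain ⟨χn, hχn, hχn1, hχnne⟩ := hexn
    have hm1 : m ≠ 1 := by
      intro h; apply hχmne; rw [hχm1, h]; simp
    have hn1 : n ≠ 1 := by
      intro h; apply hχnne; rw [hχn1, h]; simp
    have hm0 : 0 < m := by
      obtain ⟨d, hd0, hd⟩ := helper4.exists_pos_nat_degree hχm
      rw [hχm1] at hd
      have h1 : m = d := by exact_mod_cast hd
      omega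
    have hn0 : 0 < n := by
      obtain ⟨d, hd0, hd⟩ := helper4.exists_pos_nat_degree hχn
      rw [hχn1] at hd
      have h1 : n = d := by exact_mod_cast hd
      omega
    by_cases hmn : m = n
    · apply hD2
      apply derived_two_of_two_deg m
      intro χ hχ
      rcases hcd χ hχ with h | h | h
      · left; exact h
      · right; exact h
      · right; rw [hmn]; exact h
    rcases Nat.lt_or_gt_of_ne hmn with hlt | hgt
    · exact main m n (by omega) hlt hcd χm hχm hχm1 χn hχn hχn1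
    · apply main n m (by omega) hgt ?_ χn hχn hχn1 χm hχm hχm1
      intro χ hχ
      rcases hcd χ hχ with h | h | h
      · left; exact h
      · right; right; exact h
      · right; left; exact h

/-- **Isaacs, Theorem 12.15**: a finite group with irreducible character degrees in `{1, m, n}`
has derived length at most three. -/
theorem three_deg {G : Type u} [Group G] [Finite G] (m n : ℕ)
    (hcd : ∀ χ : IrrCharacter G, charDegree (χ : G → ℂ) = 1 ∨ charDegree (χ : G → ℂ) = m ∨
      charDegree (χ : G → ℂ) = n) : derivedSeries G 3 = ⊥ := by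
  haveI : Fintype G := Fintype.ofFinite G
  apply three_deg_aux (Nat.card G) G rfl m n
  intro χ hχ
  have h1 : χ 1 = (charDegree χ : ℂ) := irr_one_eq (⟨χ, hχ⟩ : IrrCharacter G)
  rcases hcd ⟨χ, hχ⟩ with h | h | h
  · left
    have h' : charDegree χ = 1 := h
    rw [h1, h']; simp
  · right; left
    have h' : charDegree χ = m := h
    rw [h1, h']
  · right; right
    have h' : charDegree χ = n := h
    rw [h1, h']

end Main

end Cfsg.Agent.Lib.helper82
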