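import Mathlib
import Cfsg.Agent.Lib.helper16.U34CDefs

/-!
# S1903, piece D1: basic matrix facts about the involution `tauE` and the diagonal element `dE`
of `SU 3 F 4` (`|F| = 16`).
-/

set_option autoImplicit false
set_option linter.unusedSectionVars false
set_option linter.unusedVariables false

namespace Cfsg.Agent.Lib.helper16.U34C

open Cfsg
open scoped commutatorElement
open Cfsg.Agent.Lib.helper58 Cfsg.Agent.Lib.helper7

theorem helper82_dM_mul {F : Type*} [Field F] (l m : F) : dM l * dM m = dM (l * m) := by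
  ext i j
  fin_cases i <;> fin_cases j <;>
    simp [dM, Matrix.mul_apply, Fin.sum_univ_three] <;> ring

theorem helper82_dM_one {F : Type*} [Field F] : dM (1 : F) = 1 := by
  ext i j
  fin_cases i <;> fin_cases j <;> simp [dM]

theorem helper82_dE_pow_val {F : Type*} [Field F] [Fintype F] (l : F) (hl : l ^ 5 = 1) (n : ℕ) :
    (((dE l hl) ^ n).1.1 : Matrix (Fin 3) (Fin 3) F) = dM (l ^ n) := by
  induction n with
  | zero =>
    rw [pow_zero, pow_zero, helper82_dM_one]; rfl
  | succ n ih =>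
    have h1 : (((dE l hl) ^ (n + 1)).1.1 : Matrix (Fin 3) (Fin 3) F) =
        ((dE l hl) ^ n).1.1 * (dE l hl).1.1 := by
      rw [pow_succ]; rfl
    rw [h1, ih, dE_val, helper82_dM_mul, pow_succ]

/-- PIECE D1 -/
theorem cent_basic {F : Type*} [Field F] [Fintype F] (hF : Fintype.card F = 16) (l : F)
    (hl : l ^ 5 = 1) :
    orderOf (tauE hF) = 2 ∧ (∀ v ∈ UU hF, v * tauE hF = tauE hF * v) ∧
    dE l hl * tauE hF = tauE hF * dE l hl ∧ dE l hl ^ 5 = 1 ∧
    ∀ (a b : F) (hab : b + b ^ 4 = a * a ^ 4),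
      ∃ hab' : b + b ^ 4 = (l ^ 2 * a) * (l ^ 2 * a) ^ 4,
      dE l hl * su3E (card16 hF) (two0 hF) a b hab * (dE l hl)⁻¹ =
        su3E (card16 hF) (two0 hF) (l ^ 2 * a) b hab' := by
  have h2 : (2 : F) = 0 := two0 hF
  have h11 : (1 : F) + 1 = 0 := by rw [one_add_one_eq_two]; exact h2
  have h10 : l ^ 10 = 1 := by
    rw [show l ^ 10 = (l ^ 5) ^ 2 by ring, hl, one_pow]
  have htv : ((tauE hF).1.1 : Matrix (Fin 3) (Fin 3) F) = su3M 4 0 1 := rfl
  have hmulv : ∀ g h : ↥(SU 3 F 4),
      ((g * h).1.1 : Matrix (Fin 3) (Fin 3) F) = g.1.1 * h.1.1 := fun _ _ => rfl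
  have honev : ((1 : ↥(SU 3 F 4)).1.1 : Matrix (Fin 3) (Fin 3) F) = 1 := rfl
  refine ⟨?_, ?_, ?_, ?_, ?_⟩
  · -- order of `tauE`
    have : Fact (Nat.Prime 2) := ⟨Nat.prime_two⟩
    apply orderOf_eq_prime
    · apply su3_ext
      rw [pow_two, hmulv, htv, honev]
      ext i j
      fin_cases i <;> fin_cases j <;>
        simp [su3M, Matrix.mul_apply, Fin.sum_univ_three, h11]
    · intro h
      have h' := congrArg (fun g : ↥(SU 3 F 4) => (g.1.1 : Matrix (Fin 3) (Fin 3) F) 0 1) h
      simp only [htv, honev] at h'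
      simp [su3M] at h'
  · -- `tauE` centralizes `UU`
    intro v hv
    obtain ⟨a, b, hab, hv⟩ := (mem_su3U_iff _ _ v).1 hv
    apply su3_ext
    rw [hmulv, hmulv, htv, hv]
    ext i j
    fin_cases i <;> fin_cases j <;>
      simp [su3M, Matrix.mul_apply, Fin.sum_univ_three, h11]
  · -- `dE` centralizes `tauE`
    apply su3_ext
    rw [hmulv, hmulv, htv, dE_val]
    ext i j
    fin_cases i <;> fin_cases j <;>
      simp [su3M, dM, Matrix.mul_apply, Fin.sum_univ_three] <;> ring
  · -- `dE ^ 5 = 1`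
    apply su3_ext
    rw [helper82_dE_pow_val, hl, helper82_dM_one, honev]
  · -- conjugation
    intro a b hab
    have hab' : b + b ^ 4 = (l ^ 2 * a) * (l ^ 2 * a) ^ 4 := by
      rw [hab]
      linear_combination (-(a ^ 5)) * h10
    refine ⟨hab', ?_⟩
    rw [mul_inv_eq_iff_eq_mul]
    apply su3_ext
    rw [hmulv, hmulv, su3E_val, su3E_val, dE_val]
    ext i j
    fin_cases i <;> fin_cases j <;>
      simp [su3M, dM, Matrix.mul_apply, Fin.sum_univ_three] <;>
      first
        | ring1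
        | linear_combination (-(l * a ^ 4)) * h10

end Cfsg.Agent.Lib.helper16.U34C
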