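import Mathlib
import Cfsg.Agent.Lib.helper16.U34CDefs

/-!
# S1903, piece D4c (racer copy, prefixed name): the commutator subgroup of the centralizer of
`tauE` in `SU 3 F 4` has order 64 and its centre is a four-group.
-/

set_option autoImplicit false
set_option linter.unusedSectionVars false
set_option linter.unusedVariables false

namespace Cfsg.Agent.Lib.helper16.U34C

open Cfsg
open scoped commutatorElement
open Cfsg.Agent.Lib.helper58 Cfsg.Agent.Lib.helper7

/-- PIECE D4c (racer copy of `cent_klein`) -/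
theorem helper82_cent_klein {F : Type*} [Field F] [Fintype F] (hF : Fintype.card F = 16)
    (htc : ∀ v ∈ UU hF, v * tauE hF = tauE hF * v)
    (hc : commutator ↥(Subgroup.centralizer ({tauE hF} : Set ↥(SU 3 F 4))) =
      (UU hF).subgroupOf (Subgroup.centralizer ({tauE hF} : Set ↥(SU 3 F 4)))) :
    Nat.card ↥(commutator ↥(Subgroup.centralizer ({tauE hF} : Set ↥(SU 3 F 4)))) = 64 ∧
    IsKleinFour ↥(Subgroup.center
      ↥(commutator ↥(Subgroup.centralizer ({tauE hF} : Set ↥(SU 3 F 4))))) := by
  have hle : UU hF ≤ Subgroup.centralizer ({tauE hF} : Set ↥(SU 3 F 4)) := by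
    intro v hv
    rw [Subgroup.mem_centralizer_iff]
    intro h hh
    rw [Set.mem_singleton_iff] at hh
    subst hh
    exact (htc v hv).symm
  let e : ↥(commutator ↥(Subgroup.centralizer ({tauE hF} : Set ↥(SU 3 F 4)))) ≃* ↥(UU hF) :=
    (MulEquiv.subgroupCongr hc).trans (Subgroup.subgroupOfEquivOfLe hle)
  let c : UCoord ↥(commutator ↥(Subgroup.centralizer ({tauE hF} : Set ↥(SU 3 F 4)))) F 4 :=
    (su3UCoord (card16 hF) (two0 hF)).congr e
  have h64 := c.card_eq (card16 hF) (two0 hF)
  have h4 := c.card_center (card16 hF) (two0 hF)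
  refine ⟨by rw [h64]; norm_num, ?_⟩
  refine { card_four := h4, exponent_two := ?_ }
  have hdvd : Monoid.exponent ↥(Subgroup.center
      ↥(commutator ↥(Subgroup.centralizer ({tauE hF} : Set ↥(SU 3 F 4))))) ∣ 2 := by
    apply Monoid.exponent_dvd_of_forall_pow_eq_one
    intro z
    apply Subtype.ext
    rw [Subgroup.coe_pow, Subgroup.coe_one]
    exact c.center_sq_eq_one (card16 hF) (two0 hF) z.1 z.2
  rcases (Nat.dvd_prime Nat.prime_two).1 hdvd with h1 | h2
  · exfalso
    rw [Monoid.exp_eq_one_iff] at h1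
    have := Nat.card_eq_one_iff_unique.2 ⟨h1, ⟨1⟩⟩
    omega
  · exact h2

end Cfsg.Agent.Lib.helper16.U34C
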